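/-
helper18: the Tits group, data part: binary search trees of packed vectors and the packed action of matrices
over the field with two elements.
-/
import Mathlib.Data.Nat.Bitwise

set_option autoImplicit false

namespace Cfsg.Agent.Lib.Helper18.Tits

/-- Binary trees with natural number keys. -/
inductive BT where
  | leaf : BT
  | node : BT → ℕ → BT → BT

/-- Search in a binary search tree (by the recursor, for fast kernel evaluation). -/
noncomputable def BT.mem (t : BT) (x : ℕ) : Bool :=
  BT.rec (motive := fun _ => Bool) false
    (fun _ k _ ihl ihr => bif Nat.beq x k then true else bif Nat.ble k x then ihr else ihl) t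

/-- All keys satisfy `f`. -/
noncomputable def BT.all (t : BT) (f : ℕ → Bool) : Bool :=
  BT.rec (motive := fun _ => Bool) true
    (fun _ k _ ihl ihr => bif ihl then (bif f k then ihr else false) else false) t

/-- The linear combination of the columns `cs` (packed) with the bits `j, j+1, …` of `v`, added to `acc`. -/
def appAux : List ℕ → ℕ → ℕ → ℕ → ℕ
  | [], _, _, acc => acc
  | c :: cs, v, j, acc => appAux cs v (j + 1) (bif Nat.testBit v j then Nat.xor acc c else acc)

/-- The packed action of the matrix with packed columns `cs`. -/
def appCols (cs : List ℕ) (v : ℕ) : ℕ := appAux cs v 0 0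

/-- The packed action of a product of matrices. -/
def appWord (cs : List (List ℕ)) (v : ℕ) : ℕ := cs.foldr (fun c acc => appCols c acc) v

/-- The entry of a table (entries of 52 bits at multiples of 64) selected by the 7 bits of `v` from bit `s`. -/
def look (T v s : ℕ) : ℕ :=
  Nat.land (Nat.shiftRight T (Nat.shiftLeft (Nat.land (Nat.shiftRight v s) 127) 6)) 4503599627370495

/-- The packed action of a matrix given by its eight tables. -/
def appT (T0 T1 T2 T3 T4 T5 T6 T7 : ℕ) (v : ℕ) : ℕ :=
  Nat.xor (look T0 v 0) (Nat.xor (look T1 v 7) (Nat.xor (look T2 v 14) (Nat.xor (look T3 v 21)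
    (Nat.xor (look T4 v 28) (Nat.xor (look T5 v 35) (Nat.xor (look T6 v 42) (look T7 v 49)))))))

/-- The table `T` for the bits from `s` agrees with the columns `cs`. -/
def chkTab (cs : List ℕ) (T s : ℕ) : Bool :=
  (List.range 128).all fun u =>
    Nat.beq (Nat.land (Nat.shiftRight T (Nat.shiftLeft u 6)) 4503599627370495) (appCols cs (Nat.shiftLeft u s))

/-- The map `f` maps the keys of `src` to keys of `tgt`. -/
noncomputable def chkMap (src tgt : BT) (f : ℕ → ℕ) : Bool := src.all fun x => tgt.mem (f x)

end Cfsg.Agent.Lib.Helper18.Tits
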