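/-
helper18: the Tits group, data: colour class 0 of the orbit of the Cartan vector h_1 under 2F4(2)
(packed vectors, as a binary search tree). Generated.
-/
import Cfsg.Agent.Lib.Helper18.TitsData.Defs

set_option autoImplicit false
set_option maxRecDepth 100000

namespace Cfsg.Agent.Lib.Helper18.Tits

def t0_0 : BT := (.node (.node (.node (.node (.node (.node (.node (.node (.node .leaf (nat_lit 1) .leaf) (nat_lit 129) (.node .leaf (nat_lit 2049) .leaf)) (nat_lit 2177) (.node (.node .leaf (nat_lit 32769) .leaf) (nat_lit 32897) .leaf)) (nat_lit 34817) (.node (.node (.node .leaf (nat_lit 34945) .leaf) (nat_lit 196609) .leaf) (nat_lit 196737) (.node (.node .leaf (nat_lit 198657) .leaf) (nat_lit 198785) .leaf))) (nat_lit 229377) (.node (.node (.node (.node .leaf (nat_lit 229505) .leaf) (nat_lit 231425) .leaf) (nat_lit 231553) (.node (.node .leaf (nat_lit 4263937) .leaf) (nat_lit 4264065) .leaf)) (nat_lit 4265985) (.node (.node (.node .leaf (nat_lit 4266113) .leaf) (nat_lit 4296705) .leaf) (nat_lit 4296833) (.node (.node .leaf (nat_lit 4298753) .leaf) (nat_lit 4298881) .leaf)))) (nat_lit 4333569) (.node (.node (.node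 (.node (.node .leaf (nat_lit 4333697) .leaf) (nat_lit 4335617) .leaf) (nat_lit 4335745) (.node (.node .leaf (nat_lit 4366337) .leaf) (nat_lit 4366465) .leaf)) (nat_lit 4368385) (.node (.node (.node .leaf (nat_lit 4368513) .leaf) (nat_lit 8388609) .leaf) (nat_lit 8388737) (.node (.node .leaf (nat_lit 8390657) .leaf) (nat_lit 8390785) .leaf))) (nat_lit 8425473) (.node (.node (.node (.node .leaf (nat_lit 8425601) .leaf) (nat_lit 8427521) .leaf) (nat_lit 8427649) (.node (.node .leaf (nat_lit 8601601) .leaf) (nat_lit 8601729) .leaf)) (nat_lit 8603649) (.node (.node (.node .leaf (nat_lit 8603777) .leaf) (nat_lit 8638465) .leaf) (nat_lit 8638593) (.node (.node .leaf (nat_lit 8640513) .leaf) (nat_lit 8640641) .leaf))))) (nat_lit 12652545) (.node (.node (.node (.node (.node (.node .leaf (nat_lit 12652673) .leaf) (nat_lit 12654593) (.node .leaf (nat_lit 12654721) .leaf)) (nat_lit 12681217) (.node (.node .leaf (nat_lit 12681345) .leaf) (nat_lit 12683265) .leaf)) (nat_lit 12683393) (.node (.node (.node .leaf (nat_lit 12738561) .leaf) (nat_lit 12738689) .leaf) (nat_lit 12740609) (.node (.node .leaf (nat_lit 12740737) .leaf)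 (nat_lit 12775425) .leaf))) (nat_lit 12775553) (.node (.node (.node (.node .leaf (nat_lit 12777473) .leaf) (nat_lit 12777601) .leaf) (nat_lit 16859137) (.node (.node .leaf (nat_lit 16859265) .leaf) (nat_lit 16861185) .leaf)) (nat_lit 16861313) (.node (.node (.node .leaf (nat_lit 16900097) .leaf) (nat_lit 16900225) .leaf) (nat_lit 16902145) (.node (.node .leaf (nat_lit 16902273) .leaf) (nat_lit 16990209) .leaf)))) (nat_lit 16990337) (.node (.node (.node (.node (.node .leaf (nat_lit 16992257) .leaf) (nat_lit 16992385) .leaf) (nat_lit 17031169) (.node (.node .leaf (nat_lit 17031297) .leaf) (nat_lit 17033217) .leaf)) (nat_lit 17033345) (.node (.node (.node .leaf (nat_lit 20971521) .leaf) (nat_lit 20971649) .leaf) (nat_lit 20973569) (.node (.node .leaf (nat_lit 20973697) .leaf) (nat_lit 21012481) .leaf))) (nat_lit 21012609) (.node (.node (.node (.node .leaf (nat_lit 21014529) .leaf) (nat_lit 21014657) .leaf) (nat_lit 21110785) (.node (.node .leaf (nat_lit 21110913) .leaf) (nat_lit 21112833) .leaf)) (nat_lit 21112961) (.node (.node (.node .leaf (nat_lit 21135361) .leaf) (nat_lit 21135489) .leaf) (nat_lit 21137409) (.node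 (.node .leaf (nat_lit 21137537) .leaf) (nat_lit 25247745) .leaf)))))) (nat_lit 25247873) (.node (.node (.node (.node (.node (.node (.node .leaf (nat_lit 25249793) .leaf) (nat_lit 25249921) (.node .leaf (nat_lit 25292801) .leaf)) (nat_lit 25292929) (.node (.node .leaf (nat_lit 25294849) .leaf) (nat_lit 25294977) .leaf)) (nat_lit 25362433) (.node (.node (.node .leaf (nat_lit 25362561) .leaf) (nat_lit 25364481) .leaf) (nat_lit 25364609) (.node (.node .leaf (nat_lit 25407489) .leaf) (nat_lit 25407617) .leaf))) (nat_lit 25409537) (.node (.node (.node (.node .leaf (nat_lit 25409665) .leaf) (nat_lit 29360129) .leaf) (nat_lit 29360257) (.node (.node .leaf (nat_lit 29362177) .leaf) (nat_lit 29362305) .leaf)) (nat_lit 29405185) (.node (.node (.node .leaf (nat_lit 29405313) .leaf) (nat_lit 29407233) .leaf) (nat_lit 29407361) (.node (.node .leaf (nat_lit 29515777) .leaf) (nat_lit 29515905) .leaf)))) (nat_lit 29517825) (.node (.node (.node (.node (.node .leaf (nat_lit 29517953) .leaf) (nat_lit 29544449) .leaf) (nat_lit 29544577) (.node (.node .leaf (nat_lit 29546497) .leaf) (nat_lit 29546625) .leaf)) (nat_lit 2147876865) (.node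 (.node (.node .leaf (nat_lit 2147876993) .leaf) (nat_lit 2147883009) .leaf) (nat_lit 2147883137) (.node (.node .leaf (nat_lit 2147909633) .leaf) (nat_lit 2147909761) .leaf))) (nat_lit 2147915777) (.node (.node (.node (.node .leaf (nat_lit 2147915905) .leaf) (nat_lit 2147942401) .leaf) (nat_lit 2147942529) (.node (.node .leaf (nat_lit 2147948545) .leaf) (nat_lit 2147948673) .leaf)) (nat_lit 2147975169) (.node (.node (.node .leaf (nat_lit 2147975297) .leaf) (nat_lit 2147981313) .leaf) (nat_lit 2147981441) (.node (.node .leaf (nat_lit 2151677953) .leaf) (nat_lit 2151678081) .leaf))))) (nat_lit 2151684097) (.node (.node (.node (.node (.node (.node .leaf (nat_lit 2151684225) .leaf) (nat_lit 2151710721) (.node .leaf (nat_lit 2151710849) .leaf)) (nat_lit 2151716865) (.node (.node .leaf (nat_lit 2151716993) .leaf) (nat_lit 2151745537) .leaf)) (nat_lit 2151745665) (.node (.node (.node .leaf (nat_lit 2151747585) .leaf) (nat_lit 2151747713) .leaf) (nat_lit 2151778305) (.node (.node .leaf (nat_lit 2151778433) .leaf) (nat_lit 2151780353) .leaf))) (nat_lit 2151780481) (.node (.node (.node (.node .leaf (nat_lit 2155872259) .leaf)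 (nat_lit 2155872387) .leaf) (nat_lit 2155876355) (.node (.node .leaf (nat_lit 2155876483) .leaf) (nat_lit 2155915267) .leaf)) (nat_lit 2155915395) (.node (.node (.node .leaf (nat_lit 2155919363) .leaf) (nat_lit 2155919491) .leaf) (nat_lit 2155954179) (.node (.node .leaf (nat_lit 2155954307) .leaf) (nat_lit 2155958275) .leaf)))) (nat_lit 2155958403) (.node (.node (.node (.node (.node .leaf (nat_lit 2155997187) .leaf) (nat_lit 2155997315) .leaf) (nat_lit 2156001283) (.node (.node .leaf (nat_lit 2156001411) .leaf) (nat_lit 2160353283) .leaf)) (nat_lit 2160353411) (.node (.node (.node .leaf (nat_lit 2160357379) .leaf) (nat_lit 2160357507) .leaf) (nat_lit 2160379907) (.node (.node .leaf (nat_lit 2160380035) .leaf) (nat_lit 2160384003) .leaf))) (nat_lit 2160384131) (.node (.node (.node (.node .leaf (nat_lit 2160404483) .leaf) (nat_lit 2160404611) .leaf) (nat_lit 2160408579) (.node (.node .leaf (nat_lit 2160408707) .leaf) (nat_lit 2160427011) .leaf)) (nat_lit 2160427139) (.node (.node (.node .leaf (nat_lit 2160431107) .leaf) (nat_lit 2160431235) .leaf) (nat_lit 4294967297) (.node (.node .leaf (nat_lit 4294967425) .leaf)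 (nat_lit 4294977537) .leaf))))))) (nat_lit 4294977665) (.node (.node (.node (.node (.node (.node (.node (.node .leaf (nat_lit 4295000065) .leaf) (nat_lit 4295000193) (.node .leaf (nat_lit 4295010305) .leaf)) (nat_lit 4295010433) (.node (.node .leaf (nat_lit 4295426049) .leaf) (nat_lit 4295426177) .leaf)) (nat_lit 4295436289) (.node (.node (.node .leaf (nat_lit 4295436417) .leaf) (nat_lit 4295458817) .leaf) (nat_lit 4295458945) (.node (.node .leaf (nat_lit 4295469057) .leaf) (nat_lit 4295469185) .leaf))) (nat_lit 4299294721) (.node (.node (.node (.node .leaf (nat_lit 4299294849) .leaf) (nat_lit 4299300865) .leaf) (nat_lit 4299300993) (.node (.node .leaf (nat_lit 4299327489) .leaf) (nat_lit 4299327617) .leaf)) (nat_lit 4299333633) (.node (.node (.node .leaf (nat_lit 4299333761) .leaf) (nat_lit 4299493377) .leaf) (nat_lit 4299493505) (.node (.node .leaf (nat_lit 4299503617) .leaf) (nat_lit 4299503745) .leaf)))) (nat_lit 4299526145) (.node (.node (.node (.node (.node .leaf (nat_lit 4299526273) .leaf) (nat_lit 4299536385) .leaf) (nat_lit 4299536513) (.node (.node .leaf (nat_lit 4311744515) .leaf) (nat_lit 4311744643)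 .leaf)) (nat_lit 4311752707) (.node (.node (.node .leaf (nat_lit 4311752835) .leaf) (nat_lit 4311783427) .leaf) (nat_lit 4311783555) (.node (.node .leaf (nat_lit 4311791619) .leaf) (nat_lit 4311791747) .leaf))) (nat_lit 4312137731) (.node (.node (.node (.node .leaf (nat_lit 4312137859) .leaf) (nat_lit 4312145923) .leaf) (nat_lit 4312146051) (.node (.node .leaf (nat_lit 4312176643) .leaf) (nat_lit 4312176771) .leaf)) (nat_lit 4312184835) (.node (.node (.node .leaf (nat_lit 4312184963) .leaf) (nat_lit 4316088323) .leaf) (nat_lit 4316088451) (.node (.node .leaf (nat_lit 4316096515) .leaf) (nat_lit 4316096643) .leaf))))) (nat_lit 4316123139) (.node (.node (.node (.node (.node (.node .leaf (nat_lit 4316123267) .leaf) (nat_lit 4316131331) (.node .leaf (nat_lit 4316131459) .leaf)) (nat_lit 4316221443) (.node (.node .leaf (nat_lit 4316221571) .leaf) (nat_lit 4316229635) .leaf)) (nat_lit 4316229763) (.node (.node (.node .leaf (nat_lit 4316252163) .leaf) (nat_lit 4316252291) .leaf) (nat_lit 4316260355) (.node (.node .leaf (nat_lit 4316260483) .leaf) (nat_lit 6442647553) .leaf))) (nat_lit 6442647681) (.node (.node (.node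 (.node .leaf (nat_lit 6442661889) .leaf) (nat_lit 6442662017) .leaf) (nat_lit 6442680321) (.node (.node .leaf (nat_lit 6442680449) .leaf) (nat_lit 6442694657) .leaf)) (nat_lit 6442694785) (.node (.node (.node .leaf (nat_lit 6442844161) .leaf) (nat_lit 6442844289) .leaf) (nat_lit 6442858497) (.node (.node .leaf (nat_lit 6442858625) .leaf) (nat_lit 6442876929) .leaf)))) (nat_lit 6442877057) (.node (.node (.node (.node (.node .leaf (nat_lit 6442891265) .leaf) (nat_lit 6442891393) .leaf) (nat_lit 6446645249) (.node (.node .leaf (nat_lit 6446645377) .leaf) (nat_lit 6446659585) .leaf)) (nat_lit 6446659713) (.node (.node (.node .leaf (nat_lit 6446678017) .leaf) (nat_lit 6446678145) .leaf) (nat_lit 6446692353) (.node (.node .leaf (nat_lit 6446692481) .leaf) (nat_lit 6446977025) .leaf))) (nat_lit 6446977153) (.node (.node (.node (.node .leaf (nat_lit 6446983169) .leaf) (nat_lit 6446983297) .leaf) (nat_lit 6447009793) (.node (.node .leaf (nat_lit 6447009921) .leaf) (nat_lit 6447015937) .leaf)) (nat_lit 6447016065) (.node (.node (.node .leaf (nat_lit 6467829763) .leaf) (nat_lit 6467829891) .leaf) (nat_lit 6467842051) (.node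 (.node .leaf (nat_lit 6467842179) .leaf) (nat_lit 6467868675) .leaf)))))) (nat_lit 6467868803) (.node (.node (.node (.node (.node (.node (.node .leaf (nat_lit 6467872771) .leaf) (nat_lit 6467872899) (.node .leaf (nat_lit 6468075523) .leaf)) (nat_lit 6468075651) (.node (.node .leaf (nat_lit 6468087811) .leaf) (nat_lit 6468087939) .leaf)) (nat_lit 6468114435) (.node (.node (.node .leaf (nat_lit 6468114563) .leaf) (nat_lit 6468118531) .leaf) (nat_lit 6468118659) (.node (.node .leaf (nat_lit 6471811075) .leaf) (nat_lit 6471811203) .leaf))) (nat_lit 6471823363) (.node (.node (.node (.node .leaf (nat_lit 6471823491) .leaf) (nat_lit 6471849987) .leaf) (nat_lit 6471850115) (.node (.node .leaf (nat_lit 6471854083) .leaf) (nat_lit 6471854211) .leaf)) (nat_lit 6472093699) (.node (.node (.node .leaf (nat_lit 6472093827) .leaf) (nat_lit 6472097795) .leaf) (nat_lit 6472097923) (.node (.node .leaf (nat_lit 6472124419) .leaf) (nat_lit 6472124547) .leaf)))) (nat_lit 6472136707) (.node (.node (.node (.node (.node .leaf (nat_lit 6472136835) .leaf) (nat_lit 8589934723) .leaf) (nat_lit 8589951107) (.node (.node .leaf (nat_lit 8590004355)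 .leaf) (nat_lit 8590020739) .leaf)) (nat_lit 8590073987) (.node (.node (.node .leaf (nat_lit 8590090371) .leaf) (nat_lit 8590143491) .leaf) (nat_lit 8590159875) (.node (.node .leaf (nat_lit 8590196867) .leaf) (nat_lit 8590213123) .leaf))) (nat_lit 8590266499) (.node (.node (.node (.node .leaf (nat_lit 8590282755) .leaf) (nat_lit 8590336131) .leaf) (nat_lit 8590352387) (.node (.node .leaf (nat_lit 8590405635) .leaf) (nat_lit 8590422147) .leaf)) (nat_lit 8598323331) (.node (.node (.node .leaf (nat_lit 8598339715) .leaf) (nat_lit 8598392963) .leaf) (nat_lit 8598409347) (.node (.node .leaf (nat_lit 8598464643) .leaf) (nat_lit 8598481027) .leaf))))) (nat_lit 8598534147) (.node (.node (.node (.node (.node (.node .leaf (nat_lit 8598550531) .leaf) (nat_lit 8598589443) .leaf) (nat_lit 8598605955) (.node (.node .leaf (nat_lit 8598650883) .leaf) (nat_lit 8598667395) .leaf)) (nat_lit 8598730755) (.node (.node (.node .leaf (nat_lit 8598747267) .leaf) (nat_lit 8598792323) .leaf) (nat_lit 8598808579) (.node (.node .leaf (nat_lit 8606711809) .leaf) (nat_lit 8606730241) .leaf))) (nat_lit 8606779393) (.node (.node (.node (.node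 .leaf (nat_lit 8606793729) .leaf) (nat_lit 8606843009) .leaf) (nat_lit 8606861441) (.node (.node .leaf (nat_lit 8606910465) .leaf) (nat_lit 8606924801) .leaf)) (nat_lit 8607014913) (.node (.node (.node .leaf (nat_lit 8607033473) .leaf) (nat_lit 8607082497) .leaf) (nat_lit 8607096961) (.node (.node .leaf (nat_lit 8607146113) .leaf) (nat_lit 8607164417) .leaf)))) (nat_lit 8607213569) (.node (.node (.node (.node (.node .leaf (nat_lit 8607228033) .leaf) (nat_lit 8615100417) .leaf) (nat_lit 8615118849) (.node (.node .leaf (nat_lit 8615168001) .leaf) (nat_lit 8615182337) .leaf)) (nat_lit 8615233665) (.node (.node (.node .leaf (nat_lit 8615248001) .leaf) (nat_lit 8615297025) .leaf) (nat_lit 8615315457) (.node (.node .leaf (nat_lit 8615407745) .leaf) (nat_lit 8615426049) .leaf))) (nat_lit 8615475329) (.node (.node (.node (.node .leaf (nat_lit 8615489537) .leaf) (nat_lit 8615540737) .leaf) (nat_lit 8615555201) (.node (.node .leaf (nat_lit 8615604353) .leaf) (nat_lit 8615622657) .leaf)) (nat_lit 10737418241) (.node (.node (.node .leaf (nat_lit 10737440769) .leaf) (nat_lit 10737483905) .leaf) (nat_lit 10737506433) (.node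 (.node .leaf (nat_lit 10737582081) .leaf) (nat_lit 10737604609) .leaf))))))))
def t0_1 : BT := (.node (.node (.node (.node (.node (.node (.node (.node (.node .leaf (nat_lit 10737670145) .leaf) (nat_lit 10737713153) (.node .leaf (nat_lit 10737735809) .leaf)) (nat_lit 10737778817) (.node (.node .leaf (nat_lit 10737801217) .leaf) (nat_lit 10737811457) .leaf)) (nat_lit 10737834113) (.node (.node (.node .leaf (nat_lit 10737876993) .leaf) (nat_lit 10737899649) .leaf) (nat_lit 10745806977) (.node (.node .leaf (nat_lit 10745829505) .leaf) (nat_lit 10745872385) .leaf))) (nat_lit 10745894913) (.node (.node (.node (.node .leaf (nat_lit 10745972865) .leaf) (nat_lit 10745991297) .leaf) (nat_lit 10746038401) (.node (.node .leaf (nat_lit 10746056833) .leaf) (nat_lit 10746105857) .leaf)) (nat_lit 10746120321) (.node (.node (.node .leaf (nat_lit 10746171521) .leaf) (nat_lit 10746185729) .leaf) (nat_lit 10746206209) (.node (.node .leaf (nat_lit 10746216577) .leaf) (nat_lit 10746271745) .leaf)))) (nat_lit 10746282113) (.node (.node (.node (.node (.node .leaf (nat_lit 10758389891) .leaf) (nat_lit 10758410371) .leaf) (nat_lit 10758461443)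 (.node (.node .leaf (nat_lit 10758473731) .leaf) (nat_lit 10758561795) .leaf)) (nat_lit 10758582275) (.node (.node (.node .leaf (nat_lit 10758633475) .leaf) (nat_lit 10758645763) .leaf) (nat_lit 10758660227) (.node (.node .leaf (nat_lit 10758680579) .leaf) (nat_lit 10758731779) .leaf))) (nat_lit 10758744195) (.node (.node (.node (.node .leaf (nat_lit 10758815747) .leaf) (nat_lit 10758836355) .leaf) (nat_lit 10758887427) (.node (.node .leaf (nat_lit 10758899843) .leaf) (nat_lit 10766778371) .leaf)) (nat_lit 10766798851) (.node (.node (.node .leaf (nat_lit 10766850179) .leaf) (nat_lit 10766862467) .leaf) (nat_lit 10766952579) (.node (.node .leaf (nat_lit 10766973059) .leaf) (nat_lit 10767020163) .leaf))))) (nat_lit 10767032451) (.node (.node (.node (.node (.node (.node .leaf (nat_lit 10767052931) .leaf) (nat_lit 10767065091) (.node .leaf (nat_lit 10767116291) .leaf)) (nat_lit 10767136899) (.node (.node .leaf (nat_lit 10767210499) .leaf) (nat_lit 10767222915) .leaf)) (nat_lit 10767269891) (.node (.node (.node .leaf (nat_lit 10767290499) .leaf) (nat_lit 12884902019) .leaf) (nat_lit 12884926467) (.node (.node .leaf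 (nat_lit 12885004419) .leaf) (nat_lit 12885028867) .leaf))) (nat_lit 12885041283) (.node (.node (.node (.node .leaf (nat_lit 12885049347) .leaf) (nat_lit 12885143555) .leaf) (nat_lit 12885151875) (.node (.node .leaf (nat_lit 12885164163) .leaf) (nat_lit 12885188739) .leaf)) (nat_lit 12885266563) (.node (.node (.node .leaf (nat_lit 12885291139) .leaf) (nat_lit 12885303427) .leaf) (nat_lit 12885311619) (.node (.node .leaf (nat_lit 12885405699) .leaf) (nat_lit 12885413891) .leaf)))) (nat_lit 12897484803) (.node (.node (.node (.node (.node .leaf (nat_lit 12897509507) .leaf) (nat_lit 12897587203) .leaf) (nat_lit 12897611907) (.node (.node .leaf (nat_lit 12897626115) .leaf) (nat_lit 12897634435) .leaf)) (nat_lit 12897728643) (.node (.node (.node .leaf (nat_lit 12897736707) .leaf) (nat_lit 12897751171) .leaf) (nat_lit 12897775747) (.node (.node .leaf (nat_lit 12897845379) .leaf) (nat_lit 12897869955) .leaf))) (nat_lit 12897892483) (.node (.node (.node (.node .leaf (nat_lit 12897900675) .leaf) (nat_lit 12897986563) .leaf) (nat_lit 12897994755) (.node (.node .leaf (nat_lit 12901679233) .leaf) (nat_lit 12901705729) .leaf))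 (nat_lit 12901779585) (.node (.node (.node .leaf (nat_lit 12901801985) .leaf) (nat_lit 12901810177) .leaf) (nat_lit 12901836929) (.node (.node .leaf (nat_lit 12901910657) .leaf) (nat_lit 12901933057) .leaf)))))) (nat_lit 12901982337) (.node (.node (.node (.node (.node (.node (.node .leaf (nat_lit 12901992577) .leaf) (nat_lit 12902017153) (.node .leaf (nat_lit 12902023297) .leaf)) (nat_lit 12902113281) (.node (.node .leaf (nat_lit 12902123521) .leaf) (nat_lit 12902148225) .leaf)) (nat_lit 12902154369) (.node (.node (.node .leaf (nat_lit 12914262017) .leaf) (nat_lit 12914288769) .leaf) (nat_lit 12914362369) (.node (.node .leaf (nat_lit 12914385025) .leaf) (nat_lit 12914395265) .leaf))) (nat_lit 12914417665) (.node (.node (.node (.node .leaf (nat_lit 12914491393) .leaf) (nat_lit 12914518145) .leaf) (nat_lit 12914569345) (.node (.node .leaf (nat_lit 12914579585) .leaf) (nat_lit 12914604161) .leaf)) (nat_lit 12914610305) (.node (.node (.node .leaf (nat_lit 12914702337) .leaf) (nat_lit 12914708481) .leaf) (nat_lit 12914733185) (.node (.node .leaf (nat_lit 12914743425) .leaf) (nat_lit 15032385537) .leaf)))) (nat_lit 15032416385)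 (.node (.node (.node (.node (.node .leaf (nat_lit 15032483969) .leaf) (nat_lit 15032514561) .leaf) (nat_lit 15032549377) (.node (.node .leaf (nat_lit 15032580225) .leaf) (nat_lit 15032582145) .leaf)) (nat_lit 15032612993) (.node (.node (.node .leaf (nat_lit 15032680449) .leaf) (nat_lit 15032711169) .leaf) (nat_lit 15032713345) (.node (.node .leaf (nat_lit 15032744065) .leaf) (nat_lit 15032778753) .leaf))) (nat_lit 15032809473) (.node (.node (.node (.node .leaf (nat_lit 15032877057) .leaf) (nat_lit 15032907777) .leaf) (nat_lit 15044968449) (.node (.node .leaf (nat_lit 15044999297) .leaf) (nat_lit 15045066881) .leaf)) (nat_lit 15045097473) (.node (.node (.node .leaf (nat_lit 15045134337) .leaf) (nat_lit 15045161089) .leaf) (nat_lit 15045167105) (.node (.node .leaf (nat_lit 15045193857) .leaf) (nat_lit 15045267585) .leaf))))) (nat_lit 15045290113) (.node (.node (.node (.node (.node (.node .leaf (nat_lit 15045300225) .leaf) (nat_lit 15045322753) .leaf) (nat_lit 15045367937) (.node (.node .leaf (nat_lit 15045386369) .leaf) (nat_lit 15045466241) .leaf)) (nat_lit 15045484673) (.node (.node (.node .leaf (nat_lit 15053357059)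 .leaf) (nat_lit 15053385859) .leaf) (nat_lit 15053461635) (.node (.node .leaf (nat_lit 15053481987) .leaf) (nat_lit 15053529219) .leaf))) (nat_lit 15053541379) (.node (.node (.node (.node .leaf (nat_lit 15053568131) .leaf) (nat_lit 15053572099) .leaf) (nat_lit 15053627395) (.node (.node .leaf (nat_lit 15053639683) .leaf) (nat_lit 15053731971) .leaf)) (nat_lit 15053736067) (.node (.node (.node .leaf (nat_lit 15053783171) .leaf) (nat_lit 15053811843) .leaf) (nat_lit 15053822083) (.node (.node .leaf (nat_lit 15053842563) .leaf) (nat_lit 15057551363) .leaf)))) (nat_lit 15057580163) (.node (.node (.node (.node (.node .leaf (nat_lit 15057655939) .leaf) (nat_lit 15057676291) .leaf) (nat_lit 15057725571) (.node (.node .leaf (nat_lit 15057737731) .leaf) (nat_lit 15057760387) .leaf)) (nat_lit 15057764355) (.node (.node (.node .leaf (nat_lit 15057825923) .leaf) (nat_lit 15057830019) .leaf) (nat_lit 15057922051) (.node (.node .leaf (nat_lit 15057934339) .leaf) (nat_lit 15057983491) .leaf))) (nat_lit 15058003971) (.node (.node (.node (.node .leaf (nat_lit 15058010115) .leaf) (nat_lit 15058038787) .leaf) (nat_lit 274877939714)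 (.node (.node .leaf (nat_lit 274877941762) .leaf) (nat_lit 274877943810) .leaf)) (nat_lit 274877945858) (.node (.node (.node .leaf (nat_lit 274877972481) .leaf) (nat_lit 274877974529) .leaf) (nat_lit 274877976705) (.node (.node .leaf (nat_lit 274877978753) .leaf) (nat_lit 274882142210) .leaf))))))) (nat_lit 274882144258) (.node (.node (.node (.node (.node (.node (.node (.node .leaf (nat_lit 274882146306) .leaf) (nat_lit 274882148354) (.node .leaf (nat_lit 274882166913) .leaf)) (nat_lit 274882168961) (.node (.node .leaf (nat_lit 274882170881) .leaf) (nat_lit 274882172929) .leaf)) (nat_lit 274886344834) (.node (.node (.node .leaf (nat_lit 274886346882) .leaf) (nat_lit 274886348930) .leaf) (nat_lit 274886350978) (.node (.node .leaf (nat_lit 274886361089) .leaf) (nat_lit 274886363137) .leaf))) (nat_lit 274886365313) (.node (.node (.node (.node .leaf (nat_lit 274886367361) .leaf) (nat_lit 274890547330) .leaf) (nat_lit 274890549378) (.node (.node .leaf (nat_lit 274890551426) .leaf) (nat_lit 274890553474) .leaf)) (nat_lit 274890555521) (.node (.node (.node .leaf (nat_lit 274890557569) .leaf) (nat_lit 274890559489) .leaf)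 (nat_lit 274890561537) (.node (.node .leaf (nat_lit 277025488897) .leaf) (nat_lit 277025491073) .leaf)))) (nat_lit 277025493121) (.node (.node (.node (.node (.node .leaf (nat_lit 277025495041) .leaf) (nat_lit 277025685506) .leaf) (nat_lit 277025687682) (.node (.node .leaf (nat_lit 277025689602) .leaf) (nat_lit 277025691778) .leaf)) (nat_lit 277029650561) (.node (.node (.node .leaf (nat_lit 277029652481) .leaf) (nat_lit 277029654529) .leaf) (nat_lit 277029656705) (.node (.node .leaf (nat_lit 277029855234) .leaf) (nat_lit 277029857410) .leaf))) (nat_lit 277029859330) (.node (.node (.node (.node .leaf (nat_lit 277029861506) .leaf) (nat_lit 277033812097) .leaf) (nat_lit 277033814017) (.node (.node .leaf (nat_lit 277033816065) .leaf) (nat_lit 277033818241) .leaf)) (nat_lit 277034156162) (.node (.node (.node .leaf (nat_lit 277034158082) .leaf) (nat_lit 277034160258) .leaf) (nat_lit 277034162178) (.node (.node .leaf (nat_lit 277037973505) .leaf) (nat_lit 277037975681) .leaf))))) (nat_lit 277037977729) (.node (.node (.node (.node (.node (.node .leaf (nat_lit 277037979649) .leaf) (nat_lit 277038325890) (.node .leaf (nat_lit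 277038327810) .leaf)) (nat_lit 277038329986) (.node (.node .leaf (nat_lit 277038331906) .leaf) (nat_lit 412316983298) .leaf)) (nat_lit 412316985346) (.node (.node (.node .leaf (nat_lit 412316987394) .leaf) (nat_lit 412316989442) .leaf) (nat_lit 412321169538) (.node (.node .leaf (nat_lit 412321171586) .leaf) (nat_lit 412321173634) .leaf))) (nat_lit 412321175682) (.node (.node (.node (.node .leaf (nat_lit 412325355650) .leaf) (nat_lit 412325357698) .leaf) (nat_lit 412325359746) (.node (.node .leaf (nat_lit 412325361794) .leaf) (nat_lit 412329541634) .leaf)) (nat_lit 412329543682) (.node (.node (.node .leaf (nat_lit 412329545730) .leaf) (nat_lit 412329547778) .leaf) (nat_lit 412333637633) (.node (.node .leaf (nat_lit 412333639681) .leaf) (nat_lit 412333641857) .leaf)))) (nat_lit 412333643905) (.node (.node (.node (.node (.node .leaf (nat_lit 412337831937) .leaf) (nat_lit 412337833985) .leaf) (nat_lit 412337836161) (.node (.node .leaf (nat_lit 412337838209) .leaf) (nat_lit 412342026241) .leaf)) (nat_lit 412342028289) (.node (.node (.node .leaf (nat_lit 412342030465) .leaf) (nat_lit 412342032513) .leaf) (nat_lit 412346220545)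 (.node (.node .leaf (nat_lit 412346222593) .leaf) (nat_lit 412346224769) .leaf))) (nat_lit 412346226817) (.node (.node (.node (.node .leaf (nat_lit 414464425987) .leaf) (nat_lit 414464428163) .leaf) (nat_lit 414464430083) (.node (.node .leaf (nat_lit 414464432259) .leaf) (nat_lit 414468661379) .leaf)) (nat_lit 414468663299) (.node (.node (.node .leaf (nat_lit 414468665475) .leaf) (nat_lit 414468667395) .leaf) (nat_lit 414472732675) (.node (.node .leaf (nat_lit 414472734851) .leaf) (nat_lit 414472736771) .leaf)))))) (nat_lit 414472738947) (.node (.node (.node (.node (.node (.node (.node .leaf (nat_lit 414476968067) .leaf) (nat_lit 414476969987) (.node .leaf (nat_lit 414476972163) .leaf)) (nat_lit 414476974083) (.node (.node .leaf (nat_lit 414481514496) .leaf) (nat_lit 414481516672) .leaf)) (nat_lit 414481518720) (.node (.node (.node .leaf (nat_lit 414481520640) .leaf) (nat_lit 414485741568) .leaf) (nat_lit 414485743744) (.node (.node .leaf (nat_lit 414485745792) .leaf) (nat_lit 414485747712) .leaf))) (nat_lit 414489968640) (.node (.node (.node (.node .leaf (nat_lit 414489970816) .leaf) (nat_lit 414489972864) .leaf)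 (nat_lit 414489974784) (.node (.node .leaf (nat_lit 414494195712) .leaf) (nat_lit 414494197888) .leaf)) (nat_lit 414494199936) (.node (.node (.node .leaf (nat_lit 414494201856) .leaf) (nat_lit 549755815938) .leaf) (nat_lit 549755824130) (.node (.node .leaf (nat_lit 549755848706) .leaf) (nat_lit 549755856898) .leaf)))) (nat_lit 549755944961) (.node (.node (.node (.node (.node .leaf (nat_lit 549755953281) .leaf) (nat_lit 549755977729) .leaf) (nat_lit 549755986049) (.node (.node .leaf (nat_lit 549760014338) .leaf) (nat_lit 549760022530) .leaf)) (nat_lit 549760047106) (.node (.node (.node .leaf (nat_lit 549760055298) .leaf) (nat_lit 549760139393) .leaf) (nat_lit 549760147457) (.node (.node .leaf (nat_lit 549760172161) .leaf) (nat_lit 549760180225) .leaf))) (nat_lit 549772609538) (.node (.node (.node (.node .leaf (nat_lit 549772617730) .leaf) (nat_lit 549772642434) .leaf) (nat_lit 549772650626) (.node (.node .leaf (nat_lit 549772724225) .leaf) (nat_lit 549772732545) .leaf)) (nat_lit 549772757121) (.node (.node (.node .leaf (nat_lit 549772765185) .leaf) (nat_lit 549776805890) .leaf) (nat_lit 549776814082) (.node (.node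 .leaf (nat_lit 549776838786) .leaf) (nat_lit 549776846978) .leaf))))) (nat_lit 549776916609) (.node (.node (.node (.node (.node (.node .leaf (nat_lit 549776924673) .leaf) (nat_lit 549776949249) .leaf) (nat_lit 549776957569) (.node (.node .leaf (nat_lit 554050912257) .leaf) (nat_lit 554050920577) .leaf)) (nat_lit 554050945025) (.node (.node (.node .leaf (nat_lit 554050953345) .leaf) (nat_lit 554051045506) .leaf) (nat_lit 554051053698) (.node (.node .leaf (nat_lit 554051078274) .leaf) (nat_lit 554051086466) .leaf))) (nat_lit 554055106689) (.node (.node (.node (.node .leaf (nat_lit 554055114753) .leaf) (nat_lit 554055139457) .leaf) (nat_lit 554055147521) (.node (.node .leaf (nat_lit 554055243906) .leaf) (nat_lit 554055252098) .leaf)) (nat_lit 554055276674) (.node (.node (.node .leaf (nat_lit 554055284866) .leaf) (nat_lit 554067560577) .leaf) (nat_lit 554067568641) (.node (.node .leaf (nat_lit 554067593217) .leaf) (nat_lit 554067601537) .leaf)))) (nat_lit 554067970178) (.node (.node (.node (.node (.node .leaf (nat_lit 554067978370) .leaf) (nat_lit 554068002818) .leaf) (nat_lit 554068011010) (.node (.node .leaf (nat_lit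 554071752705) .leaf) (nat_lit 554071761025) .leaf)) (nat_lit 554071785601) (.node (.node (.node .leaf (nat_lit 554071793665) .leaf) (nat_lit 554072166530) .leaf) (nat_lit 554072174722) (.node (.node .leaf (nat_lit 554072199170) .leaf) (nat_lit 554072207362) .leaf))) (nat_lit 687194769410) (.node (.node (.node (.node .leaf (nat_lit 687194775554) .leaf) (nat_lit 687194804226) .leaf) (nat_lit 687194814466) (.node (.node .leaf (nat_lit 687198967810) .leaf) (nat_lit 687198973954) .leaf)) (nat_lit 687198994434) (.node (.node (.node .leaf (nat_lit 687199004674) .leaf) (nat_lit 687203303425) .leaf) (nat_lit 687203313793) (.node (.node .leaf (nat_lit 687203342337) .leaf) (nat_lit 687203348609) .leaf))))))))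
def t0_2 : BT := (.node (.node (.node (.node (.node (.node (.node (.node (.node .leaf (nat_lit 687207507969) .leaf) (nat_lit 687207536769) (.node .leaf (nat_lit 687207542785) .leaf)) (nat_lit 687211563010) (.node (.node .leaf (nat_lit 687211569154) .leaf) (nat_lit 687211597954) .leaf)) (nat_lit 687211608194) (.node (.node (.node .leaf (nat_lit 687215759362) .leaf) (nat_lit 687215769602) .leaf) (nat_lit 687215790210) (.node (.node .leaf (nat_lit 687215796354) .leaf) (nat_lit 687220082689) .leaf))) (nat_lit 687220088961) (.node (.node (.node (.node .leaf (nat_lit 687220117633) .leaf) (nat_lit 687220127745) .leaf) (nat_lit 687224275073) (.node (.node .leaf (nat_lit 687224285185) .leaf) (nat_lit 687224313857) .leaf)) (nat_lit 687224320129) (.node (.node (.node .leaf (nat_lit 691489736835) .leaf) (nat_lit 691489742851) .leaf) (nat_lit 691489771523) (.node (.node .leaf (nat_lit 691489781891) .leaf) (nat_lit 691493928963) .leaf)))) (nat_lit 691493939331) (.node (.node (.node (.node (.node .leaf (nat_lit 691493968003) .leaf) (nat_lit 691493974019) .leaf) (nat_lit 691498600576) (.node (.node .leaf (nat_lit 691498606720)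 .leaf) (nat_lit 691498635264) .leaf)) (nat_lit 691498645504) (.node (.node (.node .leaf (nat_lit 691502796928) .leaf) (nat_lit 691502807168) .leaf) (nat_lit 691502827520) (.node (.node .leaf (nat_lit 691502833664) .leaf) (nat_lit 691506659331) .leaf))) (nat_lit 691506669699) (.node (.node (.node (.node .leaf (nat_lit 691506698243) .leaf) (nat_lit 691506704515) .leaf) (nat_lit 691510853763) (.node (.node .leaf (nat_lit 691510863875) .leaf) (nat_lit 691510892675) .leaf)) (nat_lit 691510898691) (.node (.node (.node .leaf (nat_lit 691515246720) .leaf) (nat_lit 691515252864) .leaf) (nat_lit 691515281536) (.node (.node .leaf (nat_lit 691515291776) .leaf) (nat_lit 691519445120) .leaf))))) (nat_lit 691519451264) (.node (.node (.node (.node (.node (.node .leaf (nat_lit 691519471744) .leaf) (nat_lit 691519481984) (.node .leaf (nat_lit 824633720833) .leaf)) (nat_lit 824633733249) (.node (.node .leaf (nat_lit 824633755649) .leaf) (nat_lit 824633768065) .leaf)) (nat_lit 824633919490) (.node (.node (.node .leaf (nat_lit 824633931778) .leaf) (nat_lit 824633950210) .leaf) (nat_lit 824633962498) (.node (.node .leaf (nat_lit 824637917185)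 .leaf) (nat_lit 824637929601) .leaf))) (nat_lit 824637947905) (.node (.node (.node (.node .leaf (nat_lit 824637960321) .leaf) (nat_lit 824638115970) .leaf) (nat_lit 824638120066) (.node (.node .leaf (nat_lit 824638150786) .leaf) (nat_lit 824638154882) .leaf)) (nat_lit 824658886657) (.node (.node (.node .leaf (nat_lit 824658899073) .leaf) (nat_lit 824658921601) .leaf) (nat_lit 824658933761) (.node (.node .leaf (nat_lit 824659099650) .leaf) (nat_lit 824659111938) .leaf)))) (nat_lit 824659134594) (.node (.node (.node (.node (.node .leaf (nat_lit 824659146882) .leaf) (nat_lit 824663080961) .leaf) (nat_lit 824663093377) (.node (.node .leaf (nat_lit 824663115905) .leaf) (nat_lit 824663128065) .leaf)) (nat_lit 824663298178) (.node (.node (.node .leaf (nat_lit 824663302274) .leaf) (nat_lit 824663332866) .leaf) (nat_lit 824663336962) (.node (.node .leaf (nat_lit 831076171777) .leaf) (nat_lit 831076184193) .leaf))) (nat_lit 831076206721) (.node (.node (.node (.node .leaf (nat_lit 831076218881) .leaf) (nat_lit 831076630530) .leaf) (nat_lit 831076642818) (.node (.node .leaf (nat_lit 831076665474) .leaf) (nat_lit 831076677762)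 .leaf)) (nat_lit 831080366081) (.node (.node (.node .leaf (nat_lit 831080378497) .leaf) (nat_lit 831080401025) .leaf) (nat_lit 831080413185) (.node (.node .leaf (nat_lit 831080829058) .leaf) (nat_lit 831080833154) .leaf)))))) (nat_lit 831080863746) (.node (.node (.node (.node (.node (.node (.node .leaf (nat_lit 831080867842) .leaf) (nat_lit 831101534209) (.node .leaf (nat_lit 831101546625) .leaf)) (nat_lit 831101569025) (.node (.node .leaf (nat_lit 831101581441) .leaf) (nat_lit 831101618306) .leaf)) (nat_lit 831101630594) (.node (.node (.node .leaf (nat_lit 831101649026) .leaf) (nat_lit 831101661314) .leaf) (nat_lit 831105730561) (.node (.node .leaf (nat_lit 831105742977) .leaf) (nat_lit 831105761281) .leaf))) (nat_lit 831105773697) (.node (.node (.node (.node .leaf (nat_lit 831105814530) .leaf) (nat_lit 831105818626) .leaf) (nat_lit 831105849346) (.node (.node .leaf (nat_lit 831105853442) .leaf) (nat_lit 962072889346) .leaf)) (nat_lit 962072899586) (.node (.node (.node .leaf (nat_lit 962072926210) .leaf) (nat_lit 962072928258) .leaf) (nat_lit 962077085826) (.node (.node .leaf (nat_lit 962077091970) .leaf) (nat_lit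 962077114498) .leaf)))) (nat_lit 962077128834) (.node (.node (.node (.node (.node .leaf (nat_lit 962081062913) .leaf) (nat_lit 962081077377) .leaf) (nat_lit 962081099777) (.node (.node .leaf (nat_lit 962081106049) .leaf) (nat_lit 962085259265) .leaf)) (nat_lit 962085269633) (.node (.node (.node .leaf (nat_lit 962085296129) .leaf) (nat_lit 962085298305) .leaf) (nat_lit 962089451521) (.node (.node .leaf (nat_lit 962089465985) .leaf) (nat_lit 962089488513) .leaf))) (nat_lit 962089494529) (.node (.node (.node (.node .leaf (nat_lit 962093645825) .leaf) (nat_lit 962093660289) .leaf) (nat_lit 962093682817) (.node (.node .leaf (nat_lit 962093688833) .leaf) (nat_lit 962098036738) .leaf)) (nat_lit 962098051074) (.node (.node (.node .leaf (nat_lit 962098073730) .leaf) (nat_lit 962098079874) .leaf) (nat_lit 962102235266) (.node (.node .leaf (nat_lit 962102241410) .leaf) (nat_lit 962102263810) .leaf))))) (nat_lit 962102278146) (.node (.node (.node (.node (.node (.node .leaf (nat_lit 968515338243) .leaf) (nat_lit 968515352707) .leaf) (nat_lit 968515375107) (.node (.node .leaf (nat_lit 968515381379) .leaf) (nat_lit 968519534595)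 .leaf)) (nat_lit 968519544963) (.node (.node (.node .leaf (nat_lit 968519571459) .leaf) (nat_lit 968519573635) .leaf) (nat_lit 968523843712) (.node (.node .leaf (nat_lit 968523853952) .leaf) (nat_lit 968523880576) .leaf))) (nat_lit 968523882624) (.node (.node (.node (.node .leaf (nat_lit 968528039936) .leaf) (nat_lit 968528046080) .leaf) (nat_lit 968528068608) (.node (.node .leaf (nat_lit 968528082944) .leaf) (nat_lit 968532295680) .leaf)) (nat_lit 968532310016) (.node (.node (.node .leaf (nat_lit 968532332672) .leaf) (nat_lit 968532338816) .leaf) (nat_lit 968536494208) (.node (.node .leaf (nat_lit 968536500352) .leaf) (nat_lit 968536522752) .leaf)))) (nat_lit 968536537088) (.node (.node (.node (.node (.node .leaf (nat_lit 968540291075) .leaf) (nat_lit 968540305539) .leaf) (nat_lit 968540328067) (.node (.node .leaf (nat_lit 968540334083) .leaf) (nat_lit 968544485379) .leaf)) (nat_lit 968544499843) (.node (.node (.node .leaf (nat_lit 968544522371) .leaf) (nat_lit 968544528387) .leaf) (nat_lit 1099511627777) (.node (.node .leaf (nat_lit 1099511629825) .leaf) (nat_lit 1099511644289) .leaf))) (nat_lit 1099511646337)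 (.node (.node (.node (.node .leaf (nat_lit 1099511758850) .leaf) (nat_lit 1099511760898) .leaf) (nat_lit 1099511775234) (.node (.node .leaf (nat_lit 1099511777282) .leaf) (nat_lit 1099520016385) .leaf)) (nat_lit 1099520018433) (.node (.node (.node .leaf (nat_lit 1099520032897) .leaf) (nat_lit 1099520034945) .leaf) (nat_lit 1099520151682) (.node (.node .leaf (nat_lit 1099520153730) .leaf) (nat_lit 1099520168066) .leaf))))))) (nat_lit 1099520170114) (.node (.node (.node (.node (.node (.node (.node (.node .leaf (nat_lit 1099528470657) .leaf) (nat_lit 1099528472705) (.node .leaf (nat_lit 1099528486913) .leaf)) (nat_lit 1099528488961) (.node (.node .leaf (nat_lit 1099528609922) .leaf) (nat_lit 1099528611970) .leaf)) (nat_lit 1099528626306) (.node (.node (.node .leaf (nat_lit 1099528628354) .leaf) (nat_lit 1099536859265) .leaf) (nat_lit 1099536861313) (.node (.node .leaf (nat_lit 1099536875521) .leaf) (nat_lit 1099536877569) .leaf))) (nat_lit 1099537002498) (.node (.node (.node (.node .leaf (nat_lit 1099537004546) .leaf) (nat_lit 1099537018882) .leaf) (nat_lit 1099537020930) (.node (.node .leaf (nat_lit 1108101695617)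 .leaf) (nat_lit 1108101709953) .leaf)) (nat_lit 1108101758977) (.node (.node (.node .leaf (nat_lit 1108101777409) .leaf) (nat_lit 1108101826690) .leaf) (nat_lit 1108101840898) (.node (.node .leaf (nat_lit 1108101890050) .leaf) (nat_lit 1108101908610) .leaf)))) (nat_lit 1108110082177) (.node (.node (.node (.node (.node .leaf (nat_lit 1108110100609) .leaf) (nat_lit 1108110149633) .leaf) (nat_lit 1108110163969) (.node (.node .leaf (nat_lit 1108110217218) .leaf) (nat_lit 1108110235778) .leaf)) (nat_lit 1108110284930) (.node (.node (.node .leaf (nat_lit 1108110299138) .leaf) (nat_lit 1108118339585) .leaf) (nat_lit 1108118358017) (.node (.node .leaf (nat_lit 1108118407169) .leaf) (nat_lit 1108118421505) .leaf))) (nat_lit 1108118740994) (.node (.node (.node (.node .leaf (nat_lit 1108118759554) .leaf) (nat_lit 1108118808578) .leaf) (nat_lit 1108118823042) (.node (.node .leaf (nat_lit 1108126728193) .leaf) (nat_lit 1108126746625) .leaf)) (nat_lit 1108126795777) (.node (.node (.node .leaf (nat_lit 1108126810113) .leaf) (nat_lit 1108127133826) .leaf) (nat_lit 1108127152130) (.node (.node .leaf (nat_lit 1108127201410) .leaf)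 (nat_lit 1108127215618) .leaf))))) (nat_lit 1236950790146) (.node (.node (.node (.node (.node (.node .leaf (nat_lit 1236950792194) .leaf) (nat_lit 1236950806530) (.node .leaf (nat_lit 1236950808578) .leaf)) (nat_lit 1236954845185) (.node (.node .leaf (nat_lit 1236954847233) .leaf) (nat_lit 1236954861697) .leaf)) (nat_lit 1236954863745) (.node (.node (.node .leaf (nat_lit 1236959174786) .leaf) (nat_lit 1236959176834) .leaf) (nat_lit 1236959191170) (.node (.node .leaf (nat_lit 1236959193218) .leaf) (nat_lit 1236963233793) .leaf))) (nat_lit 1236963235841) (.node (.node (.node (.node .leaf (nat_lit 1236963250305) .leaf) (nat_lit 1236963252353) .leaf) (nat_lit 1236967489538) (.node (.node .leaf (nat_lit 1236967491586) .leaf) (nat_lit 1236967505922) .leaf)) (nat_lit 1236967507970) (.node (.node (.node .leaf (nat_lit 1236971552769) .leaf) (nat_lit 1236971554817) .leaf) (nat_lit 1236971569281) (.node (.node .leaf (nat_lit 1236971571329) .leaf) (nat_lit 1236975882370) .leaf)))) (nat_lit 1236975884418) (.node (.node (.node (.node (.node .leaf (nat_lit 1236975898754) .leaf) (nat_lit 1236975900802) .leaf) (nat_lit 1236979941377)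 (.node (.node .leaf (nat_lit 1236979943425) .leaf) (nat_lit 1236979957889) .leaf)) (nat_lit 1236979959937) (.node (.node (.node .leaf (nat_lit 1245540518019) .leaf) (nat_lit 1245540534403) .leaf) (nat_lit 1245540587651) (.node (.node .leaf (nat_lit 1245540604035) .leaf) (nat_lit 1245545146496) .leaf))) (nat_lit 1245545162752) (.node (.node (.node (.node .leaf (nat_lit 1245545216128) .leaf) (nat_lit 1245545232384) .leaf) (nat_lit 1245548906627) (.node (.node .leaf (nat_lit 1245548923011) .leaf) (nat_lit 1245548976259) .leaf)) (nat_lit 1245548992643) (.node (.node (.node .leaf (nat_lit 1245553539072) .leaf) (nat_lit 1245553555584) .leaf) (nat_lit 1245553600512) (.node (.node .leaf (nat_lit 1245553617024) .leaf) (nat_lit 1245557434499) .leaf)))))) (nat_lit 1245557450883) (.node (.node (.node (.node (.node (.node (.node .leaf (nat_lit 1245557504003) .leaf) (nat_lit 1245557520387) (.node .leaf (nat_lit 1245561792640) .leaf)) (nat_lit 1245561808896) (.node (.node .leaf (nat_lit 1245561862144) .leaf) (nat_lit 1245561878656) .leaf)) (nat_lit 1245565821059) (.node (.node (.node .leaf (nat_lit 1245565837443) .leaf) (nat_lit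 1245565890563) .leaf) (nat_lit 1245565906947) (.node (.node .leaf (nat_lit 1245570183168) .leaf) (nat_lit 1245570199680) .leaf))) (nat_lit 1245570244736) (.node (.node (.node (.node .leaf (nat_lit 1245570260992) .leaf) (nat_lit 1374389600257) .leaf) (nat_lit 1374389602305) (.node (.node .leaf (nat_lit 1374389620865) .leaf) (nat_lit 1374389622913) .leaf)) (nat_lit 1374389764098) (.node (.node (.node .leaf (nat_lit 1374389766146) .leaf) (nat_lit 1374389784578) .leaf) (nat_lit 1374389786626) (.node (.node .leaf (nat_lit 1374397988865) .leaf) (nat_lit 1374397990913) .leaf)))) (nat_lit 1374398009473) (.node (.node (.node (.node (.node .leaf (nat_lit 1374398011521) .leaf) (nat_lit 1374398156930) .leaf) (nat_lit 1374398158978) (.node (.node .leaf (nat_lit 1374398169218) .leaf) (nat_lit 1374398171266) .leaf)) (nat_lit 1374410506241) (.node (.node (.node .leaf (nat_lit 1374410508289) .leaf) (nat_lit 1374410526849) .leaf) (nat_lit 1374410528897) (.node (.node .leaf (nat_lit 1374410678274) .leaf) (nat_lit 1374410680322) .leaf))) (nat_lit 1374410698754) (.node (.node (.node (.node .leaf (nat_lit 1374410700802) .leaf) (nat_lit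 1374418894849) .leaf) (nat_lit 1374418896897) (.node (.node .leaf (nat_lit 1374418915457) .leaf) (nat_lit 1374418917505) .leaf)) (nat_lit 1374419071106) (.node (.node (.node .leaf (nat_lit 1374419073154) .leaf) (nat_lit 1374419083394) .leaf) (nat_lit 1374419085442) (.node (.node .leaf (nat_lit 1385126952961) .leaf) (nat_lit 1385126975489) .leaf))))) (nat_lit 1385127018497) (.node (.node (.node (.node (.node (.node .leaf (nat_lit 1385127041025) .leaf) (nat_lit 1385127378946) .leaf) (nat_lit 1385127401602) (.node (.node .leaf (nat_lit 1385127444482) .leaf) (nat_lit 1385127467138) .leaf)) (nat_lit 1385135343745) (.node (.node (.node .leaf (nat_lit 1385135362177) .leaf) (nat_lit 1385135409281) .leaf) (nat_lit 1385135427713) (.node (.node .leaf (nat_lit 1385135773698) .leaf) (nat_lit 1385135784066) .leaf))) (nat_lit 1385135839234) (.node (.node (.node (.node .leaf (nat_lit 1385135849602) .leaf) (nat_lit 1385148088321) .leaf) (nat_lit 1385148110849) (.node (.node .leaf (nat_lit 1385148153985) .leaf) (nat_lit 1385148176513) .leaf)) (nat_lit 1385148194818) (.node (.node (.node .leaf (nat_lit 1385148217474) .leaf) (nat_lit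 1385148260482) .leaf) (nat_lit 1385148282882) (.node (.node .leaf (nat_lit 1385156477057) .leaf) (nat_lit 1385156499585) .leaf)))) (nat_lit 1385156542465) (.node (.node (.node (.node (.node .leaf (nat_lit 1385156564993) .leaf) (nat_lit 1385156587522) .leaf) (nat_lit 1385156601986) (.node (.node .leaf (nat_lit 1385156653186) .leaf) (nat_lit 1385156667394) .leaf)) (nat_lit 1511828729858) (.node (.node (.node .leaf (nat_lit 1511828731906) .leaf) (nat_lit 1511828742146) .leaf) (nat_lit 1511828744194) (.node (.node .leaf (nat_lit 1511832752129) .leaf) (nat_lit 1511832754177) .leaf))) (nat_lit 1511832764545) (.node (.node (.node (.node .leaf (nat_lit 1511832766593) .leaf) (nat_lit 1511837114498) .leaf) (nat_lit 1511837116546) (.node (.node .leaf (nat_lit 1511837134978) .leaf) (nat_lit 1511837137026) .leaf)) (nat_lit 1511841140737) (.node (.node (.node .leaf (nat_lit 1511841142785) .leaf) (nat_lit 1511841153153) .leaf) (nat_lit 1511841155201) (.node (.node .leaf (nat_lit 1511845265409) .leaf) (nat_lit 1511845267457) .leaf))))))))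
def t0_3 : BT := (.node (.node (.node (.node (.node (.node (.node (.node (.node .leaf (nat_lit 1511845288065) .leaf) (nat_lit 1511849623554) (.node .leaf (nat_lit 1511849625602) .leaf)) (nat_lit 1511849644034) (.node (.node .leaf (nat_lit 1511849646082) .leaf) (nat_lit 1511853654017) .leaf)) (nat_lit 1511853656065) (.node (.node (.node .leaf (nat_lit 1511853674625) .leaf) (nat_lit 1511853676673) .leaf) (nat_lit 1511858016386) (.node (.node .leaf (nat_lit 1511858018434) .leaf) (nat_lit 1511858028674) .leaf))) (nat_lit 1511858030722) (.node (.node (.node (.node .leaf (nat_lit 1522566080643) .leaf) (nat_lit 1522566101123) .leaf) (nat_lit 1522566148099) (.node (.node .leaf (nat_lit 1522566160387) .leaf) (nat_lit 1522570397824) .leaf)) (nat_lit 1522570418176) (.node (.node (.node .leaf (nat_lit 1522570465280) .leaf) (nat_lit 1522570477696) .leaf) (nat_lit 1522574469123) (.node (.node .leaf (nat_lit 1522574489603) .leaf) (nat_lit 1522574536835) .leaf)))) (nat_lit 1522574549123) (.node (.node (.node (.node (.node .leaf (nat_lit 1522578790528) .leaf) (nat_lit 1522578802688) .leaf) (nat_lit 1522578849792) (.node (.node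 .leaf (nat_lit 1522578870400) .leaf) (nat_lit 1522583076864) .leaf)) (nat_lit 1522583097472) (.node (.node (.node .leaf (nat_lit 1522583148544) .leaf) (nat_lit 1522583160960) .leaf) (nat_lit 1522586877955) (.node (.node .leaf (nat_lit 1522586898435) .leaf) (nat_lit 1522586949635) .leaf))) (nat_lit 1522586961923) (.node (.node (.node (.node .leaf (nat_lit 1522591471616) .leaf) (nat_lit 1522591484032) .leaf) (nat_lit 1522591531008) (.node (.node .leaf (nat_lit 1522591551616) .leaf) (nat_lit 1522595268739) .leaf)) (nat_lit 1522595289219) (.node (.node (.node .leaf (nat_lit 1522595336323) .leaf) (nat_lit 1522595348611) .leaf) (nat_lit 1649267443714) (.node (.node .leaf (nat_lit 1649267466242) .leaf) (nat_lit 1649267539970) .leaf))))) (nat_lit 1649267566594) (.node (.node (.node (.node (.node (.node .leaf (nat_lit 1649267574785) .leaf) (nat_lit 1649267597441) (.node .leaf (nat_lit 1649267671041) .leaf)) (nat_lit 1649267697793) (.node (.node .leaf (nat_lit 1649280030722) .leaf) (nat_lit 1649280053250) .leaf)) (nat_lit 1649280126978) (.node (.node (.node .leaf (nat_lit 1649280153602) .leaf) (nat_lit 1649280157825) .leaf)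 (nat_lit 1649280180225) (.node (.node .leaf (nat_lit 1649280254081) .leaf) (nat_lit 1649280280577) .leaf))) (nat_lit 1649284227074) (.node (.node (.node (.node .leaf (nat_lit 1649284237314) .leaf) (nat_lit 1649284327554) .leaf) (nat_lit 1649284333698) (.node (.node .leaf (nat_lit 1649284349953) .leaf) (nat_lit 1649284376705) .leaf)) (nat_lit 1649284450433) (.node (.node (.node .leaf (nat_lit 1649284472833) .leaf) (nat_lit 1649296816130) .leaf) (nat_lit 1649296822274) (.node (.node .leaf (nat_lit 1649296912514) .leaf) (nat_lit 1649296922754) .leaf)))) (nat_lit 1649296935041) (.node (.node (.node (.node (.node .leaf (nat_lit 1649296957441) .leaf) (nat_lit 1649297031169) .leaf) (nat_lit 1649297057921) (.node (.node .leaf (nat_lit 1662152343553) .leaf) (nat_lit 1662152345729) .leaf)) (nat_lit 1662152368257) (.node (.node (.node .leaf (nat_lit 1662152370177) .leaf) (nat_lit 1662152736770) .leaf) (nat_lit 1662152738946) (.node (.node .leaf (nat_lit 1662152761346) .leaf) (nat_lit 1662152763522) .leaf))) (nat_lit 1662165024769) (.node (.node (.node (.node .leaf (nat_lit 1662165026945) .leaf) (nat_lit 1662165049473) .leaf)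 (nat_lit 1662165051393) (.node (.node .leaf (nat_lit 1662165422210) .leaf) (nat_lit 1662165424130) .leaf)) (nat_lit 1662165446786) (.node (.node (.node .leaf (nat_lit 1662165448706) .leaf) (nat_lit 1662169350273) .leaf) (nat_lit 1662169352193) (.node (.node .leaf (nat_lit 1662169374721) .leaf) (nat_lit 1662169376897) .leaf)))))) (nat_lit 1662169489538) (.node (.node (.node (.node (.node (.node (.node .leaf (nat_lit 1662169491458) .leaf) (nat_lit 1662169497730) (.node .leaf (nat_lit 1662169499650) .leaf)) (nat_lit 1662181834881) (.node (.node .leaf (nat_lit 1662181836801) .leaf) (nat_lit 1662181859329) .leaf)) (nat_lit 1662181861505) (.node (.node (.node .leaf (nat_lit 1662181978114) .leaf) (nat_lit 1662181980290) .leaf) (nat_lit 1662181986306) (.node (.node .leaf (nat_lit 1662181988482) .leaf) (nat_lit 1786706397186) .leaf))) (nat_lit 1786706421762) (.node (.node (.node (.node .leaf (nat_lit 1786706499586) .leaf) (nat_lit 1786706524162) .leaf) (nat_lit 1786710730753) (.node (.node .leaf (nat_lit 1786710739073) .leaf) (nat_lit 1786710833153) .leaf)) (nat_lit 1786710841473) (.node (.node (.node .leaf (nat_lit 1786714925185)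 .leaf) (nat_lit 1786714933249) .leaf) (nat_lit 1786715027585) (.node (.node .leaf (nat_lit 1786715035649) .leaf) (nat_lit 1786718984194) .leaf)))) (nat_lit 1786719008770) (.node (.node (.node (.node (.node .leaf (nat_lit 1786719078402) .leaf) (nat_lit 1786719102978) .leaf) (nat_lit 1786723182594) (.node (.node .leaf (nat_lit 1786723190786) .leaf) (nat_lit 1786723285122) .leaf)) (nat_lit 1786723293314) (.node (.node (.node .leaf (nat_lit 1786727507969) .leaf) (nat_lit 1786727516289) .leaf) (nat_lit 1786727610497) (.node (.node .leaf (nat_lit 1786727618561) .leaf) (nat_lit 1786731700353) .leaf))) (nat_lit 1786731708417) (.node (.node (.node (.node .leaf (nat_lit 1786731802625) .leaf) (nat_lit 1786731810945) .leaf) (nat_lit 1786735767554) (.node (.node .leaf (nat_lit 1786735775746) .leaf) (nat_lit 1786735861890) .leaf)) (nat_lit 1786735870082) (.node (.node (.node .leaf (nat_lit 1799591538691) .leaf) (nat_lit 1799591540867) .leaf) (nat_lit 1799591546883) (.node (.node .leaf (nat_lit 1799591549059) .leaf) (nat_lit 1799595823104) .leaf))))) (nat_lit 1799595825280) (.node (.node (.node (.node (.node (.node .leaf (nat_lit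 1799595847808) .leaf) (nat_lit 1799595849728) .leaf) (nat_lit 1799599984640) (.node (.node .leaf (nat_lit 1799599986816) .leaf) (nat_lit 1799600009344) .leaf)) (nat_lit 1799600011264) (.node (.node (.node .leaf (nat_lit 1799604019331) .leaf) (nat_lit 1799604021251) .leaf) (nat_lit 1799604027523) (.node (.node .leaf (nat_lit 1799604029443) .leaf) (nat_lit 1799608074243) .leaf))) (nat_lit 1799608076419) (.node (.node (.node (.node .leaf (nat_lit 1799608098819) .leaf) (nat_lit 1799608100995) .leaf) (nat_lit 1799612694528) (.node (.node .leaf (nat_lit 1799612696704) .leaf) (nat_lit 1799612719232) .leaf)) (nat_lit 1799612721152) (.node (.node (.node .leaf (nat_lit 1799616921600) .leaf) (nat_lit 1799616923776) .leaf) (nat_lit 1799616946304) (.node (.node .leaf (nat_lit 1799616948224) .leaf) (nat_lit 1799620759683) .leaf)))) (nat_lit 1799620761603) (.node (.node (.node (.node (.node .leaf (nat_lit 1799620784259) .leaf) (nat_lit 1799620786179) .leaf) (nat_lit 1924145348609) (.node (.node .leaf (nat_lit 1924145379457) .leaf) (nat_lit 1924145446913) .leaf)) (nat_lit 1924145477761) (.node (.node (.node .leaf (nat_lit 1924145512450)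 .leaf) (nat_lit 1924145543170) .leaf) (nat_lit 1924145545218) (.node (.node .leaf (nat_lit 1924145575938) .leaf) (nat_lit 1924157933569) .leaf))) (nat_lit 1924157960321) (.node (.node (.node (.node .leaf (nat_lit 1924158031873) .leaf) (nat_lit 1924158058625) .leaf) (nat_lit 1924158101634) (.node (.node .leaf (nat_lit 1924158120066) .leaf) (nat_lit 1924158134402) .leaf)) (nat_lit 1924158152834) (.node (.node (.node .leaf (nat_lit 1924166320129) .leaf) (nat_lit 1924166350977) .leaf) (nat_lit 1924166418561) (.node (.node .leaf (nat_lit 1924166449153) .leaf) (nat_lit 1924166492162) .leaf))))))) (nat_lit 1924166506498) (.node (.node (.node (.node (.node (.node (.node (.node .leaf (nat_lit 1924166525058) .leaf) (nat_lit 1924166539394) (.node .leaf (nat_lit 1924170514433) .leaf)) (nat_lit 1924170545281) (.node (.node .leaf (nat_lit 1924170612865) .leaf) (nat_lit 1924170643457) .leaf)) (nat_lit 1924170690690) (.node (.node (.node .leaf (nat_lit 1924170696834) .leaf) (nat_lit 1924170723330) .leaf) (nat_lit 1924170729474) (.node (.node .leaf (nat_lit 1939177832449) .leaf) (nat_lit 1939177834625) .leaf))) (nat_lit 1939177861249)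 (.node (.node (.node (.node .leaf (nat_lit 1939177863169) .leaf) (nat_lit 1939178192898) .leaf) (nat_lit 1939178195074) (.node (.node .leaf (nat_lit 1939178221570) .leaf) (nat_lit 1939178223746) .leaf)) (nat_lit 1939190317057) (.node (.node (.node .leaf (nat_lit 1939190319233) .leaf) (nat_lit 1939190345857) .leaf) (nat_lit 1939190347777) (.node (.node .leaf (nat_lit 1939190747266) .leaf) (nat_lit 1939190749186) .leaf)))) (nat_lit 1939190767746) (.node (.node (.node (.node (.node .leaf (nat_lit 1939190769666) .leaf) (nat_lit 1939198869505) .leaf) (nat_lit 1939198871681) (.node (.node .leaf (nat_lit 1939198898305) .leaf) (nat_lit 1939198900225) .leaf)) (nat_lit 1939198976002) (.node (.node (.node .leaf (nat_lit 1939198978178) .leaf) (nat_lit 1939198988290) .leaf) (nat_lit 1939198990466) (.node (.node .leaf (nat_lit 1939203096577) .leaf) (nat_lit 1939203098753) .leaf))) (nat_lit 1939203125377) (.node (.node (.node (.node .leaf (nat_lit 1939203127297) .leaf) (nat_lit 1939203272834) .leaf) (nat_lit 1939203274754) (.node (.node .leaf (nat_lit 1939203276930) .leaf) (nat_lit 1939203278850) .leaf)) (nat_lit 2061584476162)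 (.node (.node (.node .leaf (nat_lit 2061584488450) .leaf) (nat_lit 2061584510978) .leaf) (nat_lit 2061584515074) (.node (.node .leaf (nat_lit 2061588498433) .leaf) (nat_lit 2061588527233) .leaf))))) (nat_lit 2061588598785) (.node (.node (.node (.node (.node (.node .leaf (nat_lit 2061588619393) .leaf) (nat_lit 2061592690689) (.node .leaf (nat_lit 2061592719489) .leaf)) (nat_lit 2061592795137) (.node (.node .leaf (nat_lit 2061592815745) .leaf) (nat_lit 2061597061250) .leaf)) (nat_lit 2061597065346) (.node (.node (.node .leaf (nat_lit 2061597091970) .leaf) (nat_lit 2061597104258) .leaf) (nat_lit 2061601079297) (.node (.node .leaf (nat_lit 2061601108097) .leaf) (nat_lit 2061601183873) .leaf))) (nat_lit 2061601204225) (.node (.node (.node (.node .leaf (nat_lit 2061605437442) .leaf) (nat_lit 2061605466114) .leaf) (nat_lit 2061605476482) (.node (.node .leaf (nat_lit 2061605496962) .leaf) (nat_lit 2061609635970) .leaf)) (nat_lit 2061609656450) (.node (.node (.node .leaf (nat_lit 2061609666562) .leaf) (nat_lit 2061609695234) .leaf) (nat_lit 2061613662209) (.node (.node .leaf (nat_lit 2061613691009) .leaf) (nat_lit 2061613766785)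 .leaf)))) (nat_lit 2061613787137) (.node (.node (.node (.node (.node .leaf (nat_lit 2076616896515) .leaf) (nat_lit 2076616898691) .leaf) (nat_lit 2076616900611) (.node (.node .leaf (nat_lit 2076616902787) .leaf) (nat_lit 2076621213696) .leaf)) (nat_lit 2076621215872) (.node (.node (.node .leaf (nat_lit 2076621234304) .leaf) (nat_lit 2076621236224) .leaf) (nat_lit 2076625375232) (.node (.node .leaf (nat_lit 2076625377408) .leaf) (nat_lit 2076625395840) .leaf))) (nat_lit 2076625397760) (.node (.node (.node (.node .leaf (nat_lit 2076629442691) .leaf) (nat_lit 2076629444611) .leaf) (nat_lit 2076629454979) (.node (.node .leaf (nat_lit 2076629456899) .leaf) (nat_lit 2076633858048) .leaf)) (nat_lit 2076633860224) (.node (.node (.node .leaf (nat_lit 2076633886848) .leaf) (nat_lit 2076633888768) .leaf) (nat_lit 2076637659139) (.node (.node .leaf (nat_lit 2076637661315) .leaf) (nat_lit 2076637687811) .leaf)))))) (nat_lit 2076637689987) (.node (.node (.node (.node (.node (.node (.node .leaf (nat_lit 2076641955971) .leaf) (nat_lit 2076641957891) (.node .leaf (nat_lit 2076641976451) .leaf)) (nat_lit 2076641978371) (.node (.node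 .leaf (nat_lit 2076646539264) .leaf) (nat_lit 2076646541440) .leaf)) (nat_lit 2076646568064) (.node (.node (.node .leaf (nat_lit 2076646569984) .leaf) (nat_lit 2336462213122) .leaf) (nat_lit 2336462213123) (.node (.node .leaf (nat_lit 2336462217218) .leaf) (nat_lit 2336462217219) .leaf))) (nat_lit 2336462247938) (.node (.node (.node (.node .leaf (nat_lit 2336462248067) .leaf) (nat_lit 2336462252034) .leaf) (nat_lit 2336462252163) (.node (.node .leaf (nat_lit 2336466403331) .leaf) (nat_lit 2336466405378) .leaf)) (nat_lit 2336466415619) (.node (.node (.node .leaf (nat_lit 2336466417666) .leaf) (nat_lit 2336466436098) .leaf) (nat_lit 2336466438275) (.node (.node .leaf (nat_lit 2336466448386) .leaf) (nat_lit 2336466450563) .leaf)))) (nat_lit 2338618359811) (.node (.node (.node (.node (.node .leaf (nat_lit 2338618372227) .leaf) (nat_lit 2338618394755) .leaf) (nat_lit 2338618406915) (.node (.node .leaf (nat_lit 2338618429442) .leaf) (nat_lit 2338618433666) .leaf)) (nat_lit 2338618464258) (.node (.node (.node .leaf (nat_lit 2338618468482) .leaf) (nat_lit 2338622554243) .leaf) (nat_lit 2338622566403) (.node (.node .leaf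 (nat_lit 2338622588931) .leaf) (nat_lit 2338622601347) .leaf))) (nat_lit 2338622625922) (.node (.node (.node (.node .leaf (nat_lit 2338622629890) .leaf) (nat_lit 2338622656642) .leaf) (nat_lit 2338622660610) (.node (.node .leaf (nat_lit 2340774232067) .leaf) (nat_lit 2340774244483) .leaf)) (nat_lit 2340774267011) (.node (.node (.node .leaf (nat_lit 2340774279171) .leaf) (nat_lit 2340774367362) .leaf) (nat_lit 2340774371330) (.node (.node .leaf (nat_lit 2340774402178) .leaf) (nat_lit 2340774406146) .leaf))))) (nat_lit 2340778426499) (.node (.node (.node (.node (.node (.node .leaf (nat_lit 2340778438659) .leaf) (nat_lit 2340778461187) .leaf) (nat_lit 2340778473603) (.node (.node .leaf (nat_lit 2340778563586) .leaf) (nat_lit 2340778567810) .leaf)) (nat_lit 2340778594306) (.node (.node (.node .leaf (nat_lit 2340778598530) .leaf) (nat_lit 2342930108547) .leaf) (nat_lit 2342930112643) (.node (.node .leaf (nat_lit 2342930143235) .leaf) (nat_lit 2342930147331) .leaf))) (nat_lit 2342930305154) (.node (.node (.node (.node .leaf (nat_lit 2342930309250) .leaf) (nat_lit 2342930339970) .leaf) (nat_lit 2342930344066) (.node (.node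 .leaf (nat_lit 2342934298755) .leaf) (nat_lit 2342934311043) .leaf)) (nat_lit 2342934333443) (.node (.node (.node .leaf (nat_lit 2342934345731) .leaf) (nat_lit 2342934497410) .leaf) (nat_lit 2342934509698) (.node (.node .leaf (nat_lit 2342934528130) .leaf) (nat_lit 2342934540418) .leaf)))) (nat_lit 2473901166594) (.node (.node (.node (.node (.node .leaf (nat_lit 2473901172738) .leaf) (nat_lit 2473901195266) .leaf) (nat_lit 2473901209602) (.node (.node .leaf (nat_lit 2473905358850) .leaf) (nat_lit 2473905369090) .leaf)) (nat_lit 2473905395714) (.node (.node (.node .leaf (nat_lit 2473905397762) .leaf) (nat_lit 2473909555203) .leaf) (nat_lit 2473909561347) (.node (.node .leaf (nat_lit 2473909584003) .leaf) (nat_lit 2473909598339) .leaf))) (nat_lit 2473913745411) (.node (.node (.node (.node .leaf (nat_lit 2473913759747) .leaf) (nat_lit 2473913782403) .leaf) (nat_lit 2473913788547) (.node (.node .leaf (nat_lit 2476048912386) .leaf) (nat_lit 2476048918658) .leaf)) (nat_lit 2476048941058) (.node (.node (.node .leaf (nat_lit 2476048955522) .leaf) (nat_lit 2476053108866) .leaf) (nat_lit 2476053110786) (.node (.node .leaf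 (nat_lit 2476053137538) .leaf) (nat_lit 2476053147650) .leaf))))))))
def t0_4 : BT := (.node (.node (.node (.node (.node (.node (.node (.node (.node .leaf (nat_lit 2476057376899) .leaf) (nat_lit 2476057399427) (.node .leaf (nat_lit 2476057405443) .leaf)) (nat_lit 2476061556867) (.node (.node .leaf (nat_lit 2476061571075) .leaf) (nat_lit 2476061593603) .leaf)) (nat_lit 2476061599875) (.node (.node (.node .leaf (nat_lit 2478196457473) .leaf) (nat_lit 2478196471937) .leaf) (nat_lit 2478196494465) (.node (.node .leaf (nat_lit 2478196500481) .leaf) (nat_lit 2478200651905) .leaf))) (nat_lit 2478200666113) (.node (.node (.node (.node .leaf (nat_lit 2478200688641) .leaf) (nat_lit 2478200694913) .leaf) (nat_lit 2478204997760) (.node (.node .leaf (nat_lit 2478205003776) .leaf) (nat_lit 2478205026432) .leaf)) (nat_lit 2478205040640) (.node (.node (.node .leaf (nat_lit 2478209193984) .leaf) (nat_lit 2478209196160) .leaf) (nat_lit 2478209222656) (.node (.node .leaf (nat_lit 2478209233024) .leaf) (nat_lit 2480343945345) .leaf)))) (nat_lit 2480343951489) (.node (.node (.node (.node (.node .leaf (nat_lit 2480343973889) .leaf)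 (nat_lit 2480343988225) .leaf) (nat_lit 2480348135553) (.node (.node .leaf (nat_lit 2480348149889) .leaf) (nat_lit 2480348172289) .leaf)) (nat_lit 2480348178433) (.node (.node (.node .leaf (nat_lit 2480352415872) .leaf) (nat_lit 2480352422016) .leaf) (nat_lit 2480352444544) (.node (.node .leaf (nat_lit 2480352458880) .leaf) (nat_lit 2480356608128) .leaf))) (nat_lit 2480356618368) (.node (.node (.node (.node .leaf (nat_lit 2480356644992) .leaf) (nat_lit 2480356647040) .leaf) (nat_lit 2748779468802) (.node (.node .leaf (nat_lit 2748779476994) .leaf) (nat_lit 2748779501570) .leaf)) (nat_lit 2748779509762) (.node (.node (.node .leaf (nat_lit 2748783659138) .leaf) (nat_lit 2748783667330) .leaf) (nat_lit 2748783691906) (.node (.node .leaf (nat_lit 2748783700098) .leaf) (nat_lit 2748796239875) .leaf))))) (nat_lit 2748796248067) (.node (.node (.node (.node (.node (.node .leaf (nat_lit 2748796272771) .leaf) (nat_lit 2748796280963) (.node .leaf (nat_lit 2748800440451) .leaf)) (nat_lit 2748800448643) (.node (.node .leaf (nat_lit 2748800473091) .leaf) (nat_lit 2748800481283) .leaf)) (nat_lit 2750926553089) (.node (.node (.node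 .leaf (nat_lit 2750926561409) .leaf) (nat_lit 2750926585857) .leaf) (nat_lit 2750926594177) (.node (.node .leaf (nat_lit 2750930747393) .leaf) (nat_lit 2750930755713) .leaf))) (nat_lit 2750930780161) (.node (.node (.node (.node .leaf (nat_lit 2750930788481) .leaf) (nat_lit 2750943412224) .leaf) (nat_lit 2750943420544) (.node (.node .leaf (nat_lit 2750943445120) .leaf) (nat_lit 2750943453184) .leaf)) (nat_lit 2750947608576) (.node (.node (.node .leaf (nat_lit 2750947616896) .leaf) (nat_lit 2750947641472) .leaf) (nat_lit 2750947649536) (.node (.node .leaf (nat_lit 2753074174082) .leaf) (nat_lit 2753074182274) .leaf)))) (nat_lit 2753074206850) (.node (.node (.node (.node (.node .leaf (nat_lit 2753074215042) .leaf) (nat_lit 2753078364162) .leaf) (nat_lit 2753078372354) (.node (.node .leaf (nat_lit 2753078396930) .leaf) (nat_lit 2753078405122) .leaf)) (nat_lit 2753090813955) (.node (.node (.node .leaf (nat_lit 2753090822147) .leaf) (nat_lit 2753090846851) .leaf) (nat_lit 2753090855043) (.node (.node .leaf (nat_lit 2753095014531) .leaf) (nat_lit 2753095022723) .leaf))) (nat_lit 2753095047171) (.node (.node (.node (.node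 .leaf (nat_lit 2753095055363) .leaf) (nat_lit 2755221520385) .leaf) (nat_lit 2755221528705) (.node (.node .leaf (nat_lit 2755221553153) .leaf) (nat_lit 2755221561473) .leaf)) (nat_lit 2755225714689) (.node (.node (.node .leaf (nat_lit 2755225723009) .leaf) (nat_lit 2755225747457) .leaf) (nat_lit 2755225755777) (.node (.node .leaf (nat_lit 2755238510592) .leaf) (nat_lit 2755238518912) .leaf)))))) (nat_lit 2755238543488) (.node (.node (.node (.node (.node (.node (.node .leaf (nat_lit 2755238551552) .leaf) (nat_lit 2755242706944) (.node .leaf (nat_lit 2755242715264) .leaf)) (nat_lit 2755242739840) (.node (.node .leaf (nat_lit 2755242747904) .leaf) (nat_lit 3023657441282) .leaf)) (nat_lit 3023657447426) (.node (.node (.node .leaf (nat_lit 3023657467906) .leaf) (nat_lit 3023657478146) .leaf) (nat_lit 3023661631618) (.node (.node .leaf (nat_lit 3023661637762) .leaf) (nat_lit 3023661666434) .leaf))) (nat_lit 3023661676674) (.node (.node (.node (.node .leaf (nat_lit 3023682600963) .leaf) (nat_lit 3023682611203) .leaf) (nat_lit 3023682640003) (.node (.node .leaf (nat_lit 3023682646147) .leaf) (nat_lit 3023686801539) .leaf))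 (nat_lit 3023686807683) (.node (.node (.node .leaf (nat_lit 3023686828035) .leaf) (nat_lit 3023686838275) .leaf) (nat_lit 3025804460033) (.node (.node .leaf (nat_lit 3025804470401) .leaf) (nat_lit 3025804498945) .leaf)))) (nat_lit 3025804505217) (.node (.node (.node (.node (.node .leaf (nat_lit 3025808654337) .leaf) (nat_lit 3025808664705) .leaf) (nat_lit 3025808693249) (.node (.node .leaf (nat_lit 3025808699521) .leaf) (nat_lit 3025829707776) .leaf)) (nat_lit 3025829718144) (.node (.node (.node .leaf (nat_lit 3025829746816) .leaf) (nat_lit 3025829752832) .leaf) (nat_lit 3025833904128) (.node (.node .leaf (nat_lit 3025833910400) .leaf) (nat_lit 3025833939072) .leaf))) (nat_lit 3025833949184) (.node (.node (.node (.node .leaf (nat_lit 3027951943681) .leaf) (nat_lit 3027951953921) .leaf) (nat_lit 3027951982721) (.node (.node .leaf (nat_lit 3027951988865) .leaf) (nat_lit 3027956144257) .leaf)) (nat_lit 3027956150401) (.node (.node (.node .leaf (nat_lit 3027956170753) .leaf) (nat_lit 3027956180993) .leaf) (nat_lit 3027977263232) (.node (.node .leaf (nat_lit 3027977269376) .leaf) (nat_lit 3027977289856) .leaf))))) (nat_lit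 3027977300096) (.node (.node (.node (.node (.node (.node .leaf (nat_lit 3027981453312) .leaf) (nat_lit 3027981459456) .leaf) (nat_lit 3027981488128) (.node (.node .leaf (nat_lit 3027981498368) .leaf) (nat_lit 3030099623938) .leaf)) (nat_lit 3030099634306) (.node (.node (.node .leaf (nat_lit 3030099662978) .leaf) (nat_lit 3030099668994) .leaf) (nat_lit 3030103820290) (.node (.node .leaf (nat_lit 3030103826562) .leaf) (nat_lit 3030103855234) .leaf))) (nat_lit 3030103865346) (.node (.node (.node (.node .leaf (nat_lit 3030124593155) .leaf) (nat_lit 3030124603523) .leaf) (nat_lit 3030124632067) (.node (.node .leaf (nat_lit 3030124638339) .leaf) (nat_lit 3030128787459) .leaf)) (nat_lit 3030128797827) (.node (.node (.node .leaf (nat_lit 3030128826371) .leaf) (nat_lit 3030128832643) .leaf) (nat_lit 4398046777346) (.node (.node .leaf (nat_lit 4398046777347) .leaf) (nat_lit 4398046789634) .leaf)))) (nat_lit 4398046789635) (.node (.node (.node (.node (.node .leaf (nat_lit 4398046838786) .leaf) (nat_lit 4398046838915) .leaf) (nat_lit 4398046859266) (.node (.node .leaf (nat_lit 4398046859395) .leaf) (nat_lit 4398055166083)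 .leaf)) (nat_lit 4398055168130) (.node (.node (.node .leaf (nat_lit 4398055178371) .leaf) (nat_lit 4398055180418) .leaf) (nat_lit 4398055227395) (.node (.node .leaf (nat_lit 4398055229570) .leaf) (nat_lit 4398055247875) .leaf))) (nat_lit 4398055250050) (.node (.node (.node (.node .leaf (nat_lit 4400193998851) .leaf) (nat_lit 4400194011267) .leaf) (nat_lit 4400194031618) (.node (.node .leaf (nat_lit 4400194044034) .leaf) (nat_lit 4400194060419) .leaf)) (nat_lit 4400194080771) (.node (.node (.node .leaf (nat_lit 4400194093058) .leaf) (nat_lit 4400194113666) .leaf) (nat_lit 4400202383363) (.node (.node .leaf (nat_lit 4400202403971) .leaf) (nat_lit 4400202418178) .leaf))))))) (nat_lit 4400202438786) (.node (.node (.node (.node (.node (.node (.node (.node .leaf (nat_lit 4400202453123) .leaf) (nat_lit 4400202465283) (.node .leaf (nat_lit 4400202487810) .leaf)) (nat_lit 4400202500226) (.node (.node .leaf (nat_lit 4544092180611) .leaf) (nat_lit 4544092196995) .leaf)) (nat_lit 4544092244099) (.node (.node (.node .leaf (nat_lit 4544092260483) .leaf) (nat_lit 4544092307458) .leaf) (nat_lit 4544092323842) (.node (.node .leaf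 (nat_lit 4544092379266) .leaf) (nat_lit 4544092395650) .leaf))) (nat_lit 4544100569219) (.node (.node (.node (.node .leaf (nat_lit 4544100585603) .leaf) (nat_lit 4544100632707) .leaf) (nat_lit 4544100649091) (.node (.node .leaf (nat_lit 4544100698114) .leaf) (nat_lit 4544100714498) .leaf)) (nat_lit 4544100765826) (.node (.node (.node .leaf (nat_lit 4544100782210) .leaf) (nat_lit 4546243858563) .leaf) (nat_lit 4546243874819) (.node (.node .leaf (nat_lit 4546243922051) .leaf) (nat_lit 4546243938307) .leaf)))) (nat_lit 4546244018178) (.node (.node (.node (.node (.node .leaf (nat_lit 4546244034690) .leaf) (nat_lit 4546244089986) .leaf) (nat_lit 4546244106242) (.node (.node .leaf (nat_lit 4546252242947) .leaf) (nat_lit 4546252259459) .leaf)) (nat_lit 4546252314627) (.node (.node (.node .leaf (nat_lit 4546252331139) .leaf) (nat_lit 4546252413058) .leaf) (nat_lit 4546252429314) (.node (.node .leaf (nat_lit 4546252472322) .leaf) (nat_lit 4546252488834) .leaf))) (nat_lit 4681514352641) (.node (.node (.node (.node .leaf (nat_lit 4681514371073) .leaf) (nat_lit 4681514418177) .leaf) (nat_lit 4681514436609) (.node (.node .leaf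 (nat_lit 4681518686208) .leaf) (nat_lit 4681518704640) .leaf)) (nat_lit 4681518751872) (.node (.node (.node .leaf (nat_lit 4681518770304) .leaf) (nat_lit 4681522741249) .leaf) (nat_lit 4681522759681) (.node (.node .leaf (nat_lit 4681522806785) .leaf) (nat_lit 4681522825217) .leaf))))) (nat_lit 4681527076864) (.node (.node (.node (.node (.node (.node .leaf (nat_lit 4681527091200) .leaf) (nat_lit 4681527142528) (.node .leaf (nat_lit 4681527156864) .leaf)) (nat_lit 4683661836289) (.node (.node .leaf (nat_lit 4683661854849) .leaf) (nat_lit 4683661901825) .leaf)) (nat_lit 4683661920385) (.node (.node (.node .leaf (nat_lit 4683666202624) .leaf) (nat_lit 4683666221184) .leaf) (nat_lit 4683666268288) (.node (.node .leaf (nat_lit 4683666286592) .leaf) (nat_lit 4683670229121) .leaf))) (nat_lit 4683670247425) (.node (.node (.node (.node .leaf (nat_lit 4683670294657) .leaf) (nat_lit 4683670312961) .leaf) (nat_lit 4683674597504) (.node (.node .leaf (nat_lit 4683674611712) .leaf) (nat_lit 4683674662912) .leaf)) (nat_lit 4683674677376) (.node (.node (.node .leaf (nat_lit 4810363674626) .leaf) (nat_lit 4810363697154) .leaf) (nat_lit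 4810363742210) (.node (.node .leaf (nat_lit 4810363760642) .leaf) (nat_lit 4810367873027) .leaf)))) (nat_lit 4810367887363) (.node (.node (.node (.node (.node .leaf (nat_lit 4810367940739) .leaf) (nat_lit 4810367950979) .leaf) (nat_lit 4810372065410) (.node (.node .leaf (nat_lit 4810372083842) .leaf) (nat_lit 4810372128898) .leaf)) (nat_lit 4810372151426) (.node (.node (.node .leaf (nat_lit 4810376261763) .leaf) (nat_lit 4810376276099) .leaf) (nat_lit 4810376329219) (.node (.node .leaf (nat_lit 4810376339459) .leaf) (nat_lit 4812510859267) .leaf))) (nat_lit 4812510873731) (.node (.node (.node (.node .leaf (nat_lit 4812510926979) .leaf) (nat_lit 4812510937091) .leaf) (nat_lit 4812515082242) (.node (.node .leaf (nat_lit 4812515104898) .leaf) (nat_lit 4812515149826) .leaf)) (nat_lit 4812515168386) (.node (.node (.node .leaf (nat_lit 4812519243779) .leaf) (nat_lit 4812519266435) .leaf) (nat_lit 4812519311491) (.node (.node .leaf (nat_lit 4812519329795) .leaf) (nat_lit 4812523476994) .leaf)))))) (nat_lit 4812523487362) (.node (.node (.node (.node (.node (.node (.node .leaf (nat_lit 4812523540482) .leaf) (nat_lit 4812523554946)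 (.node .leaf (nat_lit 5506148204546) .leaf)) (nat_lit 5506148220930) (.node (.node .leaf (nat_lit 5506148276354) .leaf) (nat_lit 5506148292738) .leaf)) (nat_lit 5506156595202) (.node (.node (.node .leaf (nat_lit 5506156611586) .leaf) (nat_lit 5506156662914) .leaf) (nat_lit 5506156679298) (.node (.node .leaf (nat_lit 5506164856963) .leaf) (nat_lit 5506164873347) .leaf))) (nat_lit 5506164916355) (.node (.node (.node (.node .leaf (nat_lit 5506164932739) .leaf) (nat_lit 5506173245571) .leaf) (nat_lit 5506173261955) (.node (.node .leaf (nat_lit 5506173304963) .leaf) (nat_lit 5506173321347) .leaf)) (nat_lit 5508295557121) (.node (.node (.node .leaf (nat_lit 5508295573633) .leaf) (nat_lit 5508295628929) .leaf) (nat_lit 5508295645185) (.node (.node .leaf (nat_lit 5508303952001) .leaf) (nat_lit 5508303968257) .leaf)))) (nat_lit 5508304011265) (.node (.node (.node (.node (.node .leaf (nat_lit 5508304027777) .leaf) (nat_lit 5508312512640) .leaf) (nat_lit 5508312528896) (.node (.node .leaf (nat_lit 5508312572032) .leaf) (nat_lit 5508312588288) .leaf)) (nat_lit 5508320897024) (.node (.node (.node .leaf (nat_lit 5508320913536)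 .leaf) (nat_lit 5508320964608) .leaf) (nat_lit 5508320981120) (.node (.node .leaf (nat_lit 5634997493762) .leaf) (nat_lit 5634997516290) .leaf))) (nat_lit 5634997561346) (.node (.node (.node (.node .leaf (nat_lit 5634997579778) .leaf) (nat_lit 5635005884546) .leaf) (nat_lit 5635005902978) (.node (.node .leaf (nat_lit 5635005948034) .leaf) (nat_lit 5635005970562) .leaf)) (nat_lit 5635014277123) (.node (.node (.node .leaf (nat_lit 5635014287363) .leaf) (nat_lit 5635014340739) .leaf) (nat_lit 5635014355075) (.node (.node .leaf (nat_lit 5635022665859) .leaf) (nat_lit 5635022676099) .leaf))))) (nat_lit 5635022729219) (.node (.node (.node (.node (.node (.node .leaf (nat_lit 5635022743555) .leaf) (nat_lit 5637148770305) .leaf) (nat_lit 5637148792961) (.node (.node .leaf (nat_lit 5637148837889) .leaf) (nat_lit 5637148856449) .leaf)) (nat_lit 5637157165057) (.node (.node (.node .leaf (nat_lit 5637157175425) .leaf) (nat_lit 5637157228545) .leaf) (nat_lit 5637157243009) (.node (.node .leaf (nat_lit 5637165594624) .leaf) (nat_lit 5637165604992) .leaf))) (nat_lit 5637165658240) (.node (.node (.node (.node .leaf (nat_lit 5637165672448)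 .leaf) (nat_lit 5637173979136) .leaf) (nat_lit 5637173997696) (.node (.node .leaf (nat_lit 5637174042752) .leaf) (nat_lit 5637174065152) .leaf)) (nat_lit 5781025980417) (.node (.node (.node .leaf (nat_lit 5781025998849) .leaf) (nat_lit 5781026045953) .leaf) (nat_lit 5781026064385) (.node (.node .leaf (nat_lit 5781034369025) .leaf) (nat_lit 5781034387457) .leaf)))) (nat_lit 5781034434561) (.node (.node (.node (.node (.node .leaf (nat_lit 5781034452993) .leaf) (nat_lit 5781047091200) .leaf) (nat_lit 5781047109632) (.node (.node .leaf (nat_lit 5781047156864) .leaf) (nat_lit 5781047175296) .leaf)) (nat_lit 5781055481856) (.node (.node (.node .leaf (nat_lit 5781055496192) .leaf) (nat_lit 5781055547520) .leaf) (nat_lit 5781055561856) (.node (.node .leaf (nat_lit 5783173627906) .leaf) (nat_lit 5783173646466) .leaf))) (nat_lit 5783173693442) (.node (.node (.node (.node .leaf (nat_lit 5783173712002) .leaf) (nat_lit 5783182020738) .leaf) (nat_lit 5783182039042) (.node (.node .leaf (nat_lit 5783182086274) .leaf) (nat_lit 5783182104578) .leaf)) (nat_lit 5783194435587) (.node (.node (.node .leaf (nat_lit 5783194454147) .leaf)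 (nat_lit 5783194501251) .leaf) (nat_lit 5783194519555) (.node (.node .leaf (nat_lit 5783202830467) .leaf) (nat_lit 5783202844675) .leaf))))))))
def t0_5 : BT := (.node (.node (.node (.node (.node (.node (.node (.node (.node .leaf (nat_lit 5783202910339) .leaf) (nat_lit 5909875439618) (.node .leaf (nat_lit 5909875451906) .leaf)) (nat_lit 5909875501058) (.node (.node .leaf (nat_lit 5909875521538) .leaf) (nat_lit 5909883826306) .leaf)) (nat_lit 5909883838594) (.node (.node (.node .leaf (nat_lit 5909883887746) .leaf) (nat_lit 5909883908226) .leaf) (nat_lit 5909896411139) (.node (.node .leaf (nat_lit 5909896423427) .leaf) (nat_lit 5909896472707) .leaf))) (nat_lit 5909896493187) (.node (.node (.node (.node .leaf (nat_lit 5909904799875) .leaf) (nat_lit 5909904812163) .leaf) (nat_lit 5909904861187) (.node (.node .leaf (nat_lit 5909904881667) .leaf) (nat_lit 5912026683393) .leaf)) (nat_lit 5912026695809) (.node (.node (.node .leaf (nat_lit 5912026744833) .leaf) (nat_lit 5912026765441) .leaf) (nat_lit 5912035065857) (.node (.node .leaf (nat_lit 5912035086465) .leaf) (nat_lit 5912035135489) .leaf)))) (nat_lit 5912035147905)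 (.node (.node (.node (.node (.node .leaf (nat_lit 5912039307264) .leaf) (nat_lit 5912039319680) .leaf) (nat_lit 5912039368832) (.node (.node .leaf (nat_lit 5912039389184) .leaf) (nat_lit 5912047691776) .leaf)) (nat_lit 5912047712384) (.node (.node (.node .leaf (nat_lit 5912047761536) .leaf) (nat_lit 5912047773696) .leaf) (nat_lit 6597069770754) (.node (.node .leaf (nat_lit 6597069770755) .leaf) (nat_lit 6597069791234) .leaf))) (nat_lit 6597069791235) (.node (.node (.node (.node .leaf (nat_lit 6597069864962) .leaf) (nat_lit 6597069865091) .leaf) (nat_lit 6597069893634) (.node (.node .leaf (nat_lit 6597069893763) .leaf) (nat_lit 6597082349571) .leaf)) (nat_lit 6597082351618) (.node (.node (.node .leaf (nat_lit 6597082378243) .leaf) (nat_lit 6597082380290) .leaf) (nat_lit 6597082452099) (.node (.node .leaf (nat_lit 6597082454018) .leaf) (nat_lit 6597082472579) .leaf))))) (nat_lit 6597082474498) (.node (.node (.node (.node (.node (.node .leaf (nat_lit 6599217516547) .leaf) (nat_lit 6599217537155) (.node .leaf (nat_lit 6599217549314) .leaf)) (nat_lit 6599217569922) (.node (.node .leaf (nat_lit 6599217577986) .leaf)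 (nat_lit 6599217606786) .leaf)) (nat_lit 6599217610883) (.node (.node (.node .leaf (nat_lit 6599217639427) .leaf) (nat_lit 6599230099587) .leaf) (nat_lit 6599230119939) (.node (.node .leaf (nat_lit 6599230134402) .leaf) (nat_lit 6599230154754) .leaf))) (nat_lit 6599230163074) (.node (.node (.node (.node .leaf (nat_lit 6599230191618) .leaf) (nat_lit 6599230193667) .leaf) (nat_lit 6599230222467) (.node (.node .leaf (nat_lit 6747410399235) .leaf) (nat_lit 6747410423811) .leaf)) (nat_lit 6747410503683) (.node (.node (.node .leaf (nat_lit 6747410528259) .leaf) (nat_lit 6747410534530) .leaf) (nat_lit 6747410559106) (.node (.node .leaf (nat_lit 6747410630658) .leaf) (nat_lit 6747410655234) .leaf)))) (nat_lit 6747422986371) (.node (.node (.node (.node (.node .leaf (nat_lit 6747423010947) .leaf) (nat_lit 6747423082627) .leaf) (nat_lit 6747423107203) (.node (.node .leaf (nat_lit 6747423115266) .leaf) (nat_lit 6747423139842) .leaf)) (nat_lit 6747423215746) (.node (.node (.node .leaf (nat_lit 6747423240322) .leaf) (nat_lit 6749562077187) .leaf) (nat_lit 6749562101891) (.node (.node .leaf (nat_lit 6749562181635) .leaf) (nat_lit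 6749562206339) .leaf))) (nat_lit 6749562245250) (.node (.node (.node (.node .leaf (nat_lit 6749562269698) .leaf) (nat_lit 6749562275842) .leaf) (nat_lit 6749562300546) (.node (.node .leaf (nat_lit 6749566271491) .leaf) (nat_lit 6749566296195) .leaf)) (nat_lit 6749566375939) (.node (.node (.node .leaf (nat_lit 6749566400643) .leaf) (nat_lit 6749566441602) .leaf) (nat_lit 6749566466050) (.node (.node .leaf (nat_lit 6749566468098) .leaf) (nat_lit 6749566492802) .leaf)))))) (nat_lit 6884832575489) (.node (.node (.node (.node (.node (.node (.node .leaf (nat_lit 6884832602113) .leaf) (nat_lit 6884832673793) (.node .leaf (nat_lit 6884832700417) .leaf)) (nat_lit 6884836909056) (.node (.node .leaf (nat_lit 6884836919296) .leaf) (nat_lit 6884837007488) .leaf)) (nat_lit 6884837017728) (.node (.node (.node .leaf (nat_lit 6884841109632) .leaf) (nat_lit 6884841115776) .leaf) (nat_lit 6884841207808) (.node (.node .leaf (nat_lit 6884841213952) .leaf) (nat_lit 6884845162625) .leaf))) (nat_lit 6884845189249) (.node (.node (.node (.node .leaf (nat_lit 6884845260929) .leaf) (nat_lit 6884845287553) .leaf) (nat_lit 6886980059137) (.node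 (.node .leaf (nat_lit 6886980085889) .leaf) (nat_lit 6886980157441) .leaf)) (nat_lit 6886980184193) (.node (.node (.node .leaf (nat_lit 6886984425472) .leaf) (nat_lit 6886984435840) .leaf) (nat_lit 6886984458368) (.node (.node .leaf (nat_lit 6886984468480) .leaf) (nat_lit 6886988621824) .leaf)))) (nat_lit 6886988628096) (.node (.node (.node (.node (.node .leaf (nat_lit 6886988654720) .leaf) (nat_lit 6886988660736) .leaf) (nat_lit 6886992642049) (.node (.node .leaf (nat_lit 6886992668801) .leaf) (nat_lit 6886992740353) .leaf)) (nat_lit 6886992767105) (.node (.node (.node .leaf (nat_lit 7009386631170) .leaf) (nat_lit 7009386653698) .leaf) (nat_lit 7009386731522) (.node (.node .leaf (nat_lit 7009386749954) .leaf) (nat_lit 7009390821379) .leaf))) (nat_lit 7009390852099) (.node (.node (.node (.node .leaf (nat_lit 7009390921859) .leaf) (nat_lit 7009390948483) .leaf) (nat_lit 7009395019779) (.node (.node .leaf (nat_lit 7009395042307) .leaf) (nat_lit 7009395120259) .leaf)) (nat_lit 7009395138691) (.node (.node (.node .leaf (nat_lit 7009399212034) .leaf) (nat_lit 7009399238658) .leaf) (nat_lit 7009399308290) (.node (.node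 .leaf (nat_lit 7009399339010) .leaf) (nat_lit 7011534413827) .leaf))))) (nat_lit 7011534428291) (.node (.node (.node (.node (.node (.node .leaf (nat_lit 7011534448771) .leaf) (nat_lit 7011534458883) .leaf) (nat_lit 7011538579458) (.node (.node .leaf (nat_lit 7011538585730) .leaf) (nat_lit 7011538679810) .leaf)) (nat_lit 7011538681986) (.node (.node (.node .leaf (nat_lit 7011542775938) .leaf) (nat_lit 7011542777858) .leaf) (nat_lit 7011542872194) (.node (.node .leaf (nat_lit 7011542878210) .leaf) (nat_lit 7011546996867) .leaf))) (nat_lit 7011547011075) (.node (.node (.node (.node .leaf (nat_lit 7011547031555) .leaf) (nat_lit 7011547041923) .leaf) (nat_lit 8246337601538) (.node (.node .leaf (nat_lit 8246337626114) .leaf) (nat_lit 8246337705986) .leaf)) (nat_lit 8246337730562) (.node (.node (.node .leaf (nat_lit 8246350188674) .leaf) (nat_lit 8246350213250) .leaf) (nat_lit 8246350284930) (.node (.node .leaf (nat_lit 8246350309506) .leaf) (nat_lit 8246354384899) .leaf)))) (nat_lit 8246354409475) (.node (.node (.node (.node (.node .leaf (nat_lit 8246354477187) .leaf) (nat_lit 8246354501763) .leaf) (nat_lit 8246366961795)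 (.node (.node .leaf (nat_lit 8246366986371) .leaf) (nat_lit 8246367066115) .leaf)) (nat_lit 8246367090691) (.node (.node (.node .leaf (nat_lit 8248484691969) .leaf) (nat_lit 8248484716673) .leaf) (nat_lit 8248484796417) (.node (.node .leaf (nat_lit 8248484821121) .leaf) (nat_lit 8248497274881) .leaf))) (nat_lit 8248497299585) (.node (.node (.node (.node .leaf (nat_lit 8248497379329) .leaf) (nat_lit 8248497404033) .leaf) (nat_lit 8248501516288) (.node (.node .leaf (nat_lit 8248501524608) .leaf) (nat_lit 8248501543040) .leaf)) (nat_lit 8248501551104) (.node (.node (.node .leaf (nat_lit 8248514097152) .leaf) (nat_lit 8248514105472) .leaf) (nat_lit 8248514128000) (.node (.node .leaf (nat_lit 8248514136064) .leaf) (nat_lit 8396661465091) .leaf))))))) (nat_lit 8396661479555) (.node (.node (.node (.node (.node (.node (.node (.node .leaf (nat_lit 8396661565571) .leaf) (nat_lit 8396661575683) (.node .leaf (nat_lit 8396674048131) .leaf)) (nat_lit 8396674062339) (.node (.node .leaf (nat_lit 8396674148355) .leaf) (nat_lit 8396674158723) .leaf)) (nat_lit 8396678117506) (.node (.node (.node .leaf (nat_lit 8396678119426) .leaf)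 (nat_lit 8396678213762) .leaf) (nat_lit 8396678219778) (.node (.node .leaf (nat_lit 8396690698242) .leaf) (nat_lit 8396690704514) .leaf))) (nat_lit 8396690798594) (.node (.node (.node (.node .leaf (nat_lit 8396690800770) .leaf) (nat_lit 8398813036544) .leaf) (nat_lit 8398813067264) (.node (.node .leaf (nat_lit 8398813071488) .leaf) (nat_lit 8398813098112) .leaf)) (nat_lit 8398817234944) (.node (.node (.node .leaf (nat_lit 8398817257472) .leaf) (nat_lit 8398817269888) .leaf) (nat_lit 8398817288320) (.node (.node .leaf (nat_lit 8398829926529) .leaf) (nat_lit 8398829928577) .leaf)))) (nat_lit 8398830022785) (.node (.node (.node (.node (.node .leaf (nat_lit 8398830028929) .leaf) (nat_lit 8398834114689) .leaf) (nat_lit 8398834129025) (.node (.node .leaf (nat_lit 8398834215041) .leaf) (nat_lit 8398834225281) .leaf)) (nat_lit 8521215541250) (.node (.node (.node .leaf (nat_lit 8521215567874) .leaf) (nat_lit 8521215574018) .leaf) (nat_lit 8521215600642) (.node (.node .leaf (nat_lit 8521228128386) .leaf) (nat_lit 8521228155010) .leaf))) (nat_lit 8521228161154) (.node (.node (.node (.node .leaf (nat_lit 8521228187778) .leaf)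 (nat_lit 8521236512771) .leaf) (nat_lit 8521236539395) (.node (.node .leaf (nat_lit 8521236545667) .leaf) (nat_lit 8521236572291) .leaf)) (nat_lit 8521240713347) (.node (.node (.node .leaf (nat_lit 8521240735875) .leaf) (nat_lit 8521240745987) .leaf) (nat_lit 8521240768515) (.node (.node .leaf (nat_lit 8523362598913) .leaf) (nat_lit 8523362625665) .leaf))))) (nat_lit 8523362697217) (.node (.node (.node (.node (.node (.node .leaf (nat_lit 8523362723969) .leaf) (nat_lit 8523375181825) (.node .leaf (nat_lit 8523375208577) .leaf)) (nat_lit 8523375280129) (.node (.node .leaf (nat_lit 8523375306881) .leaf) (nat_lit 8523383611392) .leaf)) (nat_lit 8523383621760) (.node (.node (.node .leaf (nat_lit 8523383644288) .leaf) (nat_lit 8523383654400) .leaf) (nat_lit 8523387807744) (.node (.node .leaf (nat_lit 8523387814016) .leaf) (nat_lit 8523387840640) .leaf))) (nat_lit 8523387846656) (.node (.node (.node (.node .leaf (nat_lit 8671543466112) .leaf) (nat_lit 8671543486464) .leaf) (nat_lit 8671543494784) (.node (.node .leaf (nat_lit 8671543523328) .leaf) (nat_lit 8671547658240) .leaf)) (nat_lit 8671547678848) (.node (.node (.node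 .leaf (nat_lit 8671547686912) .leaf) (nat_lit 8671547715712) .leaf) (nat_lit 8671556188289) (.node (.node .leaf (nat_lit 8671556192257) .leaf) (nat_lit 8671556216833) .leaf)))) (nat_lit 8671556229249) (.node (.node (.node (.node (.node .leaf (nat_lit 8671568771073) .leaf) (nat_lit 8671568775297) .leaf) (nat_lit 8671568799873) (.node (.node .leaf (nat_lit 8671568812033) .leaf) (nat_lit 8673686894723) .leaf)) (nat_lit 8673686898819) (.node (.node (.node .leaf (nat_lit 8673686923395) .leaf) (nat_lit 8673686935683) .leaf) (nat_lit 8673699471491) (.node (.node .leaf (nat_lit 8673699483779) .leaf) (nat_lit 8673699508355) .leaf))) (nat_lit 8673699512451) (.node (.node (.node (.node .leaf (nat_lit 8673707702402) .leaf) (nat_lit 8673707706498) .leaf) (nat_lit 8673707796482) (.node (.node .leaf (nat_lit 8673707808770) .leaf) (nat_lit 8673711892610) .leaf)) (nat_lit 8673711904898) (.node (.node (.node .leaf (nat_lit 8673711994882) .leaf) (nat_lit 8673711998978) .leaf) (nat_lit 8796093046786) (.node (.node .leaf (nat_lit 8796093046787) .leaf) (nat_lit 8796093169666) .leaf)))))) (nat_lit 8796093169795) (.node (.node (.node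 (.node (.node (.node (.node .leaf (nat_lit 8796093300738) .leaf) (nat_lit 8796093300739) (.node .leaf (nat_lit 8796093440002) .leaf)) (nat_lit 8796093440131) (.node (.node .leaf (nat_lit 8796109807619) .leaf) (nat_lit 8796109809666) .leaf)) (nat_lit 8796109930627) (.node (.node (.node .leaf (nat_lit 8796109932546) .leaf) (nat_lit 8796110061699) .leaf) (nat_lit 8796110063746) (.node (.node .leaf (nat_lit 8796110200835) .leaf) (nat_lit 8796110203010) .leaf))) (nat_lit 8800388014211) (.node (.node (.node (.node .leaf (nat_lit 8800388046978) .leaf) (nat_lit 8800388136963) .leaf) (nat_lit 8800388169858) (.node (.node .leaf (nat_lit 8800388268163) .leaf) (nat_lit 8800388300930) .leaf)) (nat_lit 8800388407299) (.node (.node (.node .leaf (nat_lit 8800388440194) .leaf) (nat_lit 8800404766723) .leaf) (nat_lit 8800404801538) (.node (.node .leaf (nat_lit 8800404906115) .leaf) (nat_lit 8800404940802) .leaf)))) (nat_lit 8800405037187) (.node (.node (.node (.node (.node .leaf (nat_lit 8800405072002) .leaf) (nat_lit 8800405159939) .leaf) (nat_lit 8800405194882) (.node (.node .leaf (nat_lit 8933531983874) .leaf) (nat_lit 8933531983875)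 .leaf)) (nat_lit 8933532108802) (.node (.node (.node .leaf (nat_lit 8933532108931) .leaf) (nat_lit 8933532241922) .leaf) (nat_lit 8933532241923) (.node (.node .leaf (nat_lit 8933532383234) .leaf) (nat_lit 8933532383363) .leaf))) (nat_lit 8933548777475) (.node (.node (.node (.node .leaf (nat_lit 8933548779522) .leaf) (nat_lit 8933548900354) .leaf) (nat_lit 8933548902531) (.node (.node .leaf (nat_lit 8933549035651) .leaf) (nat_lit 8933549037698) .leaf)) (nat_lit 8933549174914) (.node (.node (.node .leaf (nat_lit 8933549176835) .leaf) (nat_lit 8937831137283) .leaf) (nat_lit 8937831170050) (.node (.node .leaf (nat_lit 8937831278723) .leaf) (nat_lit 8937831311362) .leaf))))) (nat_lit 8937831411715) (.node (.node (.node (.node (.node (.node .leaf (nat_lit 8937831444482) .leaf) (nat_lit 8937831536771) .leaf) (nat_lit 8937831569410) (.node (.node .leaf (nat_lit 8937847939203) .leaf) (nat_lit 8937847974018) .leaf)) (nat_lit 8937848064003) (.node (.node (.node .leaf (nat_lit 8937848094850) .leaf) (nat_lit 8937848197123) .leaf) (nat_lit 8937848231938) (.node (.node .leaf (nat_lit 8937848338563) .leaf) (nat_lit 8937848369154)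 .leaf))) (nat_lit 9354438770689) (.node (.node (.node (.node .leaf (nat_lit 9354438901761) .leaf) (nat_lit 9354439065601) .leaf) (nat_lit 9354439196673) (.node (.node .leaf (nat_lit 9354443034624) .leaf) (nat_lit 9354443165824) .leaf)) (nat_lit 9354443329536) (.node (.node (.node .leaf (nat_lit 9354443460736) .leaf) (nat_lit 9354455547905) .leaf) (nat_lit 9354455678977) (.node (.node .leaf (nat_lit 9354455842945) .leaf) (nat_lit 9354455974017) .leaf)))) (nat_lit 9354459813888) (.node (.node (.node (.node (.node .leaf (nat_lit 9354459945088) .leaf) (nat_lit 9354460108928) .leaf) (nat_lit 9354460239872) (.node (.node .leaf (nat_lit 9358733737985) .leaf) (nat_lit 9358733869057) .leaf)) (nat_lit 9358734032897) (.node (.node (.node .leaf (nat_lit 9358734163969) .leaf) (nat_lit 9358738034688) .leaf) (nat_lit 9358738165888) (.node (.node .leaf (nat_lit 9358738264064) .leaf) (nat_lit 9358738395264) .leaf))) (nat_lit 9358750523521) (.node (.node (.node (.node .leaf (nat_lit 9358750654593) .leaf) (nat_lit 9358750818305) .leaf) (nat_lit 9358750949377) (.node (.node .leaf (nat_lit 9358754822272) .leaf) (nat_lit 9358754953216)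 .leaf)) (nat_lit 9358755051520) (.node (.node (.node .leaf (nat_lit 9358755182720) .leaf) (nat_lit 9491886112769) .leaf) (nat_lit 9491886245889) (.node (.node .leaf (nat_lit 9491886411777) .leaf) (nat_lit 9491886544897) .leaf))))))))
def t0_6 : BT := (.node (.node (.node (.node (.node (.node (.node (.node (.node .leaf (nat_lit 9491890509952) .leaf) (nat_lit 9491890667520) (.node .leaf (nat_lit 9491890800768) .leaf)) (nat_lit 9491902889985) (.node (.node .leaf (nat_lit 9491903023105) .leaf) (nat_lit 9491903189121) .leaf)) (nat_lit 9491903322241) (.node (.node (.node .leaf (nat_lit 9491907155968) .leaf) (nat_lit 9491907285120) .leaf) (nat_lit 9491907446912) (.node (.node .leaf (nat_lit 9491907575808) .leaf) (nat_lit 9496181190784) .leaf))) (nat_lit 9496181323776) (.node (.node (.node (.node .leaf (nat_lit 9496181416064) .leaf) (nat_lit 9496181549056) .leaf) (nat_lit 9496185282689) (.node (.node .leaf (nat_lit 9496185415809) .leaf) (nat_lit 9496185581697) .leaf)) (nat_lit 9496185714817) (.node (.node (.node .leaf (nat_lit 9496197961728) .leaf) (nat_lit 9496198090880) .leaf) (nat_lit 9496198187136) (.node (.node .leaf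 (nat_lit 9496198316032) .leaf) (nat_lit 9496202051585) .leaf)))) (nat_lit 9496202184705) (.node (.node (.node (.node (.node .leaf (nat_lit 9496202350721) .leaf) (nat_lit 9496202483841) .leaf) (nat_lit 9895604676610) (.node (.node .leaf (nat_lit 9895604781058) .leaf) (nat_lit 9895604977666) .leaf)) (nat_lit 9895605135362) (.node (.node (.node .leaf (nat_lit 9895613065219) .leaf) (nat_lit 9895613169795) .leaf) (nat_lit 9895613366275) (.node (.node .leaf (nat_lit 9895613524099) .leaf) (nat_lit 9895621435394) .leaf))) (nat_lit 9895621576706) (.node (.node (.node (.node .leaf (nat_lit 9895621773442) .leaf) (nat_lit 9895621894274) .leaf) (nat_lit 9895629826051) (.node (.node .leaf (nat_lit 9895629963395) .leaf) (nat_lit 9895630160003) .leaf)) (nat_lit 9895630284803) (.node (.node (.node .leaf (nat_lit 9899899617281) .leaf) (nat_lit 9899899775105) .leaf) (nat_lit 9899899971713) (.node (.node .leaf (nat_lit 9899900076033) .leaf) (nat_lit 9899908042752) .leaf))))) (nat_lit 9899908200448) (.node (.node (.node (.node (.node (.node .leaf (nat_lit 9899908397184) .leaf) (nat_lit 9899908501632) (.node .leaf (nat_lit 9899916421249)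 .leaf)) (nat_lit 9899916525569) (.node (.node .leaf (nat_lit 9899916722305) .leaf) (nat_lit 9899916879873) .leaf)) (nat_lit 9899924844672) (.node (.node (.node .leaf (nat_lit 9899924953216) .leaf) (nat_lit 9899925149824) .leaf) (nat_lit 9899925303424) (.node (.node .leaf (nat_lit 10033043613698) .leaf) (nat_lit 10033043752962) .leaf))) (nat_lit 10033043951618) (.node (.node (.node (.node .leaf (nat_lit 10033044074498) .leaf) (nat_lit 10033052002307) .leaf) (nat_lit 10033052141699) (.node (.node .leaf (nat_lit 10033052340227) .leaf) (nat_lit 10033052463235) .leaf)) (nat_lit 10033060405250) (.node (.node (.node .leaf (nat_lit 10033060511746) .leaf) (nat_lit 10033060714626) .leaf) (nat_lit 10033060870274) (.node (.node .leaf (nat_lit 10033068795907) .leaf) (nat_lit 10033068902531) .leaf)))) (nat_lit 10033069101187) (.node (.node (.node (.node (.node .leaf (nat_lit 10033069256707) .leaf) (nat_lit 10037342791809) .leaf) (nat_lit 10037342898177) (.node (.node .leaf (nat_lit 10037343096833) .leaf) (nat_lit 10037343252609) .leaf)) (nat_lit 10037351217280) (.node (.node (.node .leaf (nat_lit 10037351323776) .leaf) (nat_lit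 10037351514112) .leaf) (nat_lit 10037351669760) (.node (.node .leaf (nat_lit 10037359542273) .leaf) (nat_lit 10037359698049) .leaf))) (nat_lit 10037359900673) (.node (.node (.node (.node .leaf (nat_lit 10037360007297) .leaf) (nat_lit 10037367969792) .leaf) (nat_lit 10037368125440) (.node (.node .leaf (nat_lit 10037368315904) .leaf) (nat_lit 10037368422400) .leaf)) (nat_lit 10453950398465) (.node (.node (.node .leaf (nat_lit 10453950547969) .leaf) (nat_lit 10453950777345) .leaf) (nat_lit 10453950889985) (.node (.node .leaf (nat_lit 10453963051008) .leaf) (nat_lit 10453963200640) .leaf)))))) (nat_lit 10453963298816) (.node (.node (.node (.node (.node (.node (.node .leaf (nat_lit 10453963411584) .leaf) (nat_lit 10453967175681) (.node .leaf (nat_lit 10453967325185) .leaf)) (nat_lit 10453967554689) (.node (.node .leaf (nat_lit 10453967667329) .leaf) (nat_lit 10453979830272) .leaf)) (nat_lit 10453979975808) (.node (.node (.node .leaf (nat_lit 10453980074112) .leaf) (nat_lit 10453980190720) .leaf) (nat_lit 10458245464066) (.node (.node .leaf (nat_lit 10458245613698) .leaf) (nat_lit 10458245646466) .leaf))) (nat_lit 10458245758978)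 (.node (.node (.node (.node .leaf (nat_lit 10458257948675) .leaf) (nat_lit 10458258098179) .leaf) (nat_lit 10458258327683) (.node (.node .leaf (nat_lit 10458258440323) .leaf) (nat_lit 10458262249602) .leaf)) (nat_lit 10458262398978) (.node (.node (.node .leaf (nat_lit 10458262431874) .leaf) (nat_lit 10458262544386) .leaf) (nat_lit 10458274736259) (.node (.node .leaf (nat_lit 10458274881667) .leaf) (nat_lit 10458275111043) .leaf)))) (nat_lit 10458275227779) (.node (.node (.node (.node (.node .leaf (nat_lit 10591393615872) .leaf) (nat_lit 10591393763456) .leaf) (nat_lit 10591393859584) (.node (.node .leaf (nat_lit 10591393974400) .leaf) (nat_lit 10591397740545) .leaf)) (nat_lit 10591397888001) (.node (.node (.node .leaf (nat_lit 10591398123521) .leaf) (nat_lit 10591398238209) .leaf) (nat_lit 10591410395136) (.node (.node .leaf (nat_lit 10591410542720) .leaf) (nat_lit 10591410634880) .leaf))) (nat_lit 10591410749440) (.node (.node (.node (.node .leaf (nat_lit 10591414517761) .leaf) (nat_lit 10591414665217) .leaf) (nat_lit 10591414900865) (.node (.node .leaf (nat_lit 10591415015553) .leaf) (nat_lit 10595684329603)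 .leaf)) (nat_lit 10595684477059) (.node (.node (.node .leaf (nat_lit 10595684708355) .leaf) (nat_lit 10595684823043) .leaf) (nat_lit 10595697010818) (.node (.node .leaf (nat_lit 10595697158146) .leaf) (nat_lit 10595697192962) .leaf))))) (nat_lit 10595697307778) (.node (.node (.node (.node (.node (.node .leaf (nat_lit 10595701096451) .leaf) (nat_lit 10595701243907) .leaf) (nat_lit 10595701479427) (.node (.node .leaf (nat_lit 10595701594115) .leaf) (nat_lit 10595713779714) .leaf)) (nat_lit 10595713927298) (.node (.node (.node .leaf (nat_lit 10595713961986) .leaf) (nat_lit 10595714076802) .leaf) (nat_lit 11005853704323) (.node (.node .leaf (nat_lit 11005853761538) .leaf) (nat_lit 11005853859971) .leaf))) (nat_lit 11005853933698) (.node (.node (.node (.node .leaf (nat_lit 11005853966467) .leaf) (nat_lit 11005854023682) .leaf) (nat_lit 11005854122115) (.node (.node .leaf (nat_lit 11005854195842) .leaf) (nat_lit 11005874675843) .leaf)) (nat_lit 11005874735106) (.node (.node (.node .leaf (nat_lit 11005874831491) .leaf) (nat_lit 11005874907266) .leaf) (nat_lit 11005874937859) (.node (.node .leaf (nat_lit 11005874997378)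 .leaf) (nat_lit 11005875093507) .leaf)))) (nat_lit 11005875169282) (.node (.node (.node (.node (.node .leaf (nat_lit 11010148671619) .leaf) (nat_lit 11010148761602) .leaf) (nat_lit 11010148827267) (.node (.node .leaf (nat_lit 11010148868226) .leaf) (nat_lit 11010148933763) .leaf)) (nat_lit 11010149023746) (.node (.node (.node .leaf (nat_lit 11010149089411) .leaf) (nat_lit 11010149130370) .leaf) (nat_lit 11010169634819) (.node (.node .leaf (nat_lit 11010169743490) .leaf) (nat_lit 11010169806851) .leaf))) (nat_lit 11010169833474) (.node (.node (.node (.node .leaf (nat_lit 11010169897091) .leaf) (nat_lit 11010170005506) .leaf) (nat_lit 11010170069123) (.node (.node .leaf (nat_lit 11010170095746) .leaf) (nat_lit 11143301038083) .leaf)) (nat_lit 11143301111938) (.node (.node (.node .leaf (nat_lit 11143301212163) .leaf) (nat_lit 11143301269506) .leaf) (nat_lit 11143301304323) (.node (.node .leaf (nat_lit 11143301378178) .leaf) (nat_lit 11143301478403) .leaf))))))) (nat_lit 11143301535746) (.node (.node (.node (.node (.node (.node (.node (.node .leaf (nat_lit 11143322009603) .leaf) (nat_lit 11143322085506) (.node .leaf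 (nat_lit 11143322183683) .leaf)) (nat_lit 11143322238978) (.node (.node .leaf (nat_lit 11143322275971) .leaf) (nat_lit 11143322351618) .leaf)) (nat_lit 11143322450051) (.node (.node (.node .leaf (nat_lit 11143322505346) .leaf) (nat_lit 11147600208003) .leaf) (nat_lit 11147600297986) (.node (.node .leaf (nat_lit 11147600365699) .leaf) (nat_lit 11147600406658) .leaf))) (nat_lit 11147600474243) (.node (.node (.node (.node .leaf (nat_lit 11147600564226) .leaf) (nat_lit 11147600631939) .leaf) (nat_lit 11147600672898) (.node (.node .leaf (nat_lit 11147612782595) .leaf) (nat_lit 11147612891266) .leaf)) (nat_lit 11147612956675) (.node (.node (.node .leaf (nat_lit 11147612979202) .leaf) (nat_lit 11147613048963) .leaf) (nat_lit 11147613157378) (.node (.node .leaf (nat_lit 11147613223043) .leaf) (nat_lit 11147613245570) .leaf)))) (nat_lit 11544872114178) (.node (.node (.node (.node (.node .leaf (nat_lit 11544872278018) .leaf) (nat_lit 11544872417282) .leaf) (nat_lit 11544872515586) (.node (.node .leaf (nat_lit 11544876316675) .leaf) (nat_lit 11544876480643) .leaf)) (nat_lit 11544876603395) (.node (.node (.node .leaf (nat_lit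 11544876701827) .leaf) (nat_lit 11544888877059) .leaf) (nat_lit 11544889041027) (.node (.node .leaf (nat_lit 11544889163907) .leaf) (nat_lit 11544889262083) .leaf))) (nat_lit 11544893065218) (.node (.node (.node (.node .leaf (nat_lit 11544893229058) .leaf) (nat_lit 11544893368450) .leaf) (nat_lit 11544893466754) (.node (.node .leaf (nat_lit 11549167114370) .leaf) (nat_lit 11549167212674) .leaf)) (nat_lit 11549167351938) (.node (.node (.node .leaf (nat_lit 11549167515778) .leaf) (nat_lit 11549171284099) .leaf) (nat_lit 11549171447811) (.node (.node .leaf (nat_lit 11549171570819) .leaf) (nat_lit 11549171668995) .leaf))))) (nat_lit 11549183836163) (.node (.node (.node (.node (.node (.node .leaf (nat_lit 11549184000131) .leaf) (nat_lit 11549184139395) (.node .leaf (nat_lit 11549184237571) .leaf)) (nat_lit 11549188073474) (.node (.node .leaf (nat_lit 11549188171778) .leaf) (nat_lit 11549188294786) .leaf)) (nat_lit 11549188458626) (.node (.node (.node .leaf (nat_lit 11682311053314) .leaf) (nat_lit 11682311219202) .leaf) (nat_lit 11682311344130) (.node (.node .leaf (nat_lit 11682311444482) .leaf) (nat_lit 11682315239427)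 .leaf))) (nat_lit 11682315405443) (.node (.node (.node (.node .leaf (nat_lit 11682315546627) .leaf) (nat_lit 11682315647107) .leaf) (nat_lit 11682327844867) (.node (.node .leaf (nat_lit 11682328006787) .leaf) (nat_lit 11682328144003) .leaf)) (nat_lit 11682328240131) (.node (.node (.node .leaf (nat_lit 11682332045314) .leaf) (nat_lit 11682332211202) .leaf) (nat_lit 11682332328066) (.node (.node .leaf (nat_lit 11682332428418) .leaf) (nat_lit 11686606020611) .leaf)))) (nat_lit 11686606186627) (.node (.node (.node (.node (.node .leaf (nat_lit 11686606311427) .leaf) (nat_lit 11686606411907) .leaf) (nat_lit 11686610239490) (.node (.node .leaf (nat_lit 11686610339842) .leaf) (nat_lit 11686610481154) .leaf)) (nat_lit 11686610647042) (.node (.node (.node .leaf (nat_lit 11686622851202) .leaf) (nat_lit 11686622951554) .leaf) (nat_lit 11686623068162) (.node (.node .leaf (nat_lit 11686623234050) .leaf) (nat_lit 11686627006595) .leaf))) (nat_lit 11686627168259) (.node (.node (.node (.node .leaf (nat_lit 11686627305475) .leaf) (nat_lit 11686627401859) .leaf) (nat_lit 12380243306626) (.node (.node .leaf (nat_lit 12380243480578)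 .leaf) (nat_lit 12380243523714) .leaf)) (nat_lit 12380243656706) (.node (.node (.node .leaf (nat_lit 12380251619331) .leaf) (nat_lit 12380251813891) .leaf) (nat_lit 12380251967491) (.node (.node .leaf (nat_lit 12380252121091) .leaf) (nat_lit 12380264276098) .leaf)))))) (nat_lit 12380264454146) (.node (.node (.node (.node (.node (.node (.node .leaf (nat_lit 12380264493058) .leaf) (nat_lit 12380264630402) (.node .leaf (nat_lit 12380272590851) .leaf)) (nat_lit 12380272785411) (.node (.node .leaf (nat_lit 12380272939139) .leaf) (nat_lit 12380273092739) .leaf)) (nat_lit 12384538198017) (.node (.node (.node .leaf (nat_lit 12384538392577) .leaf) (nat_lit 12384538546305) .leaf) (nat_lit 12384538699905) (.node (.node .leaf (nat_lit 12384546699392) .leaf) (nat_lit 12384546799616) .leaf))) (nat_lit 12384546908160) (.node (.node (.node (.node .leaf (nat_lit 12384546984064) .leaf) (nat_lit 12384559179905) .leaf) (nat_lit 12384559353985) (.node (.node .leaf (nat_lit 12384559528065) .leaf) (nat_lit 12384559661185) .leaf)) (nat_lit 12384567662592) (.node (.node (.node .leaf (nat_lit 12384567779456) .leaf) (nat_lit 12384567871488)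 .leaf) (nat_lit 12384567963776) (.node (.node .leaf (nat_lit 12517682194563) .leaf) (nat_lit 12517682370691) .leaf)))) (nat_lit 12517682538627) (.node (.node (.node (.node (.node .leaf (nat_lit 12517682681987) .leaf) (nat_lit 12517690638338) .leaf) (nat_lit 12517690830978) (.node (.node .leaf (nat_lit 12517690851330) .leaf) (nat_lit 12517691011202) .leaf)) (nat_lit 12517703166083) (.node (.node (.node .leaf (nat_lit 12517703342211) .leaf) (nat_lit 12517703510019) .leaf) (nat_lit 12517703653379) (.node (.node .leaf (nat_lit 12517711611906) .leaf) (nat_lit 12517711804546) .leaf))) (nat_lit 12517711825026) (.node (.node (.node (.node .leaf (nat_lit 12517711984642) .leaf) (nat_lit 12521981458560) .leaf) (nat_lit 12521981560832) (.node (.node .leaf (nat_lit 12521981671424) .leaf) (nat_lit 12521981741184) .leaf)) (nat_lit 12521989734401) (.node (.node (.node .leaf (nat_lit 12521989926913) .leaf) (nat_lit 12521990078593) .leaf) (nat_lit 12521990238337) (.node (.node .leaf (nat_lit 12521994033152) .leaf) (nat_lit 12521994152064) .leaf))))) (nat_lit 12521994246144) (.node (.node (.node (.node (.node (.node .leaf (nat_lit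 12521994332288) .leaf) (nat_lit 12522002327681) .leaf) (nat_lit 12522002503809) (.node (.node .leaf (nat_lit 12522002671745) .leaf) (nat_lit 12522002815105) .leaf)) (nat_lit 12919261648898) (.node (.node (.node .leaf (nat_lit 12919261790210) .leaf) (nat_lit 12919261997058) .leaf) (nat_lit 12919262113794) (.node (.node .leaf (nat_lit 12919274237955) .leaf) (nat_lit 12919274383491) .leaf))) (nat_lit 12919274569731) (.node (.node (.node (.node .leaf (nat_lit 12919274690691) .leaf) (nat_lit 12919282599938) .leaf) (nat_lit 12919282782210) (.node (.node .leaf (nat_lit 12919282989186) .leaf) (nat_lit 12919283064962) .leaf)) (nat_lit 12919286802435) (.node (.node (.node .leaf (nat_lit 12919286984835) .leaf) (nat_lit 12919287175299) .leaf) (nat_lit 12919287250947) (.node (.node .leaf (nat_lit 12923556593665) .leaf) (nat_lit 12923556780161) .leaf)))) (nat_lit 12923556982913) (.node (.node (.node (.node (.node .leaf (nat_lit 12923557062657) .leaf) (nat_lit 12923569223680) .leaf) (nat_lit 12923569332224) (.node (.node .leaf (nat_lit 12923569522816) .leaf) (nat_lit 12923569672320) .leaf)) (nat_lit 12923577593985) (.node (.node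 (.node .leaf (nat_lit 12923577739265) .leaf) (nat_lit 12923577925761) .leaf) (nat_lit 12923578046465) (.node (.node .leaf (nat_lit 12923581808768) .leaf) (nat_lit 12923581896832) .leaf))) (nat_lit 12923582099584) (.node (.node (.node (.node .leaf (nat_lit 12923582277760) .leaf) (nat_lit 13056700590082) .leaf) (nat_lit 13056700774402) (.node (.node .leaf (nat_lit 13056700958722) .leaf) (nat_lit 13056701044738) .leaf)) (nat_lit 13056713162755) (.node (.node (.node .leaf (nat_lit 13056713347203) .leaf) (nat_lit 13056713547779) .leaf) (nat_lit 13056713633923) (.node (.node .leaf (nat_lit 13056721582082) .leaf) (nat_lit 13056721725442) .leaf))))))))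
def t0_7 : BT := (.node (.node (.node (.node (.node (.node (.node (.node (.node .leaf (nat_lit 13056722028674) .leaf) (nat_lit 13056725768195) (.node .leaf (nat_lit 13056725911683) .leaf)) (nat_lit 13056726120579) (.node (.node .leaf (nat_lit 13056726231043) .leaf) (nat_lit 13060999764097) .leaf)) (nat_lit 13060999907329) (.node (.node (.node .leaf (nat_lit 13061000116225) .leaf) (nat_lit 13061000226945) .leaf) (nat_lit 13061003993216) (.node (.node .leaf (nat_lit 13061004079232) .leaf) (nat_lit 13061004263424) .leaf))) (nat_lit 13061004447744) (.node (.node (.node (.node .leaf (nat_lit 13061012334593) .leaf) (nat_lit 13061012519041) .leaf) (nat_lit 13061012703233) (.node (.node .leaf (nat_lit 13061012789377) .leaf) (nat_lit 13061024946176) .leaf)) (nat_lit 13061025056768) (.node (.node (.node .leaf (nat_lit 13061025265664) .leaf) (nat_lit 13061025409024) .leaf) (nat_lit 13202729480323) (.node (.node .leaf (nat_lit 13202729562242) .leaf) (nat_lit 13202729615362) .leaf)))) (nat_lit 13202729664643) (.node (.node (.node (.node (.node .leaf (nat_lit 13202729746435) .leaf) (nat_lit 13202729795586) .leaf) (nat_lit 13202729873538)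 (.node (.node .leaf (nat_lit 13202729955331) .leaf) (nat_lit 13202754646147) .leaf)) (nat_lit 13202754730114) (.node (.node (.node .leaf (nat_lit 13202754783234) .leaf) (nat_lit 13202754830467) .leaf) (nat_lit 13202754912387) (.node (.node .leaf (nat_lit 13202754963586) .leaf) (nat_lit 13202755041282) .leaf))) (nat_lit 13202755121283) (.node (.node (.node (.node .leaf (nat_lit 13209171931267) .leaf) (nat_lit 13209172045826) .leaf) (nat_lit 13209172099202) (.node (.node .leaf (nat_lit 13209172115587) .leaf) (nat_lit 13209172197507) .leaf)) (nat_lit 13209172279298) (.node (.node (.node .leaf (nat_lit 13209172357250) .leaf) (nat_lit 13209172406403) .leaf) (nat_lit 13209197084675) (.node (.node .leaf (nat_lit 13209197201538) .leaf) (nat_lit 13209197279234) .leaf))))) (nat_lit 13209197293571) (.node (.node (.node (.node (.node (.node .leaf (nat_lit 13209197375619) .leaf) (nat_lit 13209197459458) (.node .leaf (nat_lit 13209197512834) .leaf)) (nat_lit 13209197559939) (.node (.node .leaf (nat_lit 13340176838787) .leaf) (nat_lit 13340176887938) .leaf)) (nat_lit 13340176943106) (.node (.node (.node .leaf (nat_lit 13340177025155)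 .leaf) (nat_lit 13340177076227) .leaf) (nat_lit 13340177158146) (.node (.node .leaf (nat_lit 13340177229954) .leaf) (nat_lit 13340177278979) .leaf))) (nat_lit 13340185227395) (.node (.node (.node (.node .leaf (nat_lit 13340185278594) .leaf) (nat_lit 13340185329666) .leaf) (nat_lit 13340185413763) (.node (.node .leaf (nat_lit 13340185464963) .leaf) (nat_lit 13340185548930) .leaf)) (nat_lit 13340185616386) (.node (.node (.node .leaf (nat_lit 13340185667715) .leaf) (nat_lit 13346623471747) .leaf) (nat_lit 13346623553538) (.node (.node .leaf (nat_lit 13346623633538) .leaf) (nat_lit 13346623682691) .leaf)))) (nat_lit 13346623725699) (.node (.node (.node (.node (.node .leaf (nat_lit 13346623840258) .leaf) (nat_lit 13346623903874) .leaf) (nat_lit 13346623920259) (.node (.node .leaf (nat_lit 13346631872515) .leaf) (nat_lit 13346631956610) .leaf)) (nat_lit 13346632007682) (.node (.node (.node .leaf (nat_lit 13346632058883) .leaf) (nat_lit 13346632110211) .leaf) (nat_lit 13346632226818) (.node (.node .leaf (nat_lit 13346632294530) .leaf) (nat_lit 13346632312963) .leaf))) (nat_lit 14018773272578) (.node (.node (.node (.node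 .leaf (nat_lit 14018773469186) .leaf) (nat_lit 14018773549058) .leaf) (nat_lit 14018773745666) (.node (.node .leaf (nat_lit 14018777448451) .leaf) (nat_lit 14018777645187) .leaf)) (nat_lit 14018777761795) (.node (.node (.node .leaf (nat_lit 14018777958531) .leaf) (nat_lit 14018798422018) .leaf) (nat_lit 14018798618626) (.node (.node .leaf (nat_lit 14018798731394) .leaf) (nat_lit 14018798928002) .leaf)))))) (nat_lit 14018802632707) (.node (.node (.node (.node (.node (.node (.node .leaf (nat_lit 14018802829443) .leaf) (nat_lit 14018802909315) (.node .leaf (nat_lit 14018803105795) .leaf)) (nat_lit 14025215737858) (.node (.node .leaf (nat_lit 14025215934466) .leaf) (nat_lit 14025215985794) .leaf)) (nat_lit 14025216182402) (.node (.node (.node .leaf (nat_lit 14025219917955) .leaf) (nat_lit 14025220114435) .leaf) (nat_lit 14025220194307) (.node (.node .leaf (nat_lit 14025220391043) .leaf) (nat_lit 14025240932482) .leaf))) (nat_lit 14025241129090) (.node (.node (.node (.node .leaf (nat_lit 14025241147522) .leaf) (nat_lit 14025241344130) .leaf) (nat_lit 14025245077507) (.node (.node .leaf (nat_lit 14025245274243) .leaf)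 (nat_lit 14025245390851) .leaf)) (nat_lit 14025245587587) (.node (.node (.node .leaf (nat_lit 14156212226050) .leaf) (nat_lit 14156212420610) .leaf) (nat_lit 14156212506626) (.node (.node .leaf (nat_lit 14156212705282) .leaf) (nat_lit 14156216401923) .leaf)))) (nat_lit 14156216600707) (.node (.node (.node (.node (.node .leaf (nat_lit 14156216719363) .leaf) (nat_lit 14156216914051) .leaf) (nat_lit 14156237375490) (.node (.node .leaf (nat_lit 14156237570050) .leaf) (nat_lit 14156237688962) .leaf)) (nat_lit 14156237887618) (.node (.node (.node .leaf (nat_lit 14156241586179) .leaf) (nat_lit 14156241780867) .leaf) (nat_lit 14156241866883) (.node (.node .leaf (nat_lit 14156242065411) .leaf) (nat_lit 14162654689411) .leaf))) (nat_lit 14162654883843) (.node (.node (.node (.node .leaf (nat_lit 14162654961667) .leaf) (nat_lit 14162655160451) .leaf) (nat_lit 14162658897922) (.node (.node .leaf (nat_lit 14162659096578) .leaf) (nat_lit 14162659141762) .leaf)) (nat_lit 14162659336322) (.node (.node (.node .leaf (nat_lit 14162679824387) .leaf) (nat_lit 14162680023171) .leaf) (nat_lit 14162680141827) (.node (.node .leaf (nat_lit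 14162680336515) .leaf) (nat_lit 14162684067970) .leaf))))) (nat_lit 14162684266626) (.node (.node (.node (.node (.node (.node .leaf (nat_lit 14162684287106) .leaf) (nat_lit 14162684481666) .leaf) (nat_lit 14302241192066) (.node (.node .leaf (nat_lit 14302241226754) .leaf) (nat_lit 14302241374210) .leaf)) (nat_lit 14302241568898) (.node (.node (.node .leaf (nat_lit 14302249498755) .leaf) (nat_lit 14302249697411) .leaf) (nat_lit 14302249811971) (.node (.node .leaf (nat_lit 14302249908227) .leaf) (nat_lit 14302257887363) .leaf))) (nat_lit 14302258086019) (.node (.node (.node (.node .leaf (nat_lit 14302258200707) .leaf) (nat_lit 14302258296963) .leaf) (nat_lit 14302266355842) (.node (.node .leaf (nat_lit 14302266394626) .leaf) (nat_lit 14302266542210) .leaf)) (nat_lit 14302266732546) (.node (.node (.node .leaf (nat_lit 14308683546625) .leaf) (nat_lit 14308683773953) .leaf) (nat_lit 14308683888769) (.node (.node .leaf (nat_lit 14308683956353) .leaf) (nat_lit 14308692054144) .leaf)))) (nat_lit 14308692109312) (.node (.node (.node (.node (.node .leaf (nat_lit 14308692256768) .leaf) (nat_lit 14308692430976) .leaf) (nat_lit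 14308700446720) (.node (.node .leaf (nat_lit 14308700493952) .leaf) (nat_lit 14308700641280) .leaf)) (nat_lit 14308700823680) (.node (.node (.node .leaf (nat_lit 14308708726913) .leaf) (nat_lit 14308708925569) .leaf) (nat_lit 14308709040257) (.node (.node .leaf (nat_lit 14308709136513) .leaf) (nat_lit 14439680080003) .leaf))) (nat_lit 14439680247939) (.node (.node (.node (.node .leaf (nat_lit 14439680397315) .leaf) (nat_lit 14439680450563) .leaf) (nat_lit 14439688517762) (.node (.node .leaf (nat_lit 14439688587266) .leaf) (nat_lit 14439688704002) .leaf)) (nat_lit 14439688921218) (.node (.node (.node .leaf (nat_lit 14439696904322) .leaf) (nat_lit 14439696973826) .leaf) (nat_lit 14439697094786) (.node (.node .leaf (nat_lit 14439697311746) .leaf) (nat_lit 14439705245827) .leaf))))))) (nat_lit 14439705413763) (.node (.node (.node (.node (.node (.node (.node (.node .leaf (nat_lit 14439705563267) .leaf) (nat_lit 14439705616515) (.node .leaf (nat_lit 14446126803072) .leaf)) (nat_lit 14446126880768) (.node (.node .leaf (nat_lit 14446126989312) .leaf) (nat_lit 14446127214720) .leaf)) (nat_lit 14446135113729) (.node (.node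 (.node .leaf (nat_lit 14446135281665) .leaf) (nat_lit 14446135431297) .leaf) (nat_lit 14446135484545) (.node (.node .leaf (nat_lit 14446143488129) .leaf) (nat_lit 14446143680641) .leaf))) (nat_lit 14446143826049) (.node (.node (.node (.node .leaf (nat_lit 14446143871105) .leaf) (nat_lit 14446151964672) .leaf) (nat_lit 14446152050816) (.node (.node .leaf (nat_lit 14446152167424) .leaf) (nat_lit 14446152368256) .leaf)) (nat_lit 15118284900354) (.node (.node (.node .leaf (nat_lit 15118285078530) .leaf) (nat_lit 15118285260802) .leaf) (nat_lit 15118285307906) (.node (.node .leaf (nat_lit 15118297464835) .leaf) (nat_lit 15118297680003) .leaf)))) (nat_lit 15118297825283) (.node (.node (.node (.node (.node .leaf (nat_lit 15118297909379) .leaf) (nat_lit 15118305871875) .leaf) (nat_lit 15118306050179) (.node (.node .leaf (nat_lit 15118306232451) .leaf) (nat_lit 15118306279427) .leaf)) (nat_lit 15118310049794) (.node (.node (.node .leaf (nat_lit 15118310260738) .leaf) (nat_lit 15118310410370) .leaf) (nat_lit 15118310490242) (.node (.node .leaf (nat_lit 15124727332865) .leaf) (nat_lit 15124727548033) .leaf))) (nat_lit 15124727693313)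 (.node (.node (.node (.node .leaf (nat_lit 15124727777409) .leaf) (nat_lit 15124739971200) .leaf) (nat_lit 15124740149376) (.node (.node .leaf (nat_lit 15124740266112) .leaf) (nat_lit 15124740313216) .leaf)) (nat_lit 15124748345344) (.node (.node (.node .leaf (nat_lit 15124748560384) .leaf) (nat_lit 15124748640384) .leaf) (nat_lit 15124748724352) (.node (.node .leaf (nat_lit 15124752527489) .leaf) (nat_lit 15124752709633) .leaf))))) (nat_lit 15124752887809) (.node (.node (.node (.node (.node (.node .leaf (nat_lit 15124752939137) .leaf) (nat_lit 15255723853826) (.node .leaf (nat_lit 15255724034050) .leaf)) (nat_lit 15255724218370) (.node (.node .leaf (nat_lit 15255724267522) .leaf) (nat_lit 15255736418307) .leaf)) (nat_lit 15255736631427) (.node (.node (.node .leaf (nat_lit 15255736782851) .leaf) (nat_lit 15255736864899) .leaf) (nat_lit 15255744825347) (.node (.node .leaf (nat_lit 15255745005699) .leaf) (nat_lit 15255745190019) .leaf))) (nat_lit 15255745239043) (.node (.node (.node (.node .leaf (nat_lit 15255749003266) .leaf) (nat_lit 15255749216258) .leaf) (nat_lit 15255749367938) (.node (.node .leaf (nat_lit 15255749449858)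 .leaf) (nat_lit 15262170494977) .leaf)) (nat_lit 15262170708097) (.node (.node (.node .leaf (nat_lit 15262170851329) .leaf) (nat_lit 15262170933377) .leaf) (nat_lit 15262174732416) (.node (.node .leaf (nat_lit 15262174912640) .leaf) (nat_lit 15262175031424) .leaf)))) (nat_lit 15262175080576) (.node (.node (.node (.node (.node .leaf (nat_lit 15262183102464) .leaf) (nat_lit 15262183315456) .leaf) (nat_lit 15262183393408) (.node (.node .leaf (nat_lit 15262183475328) .leaf) (nat_lit 15262195665025) .leaf)) (nat_lit 15262195845121) (.node (.node (.node .leaf (nat_lit 15262196029441) .leaf) (nat_lit 15262196078721) .leaf) (nat_lit 15403900231811) (.node (.node .leaf (nat_lit 15403900272642) .leaf) (nat_lit 15403900383362) .leaf))) (nat_lit 15403900457091) (.node (.node (.node (.node .leaf (nat_lit 15403900481667) .leaf) (nat_lit 15403900555266) .leaf) (nat_lit 15403900657794) (.node (.node .leaf (nat_lit 15403900698755) .leaf) (nat_lit 15403929591939) .leaf)) (nat_lit 15403929634818) (.node (.node (.node .leaf (nat_lit 15403929745538) .leaf) (nat_lit 15403929817219) .leaf) (nat_lit 15403929841667) (.node (.node .leaf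 (nat_lit 15403929917570) .leaf) (nat_lit 15403930019842) .leaf)))))) (nat_lit 15403930058755) (.node (.node (.node (.node (.node (.node (.node .leaf (nat_lit 15406047715331) .leaf) (nat_lit 15406047789058) (.node .leaf (nat_lit 15406047834242) .leaf)) (nat_lit 15406047940611) (.node (.node .leaf (nat_lit 15406047965315) .leaf) (nat_lit 15406048071810) .leaf)) (nat_lit 15406048108546) (.node (.node (.node .leaf (nat_lit 15406048182403) .leaf) (nat_lit 15406077071491) .leaf) (nat_lit 15406077163650) (.node (.node .leaf (nat_lit 15406077184002) .leaf) (nat_lit 15406077304963) .leaf))) (nat_lit 15406077313155) (.node (.node (.node (.node .leaf (nat_lit 15406077438082) .leaf) (nat_lit 15406077466626) .leaf) (nat_lit 15406077554819) (.node (.node .leaf (nat_lit 15541347549187) .leaf) (nat_lit 15541347639426) .leaf)) (nat_lit 15541347735554) (.node (.node (.node .leaf (nat_lit 15541347792899) .leaf) (nat_lit 15541347827715) .leaf) (nat_lit 15541347885186) (.node (.node .leaf (nat_lit 15541347981314) .leaf) (nat_lit 15541348071427) .leaf)))) (nat_lit 15541360132099) (.node (.node (.node (.node (.node .leaf (nat_lit 15541360224386)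 .leaf) (nat_lit 15541360316418) .leaf) (nat_lit 15541360375811) (.node (.node .leaf (nat_lit 15541360410755) .leaf) (nat_lit 15541360470018) .leaf)) (nat_lit 15541360562306) (.node (.node (.node .leaf (nat_lit 15541360654467) .leaf) (nat_lit 15543499239555) .leaf) (nat_lit 15543499346050) (.node (.node .leaf (nat_lit 15543499384834) .leaf) (nat_lit 15543499458691) .leaf))) (nat_lit 15543499517955) (.node (.node (.node (.node .leaf (nat_lit 15543499591682) .leaf) (nat_lit 15543499630722) .leaf) (nat_lit 15543499737091) (.node (.node .leaf (nat_lit 15543503421443) .leaf) (nat_lit 15543503546370) .leaf)) (nat_lit 15543503573122) (.node (.node (.node .leaf (nat_lit 15543503665155) .leaf) (nat_lit 15543503699971) .leaf) (nat_lit 15543503792130) (.node (.node .leaf (nat_lit 15543503818882) .leaf) (nat_lit 15543503943683) .leaf))))) (nat_lit 16217796536322) (.node (.node (.node (.node (.node (.node .leaf (nat_lit 16217796765698) .leaf) (nat_lit 16217796804610) .leaf) (nat_lit 16217796968450) (.node (.node .leaf (nat_lit 16217800704003) .leaf) (nat_lit 16217800933507) .leaf)) (nat_lit 16217801025539) (.node (.node (.node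 .leaf (nat_lit 16217801189507) .leaf) (nat_lit 16217821698051) .leaf) (nat_lit 16217821927555) (.node (.node .leaf (nat_lit 16217821982851) .leaf) (nat_lit 16217822146563) .leaf))) (nat_lit 16217825884162) (.node (.node (.node (.node .leaf (nat_lit 16217826113538) .leaf) (nat_lit 16217826185346) .leaf) (nat_lit 16217826349186) (.node (.node .leaf (nat_lit 16224238993410) .leaf) (nat_lit 16224239157250) .leaf)) (nat_lit 16224239249538) (.node (.node (.node .leaf (nat_lit 16224239478914) .leaf) (nat_lit 16224243181699) .leaf) (nat_lit 16224243410947) (.node (.node .leaf (nat_lit 16224243449859) .leaf) (nat_lit 16224243613827) .leaf)))) (nat_lit 16224264126467) (.node (.node (.node (.node (.node .leaf (nat_lit 16224264355971) .leaf) (nat_lit 16224264448003) .leaf) (nat_lit 16224264611971) (.node (.node .leaf (nat_lit 16224268378242) .leaf) (nat_lit 16224268542082) .leaf)) (nat_lit 16224268585090) (.node (.node (.node .leaf (nat_lit 16224268814466) .leaf) (nat_lit 16355235485698) .leaf) (nat_lit 16355235713026) (.node (.node .leaf (nat_lit 16355235766274) .leaf) (nat_lit 16355235932162) .leaf))) (nat_lit 16355239669763)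 (.node (.node (.node (.node .leaf (nat_lit 16355239901315) .leaf) (nat_lit 16355239970819) .leaf) (nat_lit 16355240132739) (.node (.node .leaf (nat_lit 16355260655619) .leaf) (nat_lit 16355260883075) .leaf)) (nat_lit 16355260928131) (.node (.node (.node .leaf (nat_lit 16355261093891) .leaf) (nat_lit 16355264825346) .leaf) (nat_lit 16355265052674) (.node (.node .leaf (nat_lit 16355265147010) .leaf) (nat_lit 16355265312898) .leaf))))))))
def t0_8 : BT := (.node (.node (.node (.node (.node (.node (.node (.node (.node .leaf (nat_lit 16361678168067) .leaf) (nat_lit 16361678213123) (.node .leaf (nat_lit 16361678379139) .leaf)) (nat_lit 16361682141186) (.node (.node .leaf (nat_lit 16361682307074) .leaf) (nat_lit 16361682401410) .leaf)) (nat_lit 16361682628738) (.node (.node (.node .leaf (nat_lit 16361703137410) .leaf) (nat_lit 16361703303298) .leaf) (nat_lit 16361703348354) (.node (.node .leaf (nat_lit 16361703575682) .leaf) (nat_lit 16361707274243) .leaf))) (nat_lit 16361707505795) (.node (.node (.node (.node .leaf (nat_lit 16361707599875) .leaf) (nat_lit 16361707761795) .leaf) (nat_lit 16778289834114) (.node (.node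 .leaf (nat_lit 16778289905666) .leaf) (nat_lit 16778290030722) .leaf)) (nat_lit 16778290233346) (.node (.node (.node .leaf (nat_lit 16778298130435) .leaf) (nat_lit 16778298386435) .leaf) (nat_lit 16778298458115) (.node (.node .leaf (nat_lit 16778298583043) .leaf) (nat_lit 16778310713347) .leaf)))) (nat_lit 16778310969347) (.node (.node (.node (.node (.node .leaf (nat_lit 16778311041155) .leaf) (nat_lit 16778311166083) .leaf) (nat_lit 16778319192194) (.node (.node .leaf (nat_lit 16778319267842) .leaf) (nat_lit 16778319388674) .leaf)) (nat_lit 16778319595650) (.node (.node (.node .leaf (nat_lit 16780437225473) .leaf) (nat_lit 16780437481473) .leaf) (nat_lit 16780437553153) (.node (.node .leaf (nat_lit 16780437678081) .leaf) (nat_lit 16780445743104) .leaf))) (nat_lit 16780445749376) (.node (.node (.node (.node .leaf (nat_lit 16780445939712) .leaf) (nat_lit 16780446077056) .leaf) (nat_lit 16780458313856) (.node (.node .leaf (nat_lit 16780458336256) .leaf) (nat_lit 16780458510336) .leaf)) (nat_lit 16780458664064) (.node (.node (.node .leaf (nat_lit 16780466600065) .leaf) (nat_lit 16780466835585) .leaf) (nat_lit 16780466927617)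 (.node (.node .leaf (nat_lit 16780467032065) .leaf) (nat_lit 16915728722051) .leaf))))) (nat_lit 16915728926851) (.node (.node (.node (.node (.node (.node .leaf (nat_lit 16915729053827) .leaf) (nat_lit 16915729127555) (.node .leaf (nat_lit 16915737149442) .leaf)) (nat_lit 16915737272450) (.node (.node .leaf (nat_lit 16915737350146) .leaf) (nat_lit 16915737604226) .leaf)) (nat_lit 16915749734402) (.node (.node (.node .leaf (nat_lit 16915749857410) .leaf) (nat_lit 16915749935234) .leaf) (nat_lit 16915750189058) (.node (.node .leaf (nat_lit 16915758082179) .leaf) (nat_lit 16915758286979) .leaf))) (nat_lit 16915758413827) (.node (.node (.node (.node .leaf (nat_lit 16915758487555) .leaf) (nat_lit 16917880481920) .leaf) (nat_lit 16917880522752) (.node (.node .leaf (nat_lit 16917880682624) .leaf) (nat_lit 16917880854528) .leaf)) (nat_lit 16917888782465) (.node (.node (.node .leaf (nat_lit 16917889003649) .leaf) (nat_lit 16917889106049) .leaf) (nat_lit 16917889196161) (.node (.node .leaf (nat_lit 16917892982785) .leaf) (nat_lit 16917893187585) .leaf)))) (nat_lit 16917893314689) (.node (.node (.node (.node (.node .leaf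 (nat_lit 16917893388417) .leaf) (nat_lit 16917901449216) .leaf) (nat_lit 16917901506688) (.node (.node .leaf (nat_lit 16917901641856) .leaf) (nat_lit 16917901830144) .leaf)) (nat_lit 17042430255106) (.node (.node (.node .leaf (nat_lit 17042430474242) .leaf) (nat_lit 17042430613506) .leaf) (nat_lit 17042430623746) (.node (.node .leaf (nat_lit 17042442813443) .leaf) (nat_lit 17042443065475) .leaf))) (nat_lit 17042443188227) (.node (.node (.node (.node .leaf (nat_lit 17042443231363) .leaf) (nat_lit 17042447030275) .leaf) (nat_lit 17042447237251) (.node (.node .leaf (nat_lit 17042447392899) .leaf) (nat_lit 17042447415299) .leaf)) (nat_lit 17042459602946) (.node (.node (.node .leaf (nat_lit 17042459846658) .leaf) (nat_lit 17042459953282) .leaf) (nat_lit 17042460004482) (.node (.node .leaf (nat_lit 17048872681473) .leaf) (nat_lit 17048872933505) .leaf)))))) (nat_lit 17048873056257) (.node (.node (.node (.node (.node (.node (.node .leaf (nat_lit 17048873099393) .leaf) (nat_lit 17048885325952) (.node .leaf (nat_lit 17048885471360) .leaf)) (nat_lit 17048885610624) (.node (.node .leaf (nat_lit 17048885694592) .leaf) (nat_lit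 17048889497600) .leaf)) (nat_lit 17048889671680) (.node (.node (.node .leaf (nat_lit 17048889794688) .leaf) (nat_lit 17048889915520) .leaf) (nat_lit 17048902066305) (.node (.node .leaf (nat_lit 17048902285313) .leaf) (nat_lit 17048902424577) .leaf))) (nat_lit 17048902434945) (.node (.node (.node (.node .leaf (nat_lit 17179869206530) .leaf) (nat_lit 17179869415426) .leaf) (nat_lit 17179869573122) (.node (.node .leaf (nat_lit 17179869585410) .leaf) (nat_lit 17179881781251) .leaf)) (nat_lit 17179882023043) (.node (.node (.node .leaf (nat_lit 17179882131459) .leaf) (nat_lit 17179882176643) .leaf) (nat_lit 17179885985795) (.node (.node .leaf (nat_lit 17179886203011) .leaf) (nat_lit 17179886340227) .leaf)))) (nat_lit 17179886360579) (.node (.node (.node (.node (.node .leaf (nat_lit 17179898546178) .leaf) (nat_lit 17179898796034) .leaf) (nat_lit 17179898912898) (.node (.node .leaf (nat_lit 17179898966146) .leaf) (nat_lit 17186315829249) .leaf)) (nat_lit 17186316079233) (.node (.node (.node .leaf (nat_lit 17186316199937) .leaf) (nat_lit 17186316253313) .leaf) (nat_lit 17186320085120) (.node (.node .leaf (nat_lit 17186320228480)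 .leaf) (nat_lit 17186320373888) .leaf))) (nat_lit 17186320451712) (.node (.node (.node (.node .leaf (nat_lit 17186332645376) .leaf) (nat_lit 17186332821504) .leaf) (nat_lit 17186332946560) (.node (.node .leaf (nat_lit 17186333057152) .leaf) (nat_lit 17186336825473) .leaf)) (nat_lit 17186337042433) (.node (.node (.node .leaf (nat_lit 17186337179649) .leaf) (nat_lit 17186337200257) .leaf) (nat_lit 17592186044417) (.node (.node .leaf (nat_lit 17592186077185) .leaf) (nat_lit 17592186109954) .leaf))))) (nat_lit 17592186142722) (.node (.node (.node (.node (.node (.node .leaf (nat_lit 17592186306689) .leaf) (nat_lit 17592186339457) .leaf) (nat_lit 17592186372098) (.node (.node .leaf (nat_lit 17592186404866) .leaf) (nat_lit 17594333659265) .leaf)) (nat_lit 17594333692033) (.node (.node (.node .leaf (nat_lit 17594333728898) .leaf) (nat_lit 17594333761666) .leaf) (nat_lit 17594333921281) (.node (.node .leaf (nat_lit 17594333954049) .leaf) (nat_lit 17594333991042) .leaf))) (nat_lit 17594334023810) (.node (.node (.node (.node .leaf (nat_lit 17596481011713) .leaf) (nat_lit 17596481044481) .leaf) (nat_lit 17596481085570) (.node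 (.node .leaf (nat_lit 17596481118338) .leaf) (nat_lit 17596481273985) .leaf)) (nat_lit 17596481306753) (.node (.node (.node .leaf (nat_lit 17596481347714) .leaf) (nat_lit 17596481380482) .leaf) (nat_lit 17598628626561) (.node (.node .leaf (nat_lit 17598628659329) .leaf) (nat_lit 17598628704258) .leaf)))) (nat_lit 17598628737026) (.node (.node (.node (.node (.node .leaf (nat_lit 17598628888577) .leaf) (nat_lit 17598628921345) .leaf) (nat_lit 17598628966402) (.node (.node .leaf (nat_lit 17598628999170) .leaf) (nat_lit 17600776028290) .leaf)) (nat_lit 17600776077441) (.node (.node (.node .leaf (nat_lit 17600776126466) .leaf) (nat_lit 17600776175617) .leaf) (nat_lit 17600776257538) (.node (.node .leaf (nat_lit 17600776306817) .leaf) (nat_lit 17600776421506) .leaf))) (nat_lit 17600776470529) (.node (.node (.node (.node .leaf (nat_lit 17602923462657) .leaf) (nat_lit 17602923548674) .leaf) (nat_lit 17602923626497) (.node (.node .leaf (nat_lit 17602923712514) .leaf) (nat_lit 17602923757569) .leaf)) (nat_lit 17602923843714) (.node (.node (.node .leaf (nat_lit 17602923855873) .leaf) (nat_lit 17602923942018) .leaf) (nat_lit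 17605070970882) (.node (.node .leaf (nat_lit 17605071011969) .leaf) (nat_lit 17605071134850) .leaf))))))) (nat_lit 17605071175681) (.node (.node (.node (.node (.node (.node (.node (.node .leaf (nat_lit 17605071265922) .leaf) (nat_lit 17605071306881) (.node .leaf (nat_lit 17605071364098) .leaf)) (nat_lit 17605071405057) (.node (.node .leaf (nat_lit 17607218429953) .leaf) (nat_lit 17607218524290) .leaf)) (nat_lit 17607218593793) (.node (.node (.node .leaf (nat_lit 17607218688130) .leaf) (nat_lit 17607218724865) .leaf) (nat_lit 17607218819074) (.node (.node .leaf (nat_lit 17607218823169) .leaf) (nat_lit 17607218917378) .leaf))) (nat_lit 17867063984130) (.node (.node (.node (.node .leaf (nat_lit 17867064049665) .leaf) (nat_lit 17867064084482) .leaf) (nat_lit 17867064150017) (.node (.node .leaf (nat_lit 17867064217602) .leaf) (nat_lit 17867064283265) .leaf)) (nat_lit 17867064383490) (.node (.node (.node .leaf (nat_lit 17867064449153) .leaf) (nat_lit 17869211439106) .leaf) (nat_lit 17869211500545) (.node (.node .leaf (nat_lit 17869211605122) .leaf) (nat_lit 17869211666561) .leaf)))) (nat_lit 17869211729922) (.node (.node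 (.node (.node (.node .leaf (nat_lit 17869211799681) .leaf) (nat_lit 17869211830402) .leaf) (nat_lit 17869211899905) (.node (.node .leaf (nat_lit 17871363153922) .leaf) (nat_lit 17871363211393) .leaf)) (nat_lit 17871363254274) (.node (.node (.node .leaf (nat_lit 17871363311745) .leaf) (nat_lit 17871363387394) .leaf) (nat_lit 17871363444737) (.node (.node .leaf (nat_lit 17871363553282) .leaf) (nat_lit 17871363610625) .leaf))) (nat_lit 17873510641666) (.node (.node (.node (.node .leaf (nat_lit 17873510695041) .leaf) (nat_lit 17873510742146) .leaf) (nat_lit 17873510795265) (.node (.node .leaf (nat_lit 17873510866946) .leaf) (nat_lit 17873510928385) .leaf)) (nat_lit 17873511032962) (.node (.node (.node .leaf (nat_lit 17873511094401) .leaf) (nat_lit 17875662274561) .leaf) (nat_lit 17875662307457) (.node (.node .leaf (nat_lit 17875662356482) .leaf) (nat_lit 17875662389378) .leaf))))) (nat_lit 17875662540929) (.node (.node (.node (.node (.node (.node .leaf (nat_lit 17875662573569) .leaf) (nat_lit 17875662622722) (.node .leaf (nat_lit 17875662655618) .leaf)) (nat_lit 17877809911938) (.node (.node .leaf (nat_lit 17877809944578)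 .leaf) (nat_lit 17877809956993) .leaf)) (nat_lit 17877809989633) (.node (.node (.node .leaf (nat_lit 17877810169986) .leaf) (nat_lit 17877810202626) .leaf) (nat_lit 17877810223105) (.node (.node .leaf (nat_lit 17877810256001) .leaf) (nat_lit 17879961569281) .leaf))) (nat_lit 17879961602177) (.node (.node (.node (.node .leaf (nat_lit 17879961659522) .leaf) (nat_lit 17879961692162) .leaf) (nat_lit 17879961835649) (.node (.node .leaf (nat_lit 17879961868289) .leaf) (nat_lit 17879961925762) .leaf)) (nat_lit 17879961958402) (.node (.node (.node .leaf (nat_lit 17882108948482) .leaf) (nat_lit 17882108981378) .leaf) (nat_lit 17882108985473) (.node (.node .leaf (nat_lit 17882109018113) .leaf) (nat_lit 17882109206530) .leaf)))) (nat_lit 17882109239426) (.node (.node (.node (.node (.node .leaf (nat_lit 17882109251585) .leaf) (nat_lit 17882109284481) .leaf) (nat_lit 18141941989377) (.node (.node .leaf (nat_lit 18141942022145) .leaf) (nat_lit 18141942056962) .leaf)) (nat_lit 18141942089730) (.node (.node (.node .leaf (nat_lit 18141942259841) .leaf) (nat_lit 18141942292609) .leaf) (nat_lit 18141942327298) (.node (.node .leaf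 (nat_lit 18141942360066) .leaf) (nat_lit 18144093536257) .leaf))) (nat_lit 18144093569025) (.node (.node (.node (.node .leaf (nat_lit 18144093607938) .leaf) (nat_lit 18144093640706) .leaf) (nat_lit 18144093806721) (.node (.node .leaf (nat_lit 18144093839489) .leaf) (nat_lit 18144093878274) .leaf)) (nat_lit 18144093911042) (.node (.node (.node .leaf (nat_lit 18146236956673) .leaf) (nat_lit 18146236989441) .leaf) (nat_lit 18146237032578) (.node (.node .leaf (nat_lit 18146237065346) .leaf) (nat_lit 18146237227137) .leaf)))))) (nat_lit 18146237259905) (.node (.node (.node (.node (.node (.node (.node .leaf (nat_lit 18146237286530) .leaf) (nat_lit 18146237319298) (.node .leaf (nat_lit 18148388503553) .leaf)) (nat_lit 18148388536321) (.node (.node .leaf (nat_lit 18148388583554) .leaf) (nat_lit 18148388616322) .leaf)) (nat_lit 18148388774017) (.node (.node (.node .leaf (nat_lit 18148388806785) .leaf) (nat_lit 18148388837506) .leaf) (nat_lit 18148388870274) (.node (.node .leaf (nat_lit 18150548570113) .leaf) (nat_lit 18150548654082) .leaf))) (nat_lit 18150548701185) (.node (.node (.node (.node .leaf (nat_lit 18150548785154)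 .leaf) (nat_lit 18150548873217) .leaf) (nat_lit 18150548957314) (.node (.node .leaf (nat_lit 18150549004289) .leaf) (nat_lit 18150549088386) .leaf)) (nat_lit 18152700268546) (.node (.node (.node .leaf (nat_lit 18152700315649) .leaf) (nat_lit 18152700399746) .leaf) (nat_lit 18152700446849) (.node (.node .leaf (nat_lit 18152700571778) .leaf) (nat_lit 18152700618753) .leaf)))) (nat_lit 18152700702722) (.node (.node (.node (.node (.node .leaf (nat_lit 18152700749953) .leaf) (nat_lit 18154843570305) .leaf) (nat_lit 18154843662338) (.node (.node .leaf (nat_lit 18154843701377) .leaf) (nat_lit 18154843793410) .leaf)) (nat_lit 18154843807873) (.node (.node (.node .leaf (nat_lit 18154843883650) .leaf) (nat_lit 18154843938945) .leaf) (nat_lit 18154844014722) (.node (.node .leaf (nat_lit 18156995244034) .leaf) (nat_lit 18156995283073) .leaf))) (nat_lit 18156995375234) (.node (.node (.node (.node .leaf (nat_lit 18156995414017) .leaf) (nat_lit 18156995530882) .leaf) (nat_lit 18156995586177) (.node (.node .leaf (nat_lit 18156995661826) .leaf) (nat_lit 18156995717121) .leaf)) (nat_lit 18416819765249) (.node (.node (.node .leaf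 (nat_lit 18416819832834) .leaf) (nat_lit 18416819898369) .leaf) (nat_lit 18416819961858) (.node (.node .leaf (nat_lit 18416820072577) .leaf) (nat_lit 18416820140034) .leaf))))) (nat_lit 18416820205697) (.node (.node (.node (.node (.node (.node .leaf (nat_lit 18416820269058) .leaf) (nat_lit 18418971443201) .leaf) (nat_lit 18418971514882) (.node (.node .leaf (nat_lit 18418971576449) .leaf) (nat_lit 18418971644034) .leaf)) (nat_lit 18418971750529) (.node (.node (.node .leaf (nat_lit 18418971813890) .leaf) (nat_lit 18418971883521) .leaf) (nat_lit 18418971943042) (.node (.node .leaf (nat_lit 18421118959617) .leaf) (nat_lit 18421119035522) .leaf))) (nat_lit 18421119092737) (.node (.node (.node (.node .leaf (nat_lit 18421119164546) .leaf) (nat_lit 18421119201409) .leaf) (nat_lit 18421119260802) (.node (.node .leaf (nat_lit 18421119334529) .leaf) (nat_lit 18421119389826) .leaf)) (nat_lit 18423262216193) (.node (.node (.node .leaf (nat_lit 18423262296194) .leaf) (nat_lit 18423262349441) .leaf) (nat_lit 18423262425090) (.node (.node .leaf (nat_lit 18423262523521) .leaf) (nat_lit 18423262578818) .leaf)))) (nat_lit 18423262656513)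 (.node (.node (.node (.node (.node .leaf (nat_lit 18423262707714) .leaf) (nat_lit 18425434998785) .leaf) (nat_lit 18425435031681) (.node (.node .leaf (nat_lit 18425435078658) .leaf) (nat_lit 18425435111554) .leaf)) (nat_lit 18425435273345) (.node (.node (.node .leaf (nat_lit 18425435305985) .leaf) (nat_lit 18425435353090) .leaf) (nat_lit 18425435385986) (.node (.node .leaf (nat_lit 18427586564098) .leaf) (nat_lit 18427586596994) .leaf))) (nat_lit 18427586611201) (.node (.node (.node (.node .leaf (nat_lit 18427586644097) .leaf) (nat_lit 18427586830338) .leaf) (nat_lit 18427586863234) (.node (.node .leaf (nat_lit 18427586885761) .leaf) (nat_lit 18427586918401) .leaf)) (nat_lit 18429734027265) (.node (.node (.node .leaf (nat_lit 18429734060161) .leaf) (nat_lit 18429734119554) .leaf) (nat_lit 18429734152194) (.node (.node .leaf (nat_lit 18429734301825) .leaf) (nat_lit 18429734334465) .leaf))))))))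
def t0_9 : BT := (.node (.node (.node (.node (.node (.node (.node (.node (.node .leaf (nat_lit 18429734410242) .leaf) (nat_lit 18431877478530) (.node .leaf (nat_lit 18431877511170) .leaf)) (nat_lit 18431877513217) (.node (.node .leaf (nat_lit 18431877546113) .leaf) (nat_lit 18431877728386) .leaf)) (nat_lit 18431877761026) (.node (.node (.node .leaf (nat_lit 18431877787777) .leaf) (nat_lit 18431877820417) .leaf) (nat_lit 18691697672193) (.node (.node .leaf (nat_lit 18691697737730) .leaf) (nat_lit 18691697803266) .leaf))) (nat_lit 18691697868801) (.node (.node (.node (.node .leaf (nat_lit 18691697985665) .leaf) (nat_lit 18691698051074) .leaf) (nat_lit 18691698116610) (.node (.node .leaf (nat_lit 18691698182273) .leaf) (nat_lit 18693853548546) .leaf)) (nat_lit 18693853609985) (.node (.node (.node .leaf (nat_lit 18693853675649) .leaf) (nat_lit 18693853745282) .leaf) (nat_lit 18693853861890) (.node (.node .leaf (nat_lit 18693853923457) .leaf) (nat_lit 18693853988865) .leaf)))) (nat_lit 18693854058626) (.node (.node (.node (.node (.node .leaf (nat_lit 18696009424898) .leaf) (nat_lit 18696009482369) .leaf) (nat_lit 18696009547777)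 (.node (.node .leaf (nat_lit 18696009621634) .leaf) (nat_lit 18696009738242) .leaf)) (nat_lit 18696009795585) (.node (.node (.node .leaf (nat_lit 18696009861249) .leaf) (nat_lit 18696009934978) .leaf) (nat_lit 18698165323777) (.node (.node .leaf (nat_lit 18698165401730) .leaf) (nat_lit 18698165467266) .leaf))) (nat_lit 18698165520385) (.node (.node (.node (.node .leaf (nat_lit 18698165567617) .leaf) (nat_lit 18698165645442) .leaf) (nat_lit 18698165710978) (.node (.node .leaf (nat_lit 18698165764225) .leaf) (nat_lit 18975173902337) .leaf)) (nat_lit 18975173984258) (.node (.node (.node .leaf (nat_lit 18975174051842) .leaf) (nat_lit 18975174100993) .leaf) (nat_lit 18975174219777) (.node (.node .leaf (nat_lit 18975174269058) .leaf) (nat_lit 18975174332546) .leaf))))) (nat_lit 18975174414337) (.node (.node (.node (.node (.node (.node .leaf (nat_lit 18977312997377) .leaf) (nat_lit 18977313083394) (.node .leaf (nat_lit 18977313151106) .leaf)) (nat_lit 18977313196161) (.node (.node .leaf (nat_lit 18977313314817) .leaf) (nat_lit 18977313360002) .leaf)) (nat_lit 18977313423362) (.node (.node (.node .leaf (nat_lit 18977313509505)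 .leaf) (nat_lit 18979489841153) .leaf) (nat_lit 18979489931394) (.node (.node .leaf (nat_lit 18979489998850) .leaf) (nat_lit 18979490039937) .leaf))) (nat_lit 18979490158593) (.node (.node (.node (.node .leaf (nat_lit 18979490215938) .leaf) (nat_lit 18979490279554) .leaf) (nat_lit 18979490353281) (.node (.node .leaf (nat_lit 18981628971137) .leaf) (nat_lit 18981629065218) .leaf)) (nat_lit 18981629128706) (.node (.node (.node .leaf (nat_lit 18981629165697) .leaf) (nat_lit 18981629218945) .leaf) (nat_lit 18981629272194) (.node (.node .leaf (nat_lit 18981629339778) .leaf) (nat_lit 18981629417601) .leaf)))) (nat_lit 19250060197889) (.node (.node (.node (.node (.node .leaf (nat_lit 19250060281858) .leaf) (nat_lit 19250060380290) .leaf) (nat_lit 19250060427393) (.node (.node .leaf (nat_lit 19250060519425) .leaf) (nat_lit 19250060566658) .leaf)) (nat_lit 19250060599298) (.node (.node (.node .leaf (nat_lit 19250060683393) .leaf) (nat_lit 19252220299393) .leaf) (nat_lit 19252220383362) (.node (.node .leaf (nat_lit 19252220416130) .leaf) (nat_lit 19252220463233) .leaf))) (nat_lit 19252220551297) (.node (.node (.node (.node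 .leaf (nat_lit 19252220606466) .leaf) (nat_lit 19252220704770) .leaf) (nat_lit 19252220780673) (.node (.node .leaf (nat_lit 19254338387969) .leaf) (nat_lit 19254338480258) .leaf)) (nat_lit 19254338578562) (.node (.node (.node .leaf (nat_lit 19254338617345) .leaf) (nat_lit 19254338709505) .leaf) (nat_lit 19254338748418) (.node (.node .leaf (nat_lit 19254338781186) .leaf) (nat_lit 19254338873345) .leaf)))))) (nat_lit 19256498454529) (.node (.node (.node (.node (.node (.node (.node .leaf (nat_lit 19256498550914) .leaf) (nat_lit 19256498649090) (.node .leaf (nat_lit 19256498684033) .leaf)) (nat_lit 19256498776065) (.node (.node .leaf (nat_lit 19256498819074) .leaf) (nat_lit 19256498851970) .leaf)) (nat_lit 19256498940033) (.node (.node (.node .leaf (nat_lit 19516331393025) .leaf) (nat_lit 19516331460610) .leaf) (nat_lit 19516331556866) (.node (.node .leaf (nat_lit 19516331624449) .leaf) (nat_lit 19516331718785) .leaf))) (nat_lit 19516331782146) (.node (.node (.node (.node .leaf (nat_lit 19516331816962) .leaf) (nat_lit 19516331880577) .leaf) (nat_lit 19518491498498) (.node (.node .leaf (nat_lit 19518491557889) .leaf)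 (nat_lit 19518491592833) .leaf)) (nat_lit 19518491660418) (.node (.node (.node .leaf (nat_lit 19518491746306) .leaf) (nat_lit 19518491818113) .leaf) (nat_lit 19518491914241) (.node (.node .leaf (nat_lit 19518491977858) .leaf) (nat_lit 19520647374850) .leaf)))) (nat_lit 19520647430273) (.node (.node (.node (.node (.node .leaf (nat_lit 19520647464961) .leaf) (nat_lit 19520647536770) .leaf) (nat_lit 19520647614466) (.node (.node .leaf (nat_lit 19520647690241) .leaf) (nat_lit 19520647786625) .leaf)) (nat_lit 19520647846018) (.node (.node (.node .leaf (nat_lit 19522799044609) .leaf) (nat_lit 19522799120514) .leaf) (nat_lit 19522799155330) (.node (.node .leaf (nat_lit 19522799206401) .leaf) (nat_lit 19522799300737) .leaf))) (nat_lit 19522799356034) (.node (.node (.node (.node .leaf (nat_lit 19522799452290) .leaf) (nat_lit 19522799532161) .leaf) (nat_lit 19791209508866) (.node (.node .leaf (nat_lit 19791209541634) .leaf) (nat_lit 19791209771010) .leaf)) (nat_lit 19791209803778) (.node (.node (.node .leaf (nat_lit 19791213633537) .leaf) (nat_lit 19791213666305) .leaf) (nat_lit 19791213895809) (.node (.node .leaf (nat_lit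 19791213928577) .leaf) (nat_lit 19793356849154) .leaf))))) (nat_lit 19793356881922) (.node (.node (.node (.node (.node (.node .leaf (nat_lit 19793357111298) .leaf) (nat_lit 19793357144066) .leaf) (nat_lit 19793360977921) (.node (.node .leaf (nat_lit 19793361010689) .leaf) (nat_lit 19793361240193) .leaf)) (nat_lit 19793361272961) (.node (.node (.node .leaf (nat_lit 19795504468098) .leaf) (nat_lit 19795504500866) .leaf) (nat_lit 19795504730242) (.node (.node .leaf (nat_lit 19795504763010) .leaf) (nat_lit 19795508600833) .leaf))) (nat_lit 19795508633601) (.node (.node (.node (.node .leaf (nat_lit 19795508863105) .leaf) (nat_lit 19795508895873) .leaf) (nat_lit 19797651824770) (.node (.node .leaf (nat_lit 19797651857538) .leaf) (nat_lit 19797652086914) .leaf)) (nat_lit 19797652119682) (.node (.node (.node .leaf (nat_lit 19797655945217) .leaf) (nat_lit 19797655977985) .leaf) (nat_lit 19797656207489) (.node (.node .leaf (nat_lit 19797656240257) .leaf) (nat_lit 19799799267459) .leaf)))) (nat_lit 19799799406723) (.node (.node (.node (.node (.node .leaf (nat_lit 19799799529603) .leaf) (nat_lit 19799799668867) .leaf) (nat_lit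 19799803549824) (.node (.node .leaf (nat_lit 19799803689088) .leaf) (nat_lit 19799803811840) .leaf)) (nat_lit 19799803951104) (.node (.node (.node .leaf (nat_lit 19801946820739) .leaf) (nat_lit 19801946959875) .leaf) (nat_lit 19801947082883) (.node (.node .leaf (nat_lit 19801947222019) .leaf) (nat_lit 19801950967936) .leaf))) (nat_lit 19801951107072) (.node (.node (.node (.node .leaf (nat_lit 19801951229952) .leaf) (nat_lit 19801951369344) .leaf) (nat_lit 19804094234755) (.node (.node .leaf (nat_lit 19804094374019) .leaf) (nat_lit 19804094496899) .leaf)) (nat_lit 19804094636163) (.node (.node (.node .leaf (nat_lit 19804098525184) .leaf) (nat_lit 19804098648064) .leaf) (nat_lit 19804098787456) (.node (.node .leaf (nat_lit 19804098910336) .leaf) (nat_lit 19806241755267) .leaf))))))) (nat_lit 19806241894403) (.node (.node (.node (.node (.node (.node (.node (.node .leaf (nat_lit 19806242017411) .leaf) (nat_lit 19806242156547) (.node .leaf (nat_lit 19806245910528) .leaf)) (nat_lit 19806246033536) (.node (.node .leaf (nat_lit 19806246172800) .leaf) (nat_lit 19806246295552) .leaf)) (nat_lit 20066087239682) (.node (.node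 (.node .leaf (nat_lit 20066087380994) .leaf) (nat_lit 20066087505922) .leaf) (nat_lit 20066087647234) (.node (.node .leaf (nat_lit 20066091503617) .leaf) (nat_lit 20066091644929) .leaf))) (nat_lit 20066091761793) (.node (.node (.node (.node .leaf (nat_lit 20066091903105) .leaf) (nat_lit 20068234727426) .leaf) (nat_lit 20068234868866) (.node (.node .leaf (nat_lit 20068234985474) .leaf) (nat_lit 20068235126914) .leaf)) (nat_lit 20068238987265) (.node (.node (.node .leaf (nat_lit 20068239128705) .leaf) (nat_lit 20068239245441) .leaf) (nat_lit 20068239386625) (.node (.node .leaf (nat_lit 20070382276737) .leaf) (nat_lit 20070382418049) .leaf)))) (nat_lit 20070382534657) (.node (.node (.node (.node (.node .leaf (nat_lit 20070382675969) .leaf) (nat_lit 20070386409474) .leaf) (nat_lit 20070386534402) (.node (.node .leaf (nat_lit 20070386675714) .leaf) (nat_lit 20070386800642) .leaf)) (nat_lit 20072529727617) (.node (.node (.node .leaf (nat_lit 20072529868801) .leaf) (nat_lit 20072529985537) .leaf) (nat_lit 20072530126977) (.node (.node .leaf (nat_lit 20072533864450) .leaf) (nat_lit 20072533989506) .leaf))) (nat_lit 20072534122498)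 (.node (.node (.node (.node .leaf (nat_lit 20072534247554) .leaf) (nat_lit 20074685741059) .leaf) (nat_lit 20074685773955) (.node (.node .leaf (nat_lit 20074685999107) .leaf) (nat_lit 20074686032003) .leaf)) (nat_lit 20074689880064) (.node (.node (.node .leaf (nat_lit 20074689912960) .leaf) (nat_lit 20074690146432) .leaf) (nat_lit 20074690179072) (.node (.node .leaf (nat_lit 20076833013763) .leaf) (nat_lit 20076833046659) .leaf))))) (nat_lit 20076833280003) (.node (.node (.node (.node (.node (.node .leaf (nat_lit 20076833312899) .leaf) (nat_lit 20076837292032) (.node .leaf (nat_lit 20076837324928) .leaf)) (nat_lit 20076837558400) (.node (.node .leaf (nat_lit 20076837591040) .leaf) (nat_lit 20078980524032) .leaf)) (nat_lit 20078980556928) (.node (.node (.node .leaf (nat_lit 20078980790400) .leaf) (nat_lit 20078980823040) .leaf) (nat_lit 20078984761475) (.node (.node .leaf (nat_lit 20078984794115) .leaf) (nat_lit 20078985019523) .leaf))) (nat_lit 20078985052163) (.node (.node (.node (.node .leaf (nat_lit 20081128194048) .leaf) (nat_lit 20081128226944) .leaf) (nat_lit 20081128460416) (.node (.node .leaf (nat_lit 20081128493056)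 .leaf) (nat_lit 20081132316803) .leaf)) (nat_lit 20081132349443) (.node (.node (.node .leaf (nat_lit 20081132583043) .leaf) (nat_lit 20081132615683) .leaf) (nat_lit 20340965324802) (.node (.node .leaf (nat_lit 20340965357570) .leaf) (nat_lit 20340965578754) .leaf)))) (nat_lit 20340965611522) (.node (.node (.node (.node (.node .leaf (nat_lit 20340969447425) .leaf) (nat_lit 20340969480193) .leaf) (nat_lit 20340969701505) (.node (.node .leaf (nat_lit 20340969734273) .leaf) (nat_lit 20343112597505) .leaf)) (nat_lit 20343112630273) (.node (.node (.node .leaf (nat_lit 20343112867969) .leaf) (nat_lit 20343112900737) .leaf) (nat_lit 20343116859394) (.node (.node .leaf (nat_lit 20343116892162) .leaf) (nat_lit 20343117129730) .leaf))) (nat_lit 20343117162498) (.node (.node (.node (.node .leaf (nat_lit 20345260284034) .leaf) (nat_lit 20345260316802) .leaf) (nat_lit 20345260554370) (.node (.node .leaf (nat_lit 20345260587138) .leaf) (nat_lit 20345264414721) .leaf)) (nat_lit 20345264447489) (.node (.node (.node .leaf (nat_lit 20345264668801) .leaf) (nat_lit 20345264701569) .leaf) (nat_lit 20347407564801) (.node (.node .leaf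 (nat_lit 20347407597569) .leaf) (nat_lit 20347407835265) .leaf)))))) (nat_lit 20347407868033) (.node (.node (.node (.node (.node (.node (.node .leaf (nat_lit 20347411835010) .leaf) (nat_lit 20347411867778) (.node .leaf (nat_lit 20347412088962) .leaf)) (nat_lit 20347412121730) (.node (.node .leaf (nat_lit 20349571930243) .leaf) (nat_lit 20349572036611) .leaf)) (nat_lit 20349572200579) (.node (.node (.node .leaf (nat_lit 20349572290563) .leaf) (nat_lit 20349576071296) .leaf) (nat_lit 20349576177664) (.node (.node .leaf (nat_lit 20349576341504) .leaf) (nat_lit 20349576431744) .leaf))) (nat_lit 20351719391232) (.node (.node (.node (.node .leaf (nat_lit 20351719563264) .leaf) (nat_lit 20351719661696) .leaf) (nat_lit 20351719817344) (.node (.node .leaf (nat_lit 20351723503619) .leaf) (nat_lit 20351723675651) .leaf)) (nat_lit 20351723773955) (.node (.node (.node .leaf (nat_lit 20351723929603) .leaf) (nat_lit 20353866897411) .leaf) (nat_lit 20353867004035) (.node (.node .leaf (nat_lit 20353867167747) .leaf) (nat_lit 20353867257987) .leaf)))) (nat_lit 20353871046784) (.node (.node (.node (.node (.node .leaf (nat_lit 20353871136768)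 .leaf) (nat_lit 20353871300608) .leaf) (nat_lit 20353871407232) (.node (.node .leaf (nat_lit 20356014399488) .leaf) (nat_lit 20356014489600) .leaf)) (nat_lit 20356014653568) (.node (.node (.node .leaf (nat_lit 20356014760064) .leaf) (nat_lit 20356018503811) .leaf) (nat_lit 20356018610307) (.node (.node .leaf (nat_lit 20356018774147) .leaf) (nat_lit 20356018864259) .leaf))) (nat_lit 20615843125250) (.node (.node (.node (.node .leaf (nat_lit 20615843229698) .leaf) (nat_lit 20615843391490) .leaf) (nat_lit 20615843479554) (.node (.node .leaf (nat_lit 20615847247873) .leaf) (nat_lit 20615847356417) .leaf)) (nat_lit 20615847522433) (.node (.node (.node .leaf (nat_lit 20615847614593) .leaf) (nat_lit 20617990504449) .leaf) (nat_lit 20617990678657) (.node (.node .leaf (nat_lit 20617990779009) .leaf) (nat_lit 20617990936577) .leaf))))) (nat_lit 20617994766338) (.node (.node (.node (.node (.node (.node .leaf (nat_lit 20617994936450) .leaf) (nat_lit 20617995040770) .leaf) (nat_lit 20617995194498) (.node (.node .leaf (nat_lit 20620137988097) .leaf) (nat_lit 20620138162177) .leaf)) (nat_lit 20620138262657) (.node (.node (.node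 .leaf (nat_lit 20620138420353) .leaf) (nat_lit 20620142262402) .leaf) (nat_lit 20620142416002) (.node (.node .leaf (nat_lit 20620142512258) .leaf) (nat_lit 20620142682242) .leaf))) (nat_lit 20622285547650) (.node (.node (.node (.node .leaf (nat_lit 20622285701122) .leaf) (nat_lit 20622285805698) .leaf) (nat_lit 20622285975554) (.node (.node .leaf (nat_lit 20622289666049) .leaf) (nat_lit 20622289840257) .leaf)) (nat_lit 20622289940609) (.node (.node (.node .leaf (nat_lit 20622290098177) .leaf) (nat_lit 20624458330115) .leaf) (nat_lit 20624458363011) (.node (.node .leaf (nat_lit 20624458579971) .leaf) (nat_lit 20624458612867) .leaf)))) (nat_lit 20624462471168) (.node (.node (.node (.node (.node .leaf (nat_lit 20624462504064) .leaf) (nat_lit 20624462729344) .leaf) (nat_lit 20624462761984) (.node (.node .leaf (nat_lit 20626605686784) .leaf) (nat_lit 20626605719680) .leaf)) (nat_lit 20626605961344) (.node (.node (.node .leaf (nat_lit 20626605993984) .leaf) (nat_lit 20626609799171) .leaf) (nat_lit 20626609832067) (.node (.node .leaf (nat_lit 20626610073603) .leaf) (nat_lit 20626610106499) .leaf))) (nat_lit 20628753115136)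 (.node (.node (.node (.node .leaf (nat_lit 20628753148032) .leaf) (nat_lit 20628753373312) .leaf) (nat_lit 20628753405952) (.node (.node .leaf (nat_lit 20628757354627) .leaf) (nat_lit 20628757387267) .leaf)) (nat_lit 20628757620867) (.node (.node (.node .leaf (nat_lit 20628757653507) .leaf) (nat_lit 20630900713603) .leaf) (nat_lit 20630900746243) (.node (.node .leaf (nat_lit 20630900971651) .leaf) (nat_lit 20630901004291) .leaf))))))))
def t0_10 : BT := (.node (.node (.node (.node (.node (.node (.node (.node (.node .leaf (nat_lit 20630905014400) .leaf) (nat_lit 20630905256064) (.node .leaf (nat_lit 20630905288704) .leaf)) (nat_lit 21036749850755) (.node (.node .leaf (nat_lit 21036750024707) .leaf) (nat_lit 21036750129283) .leaf)) (nat_lit 21036750303235) (.node (.node (.node .leaf (nat_lit 21036754129024) .leaf) (nat_lit 21036754167808) .leaf) (nat_lit 21036754374656) (.node (.node .leaf (nat_lit 21036754413696) .leaf) (nat_lit 21038905688067) .leaf))) (nat_lit 21038905931779) (.node (.node (.node (.node .leaf (nat_lit 21038905966595) .leaf) (nat_lit 21038906210307) .leaf) (nat_lit 21038909966336) (.node (.node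 .leaf (nat_lit 21038910074880) .leaf) (nat_lit 21038910212224) .leaf)) (nat_lit 21038910320768) (.node (.node (.node .leaf (nat_lit 21041061560323) .leaf) (nat_lit 21041061804035) .leaf) (nat_lit 21041061838851) (.node (.node .leaf (nat_lit 21041062082563) .leaf) (nat_lit 21041065851008) .leaf)))) (nat_lit 21041065934976) (.node (.node (.node (.node (.node .leaf (nat_lit 21041066096640) .leaf) (nat_lit 21041066180608) .leaf) (nat_lit 21043217432579) (.node (.node .leaf (nat_lit 21043217676419) .leaf) (nat_lit 21043217711107) .leaf)) (nat_lit 21043217954947) (.node (.node (.node .leaf (nat_lit 21043221719168) .leaf) (nat_lit 21043221811200) .leaf) (nat_lit 21043221964800) (.node (.node .leaf (nat_lit 21043222057088) .leaf) (nat_lit 21303037822978) .leaf))) (nat_lit 21303037999106) (.node (.node (.node (.node .leaf (nat_lit 21303038105602) .leaf) (nat_lit 21303038273538) .leaf) (nat_lit 21303042086913) (.node (.node .leaf (nat_lit 21303042123777) .leaf) (nat_lit 21303042361473) .leaf)) (nat_lit 21303042406529) (.node (.node (.node .leaf (nat_lit 21305193725954) .leaf) (nat_lit 21305193836674) .leaf) (nat_lit 21305194008578)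 (.node (.node .leaf (nat_lit 21305194111106) .leaf) (nat_lit 21305197854721) .leaf))))) (nat_lit 21305198096513) (.node (.node (.node (.node (.node (.node .leaf (nat_lit 21305198137473) .leaf) (nat_lit 21305198370817) (.node .leaf (nat_lit 21307349567489) .leaf)) (nat_lit 21307349743745) (.node (.node .leaf (nat_lit 21307349850241) .leaf) (nat_lit 21307350018049) .leaf)) (nat_lit 21307353839746) (.node (.node (.node .leaf (nat_lit 21307353860098) .leaf) (nat_lit 21307354114178) .leaf) (nat_lit 21307354142722) (.node (.node .leaf (nat_lit 21309505509505) .leaf) (nat_lit 21309505546369) .leaf))) (nat_lit 21309505783809) (.node (.node (.node (.node .leaf (nat_lit 21309505828865) .leaf) (nat_lit 21309509646338) .leaf) (nat_lit 21309509797890) (.node (.node .leaf (nat_lit 21309509920770) .leaf) (nat_lit 21309510080514) .leaf)) (nat_lit 21577915729922) (.node (.node (.node .leaf (nat_lit 21577915936770) .leaf) (nat_lit 21577916016642) .leaf) (nat_lit 21577916207106) (.node (.node .leaf (nat_lit 21577919991809) .leaf) (nat_lit 21577920063489) .leaf)))) (nat_lit 21577920278657) (.node (.node (.node (.node (.node .leaf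 (nat_lit 21577920333953) .leaf) (nat_lit 21580071602177) .leaf) (nat_lit 21580071809153) (.node (.node .leaf (nat_lit 21580071889025) .leaf) (nat_lit 21580072079361) .leaf)) (nat_lit 21580075859970) (.node (.node (.node .leaf (nat_lit 21580075939970) .leaf) (nat_lit 21580076146690) .leaf) (nat_lit 21580076210306) (.node (.node .leaf (nat_lit 21582227519618) .leaf) (nat_lit 21582227570690) .leaf))) (nat_lit 21582227789954) (.node (.node (.node (.node .leaf (nat_lit 21582227857410) .leaf) (nat_lit 21582231633921) .leaf) (nat_lit 21582231844993) (.node (.node .leaf (nat_lit 21582231920769) .leaf) (nat_lit 21582232115201) .leaf)) (nat_lit 21584383414401) (.node (.node (.node .leaf (nat_lit 21584383486081) .leaf) (nat_lit 21584383700993) .leaf) (nat_lit 21584383756289) (.node (.node .leaf (nat_lit 21584387553282) .leaf) (nat_lit 21584387735554) .leaf)))))) (nat_lit 21584387823618) (.node (.node (.node (.node (.node (.node (.node .leaf (nat_lit 21584388022274) .leaf) (nat_lit 21861408737411) (.node .leaf (nat_lit 21861408946307) .leaf)) (nat_lit 21861409028227) (.node (.node .leaf (nat_lit 21861409212547) .leaf) (nat_lit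 21861413017728) .leaf)) (nat_lit 21861413087360) (.node (.node (.node .leaf (nat_lit 21861413267456) .leaf) (nat_lit 21861413328896) .leaf) (nat_lit 21863547914368) (.node (.node .leaf (nat_lit 21863547992064) .leaf) (nat_lit 21863548172288) .leaf))) (nat_lit 21863548225664) (.node (.node (.node (.node .leaf (nat_lit 21863552026755) .leaf) (nat_lit 21863552235523) .leaf) (nat_lit 21863552317571) (.node (.node .leaf (nat_lit 21863552501763) .leaf) (nat_lit 21865686986880) .leaf)) (nat_lit 21865687040000) (.node (.node (.node .leaf (nat_lit 21865687220224) .leaf) (nat_lit 21865687298176) .leaf) (nat_lit 21865691086851) (.node (.node .leaf (nat_lit 21865691295875) .leaf) (nat_lit 21865691377667) .leaf)))) (nat_lit 21865691562115) (.node (.node (.node (.node (.node .leaf (nat_lit 21867826022531) .leaf) (nat_lit 21867826231427) .leaf) (nat_lit 21867826313347) (.node (.node .leaf (nat_lit 21867826497667) .leaf) (nat_lit 21867830306816) .leaf)) (nat_lit 21867830368256) (.node (.node (.node .leaf (nat_lit 21867830548608) .leaf) (nat_lit 21867830618240) .leaf) (nat_lit 21990232621058) (.node (.node .leaf (nat_lit 21990232702978)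 .leaf) (nat_lit 21990232854530) .leaf))) (nat_lit 21990233067522) (.node (.node (.node (.node .leaf (nat_lit 21990240944129) .leaf) (nat_lit 21990241157121) .leaf) (nat_lit 21990241308801) (.node (.node .leaf (nat_lit 21990241390721) .leaf) (nat_lit 21992380043266) .leaf)) (nat_lit 21992380256386) (.node (.node (.node .leaf (nat_lit 21992380399618) .leaf) (nat_lit 21992380481666) .leaf) (nat_lit 21992388493313) (.node (.node .leaf (nat_lit 21992388575361) .leaf) (nat_lit 21992388726913) .leaf))))) (nat_lit 21992388939777) (.node (.node (.node (.node (.node (.node .leaf (nat_lit 21994527588483) .leaf) (nat_lit 21994527670275) .leaf) (nat_lit 21994527821827) (.node (.node .leaf (nat_lit 21994528034947) .leaf) (nat_lit 21994535921664) .leaf)) (nat_lit 21994536134784) (.node (.node (.node .leaf (nat_lit 21994536286208) .leaf) (nat_lit 21994536368256) .leaf) (nat_lit 21996675043331) (.node (.node .leaf (nat_lit 21996675256323) .leaf) (nat_lit 21996675334275) .leaf))) (nat_lit 21996675416195) (.node (.node (.node (.node .leaf (nat_lit 21996683503744) .leaf) (nat_lit 21996683585664) .leaf) (nat_lit 21996683671680) (.node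 (.node .leaf (nat_lit 21996683884672) .leaf) (nat_lit 22273700397057) .leaf)) (nat_lit 22273700612097) (.node (.node (.node .leaf (nat_lit 22273700757505) .leaf) (nat_lit 22273700841473) .leaf) (nat_lit 22273708867586) (.node (.node .leaf (nat_lit 22273708918786) .leaf) (nat_lit 22273709097090) .leaf)))) (nat_lit 22273709279362) (.node (.node (.node (.node (.node .leaf (nat_lit 22275847880705) .leaf) (nat_lit 22275848095873) .leaf) (nat_lit 22275848241153) (.node (.node .leaf (nat_lit 22275848325249) .leaf) (nat_lit 22275856355330) .leaf)) (nat_lit 22275856406658) (.node (.node (.node .leaf (nat_lit 22275856584834) .leaf) (nat_lit 22275856766978) .leaf) (nat_lit 22277999650944) (.node (.node .leaf (nat_lit 22277999697920) .leaf) (nat_lit 22277999880192) .leaf))) (nat_lit 22278000058496) (.node (.node (.node (.node .leaf (nat_lit 22278007947267) .leaf) (nat_lit 22278008162435) .leaf) (nat_lit 22278008307715) (.node (.node .leaf (nat_lit 22278008391811) .leaf) (nat_lit 22280147167232) .leaf)) (nat_lit 22280147214336) (.node (.node (.node .leaf (nat_lit 22280147331200) .leaf) (nat_lit 22280147509376) .leaf) (nat_lit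 22280155467907) (.node (.node .leaf (nat_lit 22280155682947) .leaf) (nat_lit 22280155762819) .leaf))))))) (nat_lit 22280155846787) (.node (.node (.node (.node (.node (.node (.node (.node .leaf (nat_lit 22686034118658) .leaf) (nat_lit 22686034202754) (.node .leaf (nat_lit 22686034358402) .leaf)) (nat_lit 22686034503682) (.node (.node .leaf (nat_lit 22686042423297) .leaf) (nat_lit 22686042675329) .leaf)) (nat_lit 22686042798081) (.node (.node (.node .leaf (nat_lit 22686042841217) .leaf) (nat_lit 22688185829506) .leaf) (nat_lit 22688185847938) (.node (.node .leaf (nat_lit 22688186003458) .leaf) (nat_lit 22688186214402) .leaf))) (nat_lit 22688194138241) (.node (.node (.node (.node .leaf (nat_lit 22688194316417) .leaf) (nat_lit 22688194439297) .leaf) (nat_lit 22688194556033) (.node (.node .leaf (nat_lit 22690329001987) .leaf) (nat_lit 22690329253891) .leaf)) (nat_lit 22690329376771) (.node (.node (.node .leaf (nat_lit 22690329419779) .leaf) (nat_lit 22690337480832) .leaf) (nat_lit 22690337568896) (.node (.node .leaf (nat_lit 22690337708032) .leaf) (nat_lit 22690337849344) .leaf)))) (nat_lit 22692480679939) (.node (.node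 (.node (.node (.node .leaf (nat_lit 22692480931971) .leaf) (nat_lit 22692481054723) .leaf) (nat_lit 22692481097859) (.node (.node .leaf (nat_lit 22692489162880) .leaf) (nat_lit 22692489242624) .leaf)) (nat_lit 22692489381888) (.node (.node (.node .leaf (nat_lit 22692489531520) .leaf) (nat_lit 22952305297410) .leaf) (nat_lit 22952305416194) (.node (.node .leaf (nat_lit 22952305532930) .leaf) (nat_lit 22952305717250) .leaf))) (nat_lit 22952313618433) (.node (.node (.node (.node .leaf (nat_lit 22952313868289) .leaf) (nat_lit 22952313989249) .leaf) (nat_lit 22952314042497) (.node (.node .leaf (nat_lit 22954456940546) .leaf) (nat_lit 22954457124994) .leaf)) (nat_lit 22954457245698) (.node (.node (.node .leaf (nat_lit 22954457364610) .leaf) (nat_lit 22954465400833) .leaf) (nat_lit 22954465446017) (.node (.node .leaf (nat_lit 22954465570945) .leaf) (nat_lit 22954465812481) .leaf))))) (nat_lit 22956604496003) (.node (.node (.node (.node (.node (.node .leaf (nat_lit 22956604540931) .leaf) (nat_lit 22956604665859) (.node .leaf (nat_lit 22956604907651) .leaf)) (nat_lit 22956612827136) (.node (.node .leaf (nat_lit 22956613003392)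 .leaf) (nat_lit 22956613111808) .leaf)) (nat_lit 22956613222528) (.node (.node (.node .leaf (nat_lit 22958747717635) .leaf) (nat_lit 22958747893763) .leaf) (nat_lit 22958748022915) (.node (.node .leaf (nat_lit 22958748133507) .leaf) (nat_lit 22958756176000) .leaf))) (nat_lit 22958756229248) (.node (.node (.node (.node .leaf (nat_lit 22958756333696) .leaf) (nat_lit 22958756583552) .leaf) (nat_lit 23089744248834) (.node (.node .leaf (nat_lit 23089744287746) .leaf) (nat_lit 23089744461826) .leaf)) (nat_lit 23089744500738) (.node (.node (.node .leaf (nat_lit 23089752571905) .leaf) (nat_lit 23089752610817) .leaf) (nat_lit 23089752916097) (.node (.node .leaf (nat_lit 23089752955009) .leaf) (nat_lit 23091891814529) .leaf)))) (nat_lit 23091891853441) (.node (.node (.node (.node (.node .leaf (nat_lit 23091892125697) .leaf) (nat_lit 23091892164609) .leaf) (nat_lit 23091900272770) (.node (.node .leaf (nat_lit 23091900303490) .leaf) (nat_lit 23091900452994) .leaf)) (nat_lit 23091900483714) (.node (.node (.node .leaf (nat_lit 23094055927811) .leaf) (nat_lit 23094055966723) .leaf) (nat_lit 23094056272003) (.node (.node .leaf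 (nat_lit 23094056310915) .leaf) (nat_lit 23094064392320) .leaf))) (nat_lit 23094064427136) (.node (.node (.node (.node .leaf (nat_lit 23094064605312) .leaf) (nat_lit 23094064640128) .leaf) (nat_lit 23096203638784) (.node (.node .leaf (nat_lit 23096203665408) .leaf) (nat_lit 23096203819008) .leaf)) (nat_lit 23096203845632) (.node (.node (.node .leaf (nat_lit 23096211947651) .leaf) (nat_lit 23096211986563) .leaf) (nat_lit 23096212258819) (.node (.node .leaf (nat_lit 23096212297731) .leaf) (nat_lit 23098334173314) .leaf)))))) (nat_lit 23098334248962) (.node (.node (.node (.node (.node (.node (.node .leaf (nat_lit 23098334445570) .leaf) (nat_lit 23098334632066) (.node .leaf (nat_lit 23098342611073) .leaf)) (nat_lit 23098342719489) (.node (.node .leaf (nat_lit 23098342785153) .leaf) (nat_lit 23098342938625) .leaf)) (nat_lit 23100481601537) (.node (.node (.node .leaf (nat_lit 23100481787905) .leaf) (nat_lit 23100481984513) .leaf) (nat_lit 23100482060289) (.node (.node .leaf (nat_lit 23100490076162) .leaf) (nat_lit 23100490221570) .leaf))) (nat_lit 23100490287234) (.node (.node (.node (.node .leaf (nat_lit 23100490403970)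 .leaf) (nat_lit 23102645928067) .leaf) (nat_lit 23102646114307) (.node (.node .leaf (nat_lit 23102646179971) .leaf) (nat_lit 23102646255619) .leaf)) (nat_lit 23102654277632) (.node (.node (.node .leaf (nat_lit 23102654427264) .leaf) (nat_lit 23102654623872) .leaf) (nat_lit 23102654736384) (.node (.node .leaf (nat_lit 23104793442432) .leaf) (nat_lit 23104793583744) .leaf)))) (nat_lit 23104793649152) (.node (.node (.node (.node (.node .leaf (nat_lit 23104793769984) .leaf) (nat_lit 23104801734659) .leaf) (nat_lit 23104801921027) (.node (.node .leaf (nat_lit 23104802117635) .leaf) (nat_lit 23104802193411) .leaf)) (nat_lit 23364622129154) (.node (.node (.node .leaf (nat_lit 23364622239746) .leaf) (nat_lit 23364622438402) .leaf) (nat_lit 23364622581762) (.node (.node .leaf (nat_lit 23364630583297) .leaf) (nat_lit 23364630693889) .leaf))) (nat_lit 23364630761601) (.node (.node (.node (.node .leaf (nat_lit 23364630904961) .leaf) (nat_lit 23366769639425) .leaf) (nat_lit 23366769823873) (.node (.node .leaf (nat_lit 23366769887361) .leaf) (nat_lit 23366769973249) .leaf)) (nat_lit 23366777966594) (.node (.node (.node .leaf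 (nat_lit 23366778142850) .leaf) (nat_lit 23366778345474) .leaf) (nat_lit 23366778423426) (.node (.node .leaf (nat_lit 23368938133635) .leaf) (nat_lit 23368938244227) .leaf))))) (nat_lit 23368938311683) (.node (.node (.node (.node (.node (.node .leaf (nat_lit 23368938455043) .leaf) (nat_lit 23368946462720) .leaf) (nat_lit 23368946573312) (.node (.node .leaf (nat_lit 23368946776064) .leaf) (nat_lit 23368946919424) .leaf)) (nat_lit 23371085553664) (.node (.node (.node .leaf (nat_lit 23371085672576) .leaf) (nat_lit 23371085867008) .leaf) (nat_lit 23371086018688) (.node (.node .leaf (nat_lit 23371094005891) .leaf) (nat_lit 23371094116355) .leaf))) (nat_lit 23371094183939) (.node (.node (.node (.node .leaf (nat_lit 23371094327427) .leaf) (nat_lit 23373212024833) .leaf) (nat_lit 23373212063873) (.node (.node .leaf (nat_lit 23373212373121) .leaf) (nat_lit 23373212403713) .leaf)) (nat_lit 23373220495362) (.node (.node (.node .leaf (nat_lit 23373220534402) .leaf) (nat_lit 23373220679682) .leaf) (nat_lit 23373220710530) (.node (.node .leaf (nat_lit 23375359645826) .leaf) (nat_lit 23375359672322) .leaf)))) (nat_lit 23375359985794)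 (.node (.node (.node (.node (.node .leaf (nat_lit 23375360020482) .leaf) (nat_lit 23375368112257) .leaf) (nat_lit 23375368146945) (.node (.node .leaf (nat_lit 23375368296449) .leaf) (nat_lit 23375368323201) .leaf)) (nat_lit 23377528168576) (.node (.node (.node .leaf (nat_lit 23377528207360) .leaf) (nat_lit 23377528385664) .leaf) (nat_lit 23377528416256) (.node (.node .leaf (nat_lit 23377536501763) .leaf) (nat_lit 23377536536707) .leaf))) (nat_lit 23377536817283) (.node (.node (.node (.node .leaf (nat_lit 23377536843779) .leaf) (nat_lit 23379675512963) .leaf) (nat_lit 23379675551747) (.node (.node .leaf (nat_lit 23379675729923) .leaf) (nat_lit 23379675760771) .leaf)) (nat_lit 23379683866624) (.node (.node (.node .leaf (nat_lit 23379683893376) .leaf) (nat_lit 23379684173824) .leaf) (nat_lit 23379684208768) (.node (.node .leaf (nat_lit 23776939165698) .leaf) (nat_lit 23776939200514) .leaf))))))))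
def t0_11 : BT := (.node (.node (.node (.node (.node (.node (.node (.node (.node .leaf (nat_lit 23776939390978) .leaf) (nat_lit 23776947486721) (.node .leaf (nat_lit 23776947525633) .leaf)) (nat_lit 23776947808385) (.node (.node .leaf (nat_lit 23776947843201) .leaf) (nat_lit 23779090628609) .leaf)) (nat_lit 23779090667521) (.node (.node (.node .leaf (nat_lit 23779090983041) .leaf) (nat_lit 23779091017857) .leaf) (nat_lit 23779099088898) (.node (.node .leaf (nat_lit 23779099115522) .leaf) (nat_lit 23779099308034) .leaf))) (nat_lit 23779099338754) (.node (.node (.node (.node .leaf (nat_lit 23781250842627) .leaf) (nat_lit 23781250881539) .leaf) (nat_lit 23781251164291) (.node (.node .leaf (nat_lit 23781251199107) .leaf) (nat_lit 23781259305088) .leaf)) (nat_lit 23781259344000) (.node (.node (.node .leaf (nat_lit 23781259479168) .leaf) (nat_lit 23781259513984) .leaf) (nat_lit 23783402451072) (.node (.node .leaf (nat_lit 23783402481792) .leaf) (nat_lit 23783402657920) .leaf)))) (nat_lit 23783402684544) (.node (.node (.node (.node (.node .leaf (nat_lit 23783410761731) .leaf) (nat_lit 23783410800643) .leaf) (nat_lit 23783411116163)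 (.node (.node .leaf (nat_lit 23783411150979) .leaf) (nat_lit 23785545746434) .leaf)) (nat_lit 23785545861122) (.node (.node (.node .leaf (nat_lit 23785545971842) .leaf) (nat_lit 23785546119298) .leaf) (nat_lit 23785554051073) (.node (.node .leaf (nat_lit 23785554198529) .leaf) (nat_lit 23785554440193) .leaf))) (nat_lit 23785554554881) (.node (.node (.node (.node .leaf (nat_lit 23787697408001) .leaf) (nat_lit 23787697555585) .leaf) (nat_lit 23787697666049) (.node (.node .leaf (nat_lit 23787697780865) .leaf) (nat_lit 23787705749506) .leaf)) (nat_lit 23787705864322) (.node (.node (.node .leaf (nat_lit 23787706097794) .leaf) (nat_lit 23787706245122) .leaf) (nat_lit 23789823891587) (.node (.node .leaf (nat_lit 23789824039043) .leaf) (nat_lit 23789824206979) .leaf))))) (nat_lit 23789824321667) (.node (.node (.node (.node (.node (.node .leaf (nat_lit 23789832370176) .leaf) (nat_lit 23789832484864) (.node .leaf (nat_lit 23789832505472) .leaf)) (nat_lit 23789832652928) (.node (.node .leaf (nat_lit 23791975561216) .leaf) (nat_lit 23791975676032) .leaf)) (nat_lit 23791975893120) (.node (.node (.node .leaf (nat_lit 23791976040448)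 .leaf) (nat_lit 23791983986819) .leaf) (nat_lit 23791984134147) (.node (.node .leaf (nat_lit 23791984244867) .leaf) (nat_lit 23791984359427) .leaf))) (nat_lit 24051816925186) (.node (.node (.node (.node .leaf (nat_lit 24051817070594) .leaf) (nat_lit 24051817179138) .leaf) (nat_lit 24051817291778) (.node (.node .leaf (nat_lit 24051825246209) .leaf) (nat_lit 24051825395713) .leaf)) (nat_lit 24051825631361) (.node (.node (.node .leaf (nat_lit 24051825748097) .leaf) (nat_lit 24053968535553) .leaf) (nat_lit 24053968685185) (.node (.node .leaf (nat_lit 24053968920705) .leaf) (nat_lit 24053969037313) .leaf)))) (nat_lit 24053976995842) (.node (.node (.node (.node (.node .leaf (nat_lit 24053977141378) .leaf) (nat_lit 24053977249794) .leaf) (nat_lit 24053977362562) (.node (.node .leaf (nat_lit 24056132835331) .leaf) (nat_lit 24056132980739) .leaf)) (nat_lit 24056133154947) (.node (.node (.node .leaf (nat_lit 24056133267587) .leaf) (nat_lit 24056141297792) .leaf) (nat_lit 24056141443200) (.node (.node .leaf (nat_lit 24056141469824) .leaf) (nat_lit 24056141582464) .leaf))) (nat_lit 24058276163712) (.node (.node (.node (.node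 .leaf (nat_lit 24058276313088) .leaf) (nat_lit 24058276401280) .leaf) (nat_lit 24058276517888) (.node (.node .leaf (nat_lit 24058284474371) .leaf) (nat_lit 24058284624003) .leaf)) (nat_lit 24058284859523) (.node (.node (.node .leaf (nat_lit 24058284976131) .leaf) (nat_lit 24060423718913) .leaf) (nat_lit 24060423753857) (.node (.node .leaf (nat_lit 24060424040577) .leaf) (nat_lit 24060424071169) .leaf)))))) (nat_lit 24060432154626) (.node (.node (.node (.node (.node (.node (.node .leaf (nat_lit 24060432193666) .leaf) (nat_lit 24060432381954) (.node .leaf (nat_lit 24060432408706) .leaf)) (nat_lit 24062575267842) (.node (.node .leaf (nat_lit 24062575298690) .leaf) (nat_lit 24062575585282) .leaf)) (nat_lit 24062575620226) (.node (.node (.node .leaf (nat_lit 24062583703553) .leaf) (nat_lit 24062583738497) .leaf) (nat_lit 24062583926913) (.node (.node .leaf (nat_lit 24062583957505) .leaf) (nat_lit 24064706044032) .leaf))) (nat_lit 24064706082816) (.node (.node (.node (.node .leaf (nat_lit 24064706222208) .leaf) (nat_lit 24064706248704) .leaf) (nat_lit 24064714342403) (.node (.node .leaf (nat_lit 24064714381443) .leaf)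 (nat_lit 24064714700931) .leaf)) (nat_lit 24064714727427) (.node (.node (.node .leaf (nat_lit 24066849456131) .leaf) (nat_lit 24066849495171) .leaf) (nat_lit 24066849650819) (.node (.node .leaf (nat_lit 24066849677315) .leaf) (nat_lit 24066857775232) .leaf)))) (nat_lit 24066857805824) (.node (.node (.node (.node (.node .leaf (nat_lit 24066858109056) .leaf) (nat_lit 24066858143744) .leaf) (nat_lit 24189255847938) (.node (.node .leaf (nat_lit 24189256036354) .leaf) (nat_lit 24189256171522) .leaf)) (nat_lit 24189256228866) (.node (.node (.node .leaf (nat_lit 24189268492289) .leaf) (nat_lit 24189268549633) .leaf) (nat_lit 24189268693121) (.node (.node .leaf (nat_lit 24189268881537) .leaf) (nat_lit 24191403360258) .leaf))) (nat_lit 24191403483266) (.node (.node (.node (.node .leaf (nat_lit 24191403560962) .leaf) (nat_lit 24191403815042) .leaf) (nat_lit 24191415877633) (.node (.node .leaf (nat_lit 24191416131713) .leaf) (nat_lit 24191416209537) .leaf)) (nat_lit 24191416332289) (.node (.node (.node .leaf (nat_lit 24193550815235) .leaf) (nat_lit 24193551003779) .leaf) (nat_lit 24193551138947) (.node (.node .leaf (nat_lit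 24193551196163) .leaf) (nat_lit 24193563469952) .leaf))))) (nat_lit 24193563510784) (.node (.node (.node (.node (.node (.node .leaf (nat_lit 24193563670656) .leaf) (nat_lit 24193563842560) .leaf) (nat_lit 24195698360451) (.node (.node .leaf (nat_lit 24195698417795) .leaf) (nat_lit 24195698561027) .leaf)) (nat_lit 24195698749443) (.node (.node (.node .leaf (nat_lit 24195710887936) .leaf) (nat_lit 24195711059968) .leaf) (nat_lit 24195711219712) (.node (.node .leaf (nat_lit 24195711260672) .leaf) (nat_lit 24472727963776) .leaf))) (nat_lit 24472727986176) (.node (.node (.node (.node .leaf (nat_lit 24472728160256) .leaf) (nat_lit 24472728313984) .leaf) (nat_lit 24472732078211) (.node (.node .leaf (nat_lit 24472732268547) .leaf) (nat_lit 24472732405891) .leaf)) (nat_lit 24472732465155) (.node (.node (.node .leaf (nat_lit 24474875414528) .leaf) (nat_lit 24474875502592) .leaf) (nat_lit 24474875611264) (.node (.node .leaf (nat_lit 24474875830400) .leaf) (nat_lit 24474879524867) .leaf)))) (nat_lit 24474879780867) (.node (.node (.node (.node (.node .leaf (nat_lit 24474879852547) .leaf) (nat_lit 24474879977475) .leaf) (nat_lit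 24477018619905) (.node (.node .leaf (nat_lit 24477018875905) .leaf) (nat_lit 24477018947585) .leaf)) (nat_lit 24477019072513) (.node (.node (.node .leaf (nat_lit 24477031297154) .leaf) (nat_lit 24477031372930) .leaf) (nat_lit 24477031493634) (.node (.node .leaf (nat_lit 24477031700482) .leaf) (nat_lit 24479166103553) .leaf))) (nat_lit 24479166359681) (.node (.node (.node (.node .leaf (nat_lit 24479166431233) .leaf) (nat_lit 24479166556289) .leaf) (nat_lit 24479178776706) (.node (.node .leaf (nat_lit 24479178852354) .leaf) (nat_lit 24479178973186) .leaf)) (nat_lit 24479179180162) (.node (.node (.node .leaf (nat_lit 24885057327235) .leaf) (nat_lit 24885057546371) .leaf) (nat_lit 24885057661059) (.node (.node .leaf (nat_lit 24885057736835) .leaf) (nat_lit 24885069987968) .leaf))))))) (nat_lit 24885070051456) (.node (.node (.node (.node (.node (.node (.node (.node .leaf (nat_lit 24885070198784) .leaf) (nat_lit 24885070364672) (.node .leaf (nat_lit 24887209005187) .leaf)) (nat_lit 24887209224195) (.node (.node .leaf (nat_lit 24887209339011) .leaf) (nat_lit 24887209414659) .leaf)) (nat_lit 24887213281408) (.node (.node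 (.node .leaf (nat_lit 24887213336576) .leaf) (nat_lit 24887213484032) .leaf) (nat_lit 24887213658240) (.node (.node .leaf (nat_lit 24889352353922) .leaf) (nat_lit 24889352388610) .leaf))) (nat_lit 24889352536066) (.node (.node (.node (.node .leaf (nat_lit 24889352730754) .leaf) (nat_lit 24889364840449) .leaf) (nat_lit 24889365067905) (.node (.node .leaf (nat_lit 24889365182465) .leaf) (nat_lit 24889365250177) .leaf)) (nat_lit 24891504064514) (.node (.node (.node .leaf (nat_lit 24891504099330) .leaf) (nat_lit 24891504246914) .leaf) (nat_lit 24891504441474) (.node (.node .leaf (nat_lit 24891508166785) .leaf) (nat_lit 24891508385921) .leaf)))) (nat_lit 24891508500609) (.node (.node (.node (.node (.node .leaf (nat_lit 24891508576385) .leaf) (nat_lit 25151328522242) .leaf) (nat_lit 25151328739330) (.node (.node .leaf (nat_lit 25151328860162) .leaf) (nat_lit 25151328929794) .leaf)) (nat_lit 25151341168641) (.node (.node (.node .leaf (nat_lit 25151341262849) .leaf) (nat_lit 25151341371521) .leaf) (nat_lit 25151341580417) (.node (.node .leaf (nat_lit 25153480267778) .leaf) (nat_lit 25153480353922) .leaf))) (nat_lit 25153480470530)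 (.node (.node (.node (.node .leaf (nat_lit 25153480671362) .leaf) (nat_lit 25153484394497) .leaf) (nat_lit 25153484611713) (.node (.node .leaf (nat_lit 25153484732545) .leaf) (nat_lit 25153484802049) .leaf)) (nat_lit 25155627646979) (.node (.node (.node .leaf (nat_lit 25155627872387) .leaf) (nat_lit 25155627985027) .leaf) (nat_lit 25155628062723) (.node (.node .leaf (nat_lit 25155631919232) .leaf) (nat_lit 25155631988736) .leaf))))) (nat_lit 25155632109696) (.node (.node (.node (.node (.node (.node .leaf (nat_lit 25155632326656) .leaf) (nat_lit 25157771036803) (.node .leaf (nat_lit 25157771131011) .leaf)) (nat_lit 25157771239427) (.node (.node .leaf (nat_lit 25157771448323) .leaf) (nat_lit 25157783562240) .leaf)) (nat_lit 25157783771136) (.node (.node (.node .leaf (nat_lit 25157783879680) .leaf) (nat_lit 25157783973888) .leaf) (nat_lit 25426206431234) (.node (.node .leaf (nat_lit 25426206586882) .leaf) (nat_lit 25426206771202) .leaf))) (nat_lit 25426206894082) (.node (.node (.node (.node .leaf (nat_lit 25426219075585) .leaf) (nat_lit 25426219231233) .leaf) (nat_lit 25426219292801) (.node (.node .leaf (nat_lit 25426219415681)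 .leaf) (nat_lit 25428358170625) .leaf)) (nat_lit 25428358326401) (.node (.node (.node .leaf (nat_lit 25428358387841) .leaf) (nat_lit 25428358510593) .leaf) (nat_lit 25428362299394) (.node (.node .leaf (nat_lit 25428362455170) .leaf) (nat_lit 25428362647554) .leaf)))) (nat_lit 25428362770562) (.node (.node (.node (.node (.node .leaf (nat_lit 25430518237315) .leaf) (nat_lit 25430518392963) .leaf) (nat_lit 25430518454275) (.node (.node .leaf (nat_lit 25430518577155) .leaf) (nat_lit 25430530764800) .leaf)) (nat_lit 25430530904064) (.node (.node (.node .leaf (nat_lit 25430531104768) .leaf) (nat_lit 25430531211264) .leaf) (nat_lit 25432669829120) (.node (.node .leaf (nat_lit 25432669968512) .leaf) (nat_lit 25432670169088) .leaf))) (nat_lit 25432670275712) (.node (.node (.node (.node .leaf (nat_lit 25432674078851) .leaf) (nat_lit 25432674234371) .leaf) (nat_lit 25432674287619) (.node (.node .leaf (nat_lit 25432674410627) .leaf) (nat_lit 25434796552195) .leaf)) (nat_lit 25434796583043) (.node (.node (.node .leaf (nat_lit 25434796728323) .leaf) (nat_lit 25434796767363) .leaf) (nat_lit 25434809051136) (.node (.node .leaf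 (nat_lit 25434809086080) .leaf) (nat_lit 25434809399424) .leaf)))))) (nat_lit 25434809425920) (.node (.node (.node (.node (.node (.node (.node .leaf (nat_lit 25436948088832) .leaf) (nat_lit 25436948123776) (.node .leaf (nat_lit 25436948273280) .leaf)) (nat_lit 25436948299776) (.node (.node .leaf (nat_lit 25436952199171) .leaf) (nat_lit 25436952238211) .leaf)) (nat_lit 25436952547331) (.node (.node (.node .leaf (nat_lit 25436952578179) .leaf) (nat_lit 25439108096002) .leaf) (nat_lit 25439108135042) (.node (.node .leaf (nat_lit 25439108411522) .leaf) (nat_lit 25439108442114) .leaf))) (nat_lit 25439120724097) (.node (.node (.node (.node .leaf (nat_lit 25439120754689) .leaf) (nat_lit 25439120932993) .leaf) (nat_lit 25439120971777) (.node (.node .leaf (nat_lit 25441259905153) .leaf) (nat_lit 25441259943937) .leaf)) (nat_lit 25441260220545) (.node (.node (.node .leaf (nat_lit 25441260251137) .leaf) (nat_lit 25441264140290) .leaf) (nat_lit 25441264179330) (.node (.node .leaf (nat_lit 25441264357506) .leaf) (nat_lit 25441264388098) .leaf)))) (nat_lit 25701084526594) (.node (.node (.node (.node (.node .leaf (nat_lit 25701084553218)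 .leaf) (nat_lit 25701084706818) .leaf) (nat_lit 25701084733442) (.node (.node .leaf (nat_lit 25701097039873) .leaf) (nat_lit 25701097074689) .leaf)) (nat_lit 25701097351297) (.node (.node (.node .leaf (nat_lit 25701097386113) .leaf) (nat_lit 25703235977217) .leaf) (nat_lit 25703236016129) (.node (.node .leaf (nat_lit 25703236321409) .leaf) (nat_lit 25703236360321) .leaf))) (nat_lit 25703240237058) (.node (.node (.node (.node .leaf (nat_lit 25703240275970) .leaf) (nat_lit 25703240450050) .leaf) (nat_lit 25703240488962) (.node (.node .leaf (nat_lit 25705400395779) .leaf) (nat_lit 25705400430595) .leaf)) (nat_lit 25705400707203) (.node (.node (.node .leaf (nat_lit 25705400742019) .leaf) (nat_lit 25705404649600) .leaf) (nat_lit 25705404680320) (.node (.node .leaf (nat_lit 25705404829824) .leaf) (nat_lit 25705404860544) .leaf))))) (nat_lit 25707543603328) (.node (.node (.node (.node (.node (.node .leaf (nat_lit 25707543638144) .leaf) (nat_lit 25707543816320) .leaf) (nat_lit 25707543851136) (.node (.node .leaf (nat_lit 25707556110339) .leaf) (nat_lit 25707556149251) .leaf)) (nat_lit 25707556454531) (.node (.node (.node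 .leaf (nat_lit 25707556493443) .leaf) (nat_lit 25709678542976) .leaf) (nat_lit 25709678667904) (.node (.node .leaf (nat_lit 25709678723072) .leaf) (nat_lit 25709678880768) .leaf))) (nat_lit 25709682661507) (.node (.node (.node (.node .leaf (nat_lit 25709682815107) .leaf) (nat_lit 25709683005571) .leaf) (nat_lit 25709683126403) (.node (.node .leaf (nat_lit 25711821817987) .leaf) (nat_lit 25711821971459) .leaf)) (nat_lit 25711822030979) (.node (.node (.node .leaf (nat_lit 25711822151683) .leaf) (nat_lit 25711834349696) .leaf) (nat_lit 25711834474496) (.node (.node .leaf (nat_lit 25711834660864) .leaf) (nat_lit 25711834818688) .leaf)))) (nat_lit 25713986017409) (.node (.node (.node (.node (.node .leaf (nat_lit 25713986171009) .leaf) (nat_lit 25713986361473) .leaf) (nat_lit 25713986482305) (.node (.node .leaf (nat_lit 25713998686210) .leaf) (nat_lit 25713998790658) .leaf)) (nat_lit 25713998866562) (.node (.node (.node .leaf (nat_lit 25713999003778) .leaf) (nat_lit 25716137684994) .leaf) (nat_lit 25716137793666) (.node (.node .leaf (nat_lit 25716137996418) .leaf) (nat_lit 25716138137602) .leaf))) (nat_lit 25716141920385)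 (.node (.node (.node (.node .leaf (nat_lit 25716142077953) .leaf) (nat_lit 25716142133377) .leaf) (nat_lit 25716142258177) (.node (.node .leaf (nat_lit 25838523351042) .leaf) (nat_lit 25838523480066) .leaf)) (nat_lit 25838523578370) (.node (.node (.node .leaf (nat_lit 25838523645954) .leaf) (nat_lit 25838535874561) .leaf) (nat_lit 25838535991297) (.node (.node .leaf (nat_lit 25838536220801) .leaf) (nat_lit 25838536300673) .leaf))))))))
def t0_12 : BT := (.node (.node (.node (.node (.node (.node (.node (.node (.node .leaf (nat_lit 25840670931073) .leaf) (nat_lit 25840671094913) (.node .leaf (nat_lit 25840671227905) .leaf)) (nat_lit 25840683386882) (.node (.node .leaf (nat_lit 25840683577474) .leaf) (nat_lit 25840683610114) .leaf)) (nat_lit 25840683747458) (.node (.node (.node .leaf (nat_lit 25842834997251) .leaf) (nat_lit 25842835191811) .leaf) (nat_lit 25842835355779) (.node (.node .leaf (nat_lit 25842835488899) .leaf) (nat_lit 25842847658112) .leaf))) (nat_lit 25842847828096) (.node (.node (.node (.node .leaf (nat_lit 25842847860864) .leaf) (nat_lit 25842848018560) .leaf) (nat_lit 25844982554752) (.node (.node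 .leaf (nat_lit 25844982732800) .leaf) (nat_lit 25844982765696) .leaf)) (nat_lit 25844982915072) (.node (.node (.node .leaf (nat_lit 25844995063811) .leaf) (nat_lit 25844995258499) .leaf) (nat_lit 25844995422339) (.node (.node .leaf (nat_lit 25844995555331) .leaf) (nat_lit 25847130191875) .leaf)))) (nat_lit 25847130218627) (.node (.node (.node (.node (.node .leaf (nat_lit 25847130357763) .leaf) (nat_lit 25847130396803) .leaf) (nat_lit 25847142688768) (.node (.node .leaf (nat_lit 25847142723712) .leaf) (nat_lit 25847143026816) .leaf)) (nat_lit 25847143057408) (.node (.node (.node .leaf (nat_lit 25849277530112) .leaf) (nat_lit 25849277569152) .leaf) (nat_lit 25849277724800) (.node (.node .leaf (nat_lit 25849277751296) .leaf) (nat_lit 25849290031107) .leaf))) (nat_lit 25849290070147) (.node (.node (.node (.node .leaf (nat_lit 25849290389507) .leaf) (nat_lit 25849290416259) .leaf) (nat_lit 25851408179202) (.node (.node .leaf (nat_lit 25851408218242) .leaf) (nat_lit 25851408488578) .leaf)) (nat_lit 25851408515074) (.node (.node (.node .leaf (nat_lit 25851420809345) .leaf) (nat_lit 25851420835841) .leaf) (nat_lit 25851421024385)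 (.node (.node .leaf (nat_lit 25851421063169) .leaf) (nat_lit 25853555794049) .leaf))))) (nat_lit 25853555832833) (.node (.node (.node (.node (.node (.node .leaf (nat_lit 25853556103297) .leaf) (nat_lit 25853556129793) (.node .leaf (nat_lit 25853568419842) .leaf)) (nat_lit 25853568454786) (.node (.node .leaf (nat_lit 25853568643202) .leaf) (nat_lit 25853568673794) .leaf)) (nat_lit 26113401384962) (.node (.node (.node .leaf (nat_lit 26113401415682) .leaf) (nat_lit 26113401559042) .leaf) (nat_lit 26113401585666) (.node (.node .leaf (nat_lit 26113413900289) .leaf) (nat_lit 26113413935105) .leaf))) (nat_lit 26113414201473) (.node (.node (.node (.node .leaf (nat_lit 26113414240385) .leaf) (nat_lit 26115548643329) .leaf) (nat_lit 26115548682241) (.node (.node .leaf (nat_lit 26115548997761) .leaf) (nat_lit 26115549032577) .leaf)) (nat_lit 26115561293826) (.node (.node (.node .leaf (nat_lit 26115561328642) .leaf) (nat_lit 26115561512962) .leaf) (nat_lit 26115561551874) (.node (.node .leaf (nat_lit 26117717256195) .leaf) (nat_lit 26117717291011) .leaf)))) (nat_lit 26117717557379) (.node (.node (.node (.node (.node .leaf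 (nat_lit 26117717596291) .leaf) (nat_lit 26117721512064) .leaf) (nat_lit 26117721538688) (.node (.node .leaf (nat_lit 26117721698432) .leaf) (nat_lit 26117721729152) .leaf)) (nat_lit 26119864656000) (.node (.node (.node .leaf (nat_lit 26119864694912) .leaf) (nat_lit 26119864862848) .leaf) (nat_lit 26119864897664) (.node (.node .leaf (nat_lit 26119868776451) .leaf) (nat_lit 26119868815363) .leaf))) (nat_lit 26119869130883) (.node (.node (.node (.node .leaf (nat_lit 26119869165699) .leaf) (nat_lit 26122012119168) .leaf) (nat_lit 26122012205056) (.node (.node .leaf (nat_lit 26122012440576) .leaf) (nat_lit 26122012543104) .leaf)) (nat_lit 26122016358531) (.node (.node (.node .leaf (nat_lit 26122016485379) .leaf) (nat_lit 26122016581763) .leaf) (nat_lit 26122016659459) (.node (.node .leaf (nat_lit 26124159549443) .leaf) (nat_lit 26124159741955) .leaf)))))) (nat_lit 26124159903747) (.node (.node (.node (.node (.node (.node (.node .leaf (nat_lit 26124160047107) .leaf) (nat_lit 26124163825664) (.node .leaf (nat_lit 26124163985408) .leaf)) (nat_lit 26124164016256) (.node (.node .leaf (nat_lit 26124164192384) .leaf) (nat_lit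 26126286159873) .leaf)) (nat_lit 26126286286977) (.node (.node (.node .leaf (nat_lit 26126286383105) .leaf) (nat_lit 26126286461057) .leaf) (nat_lit 26126298708098) (.node (.node .leaf (nat_lit 26126298777602) .leaf) (nat_lit 26126299009026) .leaf))) (nat_lit 26126299127938) (.node (.node (.node (.node .leaf (nat_lit 26128433672194) .leaf) (nat_lit 26128433741826) .leaf) (nat_lit 26128433846402) (.node (.node .leaf (nat_lit 26128433965186) .leaf) (nat_lit 26128446167169) .leaf)) (nat_lit 26128446285953) (.node (.node (.node .leaf (nat_lit 26128446517377) .leaf) (nat_lit 26128446587009) .leaf) (nat_lit 26396869066754) (.node (.node .leaf (nat_lit 26396869238914) .leaf) (nat_lit 26396869328898) .leaf)))) (nat_lit 26396869501058) (.node (.node (.node (.node (.node .leaf (nat_lit 26396885778433) .leaf) (nat_lit 26396885950593) .leaf) (nat_lit 26396886040705) (.node (.node .leaf (nat_lit 26396886212609) .leaf) (nat_lit 26399016525955) .leaf)) (nat_lit 26399016616067) (.node (.node (.node .leaf (nat_lit 26399016788099) .leaf) (nat_lit 26399016878211) .leaf) (nat_lit 26399033374848) (.node (.node .leaf (nat_lit 26399033464960)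 .leaf) (nat_lit 26399033636864) .leaf))) (nat_lit 26399033726976) (.node (.node (.node (.node .leaf (nat_lit 26401164066818) .leaf) (nat_lit 26401164173442) .leaf) (nat_lit 26401164328962) (.node (.node .leaf (nat_lit 26401164435586) .leaf) (nat_lit 26401180786817) .leaf)) (nat_lit 26401180876801) (.node (.node (.node .leaf (nat_lit 26401181048833) .leaf) (nat_lit 26401181139073) .leaf) (nat_lit 26403311493251) (.node (.node .leaf (nat_lit 26403311583363) .leaf) (nat_lit 26403311755395) .leaf))))) (nat_lit 26403311845507) (.node (.node (.node (.node (.node (.node .leaf (nat_lit 26403328333824) .leaf) (nat_lit 26403328440320) .leaf) (nat_lit 26403328596096) (.node (.node .leaf (nat_lit 26403328702592) .leaf) (nat_lit 26800596008962) .leaf)) (nat_lit 26800596183042) (.node (.node (.node .leaf (nat_lit 26800596275202) .leaf) (nat_lit 26800596449282) .leaf) (nat_lit 26800612704257) (.node (.node .leaf (nat_lit 26800612878337) .leaf) (nat_lit 26800612970625) .leaf))) (nat_lit 26800613144705) (.node (.node (.node (.node .leaf (nat_lit 26802743533571) .leaf) (nat_lit 26802743625859) .leaf) (nat_lit 26802743799811) (.node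 (.node .leaf (nat_lit 26802743892099) .leaf) (nat_lit 26802760235008) .leaf)) (nat_lit 26802760323200) (.node (.node (.node .leaf (nat_lit 26802760493184) .leaf) (nat_lit 26802760581120) .leaf) (nat_lit 26804895178882) (.node (.node .leaf (nat_lit 26804895336578) .leaf) (nat_lit 26804895445122) .leaf)))) (nat_lit 26804895602818) (.node (.node (.node (.node (.node .leaf (nat_lit 26804911865857) .leaf) (nat_lit 26804912039937) .leaf) (nat_lit 26804912132225) (.node (.node .leaf (nat_lit 26804912306305) .leaf) (nat_lit 26807042654339) .leaf)) (nat_lit 26807042828291) (.node (.node (.node .leaf (nat_lit 26807042920579) .leaf) (nat_lit 26807043094531) .leaf) (nat_lit 26807059363840) (.node (.node .leaf (nat_lit 26807059517568) .leaf) (nat_lit 26807059622016) .leaf))) (nat_lit 26807059775488) (.node (.node (.node (.node .leaf (nat_lit 26946624815105) .leaf) (nat_lit 26946624946177) .leaf) (nat_lit 26946625110017) (.node (.node .leaf (nat_lit 26946625241089) .leaf) (nat_lit 26946641659906) .leaf)) (nat_lit 26946641790978) (.node (.node (.node .leaf (nat_lit 26946641954946) .leaf) (nat_lit 26946642086018) .leaf) (nat_lit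 26948776562688) (.node (.node .leaf (nat_lit 26948776693888) .leaf) (nat_lit 26948776857600) .leaf))))))) (nat_lit 26948776988800) (.node (.node (.node (.node (.node (.node (.node (.node .leaf (nat_lit 26948793270275) .leaf) (nat_lit 26948793401475) (.node .leaf (nat_lit 26948793565315) .leaf)) (nat_lit 26948793696259) (.node (.node .leaf (nat_lit 26950919782401) .leaf) (nat_lit 26950919913473) .leaf)) (nat_lit 26950920077313) (.node (.node (.node .leaf (nat_lit 26950920208385) .leaf) (nat_lit 26950936635522) .leaf) (nat_lit 26950936766594) (.node (.node .leaf (nat_lit 26950936930306) .leaf) (nat_lit 26950937061378) .leaf))) (nat_lit 26953071562752) (.node (.node (.node (.node .leaf (nat_lit 26953071693952) .leaf) (nat_lit 26953071792128) .leaf) (nat_lit 26953071923328) (.node (.node .leaf (nat_lit 26953088278659) .leaf) (nat_lit 26953088409603) .leaf)) (nat_lit 26953088507907) (.node (.node (.node .leaf (nat_lit 26953088639107) .leaf) (nat_lit 27350351824898) .leaf) (nat_lit 27350351953922) (.node (.node .leaf (nat_lit 27350352123906) .leaf) (nat_lit 27350352252930) .leaf)))) (nat_lit 27350368518145) (.node (.node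 (.node (.node (.node .leaf (nat_lit 27350368651265) .leaf) (nat_lit 27350368817281) .leaf) (nat_lit 27350368950401) (.node (.node .leaf (nat_lit 27352503502851) .leaf) (nat_lit 27352503632003) .leaf)) (nat_lit 27352503801859) (.node (.node (.node .leaf (nat_lit 27352503931011) .leaf) (nat_lit 27352520202240) .leaf) (nat_lit 27352520331392) (.node (.node .leaf (nat_lit 27352520493184) .leaf) (nat_lit 27352520622080) .leaf))) (nat_lit 27354650994818) (.node (.node (.node (.node .leaf (nat_lit 27354651123842) .leaf) (nat_lit 27354651293826) .leaf) (nat_lit 27354651422850) (.node (.node .leaf (nat_lit 27354667679745) .leaf) (nat_lit 27354667812865) .leaf)) (nat_lit 27354667978881) (.node (.node (.node .leaf (nat_lit 27354668112001) .leaf) (nat_lit 27356794316931) .leaf) (nat_lit 27356794445827) (.node (.node .leaf (nat_lit 27356794550403) .leaf) (nat_lit 27356794679299) .leaf))))) (nat_lit 27356811008000) (.node (.node (.node (.node (.node (.node .leaf (nat_lit 27356811137152) .leaf) (nat_lit 27356811233408) (.node .leaf (nat_lit 27356811362304) .leaf)) (nat_lit 27487790825474) (.node (.node .leaf (nat_lit 27487790868482)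 .leaf) (nat_lit 27487790972930) .leaf)) (nat_lit 27487791015938) (.node (.node (.node .leaf (nat_lit 27487807684609) .leaf) (nat_lit 27487807727617) .leaf) (nat_lit 27487807799425) (.node (.node .leaf (nat_lit 27487807842433) .leaf) (nat_lit 27489946566659) .leaf))) (nat_lit 27489946609667) (.node (.node (.node (.node .leaf (nat_lit 27489946976387) .leaf) (nat_lit 27489947019395) .leaf) (nat_lit 27489963431936) (.node (.node .leaf (nat_lit 27489963470848) .leaf) (nat_lit 27489963808768) .leaf)) (nat_lit 27489963847680) (.node (.node (.node .leaf (nat_lit 27492085661697) .leaf) (nat_lit 27492085704705) .leaf) (nat_lit 27492086071425) (.node (.node .leaf (nat_lit 27492086114433) .leaf) (nat_lit 27492102529154) .leaf)))) (nat_lit 27492102555778) (.node (.node (.node (.node (.node .leaf (nat_lit 27492102905986) .leaf) (nat_lit 27492102932610) .leaf) (nat_lit 27494241679488) (.node (.node .leaf (nat_lit 27494241702016) .leaf) (nat_lit 27494241826944) .leaf)) (nat_lit 27494241849472) (.node (.node (.node .leaf (nat_lit 27494258524163) .leaf) (nat_lit 27494258567171) .leaf) (nat_lit 27494258638979) (.node (.node .leaf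 (nat_lit 27494258681987) .leaf) (nat_lit 27496380694530) .leaf))) (nat_lit 27496380776450) (.node (.node (.node (.node .leaf (nat_lit 27496380934274) .leaf) (nat_lit 27496381147266) .leaf) (nat_lit 27496397406209) (.node (.node .leaf (nat_lit 27496397619201) .leaf) (nat_lit 27496397776897) .leaf)) (nat_lit 27496397858817) (.node (.node (.node .leaf (nat_lit 27498536583171) .leaf) (nat_lit 27498536632451) .leaf) (nat_lit 27498536822915) (.node (.node .leaf (nat_lit 27498537003011) .leaf) (nat_lit 27498553300992) .leaf)))))) (nat_lit 27498553481344) (.node (.node (.node (.node (.node (.node (.node .leaf (nat_lit 27498553667584) .leaf) (nat_lit 27498553716864) (.node .leaf (nat_lit 27500675721217) .leaf)) (nat_lit 27500675770497) (.node (.node .leaf (nat_lit 27500675874945) .leaf) (nat_lit 27500676055041) .leaf)) (nat_lit 27500692424834) (.node (.node (.node .leaf (nat_lit 27500692604930) .leaf) (nat_lit 27500692725890) .leaf) (nat_lit 27500692774914) (.node (.node .leaf (nat_lit 27502831548544) .leaf) (nat_lit 27502831630464) .leaf))) (nat_lit 27502831767552) (.node (.node (.node (.node .leaf (nat_lit 27502831980544)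 .leaf) (nat_lit 27502848245763) .leaf) (nat_lit 27502848458755) (.node (.node .leaf (nat_lit 27502848616451) .leaf) (nat_lit 27502848698371) .leaf)) (nat_lit 27900107636738) (.node (.node (.node .leaf (nat_lit 27900107687938) .leaf) (nat_lit 27900107880450) .leaf) (nat_lit 27900108058626) (.node (.node .leaf (nat_lit 27900124332033) .leaf) (nat_lit 27900124547073) .leaf)))) (nat_lit 27900124706945) (.node (.node (.node (.node (.node .leaf (nat_lit 27900124786817) .leaf) (nat_lit 27902263427075) .leaf) (nat_lit 27902263642243) (.node (.node .leaf (nat_lit 27902263801859) .leaf) (nat_lit 27902263881859) .leaf)) (nat_lit 27902280292352) (.node (.node (.node .leaf (nat_lit 27902280339584) .leaf) (nat_lit 27902280523904) .leaf) (nat_lit 27902280706048) (.node (.node .leaf (nat_lit 27904406759425) .leaf) (nat_lit 27904406970497) .leaf))) (nat_lit 27904407048193) (.node (.node (.node (.node .leaf (nat_lit 27904407132289) .leaf) (nat_lit 27904423610498) .leaf) (nat_lit 27904423657474) (.node (.node .leaf (nat_lit 27904423784450) .leaf) (nat_lit 27904423966850) .leaf)) (nat_lit 27906562685056) (.node (.node (.node .leaf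 (nat_lit 27906562732160) .leaf) (nat_lit 27906562900096) .leaf) (nat_lit 27906563082368) (.node (.node .leaf (nat_lit 27906579365891) .leaf) (nat_lit 27906579580931) .leaf))))) (nat_lit 27906579740803) (.node (.node (.node (.node (.node (.node .leaf (nat_lit 27906579820675) .leaf) (nat_lit 27908706027522) .leaf) (nat_lit 27908706066562) (.node (.node .leaf (nat_lit 27908706144258) .leaf) (nat_lit 27908706187394) .leaf)) (nat_lit 27908722870273) (.node (.node (.node .leaf (nat_lit 27908722909313) .leaf) (nat_lit 27908722987137) .leaf) (nat_lit 27908723030017) (.node (.node .leaf (nat_lit 27910845054979) .leaf) (nat_lit 27910845098115) .leaf))) (nat_lit 27910845438083) (.node (.node (.node (.node .leaf (nat_lit 27910845476867) .leaf) (nat_lit 27910861772800) .leaf) (nat_lit 27910861811840) (.node (.node .leaf (nat_lit 27910862143488) .leaf) (nat_lit 27910862186624) .leaf)) (nat_lit 27913005172737) (.node (.node (.node .leaf (nat_lit 27913005211777) .leaf) (nat_lit 27913005322369) .leaf) (nat_lit 27913005365249) (.node (.node .leaf (nat_lit 27913022023810) .leaf) (nat_lit 27913022046210) .leaf)))) (nat_lit 27913022173314)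 (.node (.node (.node (.node (.node .leaf (nat_lit 27913022199810) .leaf) (nat_lit 27915144214656) .leaf) (nat_lit 27915144237056) (.node (.node .leaf (nat_lit 27915144618112) .leaf) (nat_lit 27915144644608) .leaf)) (nat_lit 27915160911875) (.node (.node (.node .leaf (nat_lit 27915160955011) .leaf) (nat_lit 27915161327747) .leaf) (nat_lit 27915161366531) (.node (.node .leaf (nat_lit 28037546551298) .leaf) (nat_lit 28037546723330) .leaf))) (nat_lit 28037546868738) (.node (.node (.node (.node .leaf (nat_lit 28037546926082) .leaf) (nat_lit 28037563408385) .leaf) (nat_lit 28037563416577) (.node (.node .leaf (nat_lit 28037563598977) .leaf) (nat_lit 28037563754625) .leaf)) (nat_lit 28039706658819) (.node (.node (.node .leaf (nat_lit 28039706749059) .leaf) (nat_lit 28039706861571) .leaf) (nat_lit 28039707066499) (.node (.node .leaf (nat_lit 28039723358208) .leaf) (nat_lit 28039723612288) .leaf))))))))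
def t0_13 : BT := (.node (.node (.node (.node (.node (.node (.node (.node (.node .leaf (nat_lit 28039723798528) .leaf) (nat_lit 28041841559681) (.node .leaf (nat_lit 28041841649665) .leaf)) (nat_lit 28041841762433) (.node (.node .leaf (nat_lit 28041841967105) .leaf) (nat_lit 28041858260994) .leaf)) (nat_lit 28041858498690) (.node (.node (.node .leaf (nat_lit 28041858582658) .leaf) (nat_lit 28041858705410) .leaf) (nat_lit 28044001556480) (.node (.node .leaf (nat_lit 28044001794048) .leaf) (nat_lit 28044001873920) .leaf))) (nat_lit 28044001996800) (.node (.node (.node (.node .leaf (nat_lit 28044018403459) .leaf) (nat_lit 28044018493571) .leaf) (nat_lit 28044018606083) (.node (.node .leaf (nat_lit 28044018810883) .leaf) (nat_lit 28046136442881) .leaf)) (nat_lit 28046136486017) (.node (.node (.node .leaf (nat_lit 28046136860801) .leaf) (nat_lit 28046136887297) .leaf) (nat_lit 28046153287682) (.node (.node .leaf (nat_lit 28046153326722) .leaf) (nat_lit 28046153705474) .leaf)))) (nat_lit 28046153728130) (.node (.node (.node (.node (.node .leaf (nat_lit 28048296710272) .leaf) (nat_lit 28048296753152) .leaf) (nat_lit 28048296865920)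 (.node (.node .leaf (nat_lit 28048296892416) .leaf) (nat_lit 28048313417859) .leaf)) (nat_lit 28048313460739) (.node (.node (.node .leaf (nat_lit 28048313573379) .leaf) (nat_lit 28048313600131) .leaf) (nat_lit 28050431434754) (.node (.node .leaf (nat_lit 28050431461506) .leaf) (nat_lit 28050431803394) .leaf))) (nat_lit 28050431846530) (.node (.node (.node (.node .leaf (nat_lit 28050448271489) .leaf) (nat_lit 28050448310273) .leaf) (nat_lit 28050448656385) (.node (.node .leaf (nat_lit 28050448679041) .leaf) (nat_lit 28052591691779) .leaf)) (nat_lit 28052591730819) (.node (.node (.node .leaf (nat_lit 28052591814787) .leaf) (nat_lit 28052591837187) .leaf) (nat_lit 28052608415872) (.node (.node .leaf (nat_lit 28052608438272) .leaf) (nat_lit 28052608522368) .leaf))))) (nat_lit 28052608561152) (.node (.node (.node (.node (.node (.node .leaf (nat_lit 28449863452674) .leaf) (nat_lit 28449863491586) (.node .leaf (nat_lit 28449863839746) .leaf)) (nat_lit 28449863866370) (.node (.node .leaf (nat_lit 28449880145921) .leaf) (nat_lit 28449880188929) .leaf)) (nat_lit 28449880569985) (.node (.node (.node .leaf (nat_lit 28449880592513)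 .leaf) (nat_lit 28452023648387) .leaf) (nat_lit 28452023691395) (.node (.node .leaf (nat_lit 28452023777283) .leaf) (nat_lit 28452023799811) .leaf))) (nat_lit 28452040347776) (.node (.node (.node (.node .leaf (nat_lit 28452040390784) .leaf) (nat_lit 28452040501376) .leaf) (nat_lit 28452040523904) (.node (.node .leaf (nat_lit 28454162743425) .leaf) (nat_lit 28454162786433) .leaf)) (nat_lit 28454162872321) (.node (.node (.node .leaf (nat_lit 28454162894849) .leaf) (nat_lit 28454179448834) .leaf) (nat_lit 28454179471362) (.node (.node .leaf (nat_lit 28454179590146) .leaf) (nat_lit 28454179633154) .leaf)))) (nat_lit 28456314302592) (.node (.node (.node (.node (.node .leaf (nat_lit 28456314329216) .leaf) (nat_lit 28456314669184) .leaf) (nat_lit 28456314708096) (.node (.node .leaf (nat_lit 28456330985475) .leaf) (nat_lit 28456331028483) .leaf)) (nat_lit 28456331409539) (.node (.node (.node .leaf (nat_lit 28456331432067) .leaf) (nat_lit 28458461814913) .leaf) (nat_lit 28458461825025) (.node (.node .leaf (nat_lit 28458462009345) .leaf) (nat_lit 28458462163073) .leaf))) (nat_lit 28458478528642) (.node (.node (.node (.node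 .leaf (nat_lit 28458478665730) .leaf) (nat_lit 28458478850178) .leaf) (nat_lit 28458478876674) (.node (.node .leaf (nat_lit 28460605050880) .leaf) (nat_lit 28460605175808) .leaf)) (nat_lit 28460605253760) (.node (.node (.node .leaf (nat_lit 28460605489280) .leaf) (nat_lit 28460621758467) .leaf) (nat_lit 28460622014467) (.node (.node .leaf (nat_lit 28460622100483) .leaf) (nat_lit 28460622204931) .leaf)))))) (nat_lit 28462760951810) (.node (.node (.node (.node (.node (.node (.node .leaf (nat_lit 28462761011202) .leaf) (nat_lit 28462761162882) (.node .leaf (nat_lit 28462761332866) .leaf)) (nat_lit 28462777673857) (.node (.node .leaf (nat_lit 28462777843841) .leaf) (nat_lit 28462777995393) .leaf)) (nat_lit 28462778054785) (.node (.node (.node .leaf (nat_lit 28464895877123) .leaf) (nat_lit 28464895887491) .leaf) (nat_lit 28464896071811) (.node (.node .leaf (nat_lit 28464896225283) .leaf) (nat_lit 28464912584832) .leaf))) (nat_lit 28464912742400) (.node (.node (.node (.node .leaf (nat_lit 28464912918656) .leaf) (nat_lit 28464912924672) .leaf) (nat_lit 28587302408194) (.node (.node .leaf (nat_lit 28587302572034) .leaf)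 (nat_lit 28587302711298) .leaf)) (nat_lit 28587302809602) (.node (.node (.node .leaf (nat_lit 28587323293697) .leaf) (nat_lit 28587323457537) .leaf) (nat_lit 28587323596929) (.node (.node .leaf (nat_lit 28587323695233) .leaf) (nat_lit 28589449932803) .leaf)))) (nat_lit 28589450031235) (.node (.node (.node (.node (.node .leaf (nat_lit 28589450153987) .leaf) (nat_lit 28589450317955) .leaf) (nat_lit 28589470824448) (.node (.node .leaf (nat_lit 28589470922880) .leaf) (nat_lit 28589471045760) .leaf)) (nat_lit 28589471209472) (.node (.node (.node .leaf (nat_lit 28591597408386) .leaf) (nat_lit 28591597506690) .leaf) (nat_lit 28591597645954) (.node (.node .leaf (nat_lit 28591597809794) .leaf) (nat_lit 28591618301953) .leaf))) (nat_lit 28591618400257) (.node (.node (.node (.node .leaf (nat_lit 28591618523265) .leaf) (nat_lit 28591618687105) .leaf) (nat_lit 28593744900227) (.node (.node .leaf (nat_lit 28593744998403) .leaf) (nat_lit 28593745121411) .leaf)) (nat_lit 28593745285123) (.node (.node (.node .leaf (nat_lit 28593765783552) .leaf) (nat_lit 28593765881984) .leaf) (nat_lit 28593766021248) (.node (.node .leaf (nat_lit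 28593766184960) .leaf) (nat_lit 29008217591811) .leaf))))) (nat_lit 29008217757827) (.node (.node (.node (.node (.node (.node .leaf (nat_lit 29008217890947) .leaf) (nat_lit 29008217991171) .leaf) (nat_lit 29008238495744) (.node (.node .leaf (nat_lit 29008238657664) .leaf) (nat_lit 29008238802944) .leaf)) (nat_lit 29008238899328) (.node (.node (.node .leaf (nat_lit 29010365051010) .leaf) (nat_lit 29010365151362) .leaf) (nat_lit 29010365267970) (.node (.node .leaf (nat_lit 29010365433858) .leaf) (nat_lit 29010386088065) .leaf))) (nat_lit 29010386188417) (.node (.node (.node (.node .leaf (nat_lit 29010386305153) .leaf) (nat_lit 29010386471041) .leaf) (nat_lit 29012516753539) (.node (.node .leaf (nat_lit 29012516919299) .leaf) (nat_lit 29012517052419) .leaf)) (nat_lit 29012517152899) (.node (.node (.node .leaf (nat_lit 29012529276928) .leaf) (nat_lit 29012529438848) .leaf) (nat_lit 29012529567744) (.node (.node .leaf (nat_lit 29012529664128) .leaf) (nat_lit 29014664179714) .leaf)))) (nat_lit 29014664345602) (.node (.node (.node (.node (.node .leaf (nat_lit 29014664462466) .leaf) (nat_lit 29014664562818) .leaf) (nat_lit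 29014676820097) (.node (.node .leaf (nat_lit 29014676985985) .leaf) (nat_lit 29014677119105) .leaf)) (nat_lit 29014677219457) (.node (.node (.node .leaf (nat_lit 29137058265090) .leaf) (nat_lit 29137058387970) .leaf) (nat_lit 29137058519042) (.node (.node .leaf (nat_lit 29137058658306) .leaf) (nat_lit 29137079148545) .leaf))) (nat_lit 29137079271425) (.node (.node (.node (.node .leaf (nat_lit 29137079402625) .leaf) (nat_lit 29137079541889) .leaf) (nat_lit 29139209943043) (.node (.node .leaf (nat_lit 29139210066051) .leaf) (nat_lit 29139210196995) .leaf)) (nat_lit 29139210336387) (.node (.node (.node .leaf (nat_lit 29139222444032) .leaf) (nat_lit 29139222567040) .leaf) (nat_lit 29139222698112) (.node (.node .leaf (nat_lit 29139222837248) .leaf) (nat_lit 29141353199746) .leaf))))))) (nat_lit 29141353322626) (.node (.node (.node (.node (.node (.node (.node (.node .leaf (nat_lit 29141353453698) .leaf) (nat_lit 29141353592962) (.node .leaf (nat_lit 29141374074881) .leaf)) (nat_lit 29141374214145) (.node (.node .leaf (nat_lit 29141374345345) .leaf) (nat_lit 29141374468225) .leaf)) (nat_lit 29143504910467) (.node (.node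 (.node .leaf (nat_lit 29143505033219) .leaf) (nat_lit 29143505164419) .leaf) (nat_lit 29143505303555) (.node (.node .leaf (nat_lit 29143517403136) .leaf) (nat_lit 29143517542528) .leaf))) (nat_lit 29143517673600) (.node (.node (.node (.node .leaf (nat_lit 29143517796352) .leaf) (nat_lit 29557977573504) .leaf) (nat_lit 29557977694336) (.node (.node .leaf (nat_lit 29557977831424) .leaf) (nat_lit 29557977968640) .leaf)) (nat_lit 29557990226051) (.node (.node (.node .leaf (nat_lit 29557990346883) .leaf) (nat_lit 29557990475907) .leaf) (nat_lit 29557990613123) (.node (.node .leaf (nat_lit 29560120932481) .leaf) (nat_lit 29560121053185) .leaf)))) (nat_lit 29560121182209) (.node (.node (.node (.node (.node .leaf (nat_lit 29560121319553) .leaf) (nat_lit 29560141836418) .leaf) (nat_lit 29560141961218) (.node (.node .leaf (nat_lit 29560142086274) .leaf) (nat_lit 29560142227458) .leaf)) (nat_lit 29562268313600) (.node (.node (.node .leaf (nat_lit 29562268434432) .leaf) (nat_lit 29562268571776) .leaf) (nat_lit 29562268708992) (.node (.node .leaf (nat_lit 29562289346691) .leaf) (nat_lit 29562289483907) .leaf))) (nat_lit 29562289612931)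 (.node (.node (.node (.node .leaf (nat_lit 29562289733763) .leaf) (nat_lit 29564420093953) .leaf) (nat_lit 29564420214913) (.node (.node .leaf (nat_lit 29564420343937) .leaf) (nat_lit 29564420481025) .leaf)) (nat_lit 29564432601218) (.node (.node (.node .leaf (nat_lit 29564432742402) .leaf) (nat_lit 29564432867458) .leaf) (nat_lit 29564432992258) (.node (.node .leaf (nat_lit 29824252946434) .leaf) (nat_lit 29824253155330) .leaf))))) (nat_lit 29824253278210) (.node (.node (.node (.node (.node (.node .leaf (nat_lit 29824253347842) .leaf) (nat_lit 29824274003969) (.node .leaf (nat_lit 29824274040833) .leaf)) (nat_lit 29824274196609) (.node (.node .leaf (nat_lit 29824274372737) .leaf) (nat_lit 29826408904707) .leaf)) (nat_lit 29826408941699) (.node (.node (.node .leaf (nat_lit 29826409097219) .leaf) (nat_lit 29826409273475) .leaf) (nat_lit 29826429792256) (.node (.node .leaf (nat_lit 29826429993088) .leaf) (nat_lit 29826430115968) .leaf))) (nat_lit 29826430193664) (.node (.node (.node (.node .leaf (nat_lit 29828552194177) .leaf) (nat_lit 29828552230913) .leaf) (nat_lit 29828552386689) (.node (.node .leaf (nat_lit 29828552562689)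 .leaf) (nat_lit 29828564682754) .leaf)) (nat_lit 29828564908162) (.node (.node (.node .leaf (nat_lit 29828565014658) .leaf) (nat_lit 29828565100546) .leaf) (nat_lit 29830707951616) (.node (.node .leaf (nat_lit 29830708152320) .leaf) (nat_lit 29830708275200) .leaf)))) (nat_lit 29830708353024) (.node (.node (.node (.node (.node .leaf (nat_lit 29830720606339) .leaf) (nat_lit 29830720659587) .leaf) (nat_lit 29830720798723) (.node (.node .leaf (nat_lit 29830720991235) .leaf) (nat_lit 29832842924035) .leaf)) (nat_lit 29832842967171) (.node (.node (.node .leaf (nat_lit 29832843309059) .leaf) (nat_lit 29832843335811) .leaf) (nat_lit 29832863827968) (.node (.node .leaf (nat_lit 29832863867008) .leaf) (nat_lit 29832864213120) .leaf))) (nat_lit 29832864235520) (.node (.node (.node (.node .leaf (nat_lit 29834998870146) .leaf) (nat_lit 29834998896642) .leaf) (nat_lit 29834998976514) (.node (.node .leaf (nat_lit 29834999019650) .leaf) (nat_lit 29835019907201) .leaf)) (nat_lit 29835019933697) (.node (.node (.node .leaf (nat_lit 29835020013697) .leaf) (nat_lit 29835020056577) .leaf) (nat_lit 29837142079616) (.node (.node .leaf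 (nat_lit 29837142102016) .leaf) (nat_lit 29837142480896) .leaf)))))) (nat_lit 29837142519936) (.node (.node (.node (.node (.node (.node (.node .leaf (nat_lit 29837154582531) .leaf) (nat_lit 29837154625667) (.node .leaf (nat_lit 29837155000323) .leaf)) (nat_lit 29837155027075) (.node (.node .leaf (nat_lit 29839298011265) .leaf) (nat_lit 29839298037761) .leaf)) (nat_lit 29839298150529) (.node (.node (.node .leaf (nat_lit 29839298193409) .leaf) (nat_lit 29839310651394) .leaf) (nat_lit 29839310694530) (.node (.node .leaf (nat_lit 29839310807170) .leaf) (nat_lit 29839310833666) .leaf))) (nat_lit 29961691942914) (.node (.node (.node (.node .leaf (nat_lit 29961691985922) .leaf) (nat_lit 29961692325890) .leaf) (nat_lit 29961692348418) (.node (.node .leaf (nat_lit 29961712828417) .leaf) (nat_lit 29961712871425) .leaf)) (nat_lit 29961713252481) (.node (.node (.node .leaf (nat_lit 29961713275009) .leaf) (nat_lit 29963847956611) .leaf) (nat_lit 29963847979139) (.node (.node .leaf (nat_lit 29963848056835) .leaf) (nat_lit 29963848099843) .leaf)))) (nat_lit 29963868844160) (.node (.node (.node (.node (.node .leaf (nat_lit 29963868870784)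 .leaf) (nat_lit 29963868981376) .leaf) (nat_lit 29963869020288) (.node (.node .leaf (nat_lit 29965987051649) .leaf) (nat_lit 29965987074177) .leaf)) (nat_lit 29965987151873) (.node (.node (.node .leaf (nat_lit 29965987194881) .leaf) (nat_lit 29966007928834) .leaf) (nat_lit 29966007967746) (.node (.node .leaf (nat_lit 29966008086530) .leaf) (nat_lit 29966008113154) .leaf))) (nat_lit 29968142788736) (.node (.node (.node (.node .leaf (nat_lit 29968142811264) .leaf) (nat_lit 29968143159424) .leaf) (nat_lit 29968143202432) (.node (.node .leaf (nat_lit 29968163667971) .leaf) (nat_lit 29968163710979) .leaf)) (nat_lit 29968164092035) (.node (.node (.node .leaf (nat_lit 29968164114563) .leaf) (nat_lit 29970290223235) .leaf) (nat_lit 29970290430083) (.node (.node .leaf (nat_lit 29970290550915) .leaf) (nat_lit 29970290626691) .leaf))))) (nat_lit 29970311262336) (.node (.node (.node (.node (.node (.node .leaf (nat_lit 29970311334016) .leaf) (nat_lit 29970311458816) .leaf) (nat_lit 29970311661568) (.node (.node .leaf (nat_lit 29972429338754) .leaf) (nat_lit 29972429504514) .leaf)) (nat_lit 29972429666434) (.node (.node (.node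 .leaf (nat_lit 29972429701122) .leaf) (nat_lit 29972450375809) .leaf) (nat_lit 29972450410497) (.node (.node .leaf (nat_lit 29972450572289) .leaf) (nat_lit 29972450738305) .leaf))) (nat_lit 29974585196672) (.node (.node (.node (.node .leaf (nat_lit 29974585391104) .leaf) (nat_lit 29974585524352) .leaf) (nat_lit 29974585587712) (.node (.node .leaf (nat_lit 29974606247939) .leaf) (nat_lit 29974606282883) .leaf)) (nat_lit 29974606444675) (.node (.node (.node .leaf (nat_lit 29974606610435) .leaf) (nat_lit 29976724242433) .leaf) (nat_lit 29976724469761) (.node (.node .leaf (nat_lit 29976724570113) .leaf) (nat_lit 29976724666369) .leaf)))) (nat_lit 29976745287810) (.node (.node (.node (.node (.node .leaf (nat_lit 29976745367682) .leaf) (nat_lit 29976745484290) .leaf) (nat_lit 29976745695234) (.node (.node .leaf (nat_lit 30374008805378) .leaf) (nat_lit 30374008844290) .leaf)) (nat_lit 30374009182210) (.node (.node (.node .leaf (nat_lit 30374009221122) .leaf) (nat_lit 30374029688833) .leaf) (nat_lit 30374029731841) (.node (.node .leaf (nat_lit 30374030098561) .leaf) (nat_lit 30374030141569) .leaf))) (nat_lit 30376169011331)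 (.node (.node (.node (.node .leaf (nat_lit 30376169033859) .leaf) (nat_lit 30376169125891) .leaf) (nat_lit 30376169148419) (.node (.node .leaf (nat_lit 30376181512320) .leaf) (nat_lit 30376181534848) .leaf)) (nat_lit 30376181659776) (.node (.node (.node .leaf (nat_lit 30376181682304) .leaf) (nat_lit 30378308106369) .leaf) (nat_lit 30378308128897) (.node (.node .leaf (nat_lit 30378308220929) .leaf) (nat_lit 30378308243457) .leaf))))))))
def t0_14 : BT := (.node (.node (.node (.node (.node (.node (.node (.node (.node .leaf (nat_lit 30378320635906) .leaf) (nat_lit 30378320740354) (.node .leaf (nat_lit 30378320783362) .leaf)) (nat_lit 30380459647104) (.node (.node .leaf (nat_lit 30380459673728) .leaf) (nat_lit 30380460023936) .leaf)) (nat_lit 30380460050560) (.node (.node (.node .leaf (nat_lit 30380480528387) .leaf) (nat_lit 30380480571395) .leaf) (nat_lit 30380480938115) (.node (.node .leaf (nat_lit 30380480981123) .leaf) (nat_lit 30382602864640) .leaf))) (nat_lit 30382603081856) (.node (.node (.node (.node .leaf (nat_lit 30382603229184) .leaf) (nat_lit 30382603241600) .leaf) (nat_lit 30382615517187) (.node (.node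 .leaf (nat_lit 30382615595139) .leaf) (nat_lit 30382615742595) .leaf)) (nat_lit 30382615894019) (.node (.node (.node .leaf (nat_lit 30384754567297) .leaf) (nat_lit 30384754751617) .leaf) (nat_lit 30384754866305) (.node (.node .leaf (nat_lit 30384754976897) .leaf) (nat_lit 30384775602306) .leaf)))) (nat_lit 30384775655554) (.node (.node (.node (.node (.node .leaf (nat_lit 30384775770114) .leaf) (nat_lit 30384776011778) .leaf) (nat_lit 30386893662339) (.node (.node .leaf (nat_lit 30386893846659) .leaf) (nat_lit 30386893961347) .leaf)) (nat_lit 30386894071939) (.node (.node (.node .leaf (nat_lit 30386914695168) .leaf) (nat_lit 30386914740224) .leaf) (nat_lit 30386914855040) (.node (.node .leaf (nat_lit 30386915104896) .leaf) (nat_lit 30389053741186) .leaf))) (nat_lit 30389053884418) (.node (.node (.node (.node .leaf (nat_lit 30389054032002) .leaf) (nat_lit 30389054117890) .leaf) (nat_lit 30389066395649) (.node (.node .leaf (nat_lit 30389066408065) .leaf) (nat_lit 30389066555521) .leaf)) (nat_lit 30389066772481) (.node (.node (.node .leaf (nat_lit 30511447758850) .leaf) (nat_lit 30511447834626) .leaf) (nat_lit 30511447988226)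 (.node (.node .leaf (nat_lit 30511448129538) .leaf) (nat_lit 30511468642305) .leaf))))) (nat_lit 30511468894209) (.node (.node (.node (.node (.node (.node .leaf (nat_lit 30511469002881) .leaf) (nat_lit 30511469058177) (.node .leaf (nat_lit 30513607780355) .leaf)) (nat_lit 30513607962755) (.node (.node .leaf (nat_lit 30513608075267) .leaf) (nat_lit 30513608192131) .leaf)) (nat_lit 30513620445184) (.node (.node (.node .leaf (nat_lit 30513620463744) .leaf) (nat_lit 30513620609152) .leaf) (nat_lit 30513620824064) (.node (.node .leaf (nat_lit 30515742638081) .leaf) (nat_lit 30515742890113) .leaf))) (nat_lit 30515742998529) (.node (.node (.node (.node .leaf (nat_lit 30515743053953) .leaf) (nat_lit 30515763705986) .leaf) (nat_lit 30515763781634) (.node (.node .leaf (nat_lit 30515763935234) .leaf) (nat_lit 30515764076674) .leaf)) (nat_lit 30517902794880) (.node (.node (.node .leaf (nat_lit 30517902882944) .leaf) (nat_lit 30517903024256) .leaf) (nat_lit 30517903177856) (.node (.node .leaf (nat_lit 30517915287555) .leaf) (nat_lit 30517915539459) .leaf)))) (nat_lit 30517915648131) (.node (.node (.node (.node (.node .leaf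 (nat_lit 30517915703427) .leaf) (nat_lit 30520050206720) .leaf) (nat_lit 30520050245760) (.node (.node .leaf (nat_lit 30520050585728) .leaf) (nat_lit 30520050628608) .leaf)) (nat_lit 30520062859267) (.node (.node (.node .leaf (nat_lit 30520062898307) .leaf) (nat_lit 30520063229955) .leaf) (nat_lit 30520063273091) (.node (.node .leaf (nat_lit 30522185314433) .leaf) (nat_lit 30522185340929) .leaf))) (nat_lit 30522185427073) (.node (.node (.node (.node .leaf (nat_lit 30522185449473) .leaf) (nat_lit 30522206222466) .leaf) (nat_lit 30522206244866) (.node (.node .leaf (nat_lit 30522206330882) .leaf) (nat_lit 30522206357634) .leaf)) (nat_lit 30524345155587) (.node (.node (.node .leaf (nat_lit 30524345198723) .leaf) (nat_lit 30524345571331) .leaf) (nat_lit 30524345610371) (.node (.node .leaf (nat_lit 30524357816448) .leaf) (nat_lit 30524357842944) .leaf)))))) (nat_lit 30524358223872) (.node (.node (.node (.node (.node (.node (.node .leaf (nat_lit 30524358246528) .leaf) (nat_lit 30526480252930) (.node .leaf (nat_lit 30526480296066) .leaf)) (nat_lit 30526480406658) (.node (.node .leaf (nat_lit 30526480445442) .leaf) (nat_lit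 30526501169281) .leaf)) (nat_lit 30526501191681) (.node (.node (.node .leaf (nat_lit 30526501318785) .leaf) (nat_lit 30526501345281) .leaf) (nat_lit 30794915577858) (.node (.node .leaf (nat_lit 30794915770498) .leaf) (nat_lit 30794915790850) .leaf))) (nat_lit 30794915950722) (.node (.node (.node (.node .leaf (nat_lit 30794940678145) .leaf) (nat_lit 30794940870785) .leaf) (nat_lit 30794941022337) (.node (.node .leaf (nat_lit 30794941181953) .leaf) (nat_lit 30797063041155) .leaf)) (nat_lit 30797063143555) (.node (.node (.node .leaf (nat_lit 30797063385219) .leaf) (nat_lit 30797063454851) .leaf) (nat_lit 30797088270464) (.node (.node .leaf (nat_lit 30797088381056) .leaf) (nat_lit 30797088483328) .leaf)))) (nat_lit 30797088561152) (.node (.node (.node (.node (.node .leaf (nat_lit 30799210524803) .leaf) (nat_lit 30799210627075) .leaf) (nat_lit 30799210868739) (.node (.node .leaf (nat_lit 30799210938499) .leaf) (nat_lit 30799235749888) .leaf)) (nat_lit 30799235868800) (.node (.node (.node .leaf (nat_lit 30799235962880) .leaf) (nat_lit 30799236049024) .leaf) (nat_lit 30801358061570) (.node (.node .leaf (nat_lit 30801358188546)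 .leaf) (nat_lit 30801358274690) .leaf))) (nat_lit 30801358368898) (.node (.node (.node (.node .leaf (nat_lit 30801383174273) .leaf) (nat_lit 30801383276673) .leaf) (nat_lit 30801383518337) (.node (.node .leaf (nat_lit 30801383587969) .leaf) (nat_lit 31198642520066) .leaf)) (nat_lit 31198642681858) (.node (.node (.node .leaf (nat_lit 31198642704386) .leaf) (nat_lit 31198642890754) .leaf) (nat_lit 31198667603969) (.node (.node .leaf (nat_lit 31198667798529) .leaf) (nat_lit 31198667952257) .leaf))))) (nat_lit 31198668105857) (.node (.node (.node (.node (.node (.node .leaf (nat_lit 31200790048771) .leaf) (nat_lit 31200790120579) .leaf) (nat_lit 31200790224899) (.node (.node .leaf (nat_lit 31200790337667) .leaf) (nat_lit 31200815130624) .leaf)) (nat_lit 31200815239296) (.node (.node (.node .leaf (nat_lit 31200815478912) .leaf) (nat_lit 31200815546368) .leaf) (nat_lit 31202941599747) (.node (.node .leaf (nat_lit 31202941794307) .leaf) (nat_lit 31202941948035) .leaf))) (nat_lit 31202942101635) (.node (.node (.node (.node .leaf (nat_lit 31202966857856) .leaf) (nat_lit 31202966999168) .leaf) (nat_lit 31202967042176) (.node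 (.node .leaf (nat_lit 31202967208064) .leaf) (nat_lit 31205089095682) .leaf)) (nat_lit 31205089265794) (.node (.node (.node .leaf (nat_lit 31205089435778) .leaf) (nat_lit 31205089581058) .leaf) (nat_lit 31205114331265) (.node (.node .leaf (nat_lit 31205114492929) .leaf) (nat_lit 31205114515585) .leaf)))) (nat_lit 31205114701825) (.node (.node (.node (.node (.node .leaf (nat_lit 31482118668289) .leaf) (nat_lit 31482118815745) .leaf) (nat_lit 31482119051265) (.node (.node .leaf (nat_lit 31482119165953) .leaf) (nat_lit 31482127124482) .leaf)) (nat_lit 31482127271938) (.node (.node (.node .leaf (nat_lit 31482127372418) .leaf) (nat_lit 31482127487106) .leaf) (nat_lit 31484270415872) (.node (.node .leaf (nat_lit 31484270563456) .leaf) (nat_lit 31484270659584) .leaf))) (nat_lit 31484270774400) (.node (.node (.node (.node .leaf (nat_lit 31484278734851) .leaf) (nat_lit 31484278882435) .leaf) (nat_lit 31484279117955) (.node (.node .leaf (nat_lit 31484279232515) .leaf) (nat_lit 31486413709440) .leaf)) (nat_lit 31486413856896) (.node (.node (.node .leaf (nat_lit 31486413961216) .leaf) (nat_lit 31486414075904) .leaf) (nat_lit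 31486422024195) (.node (.node .leaf (nat_lit 31486422171651) .leaf) (nat_lit 31486422407171) .leaf))))))) (nat_lit 31486422521859) (.node (.node (.node (.node (.node (.node (.node (.node .leaf (nat_lit 31488565358721) .leaf) (nat_lit 31488565506049) (.node .leaf (nat_lit 31488565667841) .leaf)) (nat_lit 31488565782657) (.node (.node .leaf (nat_lit 31488573802498) .leaf) (nat_lit 31488573950082) .leaf)) (nat_lit 31488573984770) (.node (.node (.node .leaf (nat_lit 31488574099586) .leaf) (nat_lit 31610959382530) .leaf) (nat_lit 31610959495170) (.node (.node .leaf (nat_lit 31610959593474) .leaf) (nat_lit 31610959742978) .leaf))) (nat_lit 31610984464385) (.node (.node (.node (.node .leaf (nat_lit 31610984613889) .leaf) (nat_lit 31610984843393) .leaf) (nat_lit 31610984956033) (.node (.node .leaf (nat_lit 31613111060483) .leaf) (nat_lit 31613111173251) .leaf)) (nat_lit 31613111271427) (.node (.node (.node .leaf (nat_lit 31613111421059) .leaf) (nat_lit 31613136148480) .leaf) (nat_lit 31613136294016) (.node (.node .leaf (nat_lit 31613136523392) .leaf) (nat_lit 31613136640000) .leaf)))) (nat_lit 31615258460163) (.node (.node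 (.node (.node (.node .leaf (nat_lit 31615258609667) .leaf) (nat_lit 31615258839171) .leaf) (nat_lit 31615258951811) (.node (.node .leaf (nat_lit 31615283716224) .leaf) (nat_lit 31615283832960) .leaf)) (nat_lit 31615283931264) (.node (.node (.node .leaf (nat_lit 31615284076672) .leaf) (nat_lit 31617401782274) .leaf) (nat_lit 31617401931906) (.node (.node .leaf (nat_lit 31617402095746) .leaf) (nat_lit 31617402208258) .leaf))) (nat_lit 31617427044481) (.node (.node (.node (.node .leaf (nat_lit 31617427156993) .leaf) (nat_lit 31617427189889) .leaf) (nat_lit 31617427339265) (.node (.node .leaf (nat_lit 31885837352962) .leaf) (nat_lit 31885837400066) .leaf)) (nat_lit 31885837533186) (.node (.node (.node .leaf (nat_lit 31885837580290) .leaf) (nat_lit 31885862567937) .leaf) (nat_lit 31885862615041) (.node (.node .leaf (nat_lit 31885862649985) .leaf) (nat_lit 31885862697089) .leaf))))) (nat_lit 31887993077763) (.node (.node (.node (.node (.node (.node .leaf (nat_lit 31887993124867) .leaf) (nat_lit 31887993553027) (.node .leaf (nat_lit 31887993600131) .leaf)) (nat_lit 31888001554432) (.node (.node .leaf (nat_lit 31888001589248)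 .leaf) (nat_lit 31888001865728) .leaf)) (nat_lit 31888001900544) (.node (.node (.node .leaf (nat_lit 31890140653696) .leaf) (nat_lit 31890140680320) .leaf) (nat_lit 31890140964992) (.node (.node .leaf (nat_lit 31890140991616) .leaf) (nat_lit 31890148950019) .leaf))) (nat_lit 31890148997123) (.node (.node (.node (.node .leaf (nat_lit 31890149425283) .leaf) (nat_lit 31890149472387) .leaf) (nat_lit 31892279853057) (.node (.node .leaf (nat_lit 31892279900161) .leaf) (nat_lit 31892279935105) .leaf)) (nat_lit 31892279982209) (.node (.node (.node .leaf (nat_lit 31892304982146) .leaf) (nat_lit 31892305004674) .leaf) (nat_lit 31892305162370) (.node (.node .leaf (nat_lit 31892305184898) .leaf) (nat_lit 31894427205634) .leaf)))) (nat_lit 31894427271170) (.node (.node (.node (.node (.node .leaf (nat_lit 31894427531394) .leaf) (nat_lit 31894427596930) .leaf) (nat_lit 31894452305921) (.node (.node .leaf (nat_lit 31894452502529) .leaf) (nat_lit 31894452631553) .leaf)) (nat_lit 31894452828161) (.node (.node (.node .leaf (nat_lit 31896583094275) .leaf) (nat_lit 31896583159939) .leaf) (nat_lit 31896583387267) (.node (.node .leaf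 (nat_lit 31896583452675) .leaf) (nat_lit 31896591423488) .leaf))) (nat_lit 31896591620224) (.node (.node (.node (.node .leaf (nat_lit 31896591704064) .leaf) (nat_lit 31896591900800) .leaf) (nat_lit 31898730549376) (.node (.node .leaf (nat_lit 31898730745856) .leaf) (nat_lit 31898730768512) .leaf)) (nat_lit 31898730964992) (.node (.node (.node .leaf (nat_lit 31898739013635) .leaf) (nat_lit 31898739079299) .leaf) (nat_lit 31898739212419) (.node (.node .leaf (nat_lit 31898739277827) .leaf) (nat_lit 31900869591041) .leaf)))))) (nat_lit 31900869787649) (.node (.node (.node (.node (.node (.node (.node .leaf (nat_lit 31900869916673) .leaf) (nat_lit 31900870113281) (.node .leaf (nat_lit 31900894834818) .leaf)) (nat_lit 31900894900354) (.node (.node .leaf (nat_lit 31900895135746) .leaf) (nat_lit 31900895201282) .leaf)) (nat_lit 32298154147842) (.node (.node (.node .leaf (nat_lit 32298154215426) .leaf) (nat_lit 32298154436610) .leaf) (nat_lit 32298154500098) (.node (.node .leaf (nat_lit 32298179231745) .leaf) (nat_lit 32298179430401) .leaf))) (nat_lit 32298179553409) (.node (.node (.node (.node .leaf (nat_lit 32298179747969)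 .leaf) (nat_lit 32300309938179) .leaf) (nat_lit 32300310136963) (.node (.node .leaf (nat_lit 32300310259715) .leaf) (nat_lit 32300310454403) .leaf)) (nat_lit 32300318414848) (.node (.node (.node .leaf (nat_lit 32300318478464) .leaf) (nat_lit 32300318699648) .leaf) (nat_lit 32300318767104) (.node (.node .leaf (nat_lit 32302461735040) .leaf) (nat_lit 32302461802496) .leaf)))) (nat_lit 32302461958144) (.node (.node (.node (.node (.node .leaf (nat_lit 32302462021760) .leaf) (nat_lit 32302470051843) .leaf) (nat_lit 32302470246531) (.node (.node .leaf (nat_lit 32302470287363) .leaf) (nat_lit 32302470486147) .leaf)) (nat_lit 32304600711169) (.node (.node (.node .leaf (nat_lit 32304600909825) .leaf) (nat_lit 32304601032833) .leaf) (nat_lit 32304601227393) (.node (.node .leaf (nat_lit 32304625971330) .leaf) (nat_lit 32304626038914) .leaf))) (nat_lit 32304626243714) (.node (.node (.node (.node .leaf (nat_lit 32304626307202) .leaf) (nat_lit 32306752522242) .leaf) (nat_lit 32306752565378) (.node (.node .leaf (nat_lit 32306752737282) .leaf) (nat_lit 32306752776322) .leaf)) (nat_lit 32306760976385) (.node (.node (.node .leaf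 (nat_lit 32306761019521) .leaf) (nat_lit 32306761060481) .leaf) (nat_lit 32306761099265) (.node (.node .leaf (nat_lit 32308891566083) .leaf) (nat_lit 32308891613315) .leaf))))) (nat_lit 32308891883651) (.node (.node (.node (.node (.node (.node .leaf (nat_lit 32308891918339) .leaf) (nat_lit 32308916672512) .leaf) (nat_lit 32308916707456) (.node (.node .leaf (nat_lit 32308917108736) .leaf) (nat_lit 32308917155968) .leaf)) (nat_lit 32311043383424) (.node (.node (.node .leaf (nat_lit 32311043414016) .leaf) (nat_lit 32311043438720) .leaf) (nat_lit 32311043457024) (.node (.node .leaf (nat_lit 32311068477443) .leaf) (nat_lit 32311068520579) .leaf))) (nat_lit 32311068659843) (.node (.node (.node (.node .leaf (nat_lit 32311068698627) .leaf) (nat_lit 32313199034369) .leaf) (nat_lit 32313199081601) (.node (.node .leaf (nat_lit 32313199515777) .leaf) (nat_lit 32313199550465) .leaf)) (nat_lit 32313207500930) (.node (.node (.node .leaf (nat_lit 32313207523330) .leaf) (nat_lit 32313207842946) .leaf) (nat_lit 32313207869442) (.node (.node .leaf (nat_lit 32573032019970) .leaf) (nat_lit 32573032171522) .leaf)))) (nat_lit 32573032290306)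 (.node (.node (.node (.node (.node .leaf (nat_lit 32573032458242) .leaf) (nat_lit 32573057265665) .leaf) (nat_lit 32573057286145) (.node (.node .leaf (nat_lit 32573057503361) .leaf) (nat_lit 32573057540225) .leaf)) (nat_lit 32575192123395) (.node (.node (.node .leaf (nat_lit 32575192234115) .leaf) (nat_lit 32575192377347) .leaf) (nat_lit 32575192471683) (.node (.node .leaf (nat_lit 32575200434176) .leaf) (nat_lit 32575200667776) .leaf))) (nat_lit 32575200721024) (.node (.node (.node (.node .leaf (nat_lit 32575200937984) .leaf) (nat_lit 32577335339008) .leaf) (nat_lit 32577335564416) (.node (.node .leaf (nat_lit 32577335609472) .leaf) (nat_lit 32577335851008) .leaf)) (nat_lit 32577343801475) (.node (.node (.node .leaf (nat_lit 32577343911939) .leaf) (nat_lit 32577344055427) .leaf) (nat_lit 32577344149507) (.node (.node .leaf (nat_lit 32579478702209) .leaf) (nat_lit 32579478812801) .leaf))))))))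
def t0_15 : BT := (.node (.node (.node (.node (.node (.node (.node (.node (.node .leaf (nat_lit 32579479050241) .leaf) (nat_lit 32579503796226) (.node .leaf (nat_lit 32579504013314) .leaf)) (nat_lit 32579504066562) (.node (.node .leaf (nat_lit 32579504300034) .leaf) (nat_lit 32581630296065) .leaf)) (nat_lit 32581630343297) (.node (.node (.node .leaf (nat_lit 32581630781569) .leaf) (nat_lit 32581630808065) .leaf) (nat_lit 32581638752258) (.node (.node .leaf (nat_lit 32581638795394) .leaf) (nat_lit 32581639102466) .leaf))) (nat_lit 32581639133314) (.node (.node (.node (.node .leaf (nat_lit 32583773802624) .leaf) (nat_lit 32583773841408) .leaf) (nat_lit 32583773862016) (.node (.node .leaf (nat_lit 32583773880320) .leaf) (nat_lit 32583798898819) .leaf)) (nat_lit 32583798945795) (.node (.node (.node .leaf (nat_lit 32583799089155) .leaf) (nat_lit 32583799115907) .leaf) (nat_lit 32585916958851) (.node (.node .leaf (nat_lit 32585917001731) .leaf) (nat_lit 32585917276163) .leaf)))) (nat_lit 32585917307011) (.node (.node (.node (.node (.node .leaf (nat_lit 32585942067200) .leaf) (nat_lit 32585942093952) .leaf) (nat_lit 32585942499328)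 (.node (.node .leaf (nat_lit 32585942546560) .leaf) (nat_lit 32588077084802) .leaf)) (nat_lit 32588077107202) (.node (.node (.node .leaf (nat_lit 32588077291650) .leaf) (nat_lit 32588077326338) .leaf) (nat_lit 32588085528577) (.node (.node .leaf (nat_lit 32588085571713) .leaf) (nat_lit 32588085616769) .leaf))) (nat_lit 32588085647361) (.node (.node (.node (.node .leaf (nat_lit 32710471010306) .leaf) (nat_lit 32710471053314) .leaf) (nat_lit 32710471333890) (.node (.node .leaf (nat_lit 32710471352322) .leaf) (nat_lit 32710496092161) .leaf)) (nat_lit 32710496139265) (.node (.node (.node .leaf (nat_lit 32710496579713) .leaf) (nat_lit 32710496602241) .leaf) (nat_lit 32712631189635) (.node (.node .leaf (nat_lit 32712631236739) .leaf) (nat_lit 32712631283715) .leaf))))) (nat_lit 32712631306243) (.node (.node (.node (.node (.node (.node .leaf (nat_lit 32712639533184) .leaf) (nat_lit 32712639572096) (.node .leaf (nat_lit 32712639717504) .leaf)) (nat_lit 32712639748224) (.node (.node .leaf (nat_lit 32714778632192) .leaf) (nat_lit 32714778662912) .leaf)) (nat_lit 32714778808320) (.node (.node (.node .leaf (nat_lit 32714778847232)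 .leaf) (nat_lit 32714787061891) .leaf) (nat_lit 32714787108995) (.node (.node .leaf (nat_lit 32714787155971) .leaf) (nat_lit 32714787178499) .leaf))) (nat_lit 32716913377281) (.node (.node (.node (.node .leaf (nat_lit 32716913424385) .leaf) (nat_lit 32716913864833) .leaf) (nat_lit 32716913887361) (.node (.node .leaf (nat_lit 32716938639490) .leaf) (nat_lit 32716938657922) .leaf)) (nat_lit 32716938938498) (.node (.node (.node .leaf (nat_lit 32716938981506) .leaf) (nat_lit 32719060988033) .leaf) (nat_lit 32719061010433) (.node (.node .leaf (nat_lit 32719061221377) .leaf) (nat_lit 32719061268609) .leaf)))) (nat_lit 32719086090370) (.node (.node (.node (.node (.node .leaf (nat_lit 32719086239746) .leaf) (nat_lit 32719086323842) .leaf) (nat_lit 32719086497794) (.node (.node .leaf (nat_lit 32721220997120) .leaf) (nat_lit 32721221101568) .leaf)) (nat_lit 32721221279872) (.node (.node (.node .leaf (nat_lit 32721221376128) .leaf) (nat_lit 32721229316099) .leaf) (nat_lit 32721229559811) (.node (.node .leaf (nat_lit 32721229606915) .leaf) (nat_lit 32721229826051) .leaf))) (nat_lit 32723368458371) (.node (.node (.node (.node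 .leaf (nat_lit 32723368607875) .leaf) (nat_lit 32723368724611) .leaf) (nat_lit 32723368898691) (.node (.node .leaf (nat_lit 32723376904192) .leaf) (nat_lit 32723376939008) .leaf)) (nat_lit 32723377186944) (.node (.node (.node .leaf (nat_lit 32723377213568) .leaf) (nat_lit 32725503363202) .leaf) (nat_lit 32725503537154) (.node (.node .leaf (nat_lit 32725503621250) .leaf) (nat_lit 32725503770626) .leaf)))))) (nat_lit 32725528604673) (.node (.node (.node (.node (.node (.node (.node .leaf (nat_lit 32725528627329) .leaf) (nat_lit 32725528838273) (.node .leaf (nat_lit 32725528885249) .leaf)) (nat_lit 32993938853891) (.node (.node .leaf (nat_lit 32993938997379) .leaf) (nat_lit 32993939075203) .leaf)) (nat_lit 32993939185667) (.node (.node (.node .leaf (nat_lit 32993968146432) .leaf) (nat_lit 32993968298112) .leaf) (nat_lit 32993968498688) (.node (.node .leaf (nat_lit 32993968617600) .leaf) (nat_lit 32996086308994) .leaf))) (nat_lit 32996086395010) (.node (.node (.node (.node .leaf (nat_lit 32996086579202) .leaf) (nat_lit 32996086763522) .leaf) (nat_lit 32996115734657) (.node (.node .leaf (nat_lit 32996115820673) .leaf)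 (nat_lit 32996115873921) .leaf)) (nat_lit 32996116058241) (.node (.node (.node .leaf (nat_lit 32998233759746) .leaf) (nat_lit 32998233911426) .leaf) (nat_lit 32998234095618) (.node (.node .leaf (nat_lit 32998234214530) .leaf) (nat_lit 32998263181441) .leaf)))) (nat_lit 32998263324673) (.node (.node (.node (.node (.node .leaf (nat_lit 32998263402497) .leaf) (nat_lit 32998263513217) .leaf) (nat_lit 33000381304963) (.node (.node .leaf (nat_lit 33000381448323) .leaf) (nat_lit 33000381526147) .leaf)) (nat_lit 33000381636739) (.node (.node (.node .leaf (nat_lit 33000410609664) .leaf) (nat_lit 33000410753024) .leaf) (nat_lit 33000410945664) (.node (.node .leaf (nat_lit 33000411056256) .leaf) (nat_lit 33397665779714) .leaf))) (nat_lit 33397665925122) (.node (.node (.node (.node .leaf (nat_lit 33397665996802) .leaf) (nat_lit 33397666117634) .leaf) (nat_lit 33397695053825) (.node (.node .leaf (nat_lit 33397695240193) .leaf) (nat_lit 33397695443073) .leaf)) (nat_lit 33397695522945) (.node (.node (.node .leaf (nat_lit 33399813300227) .leaf) (nat_lit 33399813388419) .leaf) (nat_lit 33399813443587) (.node (.node .leaf (nat_lit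 33399813621891) .leaf) (nat_lit 33399842580480) .leaf))))) (nat_lit 33399842697344) (.node (.node (.node (.node (.node (.node .leaf (nat_lit 33399842887808) .leaf) (nat_lit 33399843028992) .leaf) (nat_lit 33401964900355) (.node (.node .leaf (nat_lit 33401965012995) .leaf) (nat_lit 33401965199491) .leaf)) (nat_lit 33401965353091) (.node (.node (.node .leaf (nat_lit 33401985943680) .leaf) (nat_lit 33401986027648) .leaf) (nat_lit 33401986103424) (.node (.node .leaf (nat_lit 33401986277504) .leaf) (nat_lit 33404112371714) .leaf))) (nat_lit 33404112492674) (.node (.node (.node (.node .leaf (nat_lit 33404112695426) .leaf) (nat_lit 33404112840706) .leaf) (nat_lit 33404133433473) (.node (.node .leaf (nat_lit 33404133521409) .leaf) (nat_lit 33404133576833) .leaf)) (nat_lit 33404133754881) (.node (.node (.node .leaf (nat_lit 33681146181760) .leaf) (nat_lit 33681146288256) .leaf) (nat_lit 33681146478592) (.node (.node .leaf (nat_lit 33681146634240) .leaf) (nat_lit 33681150437507) .leaf)))) (nat_lit 33681150544003) (.node (.node (.node (.node (.node .leaf (nat_lit 33681150611587) .leaf) (nat_lit 33681150767235) .leaf) (nat_lit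 33683289532545) (.node (.node .leaf (nat_lit 33683289638913) .leaf) (nat_lit 33683289706497) .leaf)) (nat_lit 33683289862273) (.node (.node (.node .leaf (nat_lit 33683302047874) .leaf) (nat_lit 33683302154242) .leaf) (nat_lit 33683302357122) (.node (.node .leaf (nat_lit 33683302512642) .leaf) (nat_lit 33685441173633) .leaf))) (nat_lit 33685441296513) (.node (.node (.node (.node .leaf (nat_lit 33685441355905) .leaf) (nat_lit 33685441495169) .leaf) (nat_lit 33685445304322) (.node (.node .leaf (nat_lit 33685445410818) .leaf) (nat_lit 33685445613698) .leaf)) (nat_lit 33685445769346) (.node (.node (.node .leaf (nat_lit 33687584426112) .leaf) (nat_lit 33687584548864) .leaf) (nat_lit 33687584747648) (.node (.node .leaf (nat_lit 33687584886784) .leaf) (nat_lit 33687597082627) .leaf))))))) (nat_lit 33687597189251) (.node (.node (.node (.node (.node (.node (.node (.node .leaf (nat_lit 33687597256835) .leaf) (nat_lit 33687597412355) (.node .leaf (nat_lit 33809982679042) .leaf)) (nat_lit 33809982783490) (.node (.node .leaf (nat_lit 33809982849026) .leaf) (nat_lit 33809983006722) .leaf)) (nat_lit 33810011959297) (.node (.node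 (.node .leaf (nat_lit 33810012100609) .leaf) (nat_lit 33810012297345) .leaf) (nat_lit 33810012418177) (.node (.node .leaf (nat_lit 33812134356995) .leaf) (nat_lit 33812134461571) .leaf))) (nat_lit 33812134526979) (.node (.node (.node (.node .leaf (nat_lit 33812134684803) .leaf) (nat_lit 33812155246592) .leaf) (nat_lit 33812155383936) (.node (.node .leaf (nat_lit 33812155580544) .leaf) (nat_lit 33812155705344) .leaf)) (nat_lit 33814281715715) (.node (.node (.node .leaf (nat_lit 33814281873411) .leaf) (nat_lit 33814282070147) .leaf) (nat_lit 33814282174595) (.node (.node .leaf (nat_lit 33814302781568) .leaf) (nat_lit 33814302890112) .leaf)))) (nat_lit 33814302955648) (.node (.node (.node (.node (.node .leaf (nat_lit 33814303109248) .leaf) (nat_lit 33816425037826) .leaf) (nat_lit 33816425195650) (.node (.node .leaf (nat_lit 33816425392258) .leaf) (nat_lit 33816425496578) .leaf)) (nat_lit 33816454490241) (.node (.node (.node .leaf (nat_lit 33816454594561) .leaf) (nat_lit 33816454660225) .leaf) (nat_lit 33816454817793) (.node (.node .leaf (nat_lit 34222299500546) .leaf) (nat_lit 34222299539458) .leaf))) (nat_lit 34222299815938)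 (.node (.node (.node (.node .leaf (nat_lit 34222299846658) .leaf) (nat_lit 34222328774657) .leaf) (nat_lit 34222328821761) (.node (.node .leaf (nat_lit 34222329262209) .leaf) (nat_lit 34222329284737) .leaf)) (nat_lit 34224455495811) (.node (.node (.node .leaf (nat_lit 34224455518339) .leaf) (nat_lit 34224455565315) .leaf) (nat_lit 34224455612419) (.node (.node .leaf (nat_lit 34224468031616) .leaf) (nat_lit 34224468050048) .leaf))))) (nat_lit 34224468199552) (.node (.node (.node (.node (.node (.node .leaf (nat_lit 34224468242560) .leaf) (nat_lit 34226607114240) (.node .leaf (nat_lit 34226607157248) .leaf)) (nat_lit 34226607306752) (.node (.node .leaf (nat_lit 34226607325184) .leaf) (nat_lit 34226611368067) .leaf)) (nat_lit 34226611390595) (.node (.node (.node .leaf (nat_lit 34226611437571) .leaf) (nat_lit 34226611484675) .leaf) (nat_lit 34228746059777) (.node (.node .leaf (nat_lit 34228746106881) .leaf) (nat_lit 34228746547329) .leaf))) (nat_lit 34228746569857) (.node (.node (.node (.node .leaf (nat_lit 34228767121538) .leaf) (nat_lit 34228767152258) .leaf) (nat_lit 34228767428738) (.node (.node .leaf (nat_lit 34228767467650)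 .leaf) (nat_lit 34230889396355) .leaf)) (nat_lit 34230889580675) (.node (.node (.node .leaf (nat_lit 34230889674883) .leaf) (nat_lit 34230889859203) .leaf) (nat_lit 34230918815872) (.node (.node .leaf (nat_lit 34230918877312) .leaf) (nat_lit 34230919094272) .leaf)))) (nat_lit 34230919155712) (.node (.node (.node (.node (.node .leaf (nat_lit 34233045280898) .leaf) (nat_lit 34233045473282) .leaf) (nat_lit 34233045526658) (.node (.node .leaf (nat_lit 34233045719042) .leaf) (nat_lit 34233057929345) .leaf)) (nat_lit 34233057990657) (.node (.node (.node .leaf (nat_lit 34233058174977) .leaf) (nat_lit 34233058236545) .leaf) (nat_lit 34235197024257) (.node (.node .leaf (nat_lit 34235197085825) .leaf) (nat_lit 34235197270145) .leaf))) (nat_lit 34235197331457) (.node (.node (.node (.node .leaf (nat_lit 34235201149058) .leaf) (nat_lit 34235201349634) .leaf) (nat_lit 34235201394818) (.node (.node .leaf (nat_lit 34235201595394) .leaf) (nat_lit 34237336070272) .leaf)) (nat_lit 34237336131712) (.node (.node (.node .leaf (nat_lit 34237336348672) .leaf) (nat_lit 34237336410112) .leaf) (nat_lit 34237356965891) (.node (.node .leaf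 (nat_lit 34237357174787) .leaf) (nat_lit 34237357244419) .leaf)))))) (nat_lit 34237357453315) (.node (.node (.node (.node (.node (.node (.node .leaf (nat_lit 34359738415106) .leaf) (nat_lit 34359738597378) (.node .leaf (nat_lit 34359738689538) .leaf)) (nat_lit 34359738880002) (.node (.node .leaf (nat_lit 34359767853057) .leaf) (nat_lit 34359767912449) .leaf)) (nat_lit 34359768103041) (.node (.node (.node .leaf (nat_lit 34359768154241) .leaf) (nat_lit 34361894365187) .leaf) (nat_lit 34361894424707) (.node (.node .leaf (nat_lit 34361894615043) .leaf) (nat_lit 34361894666371) .leaf))) (nat_lit 34361906864128) (.node (.node (.node (.node .leaf (nat_lit 34361907058816) .leaf) (nat_lit 34361907146880) .leaf) (nat_lit 34361907333120) (.node (.node .leaf (nat_lit 34364041760768) .leaf) (nat_lit 34364041963648) .leaf)) (nat_lit 34364042035328) (.node (.node (.node .leaf (nat_lit 34364042246144) .leaf) (nat_lit 34364054431875) .leaf) (nat_lit 34364054491139) (.node (.node .leaf (nat_lit 34364054681731) .leaf) (nat_lit 34364054732803) .leaf)))) (nat_lit 34366180905089) (.node (.node (.node (.node (.node .leaf (nat_lit 34366180976769)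 .leaf) (nat_lit 34366181146625) .leaf) (nat_lit 34366181226497) (.node (.node .leaf (nat_lit 34366210191362) .leaf) (nat_lit 34366210377730) .leaf)) (nat_lit 34366210465794) (.node (.node (.node .leaf (nat_lit 34366210660354) .leaf) (nat_lit 34368336777219) .leaf) (nat_lit 34368336816259) (.node (.node .leaf (nat_lit 34368337098755) .leaf) (nat_lit 34368337117315) .leaf))) (nat_lit 34368349292544) (.node (.node (.node (.node .leaf (nat_lit 34368349335680) .leaf) (nat_lit 34368349741184) .leaf) (nat_lit 34368349771776) (.node (.node .leaf (nat_lit 34370475931778) .leaf) (nat_lit 34370475950082) .leaf)) (nat_lit 34370476134402) (.node (.node (.node .leaf (nat_lit 34370476173442) .leaf) (nat_lit 34370505357441) .leaf) (nat_lit 34370505375745) (.node (.node .leaf (nat_lit 34370505429121) .leaf) (nat_lit 34370505467905) .leaf))))) (nat_lit 34372623269889) (.node (.node (.node (.node (.node (.node .leaf (nat_lit 34372623317121) .leaf) (nat_lit 34372623755265) .leaf) (nat_lit 34372623782017) (.node (.node .leaf (nat_lit 34372652707970) .leaf) (nat_lit 34372652730370) .leaf)) (nat_lit 34372653045762) (.node (.node (.node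 .leaf (nat_lit 34372653080706) .leaf) (nat_lit 34374779355136) .leaf) (nat_lit 34374779402368) (.node (.node .leaf (nat_lit 34374779414656) .leaf) (nat_lit 34374779441152) .leaf))) (nat_lit 34374791882883) (.node (.node (.node (.node .leaf (nat_lit 34374791909379) .leaf) (nat_lit 34374792052867) .leaf) (nat_lit 34374792099843) (.node (.node .leaf (nat_lit 34634616363010) .leaf) (nat_lit 34634616461314) .leaf)) (nat_lit 34634616635394) (.node (.node (.node .leaf (nat_lit 34634616668162) .leaf) (nat_lit 34634645635073) .leaf) (nat_lit 34634645864449) (.node (.node .leaf (nat_lit 34634645952641) .leaf) (nat_lit 34634646116481) .leaf)))) (nat_lit 34636776388611) (.node (.node (.node (.node (.node .leaf (nat_lit 34636776552579) .leaf) (nat_lit 34636776628227) .leaf) (nat_lit 34636776857731) (.node (.node .leaf (nat_lit 34636780664832) .leaf) (nat_lit 34636780697728) .leaf)) (nat_lit 34636780871808) (.node (.node (.node .leaf (nat_lit 34636780969984) .leaf) (nat_lit 34638923919488) .leaf) (nat_lit 34638924017664) (.node (.node .leaf (nat_lit 34638924195840) .leaf) (nat_lit 34638924228736) .leaf))) (nat_lit 34638928019459)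 (.node (.node (.node (.node .leaf (nat_lit 34638928248963) .leaf) (nat_lit 34638928336899) .leaf) (nat_lit 34638928500867) (.node (.node .leaf (nat_lit 34641058725889) .leaf) (nat_lit 34641058955265) .leaf)) (nat_lit 34641059043457) (.node (.node (.node .leaf (nat_lit 34641059207297) .leaf) (nat_lit 34641088178306) .leaf) (nat_lit 34641088276610) (.node (.node .leaf (nat_lit 34641088458882) .leaf) (nat_lit 34641088491650) .leaf))))))))
def t0_16 : BT := (.node (.node (.node (.node (.node (.node (.node (.node (.node .leaf (nat_lit 34643218854016) .leaf) (nat_lit 34643219255424) (.node .leaf (nat_lit 34643219294208) .leaf)) (nat_lit 34643223074819) (.node (.node .leaf (nat_lit 34643223109763) .leaf) (nat_lit 34643223379971) .leaf)) (nat_lit 34643223427203) (.node (.node (.node .leaf (nat_lit 34645353904257) .leaf) (nat_lit 34645353922561) .leaf) (nat_lit 34645353980033) (.node (.node .leaf (nat_lit 34645354010625) .leaf) (nat_lit 34645383196802) .leaf))) (nat_lit 34645383219202) (.node (.node (.node (.node .leaf (nat_lit 34645383407618) .leaf) (nat_lit 34645383434370) .leaf) (nat_lit 34647501256834) (.node (.node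 .leaf (nat_lit 34647501275138) .leaf) (nat_lit 34647501594626) .leaf)) (nat_lit 34647501625474) (.node (.node (.node .leaf (nat_lit 34647530536961) .leaf) (nat_lit 34647530584193) .leaf) (nat_lit 34647531018241) (.node (.node .leaf (nat_lit 34647531053185) .leaf) (nat_lit 34649661399171) .leaf)))) (nat_lit 34649661429763) (.node (.node (.node (.node (.node .leaf (nat_lit 34649661585539) .leaf) (nat_lit 34649661603843) .leaf) (nat_lit 34649665650688) (.node (.node .leaf (nat_lit 34649665697920) .leaf) (nat_lit 34649665706112) .leaf)) (nat_lit 34649665740800) (.node (.node (.node .leaf (nat_lit 35046933223426) .leaf) (nat_lit 35046933258242) .leaf) (nat_lit 35046933534722) (.node (.node .leaf (nat_lit 35046933569538) .leaf) (nat_lit 35046962495489) .leaf))) (nat_lit 35046962542593) (.node (.node (.node (.node .leaf (nat_lit 35046962970753) .leaf) (nat_lit 35046963017857) .leaf) (nat_lit 35049093410947) (.node (.node .leaf (nat_lit 35049093433475) .leaf) (nat_lit 35049093492739) .leaf)) (nat_lit 35049093515267) (.node (.node (.node .leaf (nat_lit 35049097556096) .leaf) (nat_lit 35049097578624) .leaf) (nat_lit 35049097736320)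 (.node (.node .leaf (nat_lit 35049097758848) .leaf) (nat_lit 35051236638720) .leaf))))) (nat_lit 35051236685824) (.node (.node (.node (.node (.node (.node .leaf (nat_lit 35051236818944) .leaf) (nat_lit 35051236866048) (.node .leaf (nat_lit 35051249283203) .leaf)) (nat_lit 35051249305731) (.node (.node .leaf (nat_lit 35051249364995) .leaf) (nat_lit 35051249387523) .leaf)) (nat_lit 35053379780609) (.node (.node (.node .leaf (nat_lit 35053379827713) .leaf) (nat_lit 35053380255873) .leaf) (nat_lit 35053380302977) (.node (.node .leaf (nat_lit 35053400844418) .leaf) (nat_lit 35053400871042) .leaf))) (nat_lit 35053401155714) (.node (.node (.node (.node .leaf (nat_lit 35053401182338) .leaf) (nat_lit 35055527282688) .leaf) (nat_lit 35055527510144) (.node (.node .leaf (nat_lit 35055527559168) .leaf) (nat_lit 35055527725184) .leaf)) (nat_lit 35055548323843) (.node (.node (.node .leaf (nat_lit 35055548420227) .leaf) (nat_lit 35055548600451) .leaf) (nat_lit 35055548635139) (.node (.node .leaf (nat_lit 35057678989441) .leaf) (nat_lit 35057679151233) .leaf)))) (nat_lit 35057679233153) (.node (.node (.node (.node (.node .leaf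 (nat_lit 35057679464577) .leaf) (nat_lit 35057691635842) .leaf) (nat_lit 35057691670658) (.node (.node .leaf (nat_lit 35057691883522) .leaf) (nat_lit 35057691979778) .leaf)) (nat_lit 35059830718466) (.node (.node (.node .leaf (nat_lit 35059830753282) .leaf) (nat_lit 35059830966402) .leaf) (nat_lit 35059831062658) (.node (.node .leaf (nat_lit 35059834861697) .leaf) (nat_lit 35059835023489) .leaf))) (nat_lit 35059835105409) (.node (.node (.node (.node .leaf (nat_lit 35059835336833) .leaf) (nat_lit 35061965643779) .leaf) (nat_lit 35061965678723) (.node (.node .leaf (nat_lit 35061965858947) .leaf) (nat_lit 35061965955075) .leaf)) (nat_lit 35061994930304) (.node (.node (.node .leaf (nat_lit 35061995096064) .leaf) (nat_lit 35061995145344) .leaf) (nat_lit 35061995372544) (.node (.node .leaf (nat_lit 281474976710657) .leaf) (nat_lit 281474980904963) .leaf)))))) (nat_lit 281474985099265) (.node (.node (.node (.node (.node (.node (.node .leaf (nat_lit 281474989293571) .leaf) (nat_lit 281477132582915) (.node .leaf (nat_lit 281477136777217) .leaf)) (nat_lit 281477140971651) (.node (.node .leaf (nat_lit 281477145165953) .leaf)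 (nat_lit 281479271677953) .leaf)) (nat_lit 281479275872259) (.node (.node (.node .leaf (nat_lit 281479288455171) .leaf) (nat_lit 281479292649473) .leaf) (nat_lit 281483583422465) (.node (.node .leaf (nat_lit 281483587616899) .leaf) (nat_lit 281483591811073) .leaf))) (nat_lit 281483596005507) (.node (.node (.node (.node .leaf (nat_lit 281485714128897) .leaf) (nat_lit 281485718323331) .leaf) (nat_lit 281485730906241) (.node (.node .leaf (nat_lit 281485735100419) .leaf) (nat_lit 281490009096193) .leaf)) (nat_lit 281490013290627) (.node (.node (.node .leaf (nat_lit 281490034262019) .leaf) (nat_lit 281490038456449) .leaf) (nat_lit 281612415666177) (.node (.node .leaf (nat_lit 281612419858435) .leaf) (nat_lit 281612424054785) .leaf)))) (nat_lit 281612428247043) (.node (.node (.node (.node (.node .leaf (nat_lit 281614563151875) .leaf) (nat_lit 281614567348225) .leaf) (nat_lit 281614588317827) (.node (.node .leaf (nat_lit 281614592514177) .leaf) (nat_lit 281616719030401) .leaf)) (nat_lit 281616723222659) (.node (.node (.node .leaf (nat_lit 281616735805571) .leaf) (nat_lit 281616740001921) .leaf) (nat_lit 281621022394369)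 (.node (.node .leaf (nat_lit 281621026586755) .leaf) (nat_lit 281621030782977) .leaf))) (nat_lit 281621034975363) (.node (.node (.node (.node .leaf (nat_lit 281623161493505) .leaf) (nat_lit 281623165685891) .leaf) (nat_lit 281623178270849) (.node (.node .leaf (nat_lit 281623182462979) .leaf) (nat_lit 281627456469121) .leaf)) (nat_lit 281627460661251) (.node (.node (.node .leaf (nat_lit 281627464855683) .leaf) (nat_lit 281627469051905) .leaf) (nat_lit 281749871396865) (.node (.node .leaf (nat_lit 281749875595267) .leaf) (nat_lit 281749879785473) .leaf))))) (nat_lit 281749883983875) (.node (.node (.node (.node (.node (.node .leaf (nat_lit 281752002105347) .leaf) (nat_lit 281752006295553) .leaf) (nat_lit 281752027273347) (.node (.node .leaf (nat_lit 281752031463553) .leaf) (nat_lit 281754149621763) .leaf)) (nat_lit 281754153811969) (.node (.node (.node .leaf (nat_lit 281754166396929) .leaf) (nat_lit 281754170595331) .leaf) (nat_lit 281758444617729) (.node (.node .leaf (nat_lit 281758448816259) .leaf) (nat_lit 281758453006337) .leaf))) (nat_lit 281758457204867) (.node (.node (.node (.node .leaf (nat_lit 281760592101377)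 .leaf) (nat_lit 281760596299907) .leaf) (nat_lit 281760608880769) (.node (.node .leaf (nat_lit 281760613079043) .leaf) (nat_lit 281764895494275) .leaf)) (nat_lit 281764899684353) (.node (.node (.node .leaf (nat_lit 281764903880833) .leaf) (nat_lit 281764908079107) .leaf) (nat_lit 281887310348289) (.node (.node .leaf (nat_lit 281887314548739) .leaf) (nat_lit 281887318736897) .leaf)))) (nat_lit 281887322937347) (.node (.node (.node (.node (.node .leaf (nat_lit 281889449443331) .leaf) (nat_lit 281889453643777) .leaf) (nat_lit 281889457834115) (.node (.node .leaf (nat_lit 281889462030465) .leaf) (nat_lit 281891596972163) .leaf)) (nat_lit 281891601164417) (.node (.node (.node .leaf (nat_lit 281891613745281) .leaf) (nat_lit 281891617945731) .leaf) (nat_lit 281895883589633) (.node (.node .leaf (nat_lit 281895887786115) .leaf) (nat_lit 281895891978241) .leaf))) (nat_lit 281895896174723) (.node (.node (.node (.node .leaf (nat_lit 281898039465985) .leaf) (nat_lit 281898043654275) .leaf) (nat_lit 281898056241281) (.node (.node .leaf (nat_lit 281898060433411) .leaf) (nat_lit 281902326079491) .leaf)) (nat_lit 281902330280065)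 (.node (.node (.node .leaf (nat_lit 281902351249409) .leaf) (nat_lit 281902355441795) .leaf) (nat_lit 282024740923395) (.node (.node .leaf (nat_lit 282024745109505) .leaf) (nat_lit 282024749309955) .leaf))))))) (nat_lit 282024753496065) (.node (.node (.node (.node (.node (.node (.node (.node .leaf (nat_lit 282026880040961) .leaf) (nat_lit 282026884243459) (.node .leaf (nat_lit 282026888431617) .leaf)) (nat_lit 282026892634115) (.node (.node .leaf (nat_lit 282031175008257) .leaf) (nat_lit 282031179210755) .leaf)) (nat_lit 282031191793795) (.node (.node (.node .leaf (nat_lit 282031195979905) .leaf) (nat_lit 282033322590209) .leaf) (nat_lit 282033326792835) (.node (.node .leaf (nat_lit 282033339367425) .leaf) (nat_lit 282033343570051) .leaf))) (nat_lit 282035486883969) (.node (.node (.node (.node .leaf (nat_lit 282035491086339) .leaf) (nat_lit 282035495274625) .leaf) (nat_lit 282035499476995) (.node (.node .leaf (nat_lit 282037617557505) .leaf) (nat_lit 282037621760131) .leaf)) (nat_lit 282037642733699) (.node (.node (.node .leaf (nat_lit 282037646919681) .leaf) (nat_lit 282162171486211) .leaf) (nat_lit 282162175674369)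 (.node (.node .leaf (nat_lit 282162196654083) .leaf) (nat_lit 282162200838145) .leaf)))) (nat_lit 282164319000577) (.node (.node (.node (.node (.node .leaf (nat_lit 282164323201027) .leaf) (nat_lit 282164327387137) .leaf) (nat_lit 282164331591683) (.node (.node .leaf (nat_lit 282168622362753) .leaf) (nat_lit 282168626550915) .leaf)) (nat_lit 282168639133699) (.node (.node (.node .leaf (nat_lit 282168643334145) .leaf) (nat_lit 282170769948673) .leaf) (nat_lit 282170774153347) (.node (.node .leaf (nat_lit 282170786725889) .leaf) (nat_lit 282170790930563) .leaf))) (nat_lit 282172925859969) (.node (.node (.node (.node .leaf (nat_lit 282172930060291) .leaf) (nat_lit 282172934246529) .leaf) (nat_lit 282172938450947) (.node (.node .leaf (nat_lit 282175064924289) .leaf) (nat_lit 282175069112323) .leaf)) (nat_lit 282175073304579) (.node (.node (.node .leaf (nat_lit 282175077509249) .leaf) (nat_lit 282299610431489) .leaf) (nat_lit 282299614638083) (.node (.node .leaf (nat_lit 282299635597313) .leaf) (nat_lit 282299639803907) .leaf))))) (nat_lit 282301774739587) (.node (.node (.node (.node (.node (.node .leaf (nat_lit 282301778921601)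 .leaf) (nat_lit 282301783126147) (.node .leaf (nat_lit 282301787308161) .leaf)) (nat_lit 282306052882433) (.node (.node .leaf (nat_lit 282306057089027) .leaf) (nat_lit 282306069674115) .leaf)) (nat_lit 282306073856129) (.node (.node (.node .leaf (nat_lit 282308200574979) .leaf) (nat_lit 282308204757121) .leaf) (nat_lit 282308217354243) (.node (.node .leaf (nat_lit 282308221536385) .leaf) (nat_lit 282310348091395) .leaf))) (nat_lit 282310352273537) (.node (.node (.node (.node .leaf (nat_lit 282310356482051) .leaf) (nat_lit 282310360664193) .leaf) (nat_lit 282312503953537) (.node (.node .leaf (nat_lit 282312508160003) .leaf) (nat_lit 282312512354307) .leaf)) (nat_lit 282312516536449) (.node (.node (.node .leaf (nat_lit 282437057773569) .leaf) (nat_lit 282437061982211) .leaf) (nat_lit 282437066162177) (.node (.node .leaf (nat_lit 282437070370819) .leaf) (nat_lit 282439213688963) .leaf)))) (nat_lit 282439217877121) (.node (.node (.node (.node (.node .leaf (nat_lit 282439222075523) .leaf) (nat_lit 282439226267777) .leaf) (nat_lit 282443500236929) (.node (.node .leaf (nat_lit 282443504420995) .leaf) (nat_lit 282443517001731)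 .leaf)) (nat_lit 282443521210369) (.node (.node (.node .leaf (nat_lit 282445647935491) .leaf) (nat_lit 282445652115585) .leaf) (nat_lit 282445664710659) (.node (.node .leaf (nat_lit 282445668894849) .leaf) (nat_lit 282447787057155) .leaf))) (nat_lit 282447791249537) (.node (.node (.node (.node .leaf (nat_lit 282447795447811) .leaf) (nat_lit 282447799636097) .leaf) (nat_lit 282449934542849) (.node (.node .leaf (nat_lit 282449938731139) .leaf) (nat_lit 282449959702659) .leaf)) (nat_lit 282449963902977) (.node (.node (.node .leaf (nat_lit 282574488338433) .leaf) (nat_lit 282574492551171) .leaf) (nat_lit 282574496727041) (.node (.node .leaf (nat_lit 282574500939779) .leaf) (nat_lit 282576644292611) .leaf)))))) (nat_lit 282576648472577) (.node (.node (.node (.node (.node (.node (.node .leaf (nat_lit 282576652681347) .leaf) (nat_lit 282576656861313) (.node .leaf (nat_lit 282578783453187) .leaf)) (nat_lit 282578787633153) (.node (.node .leaf (nat_lit 282578800214017) .leaf) (nat_lit 282578804426755) .leaf)) (nat_lit 282583095050241) (.node (.node (.node .leaf (nat_lit 282583099263107) .leaf) (nat_lit 282583103438849)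 .leaf) (nat_lit 282583107651715) (.node (.node .leaf (nat_lit 282585234210817) .leaf) (nat_lit 282585238423683) .leaf))) (nat_lit 282585250988161) (.node (.node (.node (.node .leaf (nat_lit 282585255200771) .leaf) (nat_lit 282589529325699) .leaf) (nat_lit 282589533505537) (.node (.node .leaf (nat_lit 282589537697921) .leaf) (nat_lit 282589541910531) .leaf)) (nat_lit 282711927293953) (.node (.node (.node .leaf (nat_lit 282711931504643) .leaf) (nat_lit 282711935682561) .leaf) (nat_lit 282711939893251) (.node (.node .leaf (nat_lit 282714074861571) .leaf) (nat_lit 282714079039489) .leaf)))) (nat_lit 282714100027523) (.node (.node (.node (.node (.node .leaf (nat_lit 282714104205441) .leaf) (nat_lit 282716230803587) .leaf) (nat_lit 282716234981505) (.node (.node .leaf (nat_lit 282716247566465) .leaf) (nat_lit 282716251777155) .leaf)) (nat_lit 282720534022145) (.node (.node (.node .leaf (nat_lit 282720538200195) .leaf) (nat_lit 282720542410753) .leaf) (nat_lit 282720546588803) (.node (.node .leaf (nat_lit 282722664798209) .leaf) (nat_lit 282722668976259) .leaf))) (nat_lit 282722681575553) (.node (.node (.node (.node .leaf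 (nat_lit 282722685753347) .leaf) (nat_lit 282726959886339) .leaf) (nat_lit 282726964097153) (.node (.node .leaf (nat_lit 282726985070593) .leaf) (nat_lit 282726989248643) .leaf)) (nat_lit 282849383024641) (.node (.node (.node .leaf (nat_lit 282849387237379) .leaf) (nat_lit 282849391413249) .leaf) (nat_lit 282849395625987) (.node (.node .leaf (nat_lit 282851522203651) .leaf) (nat_lit 282851526379521) .leaf))))) (nat_lit 282851530594435) (.node (.node (.node (.node (.node (.node .leaf (nat_lit 282851534766209) .leaf) (nat_lit 282853669765249) .leaf) (nat_lit 282853673982083) (.node (.node .leaf (nat_lit 282853686564995) .leaf) (nat_lit 282853690736769) .leaf)) (nat_lit 282857956245505) (.node (.node (.node .leaf (nat_lit 282857960462467) .leaf) (nat_lit 282857964634113) .leaf) (nat_lit 282857968851075) (.node (.node .leaf (nat_lit 282860103663617) .leaf) (nat_lit 282860107880579) .leaf))) (nat_lit 282860120443009) (.node (.node (.node (.node .leaf (nat_lit 282860124655619) .leaf) (nat_lit 282864407183489) .leaf) (nat_lit 282864411400195) (.node (.node .leaf (nat_lit 282864415594627) .leaf) (nat_lit 282864419766273)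 .leaf)) (nat_lit 282986821976065) (.node (.node (.node .leaf (nat_lit 282986826190851) .leaf) (nat_lit 282986830364673) .leaf) (nat_lit 282986834579459) (.node (.node .leaf (nat_lit 282988952764419) .leaf) (nat_lit 282988956946433) .leaf)))) (nat_lit 282988977932419) (.node (.node (.node (.node (.node .leaf (nat_lit 282988982114433) .leaf) (nat_lit 282991100340225) .leaf) (nat_lit 282991104555011) (.node (.node .leaf (nat_lit 282991117137923) .leaf) (nat_lit 282991121311745) .leaf)) (nat_lit 282995395217409) (.node (.node (.node .leaf (nat_lit 282995399399555) .leaf) (nat_lit 282995403606017) .leaf) (nat_lit 282995407788163) (.node (.node .leaf (nat_lit 282997551028225) .leaf) (nat_lit 282997555202179) .leaf))) (nat_lit 282997567803521) (.node (.node (.node (.node .leaf (nat_lit 282997571977219) .leaf) (nat_lit 283001837778945) .leaf) (nat_lit 283001841952899) (.node (.node .leaf (nat_lit 283001862924291) .leaf) (nat_lit 283001867139201) .leaf)) (nat_lit 283124244176899) (.node (.node (.node .leaf (nat_lit 283124248348673) .leaf) (nat_lit 283124269344771) .leaf) (nat_lit 283124273512449) (.node (.node .leaf (nat_lit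 283126408511617) .leaf) (nat_lit 283126412732547) .leaf))))))))
def t0_17 : BT := (.node (.node (.node (.node (.node (.node (.node (.node (.node .leaf (nat_lit 283126421119107) .leaf) (nat_lit 283130686832641) (.node .leaf (nat_lit 283130691053571) .leaf)) (nat_lit 283130703634563) (.node (.node .leaf (nat_lit 283130707806337) .leaf) (nat_lit 283132842608641) .leaf)) (nat_lit 283132846825603) (.node (.node (.node .leaf (nat_lit 283132859385857) .leaf) (nat_lit 283132863602819) .leaf) (nat_lit 283134981799937) (.node (.node .leaf (nat_lit 283134986020995) .leaf) (nat_lit 283134990190593) .leaf))) (nat_lit 283134994407555) (.node (.node (.node (.node .leaf (nat_lit 283137129054209) .leaf) (nat_lit 283137133275267) .leaf) (nat_lit 283137154246787) (.node (.node .leaf (nat_lit 283137158414337) .leaf) (nat_lit 283261691521027) .leaf)) (nat_lit 283261695690753) (.node (.node (.node .leaf (nat_lit 283261699907587) .leaf) (nat_lit 283261704077313) .leaf) (nat_lit 283263847471233) (.node (.node .leaf (nat_lit 283263851690115) .leaf) (nat_lit 283263855857793) .leaf)))) (nat_lit 283263860076675) (.node (.node (.node (.node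 (.node .leaf (nat_lit 283268134187137) .leaf) (nat_lit 283268138389635) .leaf) (nat_lit 283268150974467) (.node (.node .leaf (nat_lit 283268155160577) .leaf) (nat_lit 283270273189889) .leaf)) (nat_lit 283270277376131) (.node (.node (.node .leaf (nat_lit 283270289967105) .leaf) (nat_lit 283270294153347) .leaf) (nat_lit 283272420775937) (.node (.node .leaf (nat_lit 283272424962179) .leaf) (nat_lit 283272429162497) .leaf))) (nat_lit 283272433348739) (.node (.node (.node (.node .leaf (nat_lit 283274576420993) .leaf) (nat_lit 283274580590595) .leaf) (nat_lit 283274584784899) (.node (.node .leaf (nat_lit 283274589003905) .leaf) (nat_lit 283399122059265) .leaf)) (nat_lit 283399126284291) (.node (.node (.node .leaf (nat_lit 283399147225089) .leaf) (nat_lit 283399151450115) .leaf) (nat_lit 283401269669891) (.node (.node .leaf (nat_lit 283401273837569) .leaf) (nat_lit 283401278060547) .leaf))))) (nat_lit 283401282224129) (.node (.node (.node (.node (.node (.node .leaf (nat_lit 283405573097601) .leaf) (nat_lit 283405577318531) (.node .leaf (nat_lit 283405589901315) .leaf)) (nat_lit 283405594068993) (.node (.node .leaf (nat_lit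 283407712219139) .leaf) (nat_lit 283407716386945) .leaf)) (nat_lit 283407728998403) (.node (.node (.node .leaf (nat_lit 283407733162113) .leaf) (nat_lit 283409876449411) .leaf) (nat_lit 283409880612865) (.node (.node .leaf (nat_lit 283409884835971) .leaf) (nat_lit 283409889003521) .leaf))) (nat_lit 283412007059457) (.node (.node (.node (.node .leaf (nat_lit 283412011284611) .leaf) (nat_lit 283412032254083) .leaf) (nat_lit 283412036421633) (.node (.node .leaf (nat_lit 283536569401345) .leaf) (nat_lit 283536573624323) .leaf)) (nat_lit 283536577789953) (.node (.node (.node .leaf (nat_lit 283536582012931) .leaf) (nat_lit 283538708619267) .leaf) (nat_lit 283538712793089) (.node (.node .leaf (nat_lit 283538717009923) .leaf) (nat_lit 283538721183745) .leaf)))) (nat_lit 283543003674625) (.node (.node (.node (.node (.node .leaf (nat_lit 283543007873027) .leaf) (nat_lit 283543020456067) .leaf) (nat_lit 283543024646273) (.node (.node .leaf (nat_lit 283545159546883) .leaf) (nat_lit 283545163745409) .leaf)) (nat_lit 283545176322051) (.node (.node (.node .leaf (nat_lit 283545180520577) .leaf) (nat_lit 283547315382403) .leaf)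 (nat_lit 283547319588865) (.node (.node .leaf (nat_lit 283547323768963) .leaf) (nat_lit 283547327975425) .leaf))) (nat_lit 283549454426241) (.node (.node (.node (.node .leaf (nat_lit 283549458599939) .leaf) (nat_lit 283549462796291) .leaf) (nat_lit 283549467011201) (.node (.node .leaf (nat_lit 283673999998977) .leaf) (nat_lit 283674004160515) .leaf)) (nat_lit 283674016751619) (.node (.node (.node .leaf (nat_lit 283674020978689) .leaf) (nat_lit 283678294966273) .leaf) (nat_lit 283678299127811) (.node (.node .leaf (nat_lit 283678303359105) .leaf) (nat_lit 283678307520643) .leaf)))))) (nat_lit 283680450809987) (.node (.node (.node (.node (.node (.node (.node .leaf (nat_lit 283680455037057) .leaf) (nat_lit 283680459202691) (.node .leaf (nat_lit 283680463429761) .leaf)) (nat_lit 283684737679361) (.node (.node .leaf (nat_lit 283684741841027) .leaf) (nat_lit 283684762824835) .leaf)) (nat_lit 283684767051777) (.node (.node (.node .leaf (nat_lit 283686901948417) .leaf) (nat_lit 283686906110083) .leaf) (nat_lit 283686910341249) (.node (.node .leaf (nat_lit 283686914502659) .leaf) (nat_lit 283689032646657) .leaf))) (nat_lit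 283689036808323) (.node (.node (.node (.node .leaf (nat_lit 283689049432193) .leaf) (nat_lit 283689053593603) .leaf) (nat_lit 283811447312387) (.node (.node .leaf (nat_lit 283811451541505) .leaf) (nat_lit 283811464132609) .leaf)) (nat_lit 283811468292099) (.node (.node (.node .leaf (nat_lit 283815733895171) .leaf) (nat_lit 283815738124289) .leaf) (nat_lit 283815742288003) (.node (.node .leaf (nat_lit 283815746517121) .leaf) (nat_lit 283817881417729) .leaf)))) (nat_lit 283817885577219) (.node (.node (.node (.node (.node .leaf (nat_lit 283817906571265) .leaf) (nat_lit 283817910730755) .leaf) (nat_lit 283822185005059) (.node (.node .leaf (nat_lit 283822189234305) .leaf) (nat_lit 283822193440897) .leaf)) (nat_lit 283822197600259) (.node (.node (.node .leaf (nat_lit 283824340877315) .leaf) (nat_lit 283824345106561) .leaf) (nat_lit 283824349270147) (.node (.node .leaf (nat_lit 283824353499137) .leaf) (nat_lit 283826479980675) .leaf))) (nat_lit 283826484209665) (.node (.node (.node (.node .leaf (nat_lit 283826496749571) .leaf) (nat_lit 283826500978817) .leaf) (nat_lit 283948877877251) (.node (.node .leaf (nat_lit 283948882100225)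 .leaf) (nat_lit 283948894693377) .leaf)) (nat_lit 283948898859011) (.node (.node (.node .leaf (nat_lit 283953189627905) .leaf) (nat_lit 283953193859075) .leaf) (nat_lit 283953198020737) (.node (.node .leaf (nat_lit 283953202243715) .leaf) (nat_lit 283955320360963) .leaf))))) (nat_lit 283955324518401) (.node (.node (.node (.node (.node (.node .leaf (nat_lit 283955345532931) .leaf) (nat_lit 283955349698561) .leaf) (nat_lit 283959624007683) (.node (.node .leaf (nat_lit 283959628238977) .leaf) (nat_lit 283959632439425) .leaf)) (nat_lit 283959636604931) (.node (.node (.node .leaf (nat_lit 283961763102721) .leaf) (nat_lit 283961767334019) .leaf) (nat_lit 283961771495553) (.node (.node .leaf (nat_lit 283961775718403) .leaf) (nat_lit 283963910586369) .leaf))) (nat_lit 283963914817667) (.node (.node (.node (.node .leaf (nat_lit 283963927373953) .leaf) (nat_lit 283963931604995) .leaf) (nat_lit 284086325254145) (.node (.node .leaf (nat_lit 284086329409539) .leaf) (nat_lit 284086342002691) .leaf)) (nat_lit 284086346231809) (.node (.node (.node .leaf (nat_lit 284090628610051) .leaf) (nat_lit 284090632765441) .leaf) (nat_lit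 284090636994691) (.node (.node .leaf (nat_lit 284090641158273) .leaf) (nat_lit 284092767676545) .leaf)))) (nat_lit 284092771905667) (.node (.node (.node (.node (.node .leaf (nat_lit 284092776059009) .leaf) (nat_lit 284092780284035) .leaf) (nat_lit 284097054627841) (.node (.node .leaf (nat_lit 284097058783363) .leaf) (nat_lit 284097079769219) .leaf)) (nat_lit 284097083990017) (.node (.node (.node .leaf (nat_lit 284099202117635) .leaf) (nat_lit 284099206277249) .leaf) (nat_lit 284099210502275) (.node (.node .leaf (nat_lit 284099214669825) .leaf) (nat_lit 284101357990019) .leaf))) (nat_lit 284101362149377) (.node (.node (.node (.node .leaf (nat_lit 284101374760963) .leaf) (nat_lit 284101378916481) .leaf) (nat_lit 284225903263745) (.node (.node .leaf (nat_lit 284225907499011) .leaf) (nat_lit 284225920073859) .leaf)) (nat_lit 284225924243585) (.node (.node (.node .leaf (nat_lit 284228059150467) .leaf) (nat_lit 284228063369345) .leaf) (nat_lit 284228067524611) (.node (.node .leaf (nat_lit 284228071759873) .leaf) (nat_lit 284230198231041) .leaf))))))) (nat_lit 284230202466307) (.node (.node (.node (.node (.node (.node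 (.node (.node .leaf (nat_lit 284230206625921) .leaf) (nat_lit 284230210861187) (.node .leaf (nat_lit 284232346140673) .leaf)) (nat_lit 284232350310531) (.node (.node .leaf (nat_lit 284232371279875) .leaf) (nat_lit 284232375515265) .leaf)) (nat_lit 284236641107969) (.node (.node (.node .leaf (nat_lit 284236645277827) .leaf) (nat_lit 284236657893377) .leaf) (nat_lit 284236662046851) (.node (.node .leaf (nat_lit 284238805344385) .leaf) (nat_lit 284238809563139) .leaf))) (nat_lit 284238813739009) (.node (.node (.node (.node .leaf (nat_lit 284238817958019) .leaf) (nat_lit 284363350648835) .leaf) (nat_lit 284363354800129) (.node (.node .leaf (nat_lit 284363367391361) .leaf) (nat_lit 284363371612291) .leaf)) (nat_lit 284365489743873) (.node (.node (.node .leaf (nat_lit 284365493895171) .leaf) (nat_lit 284365514903681) .leaf) (nat_lit 284365519075459) (.node (.node .leaf (nat_lit 284367637221379) .leaf) (nat_lit 284367641393153) .leaf)))) (nat_lit 284367645608067) (.node (.node (.node (.node (.node .leaf (nat_lit 284367649775745) .leaf) (nat_lit 284369793480707) .leaf) (nat_lit 284369797697665) (.node (.node .leaf (nat_lit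 284369801897985) .leaf) (nat_lit 284369806049411) .leaf)) (nat_lit 284374088439939) (.node (.node (.node .leaf (nat_lit 284374092673025) .leaf) (nat_lit 284374105225347) .leaf) (nat_lit 284374109442049) (.node (.node .leaf (nat_lit 284376244351107) .leaf) (nat_lit 284376248506369) .leaf))) (nat_lit 284376252737539) (.node (.node (.node (.node .leaf (nat_lit 284376256888961) .leaf) (nat_lit 284500781170689) .leaf) (nat_lit 284500785410051) (.node (.node .leaf (nat_lit 284500797986947) .leaf) (nat_lit 284500802152577) .leaf)) (nat_lit 284502928654337) (.node (.node (.node .leaf (nat_lit 284502932893699) .leaf) (nat_lit 284502953832577) .leaf) (nat_lit 284502958047363) (.node (.node .leaf (nat_lit 284505092921475) .leaf) (nat_lit 284505097152641) .leaf))))) (nat_lit 284505101303811) (.node (.node (.node (.node (.node (.node .leaf (nat_lit 284505105543169) .leaf) (nat_lit 284507232507905) (.node .leaf (nat_lit 284507236673667) .leaf)) (nat_lit 284507240863747) (.node (.node .leaf (nat_lit 284507245095041) .leaf) (nat_lit 284511519092739) .leaf)) (nat_lit 284511523242113) (.node (.node (.node .leaf (nat_lit 284511535863811)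 .leaf) (nat_lit 284511540029569) .leaf) (nat_lit 284513666543619) (.node (.node .leaf (nat_lit 284513670758529) .leaf) (nat_lit 284513674930307) .leaf))) (nat_lit 284513679153153) (.node (.node (.node (.node .leaf (nat_lit 284638228559875) .leaf) (nat_lit 284638232707073) .leaf) (nat_lit 284638245300353) (.node (.node .leaf (nat_lit 284638249521283) .leaf) (nat_lit 284640376031363) .leaf)) (nat_lit 284640380203137) (.node (.node (.node .leaf (nat_lit 284640384432131) .leaf) (nat_lit 284640388579329) .leaf) (nat_lit 284642531905665) (.node (.node .leaf (nat_lit 284642536073347) .leaf) (nat_lit 284642540292097) .leaf)))) (nat_lit 284642544463875) (.node (.node (.node (.node (.node .leaf (nat_lit 284644663062531) .leaf) (nat_lit 284644667279489) .leaf) (nat_lit 284644688263169) (.node (.node .leaf (nat_lit 284644692410499) .leaf) (nat_lit 284648966418561) .leaf)) (nat_lit 284648970635267) (.node (.node (.node .leaf (nat_lit 284648983189633) .leaf) (nat_lit 284648987418627) .leaf) (nat_lit 284651105548289) (.node (.node .leaf (nat_lit 284651109695619) .leaf) (nat_lit 284651113930881) .leaf))) (nat_lit 284651118090243)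 (.node (.node (.node (.node .leaf (nat_lit 284773511643264) .leaf) (nat_lit 284773515790338) .leaf) (nat_lit 284773528379394) (.node (.node .leaf (nat_lit 284773532625024) .leaf) (nat_lit 284777806692354) .leaf)) (nat_lit 284777810937984) (.node (.node (.node .leaf (nat_lit 284777815085186) .leaf) (nat_lit 284777819330560) .leaf) (nat_lit 284779962683392) (.node (.node .leaf (nat_lit 284779966830722) .leaf) (nat_lit 284779971076096) .leaf)))))) (nat_lit 284779975223426) (.node (.node (.node (.node (.node (.node (.node .leaf (nat_lit 284784257781888) .leaf) (nat_lit 284784261929090) (.node .leaf (nat_lit 284784266125442) .leaf)) (nat_lit 284784270370944) (.node (.node .leaf (nat_lit 284786413674498) .leaf) (nat_lit 284786417920000) .leaf)) (nat_lit 284786422067330) (.node (.node (.node .leaf (nat_lit 284786426312832) .leaf) (nat_lit 284788552831106) .leaf) (nat_lit 284788557076608) (.node (.node .leaf (nat_lit 284788569616386) .leaf) (nat_lit 284788573861888) .leaf))) (nat_lit 284910958940162) (.node (.node (.node (.node .leaf (nat_lit 284910963183744) .leaf) (nat_lit 284910975776896) .leaf) (nat_lit 284910979921922)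 (.node (.node .leaf (nat_lit 284915245705344) .leaf) (nat_lit 284915249850370) .leaf)) (nat_lit 284915254097920) (.node (.node (.node .leaf (nat_lit 284915258243202) .leaf) (nat_lit 284917393207298) .leaf) (nat_lit 284917397450880) (.node (.node .leaf (nat_lit 284917418360834) .leaf) (nat_lit 284917422604416) .leaf)))) (nat_lit 284921688313858) (.node (.node (.node (.node (.node .leaf (nat_lit 284921692524544) .leaf) (nat_lit 284921713502208) .leaf) (nat_lit 284921717680130) (.node (.node .leaf (nat_lit 284923852654720) .leaf) (nat_lit 284923856832642) .leaf)) (nat_lit 284923861047296) (.node (.node (.node .leaf (nat_lit 284923865225218) .leaf) (nat_lit 284925983438976) .leaf) (nat_lit 284925987616898) (.node (.node .leaf (nat_lit 284926000207872) .leaf) (nat_lit 284926004385794) .leaf))) (nat_lit 285048397893634) (.node (.node (.node (.node .leaf (nat_lit 285048402135168) .leaf) (nat_lit 285048414726272) .leaf) (nat_lit 285048418873346) (.node (.node .leaf (nat_lit 285052701419522) .leaf) (nat_lit 285052705599616) .leaf)) (nat_lit 285052709812354) (.node (.node (.node .leaf (nat_lit 285052713984000) .leaf) (nat_lit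 285054840553472) .leaf) (nat_lit 285054844770434) (.node (.node .leaf (nat_lit 285054848956416) .leaf) (nat_lit 285054853161090) .leaf))))) (nat_lit 285059135574018) (.node (.node (.node (.node (.node (.node .leaf (nat_lit 285059139815424) .leaf) (nat_lit 285059144022016) .leaf) (nat_lit 285059148161026) (.node (.node .leaf (nat_lit 285061274894338) .leaf) (nat_lit 285061279078400) .leaf)) (nat_lit 285061283287170) (.node (.node (.node .leaf (nat_lit 285061287463040) .leaf) (nat_lit 285063422312450) .leaf) (nat_lit 285063426496512) (.node (.node .leaf (nat_lit 285063439100034) .leaf) (nat_lit 285063443280000) .leaf))) (nat_lit 285185828509824) (.node (.node (.node (.node .leaf (nat_lit 285185832650754) .leaf) (nat_lit 285185845241858) .leaf) (nat_lit 285185849489536) (.node (.node .leaf (nat_lit 285190140350592) .leaf) (nat_lit 285190144557058) .leaf)) (nat_lit 285190148734976) (.node (.node (.node .leaf (nat_lit 285190152949890) .leaf) (nat_lit 285192271147010) .leaf) (nat_lit 285192275320960) (.node (.node .leaf (nat_lit 285192296302594) .leaf) (nat_lit 285192300484736) .leaf)))) (nat_lit 285196566169728) (.node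 (.node (.node (.node (.node .leaf (nat_lit 285196570351746) .leaf) (nat_lit 285196591327362) .leaf) (nat_lit 285196595542144) (.node (.node .leaf (nat_lit 285198713829504) .leaf) (nat_lit 285198718068866) .leaf)) (nat_lit 285198722213888) (.node (.node (.node .leaf (nat_lit 285198726461442) .leaf) (nat_lit 285200869636096) .leaf) (nat_lit 285200873875458) (.node (.node .leaf (nat_lit 285200886403200) .leaf) (nat_lit 285200890642562) .leaf))) (nat_lit 285325414989826) (.node (.node (.node (.node .leaf (nat_lit 285325419178112) .leaf) (nat_lit 285325431750656) .leaf) (nat_lit 285325435971714) (.node (.node .leaf (nat_lit 285327562563712) .leaf) (nat_lit 285327566702594) .leaf)) (nat_lit 285327587727360) (.node (.node (.node .leaf (nat_lit 285327591878786) .leaf) (nat_lit 285329726873730) .leaf) (nat_lit 285329731045376) (.node (.node .leaf (nat_lit 285329735268354) .leaf) (nat_lit 285329739436160) .leaf))))))))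
def t0_18 : BT := (.node (.node (.node (.node (.node (.node (.node (.node (.node .leaf (nat_lit 285331861989376) .leaf) (nat_lit 285331882956928) (.node .leaf (nat_lit 285331887108226) .leaf)) (nat_lit 285336160966786) (.node (.node .leaf (nat_lit 285336165216384) .leaf) (nat_lit 285336177752194) .leaf)) (nat_lit 285336181985408) (.node (.node (.node .leaf (nat_lit 285338300153858) .leaf) (nat_lit 285338304342016) .leaf) (nat_lit 285338308548738) (.node (.node .leaf (nat_lit 285338312732800) .leaf) (nat_lit 285462862323840) .leaf))) (nat_lit 285462866526210) (.node (.node (.node (.node .leaf (nat_lit 285462879119490) .leaf) (nat_lit 285462883289088) .leaf) (nat_lit 285465009862786) (.node (.node .leaf (nat_lit 285465014097920) .leaf) (nat_lit 285465018236930) .leaf)) (nat_lit 285465022488704) (.node (.node (.node .leaf (nat_lit 285467165816832) .leaf) (nat_lit 285467170019458) .leaf) (nat_lit 285467174199424) (.node (.node .leaf (nat_lit 285467178401794) .leaf) (nat_lit 285469305122944) .leaf)))) (nat_lit 285469309292674) (.node (.node (.node (.node (.node .leaf (nat_lit 285469313490946) .leaf) (nat_lit 285469317693440)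 .leaf) (nat_lit 285473591560320) (.node (.node .leaf (nat_lit 285473595746434) .leaf) (nat_lit 285473608345728) .leaf)) (nat_lit 285473612515458) (.node (.node (.node .leaf (nat_lit 285475739080832) .leaf) (nat_lit 285475743332482) .leaf) (nat_lit 285475747463168) (.node (.node .leaf (nat_lit 285475751714818) .leaf) (nat_lit 285600301291522) .leaf))) (nat_lit 285600305471616) (.node (.node (.node (.node .leaf (nat_lit 285600318046208) .leaf) (nat_lit 285600322271362) .leaf) (nat_lit 285602440445954) (.node (.node .leaf (nat_lit 285602444638336) .leaf) (nat_lit 285602465624194) .leaf)) (nat_lit 285602469791744) (.node (.node (.node .leaf (nat_lit 285604588023936) .leaf) (nat_lit 285604592158722) .leaf) (nat_lit 285604596410368) (.node (.node .leaf (nat_lit 285604600549506) .leaf) (nat_lit 285606735708162) .leaf))))) (nat_lit 285606739965952) (.node (.node (.node (.node (.node (.node .leaf (nat_lit 285606760923264) .leaf) (nat_lit 285606765082754) (.node .leaf (nat_lit 285611030573184) .leaf)) (nat_lit 285611034773634) (.node (.node .leaf (nat_lit 285611047344256) .leaf) (nat_lit 285611051556994) .leaf)) (nat_lit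 285613194795008) (.node (.node (.node .leaf (nat_lit 285613198942210) .leaf) (nat_lit 285613203177600) .leaf) (nat_lit 285613207337090) (.node (.node .leaf (nat_lit 285737731844224) .leaf) (nat_lit 285737736050690) .leaf))) (nat_lit 285737748641922) (.node (.node (.node (.node .leaf (nat_lit 285737752807424) .leaf) (nat_lit 285739887771648) .leaf) (nat_lit 285739891994754) (.node (.node .leaf (nat_lit 285739896172672) .leaf) (nat_lit 285739900370946) .leaf)) (nat_lit 285742026928130) (.node (.node (.node .leaf (nat_lit 285742031159424) .leaf) (nat_lit 285742035314818) .leaf) (nat_lit 285742039554048) (.node (.node .leaf (nat_lit 285744183091328) .leaf) (nat_lit 285744187265154) .leaf)))) (nat_lit 285744191465474) (.node (.node (.node (.node (.node .leaf (nat_lit 285744195672064) .leaf) (nat_lit 285748477950082) .leaf) (nat_lit 285748482082944) (.node (.node .leaf (nat_lit 285748494717058) .leaf) (nat_lit 285748498866304) .leaf)) (nat_lit 285750633715842) (.node (.node (.node .leaf (nat_lit 285750637930624) .leaf) (nat_lit 285750642098178) .leaf) (nat_lit 285750646321152) (.node (.node .leaf (nat_lit 285873040080897)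 .leaf) (nat_lit 285873044213763) .leaf))) (nat_lit 285873048469505) (.node (.node (.node (.node .leaf (nat_lit 285873052602371) .leaf) (nat_lit 285875179094019) .leaf) (nat_lit 285875183357953) (.node (.node .leaf (nat_lit 285875195887747) .leaf) (nat_lit 285875200151681) .leaf)) (nat_lit 285879474323587) (.node (.node (.node .leaf (nat_lit 285879478587521) .leaf) (nat_lit 285879482794113) .leaf) (nat_lit 285879486926979) (.node (.node .leaf (nat_lit 285881630015489) .leaf) (nat_lit 285881634148483) .leaf)))))) (nat_lit 285881638404097) (.node (.node (.node (.node (.node (.node (.node .leaf (nat_lit 285881642537091) .leaf) (nat_lit 285883769094145) (.node .leaf (nat_lit 285883773227139) .leaf)) (nat_lit 285883777499265) (.node (.node .leaf (nat_lit 285883781632003) .leaf) (nat_lit 285885916774531) .leaf)) (nat_lit 285885921038337) (.node (.node (.node .leaf (nat_lit 285885933633665) .leaf) (nat_lit 285885937766403) .leaf) (nat_lit 286010479036417) (.node (.node .leaf (nat_lit 286010483167235) .leaf) (nat_lit 286010487425025) .leaf))) (nat_lit 286010491555843) (.node (.node (.node (.node .leaf (nat_lit 286012618051587)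 .leaf) (nat_lit 286012622309377) .leaf) (nat_lit 286012634845315) (.node (.node .leaf (nat_lit 286012639103105) .leaf) (nat_lit 286016913289347) .leaf)) (nat_lit 286016917547137) (.node (.node (.node .leaf (nat_lit 286016921761921) .leaf) (nat_lit 286016925884547) .leaf) (nat_lit 286019068954625) (.node (.node .leaf (nat_lit 286019073085571) .leaf) (nat_lit 286019077343233) .leaf)))) (nat_lit 286019081474179) (.node (.node (.node (.node (.node .leaf (nat_lit 286021208070145) .leaf) (nat_lit 286021212192899) .leaf) (nat_lit 286021216442497) (.node (.node .leaf (nat_lit 286021220564995) .leaf) (nat_lit 286023355752579) .leaf)) (nat_lit 286023360018433) (.node (.node (.node .leaf (nat_lit 286023372580993) .leaf) (nat_lit 286023376711683) .leaf) (nat_lit 286147901194241) (.node (.node .leaf (nat_lit 286147905323011) .leaf) (nat_lit 286147909582849) .leaf))) (nat_lit 286147913711619) (.node (.node (.node (.node .leaf (nat_lit 286150057005059) .leaf) (nat_lit 286150061264897) .leaf) (nat_lit 286150073800835) (.node (.node .leaf (nat_lit 286150078060673) .leaf) (nat_lit 286154343940097) .leaf)) (nat_lit 286154348068867)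 (.node (.node (.node .leaf (nat_lit 286154369062915) .leaf) (nat_lit 286154373322753) .leaf) (nat_lit 286156491063297) (.node (.node .leaf (nat_lit 286156495323267) .leaf) (nat_lit 286156499451905) .leaf))))) (nat_lit 286156503711875) (.node (.node (.node (.node (.node (.node .leaf (nat_lit 286158638546945) .leaf) (nat_lit 286158642806915) .leaf) (nat_lit 286158663731329) (.node (.node .leaf (nat_lit 286158667991043) .leaf) (nat_lit 286160794714241) .leaf)) (nat_lit 286160798973955) (.node (.node (.node .leaf (nat_lit 286160811579523) .leaf) (nat_lit 286160815708161) .leaf) (nat_lit 286285340149761) (.node (.node .leaf (nat_lit 286285344276483) .leaf) (nat_lit 286285348538369) .leaf))) (nat_lit 286285352665091) (.node (.node (.node (.node .leaf (nat_lit 286287495954435) .leaf) (nat_lit 286287500216321) .leaf) (nat_lit 286287512750211) (.node (.node .leaf (nat_lit 286287517008001) .leaf) (nat_lit 286291782907905) .leaf)) (nat_lit 286291787034627) (.node (.node (.node .leaf (nat_lit 286291808020483) .leaf) (nat_lit 286291812278273) .leaf) (nat_lit 286293930035201) (.node (.node .leaf (nat_lit 286293934293123) .leaf)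 (nat_lit 286293938423809) .leaf)))) (nat_lit 286293942681731) (.node (.node (.node (.node (.node .leaf (nat_lit 286296077522945) .leaf) (nat_lit 286296081780867) .leaf) (nat_lit 286296102670465) (.node (.node .leaf (nat_lit 286296106932227) .leaf) (nat_lit 286298233694337) .leaf)) (nat_lit 286298237952003) (.node (.node (.node .leaf (nat_lit 286298250524803) .leaf) (nat_lit 286298254651393) .leaf) (nat_lit 286422787426306) (.node (.node .leaf (nat_lit 286422791698560) .leaf) (nat_lit 286422804219906) .leaf))) (nat_lit 286422808492160) (.node (.node (.node (.node .leaf (nat_lit 286424943419392) .leaf) (nat_lit 286424947544194) .leaf) (nat_lit 286424951810048) (.node (.node .leaf (nat_lit 286424955934850) .leaf) (nat_lit 286427082655874) .leaf)) (nat_lit 286427086927872) (.node (.node (.node .leaf (nat_lit 286427091132544) .leaf) (nat_lit 286427095257090) .leaf) (nat_lit 286431377565824) (.node (.node .leaf (nat_lit 286431381690498) .leaf) (nat_lit 286431385968768) .leaf))))))) (nat_lit 286431390093442) (.node (.node (.node (.node (.node (.node (.node (.node .leaf (nat_lit 286433533485056) .leaf) (nat_lit 286433537609730)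 (.node .leaf (nat_lit 286433541875712) .leaf)) (nat_lit 286433546000386) (.node (.node .leaf (nat_lit 286437820237954) .leaf) (nat_lit 286437824510080) .leaf)) (nat_lit 286437837105280) (.node (.node (.node .leaf (nat_lit 286437841229954) .leaf) (nat_lit 286560226379778) .leaf) (nat_lit 286560230649984) (.node (.node .leaf (nat_lit 286560243173378) .leaf) (nat_lit 286560247443584) .leaf))) (nat_lit 286562382379008) (.node (.node (.node (.node .leaf (nat_lit 286562386493570) .leaf) (nat_lit 286562390765568) .leaf) (nat_lit 286562394884226) (.node (.node .leaf (nat_lit 286564521617538) .leaf) (nat_lit 286564525871104) .leaf)) (nat_lit 286564530079872) (.node (.node (.node .leaf (nat_lit 286564534218754) .leaf) (nat_lit 286568816533632) .leaf) (nat_lit 286568820660354) (.node (.node .leaf (nat_lit 286568824907904) .leaf) (nat_lit 286568829030530) .leaf)))) (nat_lit 286570972428288) (.node (.node (.node (.node (.node .leaf (nat_lit 286570976542722) .leaf) (nat_lit 286570980814848) .leaf) (nat_lit 286570984933378) (.node (.node .leaf (nat_lit 286575259220098) .leaf) (nat_lit 286575263465600) .leaf)) (nat_lit 286575276036224)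 (.node (.node (.node .leaf (nat_lit 286575280171138) .leaf) (nat_lit 286697665411200) .leaf) (nat_lit 286697669531650) (.node (.node .leaf (nat_lit 286697682202752) .leaf) (nat_lit 286697686323202) .leaf))) (nat_lit 286699804459010) (.node (.node (.node (.node .leaf (nat_lit 286699808727168) .leaf) (nat_lit 286699812849666) .leaf) (nat_lit 286699817117824) (.node (.node .leaf (nat_lit 286701952204802) .leaf) (nat_lit 286701956472960) .leaf)) (nat_lit 286701977464832) (.node (.node (.node .leaf (nat_lit 286701981585538) .leaf) (nat_lit 286706247073794) .leaf) (nat_lit 286706251210752) (.node (.node .leaf (nat_lit 286706272256002) .leaf) (nat_lit 286706276392960) .leaf))))) (nat_lit 286708394590210) (.node (.node (.node (.node (.node (.node .leaf (nat_lit 286708398727168) .leaf) (nat_lit 286708402980866) (.node .leaf (nat_lit 286708407117824) .leaf)) (nat_lit 286712698177666) (.node (.node .leaf (nat_lit 286712702314624) .leaf) (nat_lit 286712714915968) .leaf)) (nat_lit 286712719167618) (.node (.node (.node .leaf (nat_lit 286835104362624) .leaf) (nat_lit 286835108485122) .leaf) (nat_lit 286835121158272) (.node (.node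 .leaf (nat_lit 286835125276674) .leaf) (nat_lit 286837243416578) .leaf))) (nat_lit 286837247686784) (.node (.node (.node (.node .leaf (nat_lit 286837251807234) .leaf) (nat_lit 286837256073344) .leaf) (nat_lit 286839391166466) (.node (.node .leaf (nat_lit 286839395420288) .leaf) (nat_lit 286839416412160) .leaf)) (nat_lit 286839420547202) (.node (.node (.node .leaf (nat_lit 286843686043650) .leaf) (nat_lit 286843690182656) .leaf) (nat_lit 286843711193090) (.node (.node .leaf (nat_lit 286843715332096) .leaf) (nat_lit 286845833564162) .leaf)))) (nat_lit 286845837703168) (.node (.node (.node (.node (.node .leaf (nat_lit 286845841954818) .leaf) (nat_lit 286845846089728) .leaf) (nat_lit 286850137159810) (.node (.node .leaf (nat_lit 286850141278336) .leaf) (nat_lit 286850153842816) .leaf)) (nat_lit 286850158108802) (.node (.node (.node .leaf (nat_lit 286972551708673) .leaf) (nat_lit 286972555827203) .leaf) (nat_lit 286972560097281) (.node (.node .leaf (nat_lit 286972564215811) .leaf) (nat_lit 286974690803715) .leaf))) (nat_lit 286974694922241) (.node (.node (.node (.node .leaf (nat_lit 286974707564675) .leaf) (nat_lit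 286974711715969) .leaf) (nat_lit 286978986082433) (.node (.node .leaf (nat_lit 286978990364803) .leaf) (nat_lit 286978994536579) .leaf)) (nat_lit 286978998687873) (.node (.node (.node .leaf (nat_lit 286981141643265) .leaf) (nat_lit 286981145761923) .leaf) (nat_lit 286981150031873) (.node (.node .leaf (nat_lit 286981154150531) .leaf) (nat_lit 286983272267777) .leaf)))))) (nat_lit 286983276550275) (.node (.node (.node (.node (.node (.node (.node .leaf (nat_lit 286983297450113) .leaf) (nat_lit 286983301699587) (.node .leaf (nat_lit 286985420210177) .leaf)) (nat_lit 286985424361603) (.node (.node .leaf (nat_lit 286985436921859) .leaf) (nat_lit 286985441204353) .leaf)) (nat_lit 287109990664193) (.node (.node (.node .leaf (nat_lit 287109994780675) .leaf) (nat_lit 287109999052801) .leaf) (nat_lit 287110003169283) (.node (.node .leaf (nat_lit 287112129761283) .leaf) (nat_lit 287112133869569) .leaf))) (nat_lit 287112146522243) (.node (.node (.node (.node .leaf (nat_lit 287112150663297) .leaf) (nat_lit 287116425050241) .leaf) (nat_lit 287116429322371) (.node (.node .leaf (nat_lit 287116433502339) .leaf) (nat_lit 287116437643393)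 .leaf)) (nat_lit 287118580582401) (.node (.node (.node .leaf (nat_lit 287118584731779) .leaf) (nat_lit 287118588971009) .leaf) (nat_lit 287118593120387) (.node (.node .leaf (nat_lit 287120711243777) .leaf) (nat_lit 287120715483267) .leaf)))) (nat_lit 287120736393345) (.node (.node (.node (.node (.node .leaf (nat_lit 287120740665347) .leaf) (nat_lit 287122859190273) .leaf) (nat_lit 287122863306883) (.node (.node .leaf (nat_lit 287122875899907) .leaf) (nat_lit 287122880147585) .leaf)) (nat_lit 287247412822017) (.node (.node (.node .leaf (nat_lit 287247416969219) .leaf) (nat_lit 287247421210625) .leaf) (nat_lit 287247425357827) (.node (.node .leaf (nat_lit 287249560326147) .leaf) (nat_lit 287249564440577) .leaf))) (nat_lit 287249577089155) (.node (.node (.node (.node .leaf (nat_lit 287249581232257) .leaf) (nat_lit 287253864108163) .leaf) (nat_lit 287253868222593) (.node (.node .leaf (nat_lit 287253872429185) .leaf) (nat_lit 287253876670595) .leaf)) (nat_lit 287256002691073) (.node (.node (.node .leaf (nat_lit 287256006969475) .leaf) (nat_lit 287256011079681) .leaf) (nat_lit 287256015358083) (.node (.node .leaf (nat_lit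 287258150240257) .leaf) (nat_lit 287258154387587) .leaf))))) (nat_lit 287258175424641) (.node (.node (.node (.node (.node (.node .leaf (nat_lit 287258179534851) .leaf) (nat_lit 287260306559107) .leaf) (nat_lit 287260310673409) (.node (.node .leaf (nat_lit 287260323268737) .leaf) (nat_lit 287260327510019) .leaf)) (nat_lit 287384851777537) (.node (.node (.node .leaf (nat_lit 287384855922691) .leaf) (nat_lit 287384860166145) .leaf) (nat_lit 287384864311299) (.node (.node .leaf (nat_lit 287386999275523) .leaf) (nat_lit 287387003387905) .leaf))) (nat_lit 287387016038531) (.node (.node (.node (.node .leaf (nat_lit 287387020183681) .leaf) (nat_lit 287391303065731) .leaf) (nat_lit 287391307178113) (.node (.node .leaf (nat_lit 287391311392897) .leaf) (nat_lit 287391315636355) .leaf)) (nat_lit 287393441662977) (.node (.node (.node .leaf (nat_lit 287393445906563) .leaf) (nat_lit 287393450051585) .leaf) (nat_lit 287393454295171) (.node (.node .leaf (nat_lit 287395589216257) .leaf) (nat_lit 287395593328771) .leaf)))) (nat_lit 287395614363777) (.node (.node (.node (.node (.node .leaf (nat_lit 287395618508803) .leaf) (nat_lit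 287397745504387) .leaf) (nat_lit 287397749649409) (.node (.node .leaf (nat_lit 287397762211969) .leaf) (nat_lit 287397766488067) .leaf)) (nat_lit 287522299054082) (.node (.node (.node .leaf (nat_lit 287522303340672) .leaf) (nat_lit 287522315847682) .leaf) (nat_lit 287522320101504) (.node (.node .leaf (nat_lit 287524438204544) .leaf) (nat_lit 287524442445826) .leaf))) (nat_lit 287524446595200) (.node (.node (.node (.node .leaf (nat_lit 287524450832386) .leaf) (nat_lit 287526586023938) .leaf) (nat_lit 287526590314624) (.node (.node .leaf (nat_lit 287526611265536) .leaf) (nat_lit 287526615404674) .leaf)) (nat_lit 287530889209984) (.node (.node (.node .leaf (nat_lit 287530893316226) .leaf) (nat_lit 287530897580160) .leaf) (nat_lit 287530901723266) (.node (.node .leaf (nat_lit 287533028270208) .leaf) (nat_lit 287533032511618) .leaf))))))))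
def t0_19 : BT := (.node (.node (.node (.node (.node (.node (.node (.node (.node .leaf (nat_lit 287533040898178) .leaf) (nat_lit 287537323409410) (.node .leaf (nat_lit 287537327568896) .leaf)) (nat_lit 287537340129280) (.node (.node .leaf (nat_lit 287537344403458) .leaf) (nat_lit 287659738007554) .leaf)) (nat_lit 287659742296192) (.node (.node (.node .leaf (nat_lit 287659754801154) .leaf) (nat_lit 287659759057024) .leaf) (nat_lit 287661877164160) (.node (.node .leaf (nat_lit 287661881395202) .leaf) (nat_lit 287661885550720) .leaf))) (nat_lit 287661889781762) (.node (.node (.node (.node .leaf (nat_lit 287664024985602) .leaf) (nat_lit 287664029257856) .leaf) (nat_lit 287664050208768) (.node (.node .leaf (nat_lit 287664054366338) .leaf) (nat_lit 287668328145024) .leaf)) (nat_lit 287668332286082) (.node (.node (.node .leaf (nat_lit 287668336552064) .leaf) (nat_lit 287668340660354) .leaf) (nat_lit 287670467213440) (.node (.node .leaf (nat_lit 287670471477378) .leaf) (nat_lit 287670475600000) .leaf)))) (nat_lit 287670479863938) (.node (.node (.node (.node (.node .leaf (nat_lit 287674762391554) .leaf) (nat_lit 287674766491648)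 .leaf) (nat_lit 287674779097088) (.node (.node .leaf (nat_lit 287674783344642) .leaf) (nat_lit 287797168664704) .leaf)) (nat_lit 287797172770818) (.node (.node (.node .leaf (nat_lit 287797185427584) .leaf) (nat_lit 287797189562370) .leaf) (nat_lit 287799332948098) (.node (.node .leaf (nat_lit 287799337066496) .leaf) (nat_lit 287799341334658) .leaf))) (nat_lit 287799345457152) (.node (.node (.node (.node .leaf (nat_lit 287801463963650) .leaf) (nat_lit 287801468250240) .leaf) (nat_lit 287801489207296) (.node (.node .leaf (nat_lit 287801493346434) .leaf) (nat_lit 287805767092226) .leaf)) (nat_lit 287805771243520) (.node (.node (.node .leaf (nat_lit 287805775497218) .leaf) (nat_lit 287805779615744) .leaf) (nat_lit 287807922948226) (.node (.node .leaf (nat_lit 287807927197824) .leaf) (nat_lit 287807931334786) .leaf))))) (nat_lit 287807935588480) (.node (.node (.node (.node (.node (.node .leaf (nat_lit 287812209608834) .leaf) (nat_lit 287812213891200) (.node .leaf (nat_lit 287812226461824) .leaf)) (nat_lit 287812230600834) (.node (.node .leaf (nat_lit 287934607620224) .leaf) (nat_lit 287934611724290) .leaf)) (nat_lit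 287934624379008) (.node (.node (.node .leaf (nat_lit 287934628515842) .leaf) (nat_lit 287936771905666) .leaf) (nat_lit 287936776026112) (.node (.node .leaf (nat_lit 287936780292226) .leaf) (nat_lit 287936784412672) .leaf))) (nat_lit 287938902925314) (.node (.node (.node (.node .leaf (nat_lit 287938907193472) .leaf) (nat_lit 287938928154624) .leaf) (nat_lit 287938932308098) (.node (.node .leaf (nat_lit 287943206062082) .leaf) (nat_lit 287943210182656) .leaf)) (nat_lit 287943214434306) (.node (.node (.node .leaf (nat_lit 287943218587648) .leaf) (nat_lit 287945361889410) .leaf) (nat_lit 287945366173824) (.node (.node .leaf (nat_lit 287945370275970) .leaf) (nat_lit 287945374560384) .leaf)))) (nat_lit 287949648590978) (.node (.node (.node (.node (.node .leaf (nat_lit 287949652826240) .leaf) (nat_lit 287949665421440) .leaf) (nat_lit 287949669542018) (.node (.node .leaf (nat_lit 288072054870019) .leaf) (nat_lit 288072059158529) .leaf)) (nat_lit 288072063377409) (.node (.node (.node .leaf (nat_lit 288072067477507) .leaf) (nat_lit 288076350099587) .leaf) (nat_lit 288076354388097) (.node (.node .leaf (nat_lit 288076366901379)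 .leaf) (nat_lit 288076371189889) .leaf))) (nat_lit 288078506090625) (.node (.node (.node (.node .leaf (nat_lit 288078510190723) .leaf) (nat_lit 288078514483201) .leaf) (nat_lit 288078518575107) (.node (.node .leaf (nat_lit 288082792550403) .leaf) (nat_lit 288082796839041) .leaf)) (nat_lit 288082809450625) (.node (.node (.node .leaf (nat_lit 288082813542403) .leaf) (nat_lit 288084939870337) .leaf) (nat_lit 288084943962115) (.node (.node .leaf (nat_lit 288084948279297) .leaf) (nat_lit 288084952379523) .leaf)))))) (nat_lit 288087095763073) (.node (.node (.node (.node (.node (.node (.node .leaf (nat_lit 288087099863043) .leaf) (nat_lit 288087104155649) (.node .leaf (nat_lit 288087108247683) .leaf)) (nat_lit 288209493923841) (.node (.node .leaf (nat_lit 288209498013699) .leaf) (nat_lit 288209502232579) .leaf)) (nat_lit 288209506531329) (.node (.node (.node .leaf (nat_lit 288213789161601) .leaf) (nat_lit 288213793251459) .leaf) (nat_lit 288213805947009) (.node (.node .leaf (nat_lit 288213810036867) .leaf) (nat_lit 288215944941699) .leaf))) (nat_lit 288215949232257) (.node (.node (.node (.node .leaf (nat_lit 288215953326083)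 .leaf) (nat_lit 288215957624833) .leaf) (nat_lit 288220231616513) (.node (.node .leaf (nat_lit 288220235714691) .leaf) (nat_lit 288220248285315) .leaf)) (nat_lit 288220252583937) (.node (.node (.node .leaf (nat_lit 288222378750083) .leaf) (nat_lit 288222383040513) .leaf) (nat_lit 288222387109891) (.node (.node .leaf (nat_lit 288222391408769) .leaf) (nat_lit 288224534597763) .leaf)))) (nat_lit 288224538888193) (.node (.node (.node (.node (.node .leaf (nat_lit 288224542982147) .leaf) (nat_lit 288224547281025) .leaf) (nat_lit 288346924482561) (.node (.node .leaf (nat_lit 288346928578563) .leaf) (nat_lit 288346949576707) .leaf)) (nat_lit 288346953869313) (.node (.node (.node .leaf (nat_lit 288351228035203) .leaf) (nat_lit 288351232262273) .leaf) (nat_lit 288351244839043) (.node (.node .leaf (nat_lit 288351249066113) .leaf) (nat_lit 288353367162881) .leaf))) (nat_lit 288353371324419) (.node (.node (.node (.node .leaf (nat_lit 288353375555713) .leaf) (nat_lit 288353379717251) .leaf) (nat_lit 288357670490113) (.node (.node .leaf (nat_lit 288357674717315) .leaf) (nat_lit 288357687322755) .leaf)) (nat_lit 288357691484161)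 (.node (.node (.node .leaf (nat_lit 288359809286145) .leaf) (nat_lit 288359813578883) .leaf) (nat_lit 288359834482817) (.node (.node .leaf (nat_lit 288359838775299) .leaf) (nat_lit 288361956769793) .leaf))))) (nat_lit 288361961062531) (.node (.node (.node (.node (.node (.node .leaf (nat_lit 288361965162625) .leaf) (nat_lit 288361969455107) .leaf) (nat_lit 288484363341827) (.node (.node .leaf (nat_lit 288484367636481) .leaf) (nat_lit 288484388630529) .leaf)) (nat_lit 288484392728579) (.node (.node (.node .leaf (nat_lit 288488667035777) .leaf) (nat_lit 288488671195267) .leaf) (nat_lit 288488683819137) (.node (.node .leaf (nat_lit 288488687982723) .leaf) (nat_lit 288490806091779) .leaf))) (nat_lit 288490810320897) (.node (.node (.node (.node .leaf (nat_lit 288490814484611) .leaf) (nat_lit 288490818713729) .leaf) (nat_lit 288495109492739) (.node (.node .leaf (nat_lit 288495113656449) .leaf) (nat_lit 288495126225025) .leaf)) (nat_lit 288495130454019) (.node (.node (.node .leaf (nat_lit 288497248366595) .leaf) (nat_lit 288497252464769) .leaf) (nat_lit 288497273505923) (.node (.node .leaf (nat_lit 288497277599745) .leaf)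 (nat_lit 288499395846147) .leaf)))) (nat_lit 288499399944321) (.node (.node (.node (.node (.node .leaf (nat_lit 288499404238979) .leaf) (nat_lit 288499408336897) .leaf) (nat_lit 288623958202370) (.node (.node .leaf (nat_lit 288623962433664) .leaf) (nat_lit 288623966633984) .leaf)) (nat_lit 288623970807938) (.node (.node (.node .leaf (nat_lit 288626114412672) .leaf) (nat_lit 288626118520834) .leaf) (nat_lit 288626122807296) (.node (.node .leaf (nat_lit 288626126907522) .leaf) (nat_lit 288628253431938) .leaf))) (nat_lit 288628257662976) (.node (.node (.node (.node .leaf (nat_lit 288628270233602) .leaf) (nat_lit 288628274448512) .leaf) (nat_lit 288630401013762) (.node (.node .leaf (nat_lit 288630405310464) .leaf) (nat_lit 288630417905792) .leaf)) (nat_lit 288630422005890) (.node (.node (.node .leaf (nat_lit 288634704216192) .leaf) (nat_lit 288634708324482) .leaf) (nat_lit 288634712610816) (.node (.node .leaf (nat_lit 288634716710914) .leaf) (nat_lit 288636843276288) .leaf))))))) (nat_lit 288636847425538) (.node (.node (.node (.node (.node (.node (.node (.node .leaf (nat_lit 288636851666944) .leaf) (nat_lit 288636855840770)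 (.node .leaf (nat_lit 288761397190784) .leaf)) (nat_lit 288761401350146) (.node (.node .leaf (nat_lit 288761405567106) .leaf) (nat_lit 288761409783808) .leaf)) (nat_lit 288763553267714) (.node (.node (.node .leaf (nat_lit 288763557574784) .leaf) (nat_lit 288763561662594) .leaf) (nat_lit 288763565957120) (.node (.node .leaf (nat_lit 288765692411904) .leaf) (nat_lit 288765696587906) .leaf))) (nat_lit 288765709213824) (.node (.node (.node (.node .leaf (nat_lit 288765713373186) .leaf) (nat_lit 288767840088192) .leaf) (nat_lit 288767844173954) (.node (.node .leaf (nat_lit 288767856752642) .leaf) (nat_lit 288767861030912) .leaf)) (nat_lit 288772143054850) (.node (.node (.node .leaf (nat_lit 288772147361792) .leaf) (nat_lit 288772151449730) .leaf) (nat_lit 288772155744384) (.node (.node .leaf (nat_lit 288774282209410) .leaf) (nat_lit 288774286430336) .leaf)))) (nat_lit 288774290575490) (.node (.node (.node (.node (.node .leaf (nat_lit 288774294808704) .leaf) (nat_lit 288898827714562) .leaf) (nat_lit 288898831949952) (.node (.node .leaf (nat_lit 288898852929536) .leaf) (nat_lit 288898857099394) .leaf)) (nat_lit 288900975460354)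 (.node (.node (.node .leaf (nat_lit 288900979695744) .leaf) (nat_lit 288900983855234) .leaf) (nat_lit 288900988090368) (.node (.node .leaf (nat_lit 288903131408384) .leaf) (nat_lit 288903135496322) .leaf))) (nat_lit 288903148191872) (.node (.node (.node (.node .leaf (nat_lit 288903152295938) .leaf) (nat_lit 288905278986242) .leaf) (nat_lit 288905283155968) (.node (.node .leaf (nat_lit 288905295741056) .leaf) (nat_lit 288905299976322) .leaf)) (nat_lit 288909565329410) (.node (.node (.node .leaf (nat_lit 288909569433600) .leaf) (nat_lit 288909573724290) .leaf) (nat_lit 288909577828480) (.node (.node .leaf (nat_lit 288911712780290) .leaf) (nat_lit 288911716950016) .leaf))))) (nat_lit 288911737974786) (.node (.node (.node (.node (.node (.node .leaf (nat_lit 288911742128128) .leaf) (nat_lit 289036266711168) (.node .leaf (nat_lit 289036270862338) .leaf)) (nat_lit 289036291858562) (.node (.node .leaf (nat_lit 289036296079360) .leaf) (nat_lit 289038414452864) .leaf)) (nat_lit 289038418620418) (.node (.node (.node .leaf (nat_lit 289038422835200) .leaf) (nat_lit 289038427007106) .leaf) (nat_lit 289040570263682) (.node (.node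 .leaf (nat_lit 289040574545920) .leaf) (nat_lit 289040587046914) .leaf))) (nat_lit 289040591349888) (.node (.node (.node (.node .leaf (nat_lit 289042717925504) .leaf) (nat_lit 289042722146434) .leaf) (nat_lit 289042734723074) (.node (.node .leaf (nat_lit 289042738878464) .leaf) (nat_lit 289047004207232) .leaf)) (nat_lit 289047008505986) (.node (.node (.node .leaf (nat_lit 289047012589568) .leaf) (nat_lit 289047016892418) .leaf) (nat_lit 289049151719552) (.node (.node .leaf (nat_lit 289049155952770) .leaf) (nat_lit 289049176881280) .leaf)))) (nat_lit 289049181098114) (.node (.node (.node (.node (.node .leaf (nat_lit 289171566497794) .leaf) (nat_lit 289171570804864) .leaf) (nat_lit 289171574988928) (.node (.node .leaf (nat_lit 289171579107330) .leaf) (nat_lit 289175861972992) .leaf)) (nat_lit 289175866050690) (.node (.node (.node .leaf (nat_lit 289175878742016) .leaf) (nat_lit 289175882852482) .leaf) (nat_lit 289178017816706) (.node (.node .leaf (nat_lit 289178021967872) .leaf) (nat_lit 289178026209282) .leaf))) (nat_lit 289178030352512) (.node (.node (.node (.node .leaf (nat_lit 289182295851010) .leaf) (nat_lit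 289182300035072) .leaf) (nat_lit 289182312603648) (.node (.node .leaf (nat_lit 289182316853250) .leaf) (nat_lit 289184443138050) .leaf)) (nat_lit 289184447453184) (.node (.node (.node .leaf (nat_lit 289184468332674) .leaf) (nat_lit 289184472606848) .leaf) (nat_lit 289186607489154) (.node (.node .leaf (nat_lit 289186611640448) .leaf) (nat_lit 289186615881730) .leaf)))))) (nat_lit 289186620024832) (.node (.node (.node (.node (.node (.node (.node .leaf (nat_lit 289309005568128) .leaf) (nat_lit 289309009643522) (.node .leaf (nat_lit 289309013860354) .leaf)) (nat_lit 289309018140800) (.node (.node .leaf (nat_lit 289313300820098) .leaf) (nat_lit 289313305124864) .leaf)) (nat_lit 289313317605506) (.node (.node (.node .leaf (nat_lit 289313321877504) .leaf) (nat_lit 289315456718848) .leaf) (nat_lit 289315460958338) (.node (.node .leaf (nat_lit 289315465103488) .leaf) (nat_lit 289315469350914) .leaf))) (nat_lit 289319734777984) (.node (.node (.node (.node .leaf (nat_lit 289319739017346) .leaf) (nat_lit 289319751594114) .leaf) (nat_lit 289319755767936) (.node (.node .leaf (nat_lit 289321882200192) .leaf) (nat_lit 289321886316674)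 .leaf)) (nat_lit 289321907378176) (.node (.node (.node .leaf (nat_lit 289321911453698) .leaf) (nat_lit 289324046407680) .leaf) (nat_lit 289324050614274) (.node (.node .leaf (nat_lit 289324054792320) .leaf) (nat_lit 289324059007106) .leaf)))) (nat_lit 289446444515456) (.node (.node (.node (.node (.node .leaf (nat_lit 289446448596994) .leaf) (nat_lit 289446452815874) .leaf) (nat_lit 289446457090176) (.node (.node .leaf (nat_lit 289450731458688) .leaf) (nat_lit 289450735605762) .leaf)) (nat_lit 289450748229760) (.node (.node (.node .leaf (nat_lit 289450752405506) .leaf) (nat_lit 289452878954498) .leaf) (nat_lit 289452883069056) (.node (.node .leaf (nat_lit 289452887347330) .leaf) (nat_lit 289452891461632) .leaf))) (nat_lit 289457182195840) (.node (.node (.node (.node .leaf (nat_lit 289457186277506) .leaf) (nat_lit 289457198889090) .leaf) (nat_lit 289457203163264) (.node (.node .leaf (nat_lit 289459321143298) .leaf) (nat_lit 289459325257728) .leaf)) (nat_lit 289459346339970) (.node (.node (.node .leaf (nat_lit 289459350417536) .leaf) (nat_lit 289461468561410) .leaf) (nat_lit 289461472806912) (.node (.node .leaf (nat_lit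 289461476954242) .leaf) (nat_lit 289461481199744) .leaf))))) (nat_lit 289583883358210) (.node (.node (.node (.node (.node (.node .leaf (nat_lit 289583887667328) .leaf) (nat_lit 289583891853440) .leaf) (nat_lit 289583895965698) (.node (.node .leaf (nat_lit 289588170366978) .leaf) (nat_lit 289588174610560) .leaf)) (nat_lit 289588187154434) (.node (.node (.node .leaf (nat_lit 289588191365248) .leaf) (nat_lit 289590317836416) .leaf) (nat_lit 289590322112514) (.node (.node .leaf (nat_lit 289590326228992) .leaf) (nat_lit 289590330505346) .leaf))) (nat_lit 289594621050882) (.node (.node (.node (.node .leaf (nat_lit 289594625327104) .leaf) (nat_lit 289594637938688) .leaf) (nat_lit 289594642018306) (.node (.node .leaf (nat_lit 289596760012928) .leaf) (nat_lit 289596764321922) .leaf)) (nat_lit 289596785180672) (.node (.node (.node .leaf (nat_lit 289596789456898) .leaf) (nat_lit 289598907558016) .leaf) (nat_lit 289598911735938) (.node (.node .leaf (nat_lit 289598915950592) .leaf) (nat_lit 289598920128514) .leaf)))) (nat_lit 289723461402625) (.node (.node (.node (.node (.node .leaf (nat_lit 289723465725955) .leaf) (nat_lit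 289723486673027) .leaf) (nat_lit 289723490787457) (.node (.node .leaf (nat_lit 289725609304067) .leaf) (nat_lit 289725613578241) .leaf)) (nat_lit 289725617698947) (.node (.node (.node .leaf (nat_lit 289725621960833) .leaf) (nat_lit 289727765158017) .leaf) (nat_lit 289727769469059) (.node (.node .leaf (nat_lit 289727781959681) .leaf) (nat_lit 289727786221571) .leaf))) (nat_lit 289729904345089) (.node (.node (.node (.node .leaf (nat_lit 289729908471939) .leaf) (nat_lit 289729921024003) .leaf) (nat_lit 289729925347457) (.node (.node .leaf (nat_lit 289734198845443) .leaf) (nat_lit 289734203119745) .leaf)) (nat_lit 289734207240323) (.node (.node (.node .leaf (nat_lit 289734211502081) .leaf) (nat_lit 289736354822275) .leaf) (nat_lit 289736358887425) (.node (.node .leaf (nat_lit 289736363180163) .leaf) (nat_lit 289736367306753) .leaf))))))))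
def t0_20 : BT := (.node (.node (.node (.node (.node (.node (.node (.node (.node .leaf (nat_lit 289860904550401) .leaf) (nat_lit 289860925546625) (.node .leaf (nat_lit 289860929818755) .leaf)) (nat_lit 289863048341505) (.node (.node .leaf (nat_lit 289863052449795) .leaf) (nat_lit 289863056732289) .leaf)) (nat_lit 289863060832387) (.node (.node (.node .leaf (nat_lit 289865204222083) .leaf) (nat_lit 289865208313985) .leaf) (nat_lit 289865220990979) (.node (.node .leaf (nat_lit 289865225099265) .leaf) (nat_lit 289867343208451) .leaf))) (nat_lit 289867347513473) (.node (.node (.node (.node .leaf (nat_lit 289867360086017) .leaf) (nat_lit 289867364194435) .leaf) (nat_lit 289871637899265) (.node (.node .leaf (nat_lit 289871641974915) .leaf) (nat_lit 289871646290049) .leaf)) (nat_lit 289871650357251) (.node (.node (.node .leaf (nat_lit 289873793671297) .leaf) (nat_lit 289873797943299) .leaf) (nat_lit 289873802041473) (.node (.node .leaf (nat_lit 289873806354435) .leaf) (nat_lit 289998339309569) .leaf)))) (nat_lit 289998343628803) (.node (.node (.node (.node (.node .leaf (nat_lit 289998364573827) .leaf) (nat_lit 289998368696449)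 .leaf) (nat_lit 290000504055809) (.node (.node .leaf (nat_lit 290000508190723) .leaf) (nat_lit 290000512446593) .leaf)) (nat_lit 290000516585603) (.node (.node (.node .leaf (nat_lit 290002634764291) .leaf) (nat_lit 290002638903297) .leaf) (nat_lit 290002651519107) (.node (.node .leaf (nat_lit 290002655703169) .leaf) (nat_lit 290004790581249) .leaf))) (nat_lit 290004794830979) (.node (.node (.node (.node .leaf (nat_lit 290004807385091) .leaf) (nat_lit 290004811573377) .leaf) (nat_lit 290009093531649) (.node (.node .leaf (nat_lit 290009097797763) .leaf) (nat_lit 290009101922433) .leaf)) (nat_lit 290009106192387) (.node (.node (.node .leaf (nat_lit 290011232704641) .leaf) (nat_lit 290011236823043) .leaf) (nat_lit 290011241113729) (.node (.node .leaf (nat_lit 290011245182979) .leaf) (nat_lit 290135778385923) .leaf))))) (nat_lit 290135782457345) (.node (.node (.node (.node (.node (.node .leaf (nat_lit 290135803455617) .leaf) (nat_lit 290135807723651) (.node .leaf (nat_lit 290137942964227) .leaf)) (nat_lit 290137947199489) (.node (.node .leaf (nat_lit 290137951346819) .leaf) (nat_lit 290137955582081) .leaf)) (nat_lit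 290140073670657) (.node (.node (.node .leaf (nat_lit 290140077905923) .leaf) (nat_lit 290140090454145) .leaf) (nat_lit 290140094673027) (.node (.node .leaf (nat_lit 290142229571587) .leaf) (nat_lit 290142233741441) .leaf))) (nat_lit 290142246320129) (.node (.node (.node (.node .leaf (nat_lit 290142250555523) .leaf) (nat_lit 290146532587523) .leaf) (nat_lit 290146536659073) (.node (.node .leaf (nat_lit 290146540970115) .leaf) (nat_lit 290146545041409) .leaf)) (nat_lit 290148671559811) (.node (.node (.node .leaf (nat_lit 290148675876865) .leaf) (nat_lit 290148679968899) .leaf) (nat_lit 290148684236801) (.node (.node .leaf (nat_lit 290273217609729) .leaf) (nat_lit 290273221681155) .leaf)))) (nat_lit 290273242792065) (.node (.node (.node (.node (.node .leaf (nat_lit 290273246863491) .leaf) (nat_lit 290275381477379) .leaf) (nat_lit 290275385810945) (.node (.node .leaf (nat_lit 290275389882499) .leaf) (nat_lit 290275394216065) .leaf)) (nat_lit 290277512577025) (.node (.node (.node .leaf (nat_lit 290277516648451) .leaf) (nat_lit 290277529223299) .leaf) (nat_lit 290277533556865) (.node (.node .leaf (nat_lit 290281807544321)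 .leaf) (nat_lit 290281811615875) .leaf))) (nat_lit 290281824321665) (.node (.node (.node (.node .leaf (nat_lit 290281828392963) .leaf) (nat_lit 290283963039875) .leaf) (nat_lit 290283967373313) (.node (.node .leaf (nat_lit 290283971543041) .leaf) (nat_lit 290283975614595) .leaf)) (nat_lit 290286102511617) (.node (.node (.node .leaf (nat_lit 290286106583171) .leaf) (nat_lit 290286110916737) .leaf) (nat_lit 290286114988035) (.node (.node .leaf (nat_lit 290410656569345) .leaf) (nat_lit 290410660638723) .leaf)))))) (nat_lit 290410681751681) (.node (.node (.node (.node (.node (.node (.node .leaf (nat_lit 290410685821059) .leaf) (nat_lit 290412803661827) (.node .leaf (nat_lit 290412807981057) .leaf)) (nat_lit 290412812066947) (.node (.node .leaf (nat_lit 290412816386177) .leaf) (nat_lit 290414959816835) .leaf)) (nat_lit 290414964136065) (.node (.node (.node .leaf (nat_lit 290414976727041) .leaf) (nat_lit 290414980780035) .leaf) (nat_lit 290419254892545) (.node (.node .leaf (nat_lit 290419258962051) .leaf) (nat_lit 290419271669889) .leaf))) (nat_lit 290419275739139) (.node (.node (.node (.node .leaf (nat_lit 290421402118273)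 .leaf) (nat_lit 290421406171139) .leaf) (nat_lit 290421410390019) (.node (.node .leaf (nat_lit 290421414709377) .leaf) (nat_lit 290423558273153) .leaf)) (nat_lit 290423562326019) (.node (.node (.node .leaf (nat_lit 290423566645249) .leaf) (nat_lit 290423570698371) .leaf) (nat_lit 290548103925888) (.node (.node .leaf (nat_lit 290548107993090) .leaf) (nat_lit 290548112300032) .leaf)))) (nat_lit 290548116367490) (.node (.node (.node (.node (.node .leaf (nat_lit 290550242639874) .leaf) (nat_lit 290550246977664) .leaf) (nat_lit 290550251044994) (.node (.node .leaf (nat_lit 290550255382528) .leaf) (nat_lit 290552390385666) .leaf)) (nat_lit 290552394723456) (.node (.node (.node .leaf (nat_lit 290552407300096) .leaf) (nat_lit 290552411367554) .leaf) (nat_lit 290556685521024) (.node (.node .leaf (nat_lit 290556689588354) .leaf) (nat_lit 290556702300160) .leaf))) (nat_lit 290556706367490) (.node (.node (.node (.node .leaf (nat_lit 290558832775296) .leaf) (nat_lit 290558836842626) .leaf) (nat_lit 290558857824386) (.node (.node .leaf (nat_lit 290558862162048) .leaf) (nat_lit 290560997300224) .leaf)) (nat_lit 290561001367554)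 (.node (.node (.node .leaf (nat_lit 290561005705344) .leaf) (nat_lit 290561009772674) .leaf) (nat_lit 290685542877312) (.node (.node .leaf (nat_lit 290685546950658) .leaf) (nat_lit 290685551247360) .leaf))))) (nat_lit 290685555325058) (.node (.node (.node (.node (.node (.node .leaf (nat_lit 290687698380802) .leaf) (nat_lit 290687702700160) .leaf) (nat_lit 290687706785922) (.node (.node .leaf (nat_lit 290687711105024) .leaf) (nat_lit 290689837885440) .leaf)) (nat_lit 290689841942658) (.node (.node (.node .leaf (nat_lit 290689854535682) .leaf) (nat_lit 290689858846848) .leaf) (nat_lit 290694132861056) (.node (.node .leaf (nat_lit 290694136934530) .leaf) (nat_lit 290694149636096) .leaf))) (nat_lit 290694153713666) (.node (.node (.node (.node .leaf (nat_lit 290696271618050) .leaf) (nat_lit 290696275941376) .leaf) (nat_lit 290696296902656) (.node (.node .leaf (nat_lit 290696300955650) .leaf) (nat_lit 290698419497088) .leaf)) (nat_lit 290698423554178) (.node (.node (.node .leaf (nat_lit 290698427869184) .leaf) (nat_lit 290698431926274) .leaf) (nat_lit 290820825677825) (.node (.node .leaf (nat_lit 290820829741059) .leaf)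 (nat_lit 290820850862081) .leaf)))) (nat_lit 290820854925315) (.node (.node (.node (.node (.node .leaf (nat_lit 290825120645121) .leaf) (nat_lit 290825124708355) .leaf) (nat_lit 290825137299459) (.node (.node .leaf (nat_lit 290825141624833) .leaf) (nat_lit 290827285078147) .leaf)) (nat_lit 290827289403521) (.node (.node (.node .leaf (nat_lit 290827293485059) .leaf) (nat_lit 290827297810433) .leaf) (nat_lit 290829415481345) (.node (.node .leaf (nat_lit 290829419806851) .leaf) (nat_lit 290829432258561) .leaf))) (nat_lit 290829436584067) (.node (.node (.node (.node .leaf (nat_lit 290833710448641) .leaf) (nat_lit 290833714774147) .leaf) (nat_lit 290833718855809) (.node (.node .leaf (nat_lit 290833723181059) .leaf) (nat_lit 290835866773635) .leaf)) (nat_lit 290835870836737) (.node (.node (.node .leaf (nat_lit 290835875004545) .leaf) (nat_lit 290835879329795) .leaf) (nat_lit 290958264633345) (.node (.node .leaf (nat_lit 290958268694531) .leaf) (nat_lit 290958289813505) .leaf))))))) (nat_lit 290958293878787) (.node (.node (.node (.node (.node (.node (.node (.node .leaf (nat_lit 290962567874691) .leaf) (nat_lit 290962572198017)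 (.node .leaf (nat_lit 290962584789121) .leaf)) (nat_lit 290962588854403) (.node (.node .leaf (nat_lit 290964707250179) .leaf) (nat_lit 290964711577601) .leaf)) (nat_lit 290964715657347) (.node (.node (.node .leaf (nat_lit 290964719980673) .leaf) (nat_lit 290966862823425) .leaf) (nat_lit 290966867150979) (.node (.node .leaf (nat_lit 290966879600641) .leaf) (nat_lit 290966883928195) .leaf))) (nat_lit 290971166205953) (.node (.node (.node (.node .leaf (nat_lit 290971170529411) .leaf) (nat_lit 290971174576257) .leaf) (nat_lit 290971178903555) (.node (.node .leaf (nat_lit 290973305581697) .leaf) (nat_lit 290973309908995) .leaf)) (nat_lit 290973314109571) (.node (.node (.node .leaf (nat_lit 290973318174721) .leaf) (nat_lit 291095711860738) .leaf) (nat_lit 291095716190336) (.node (.node .leaf (nat_lit 291095720232962) .leaf) (nat_lit 291095724562560) .leaf)))) (nat_lit 291099998597248) (.node (.node (.node (.node (.node .leaf (nat_lit 291100002656258) .leaf) (nat_lit 291100015233026) .leaf) (nat_lit 291100019562624) (.node (.node .leaf (nat_lit 291102146310272) .leaf) (nat_lit 291102150369282) .leaf)) (nat_lit 291102154717184)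 (.node (.node (.node .leaf (nat_lit 291102158776450) .leaf) (nat_lit 291104293584898) .leaf) (nat_lit 291104297652224) (.node (.node .leaf (nat_lit 291104310364162) .leaf) (nat_lit 291104314431488) .leaf))) (nat_lit 291108605364226) (.node (.node (.node (.node .leaf (nat_lit 291108609431552) .leaf) (nat_lit 291108613767298) .leaf) (nat_lit 291108617834624) (.node (.node .leaf (nat_lit 291110736297986) .leaf) (nat_lit 291110740365312) .leaf)) (nat_lit 291110761361536) (.node (.node (.node .leaf (nat_lit 291110765682818) .leaf) (nat_lit 291233150814210) .leaf) (nat_lit 291233155141760) (.node (.node .leaf (nat_lit 291233159186434) .leaf) (nat_lit 291233163513984) .leaf))))) (nat_lit 291237445822594) (.node (.node (.node (.node (.node (.node .leaf (nat_lit 291237450149888) .leaf) (nat_lit 291237462726656) (.node .leaf (nat_lit 291237466783874) .leaf)) (nat_lit 291239602028544) (.node (.node .leaf (nat_lit 291239606098050) .leaf) (nat_lit 291239610435712) .leaf)) (nat_lit 291239614500866) (.node (.node (.node .leaf (nat_lit 291241740929026) .leaf) (nat_lit 291241744994304) .leaf) (nat_lit 291241757704194) (.node (.node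 .leaf (nat_lit 291241761773568) .leaf) (nat_lit 291246027563010) .leaf))) (nat_lit 291246031632384) (.node (.node (.node (.node .leaf (nat_lit 291246035937410) .leaf) (nat_lit 291246040002688) .leaf) (nat_lit 291248175138944) (.node (.node .leaf (nat_lit 291248179466370) .leaf) (nat_lit 291248200429570) .leaf)) (nat_lit 291248204490752) (.node (.node (.node .leaf (nat_lit 291372729303041) .leaf) (nat_lit 291372733392899) .leaf) (nat_lit 291372754485377) (.node (.node .leaf (nat_lit 291372758542467) .leaf) (nat_lit 291374876327937) .leaf)))) (nat_lit 291374880679939) (.node (.node (.node (.node (.node .leaf (nat_lit 291374884733057) .leaf) (nat_lit 291374889052291) .leaf) (nat_lit 291377032544385) (.node (.node .leaf (nat_lit 291377036863619) .leaf) (nat_lit 291377049436163) .leaf)) (nat_lit 291377053526017) (.node (.node (.node .leaf (nat_lit 291381319237633) .leaf) (nat_lit 291381323327619) .leaf) (nat_lit 291381336014977) (.node (.node .leaf (nat_lit 291381340104707) .leaf) (nat_lit 291383466409987) .leaf))) (nat_lit 291383470467201) (.node (.node (.node (.node .leaf (nat_lit 291383491444865) .leaf) (nat_lit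 291383495763971) .leaf) (nat_lit 291385630998659) (.node (.node .leaf (nat_lit 291385635055617) .leaf) (nat_lit 291385639370755) .leaf)) (nat_lit 291385643460737) (.node (.node (.node .leaf (nat_lit 291510168262657) .leaf) (nat_lit 291510172350467) .leaf) (nat_lit 291510193444993) (.node (.node .leaf (nat_lit 291510197500035) .leaf) (nat_lit 291512332068865) .leaf)))))) (nat_lit 291512336402435) (.node (.node (.node (.node (.node (.node (.node .leaf (nat_lit 291512340473985) .leaf) (nat_lit 291512344774787) (.node .leaf (nat_lit 291514463252483) .leaf)) (nat_lit 291514467291137) (.node (.node .leaf (nat_lit 291514479884417) .leaf) (nat_lit 291514484217987) .leaf)) (nat_lit 291518766585857) (.node (.node (.node .leaf (nat_lit 291518770673795) .leaf) (nat_lit 291518783363201) .leaf) (nat_lit 291518787450883) (.node (.node .leaf (nat_lit 291520905242625) .leaf) (nat_lit 291520909543555) .leaf))) (nat_lit 291520930537603) (.node (.node (.node (.node .leaf (nat_lit 291520934576129) .leaf) (nat_lit 291523053170691) .leaf) (nat_lit 291523057242241) (.node (.node .leaf (nat_lit 291523061575811) .leaf) (nat_lit 291523065614337)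 .leaf)) (nat_lit 291647607230592) (.node (.node (.node .leaf (nat_lit 291647611283458) .leaf) (nat_lit 291647632381952) .leaf) (nat_lit 291647636463746) (.node (.node .leaf (nat_lit 291649771067520) .leaf) (nat_lit 291649775378434) .leaf)))) (nat_lit 291649779439616) (.node (.node (.node (.node (.node .leaf (nat_lit 291649783783554) .leaf) (nat_lit 291651902210050) .leaf) (nat_lit 291651906304128) (.node (.node .leaf (nat_lit 291651918878720) .leaf) (nat_lit 291651923189890) .leaf)) (nat_lit 291656205471872) (.node (.node (.node .leaf (nat_lit 291656209557634) .leaf) (nat_lit 291656222251008) .leaf) (nat_lit 291656226332674) (.node (.node .leaf (nat_lit 291658344288384) .leaf) (nat_lit 291658348603522) .leaf))) (nat_lit 291658369583234) (.node (.node (.node (.node .leaf (nat_lit 291658373640320) .leaf) (nat_lit 291660492079106) .leaf) (nat_lit 291660496173056) (.node (.node .leaf (nat_lit 291660500484226) .leaf) (nat_lit 291660504545408) .leaf)) (nat_lit 291785046182016) (.node (.node (.node .leaf (nat_lit 291785050241026) .leaf) (nat_lit 291785071329280) .leaf) (nat_lit 291785075421314) (.node (.node .leaf (nat_lit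 291787193251968) .leaf) (nat_lit 291787197548546) .leaf))))) (nat_lit 291787201624064) (.node (.node (.node (.node (.node (.node .leaf (nat_lit 291787205953666) .leaf) (nat_lit 291789349431296) .leaf) (nat_lit 291789353769090) (.node (.node .leaf (nat_lit 291789366360066) .leaf) (nat_lit 291789370394752) .leaf)) (nat_lit 291793636034688) (.node (.node (.node .leaf (nat_lit 291793640126594) .leaf) (nat_lit 291793652809728) .leaf) (nat_lit 291793656901634) (.node (.node .leaf (nat_lit 291795783376898) .leaf) (nat_lit 291795787419648) .leaf))) (nat_lit 291795808415744) (.node (.node (.node (.node .leaf (nat_lit 291795812712450) .leaf) (nat_lit 291797947840642) .leaf) (nat_lit 291797951875200) (.node (.node .leaf (nat_lit 291797956212738) .leaf) (nat_lit 291797960280064) .leaf)) (nat_lit 291920345712641) (.node (.node (.node .leaf (nat_lit 291920349757443) .leaf) (nat_lit 291920354082817) .leaf) (nat_lit 291920358164483) (.node (.node .leaf (nat_lit 291924640671875) .leaf) (nat_lit 291924644749441) .leaf)))) (nat_lit 291924657326209) (.node (.node (.node (.node (.node .leaf (nat_lit 291924661633155) .leaf) (nat_lit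 291926796763265) .leaf) (nat_lit 291926801107075) (.node (.node .leaf (nat_lit 291926805170177) .leaf) (nat_lit 291926809477123) .leaf)) (nat_lit 291928927109121) (.node (.node (.node .leaf (nat_lit 291928931453059) .leaf) (nat_lit 291928943886337) .leaf) (nat_lit 291928948230275) (.node (.node .leaf (nat_lit 291933222100995) .leaf) (nat_lit 291933226412161) .leaf))) (nat_lit 291933230475395) (.node (.node (.node (.node .leaf (nat_lit 291933234814977) .leaf) (nat_lit 291935378458753) .leaf) (nat_lit 291935382503427) (.node (.node .leaf (nat_lit 291935386722435) .leaf) (nat_lit 291935391033345) .leaf)) (nat_lit 292057784664065) (.node (.node (.node .leaf (nat_lit 292057788710915) .leaf) (nat_lit 292057793038337) .leaf) (nat_lit 292057797117955) (.node (.node .leaf (nat_lit 292062071105537) .leaf) (nat_lit 292062075447299) .leaf))))))))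
def t0_21 : BT := (.node (.node (.node (.node (.node (.node (.node (.node (.node .leaf (nat_lit 292062092066817) .leaf) (nat_lit 292064218953729) (.node .leaf (nat_lit 292064223295491) .leaf)) (nat_lit 292064227356801) (.node (.node .leaf (nat_lit 292064231665795) .leaf) (nat_lit 292066374451201) .leaf)) (nat_lit 292066378793091) (.node (.node (.node .leaf (nat_lit 292066391228417) .leaf) (nat_lit 292066395570307) .leaf) (nat_lit 292070677807107) (.node (.node .leaf (nat_lit 292070682148993) .leaf) (nat_lit 292070686214275) .leaf))) (nat_lit 292070690523137) (.node (.node (.node (.node .leaf (nat_lit 292072817285251) .leaf) (nat_lit 292072821594113) .leaf) (nat_lit 292072825813121) (.node (.node .leaf (nat_lit 292072829859843) .leaf) (nat_lit 292195223488514) .leaf)) (nat_lit 292195227799680) (.node (.node (.node .leaf (nat_lit 292195231860738) .leaf) (nat_lit 292195236204672) .leaf) (nat_lit 292199510212610) (.node (.node .leaf (nat_lit 292199514298496) .leaf) (nat_lit 292199526889600) .leaf)))) (nat_lit 292199531192322) (.node (.node (.node (.node (.node .leaf (nat_lit 292201657991170) .leaf) (nat_lit 292201662077056)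 .leaf) (nat_lit 292201666398338) (.node (.node .leaf (nat_lit 292201670447104) .leaf) (nat_lit 292203813619714) .leaf)) (nat_lit 292203817668608) (.node (.node (.node .leaf (nat_lit 292203830394882) .leaf) (nat_lit 292203834447872) .leaf) (nat_lit 292208117020800) (.node (.node .leaf (nat_lit 292208121061506) .leaf) (nat_lit 292208125390848) .leaf))) (nat_lit 292208129468418) (.node (.node (.node (.node .leaf (nat_lit 292210256263168) .leaf) (nat_lit 292210260336642) .leaf) (nat_lit 292210264508546) (.node (.node .leaf (nat_lit 292210268852352) .leaf) (nat_lit 292332662441986) .leaf)) (nat_lit 292332666755200) (.node (.node (.node .leaf (nat_lit 292332670814210) .leaf) (nat_lit 292332675160192) .leaf) (nat_lit 292336957427712) (.node (.node .leaf (nat_lit 292336961765506) .leaf) (nat_lit 292336974356610) .leaf))))) (nat_lit 292336978407424) (.node (.node (.node (.node (.node (.node .leaf (nat_lit 292339113736322) .leaf) (nat_lit 292339117811712) (.node .leaf (nat_lit 292339122139138) .leaf)) (nat_lit 292339126182016) (.node (.node .leaf (nat_lit 292341244182530) .leaf) (nat_lit 292341248233472) .leaf)) (nat_lit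 292341260961794) (.node (.node (.node .leaf (nat_lit 292341265012736) .leaf) (nat_lit 292345539172480) .leaf) (nat_lit 292345543248002) (.node (.node .leaf (nat_lit 292345547575296) .leaf) (nat_lit 292345551618050) .leaf))) (nat_lit 292347695085698) (.node (.node (.node (.node .leaf (nat_lit 292347699423360) .leaf) (nat_lit 292347703590912) .leaf) (nat_lit 292347707674626) (.node (.node .leaf (nat_lit 292472240898049) .leaf) (nat_lit 292472244936707) .leaf)) (nat_lit 292472266092673) (.node (.node (.node .leaf (nat_lit 292472270114947) .leaf) (nat_lit 292474404741123) .leaf) (nat_lit 292474409091073) (.node (.node .leaf (nat_lit 292474413150339) .leaf) (nat_lit 292474417500289) .leaf)))) (nat_lit 292476535865345) (.node (.node (.node (.node (.node .leaf (nat_lit 292476539904003) .leaf) (nat_lit 292476552487043) .leaf) (nat_lit 292476556836993) (.node (.node .leaf (nat_lit 292480830570497) .leaf) (nat_lit 292480834609283) .leaf)) (nat_lit 292480847356033) (.node (.node (.node .leaf (nat_lit 292480851378179) .leaf) (nat_lit 292482986561667) .leaf) (nat_lit 292482990927873) (.node (.node .leaf (nat_lit 292482995101697)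 .leaf) (nat_lit 292482999124099) .leaf))) (nat_lit 292485125537793) (.node (.node (.node (.node .leaf (nat_lit 292485129576579) .leaf) (nat_lit 292485133947009) .leaf) (nat_lit 292485137985539) (.node (.node .leaf (nat_lit 292609679691779) .leaf) (nat_lit 292609684060161) .leaf)) (nat_lit 292609704878211) (.node (.node (.node .leaf (nat_lit 292609709230209) .leaf) (nat_lit 292611827083265) .leaf) (nat_lit 292611831103491) (.node (.node .leaf (nat_lit 292611835492481) .leaf) (nat_lit 292611839512707) .leaf)))))) (nat_lit 292613983234177) (.node (.node (.node (.node (.node (.node (.node .leaf (nat_lit 292613987254403) .leaf) (nat_lit 292613999837187) (.node .leaf (nat_lit 292614004205569) .leaf)) (nat_lit 292618277748739) (.node (.node .leaf (nat_lit 292618282117249) .leaf) (nat_lit 292618294534275) .leaf)) (nat_lit 292618298886145) (.node (.node (.node .leaf (nat_lit 292620425506947) .leaf) (nat_lit 292620429858817) .leaf) (nat_lit 292620434065409) (.node (.node .leaf (nat_lit 292620438102147) .leaf) (nat_lit 292622581125251) .leaf))) (nat_lit 292622585493505) (.node (.node (.node (.node .leaf (nat_lit 292622589493251)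 .leaf) (nat_lit 292622593861761) .leaf) (nat_lit 292747127210112) (.node (.node .leaf (nat_lit 292747131252738) .leaf) (nat_lit 292747135596544) .leaf)) (nat_lit 292747139614850) (.node (.node (.node .leaf (nat_lit 292749265895426) .leaf) (nat_lit 292749270200448) .leaf) (nat_lit 292749274304642) (.node (.node .leaf (nat_lit 292749278601216) .leaf) (nat_lit 292751413641218) .leaf)))) (nat_lit 292751417946240) (.node (.node (.node (.node (.node .leaf (nat_lit 292751430531072) .leaf) (nat_lit 292751434614914) .leaf) (nat_lit 292755708547200) (.node (.node .leaf (nat_lit 292755712581762) .leaf) (nat_lit 292755725334528) .leaf)) (nat_lit 292755729352706) (.node (.node (.node .leaf (nat_lit 292757856260224) .leaf) (nat_lit 292757860360322) .leaf) (nat_lit 292757881354370) (.node (.node .leaf (nat_lit 292757885634688) .leaf) (nat_lit 292760020269056) .leaf))) (nat_lit 292760024352770) (.node (.node (.node (.node .leaf (nat_lit 292760028670080) .leaf) (nat_lit 292760032761986) .leaf) (nat_lit 292884565999618) (.node (.node .leaf (nat_lit 292884570372224) .leaf) (nat_lit 292884574386306) .leaf)) (nat_lit 292884578729984)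 (.node (.node (.node .leaf (nat_lit 292886721728640) .leaf) (nat_lit 292886725830658) .leaf) (nat_lit 292886730129408) (.node (.node .leaf (nat_lit 292886734239874) .leaf) (nat_lit 292888861008002) .leaf))))) (nat_lit 292888865298432) (.node (.node (.node (.node (.node (.node .leaf (nat_lit 292888877879424) .leaf) (nat_lit 292888881981442) .leaf) (nat_lit 292893155721218) (.node (.node .leaf (nat_lit 292893160093696) .leaf) (nat_lit 292893172508802) .leaf)) (nat_lit 292893176860800) (.node (.node (.node .leaf (nat_lit 292895295240320) .leaf) (nat_lit 292895299321986) .leaf) (nat_lit 292895320283266) (.node (.node .leaf (nat_lit 292895324577920) .leaf) (nat_lit 292897442361346) .leaf))) (nat_lit 292897446643712) (.node (.node (.node (.node .leaf (nat_lit 292897450729602) .leaf) (nat_lit 292897455020160) .leaf) (nat_lit 293019848966145) (.node (.node .leaf (nat_lit 293019852996611) .leaf) (nat_lit 293019874162689) .leaf)) (nat_lit 293019878193155) (.node (.node (.node .leaf (nat_lit 293024143933441) .leaf) (nat_lit 293024147963907) .leaf) (nat_lit 293024160546819) (.node (.node .leaf (nat_lit 293024164904961) .leaf)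 (nat_lit 293026308325507) .leaf)))) (nat_lit 293026312618113) (.node (.node (.node (.node (.node .leaf (nat_lit 293026316736515) .leaf) (nat_lit 293026321029121) .leaf) (nat_lit 293028439031809) (.node (.node .leaf (nat_lit 293028443324547) .leaf) (nat_lit 293028455817217) .leaf)) (nat_lit 293028460109955) (.node (.node (.node .leaf (nat_lit 293032733999105) .leaf) (nat_lit 293032738291843) .leaf) (nat_lit 293032742410369) (.node (.node .leaf (nat_lit 293032746702851) .leaf) (nat_lit 293034889771139) .leaf))) (nat_lit 293034893801473) (.node (.node (.node (.node .leaf (nat_lit 293034897973377) .leaf) (nat_lit 293034902331395) .leaf) (nat_lit 293157287763971) (.node (.node .leaf (nat_lit 293157292124161) .leaf) (nat_lit 293157312944131) .leaf)) (nat_lit 293157317300225) (.node (.node (.node .leaf (nat_lit 293161591304321) .leaf) (nat_lit 293161595336835) .leaf) (nat_lit 293161607919747) (.node (.node .leaf (nat_lit 293161612275841) .leaf) (nat_lit 293163730614273) .leaf))))))) (nat_lit 293163734708227) (.node (.node (.node (.node (.node (.node (.node (.node .leaf (nat_lit 293163739013249) .leaf) (nat_lit 293163743111299)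 (.node .leaf (nat_lit 293165886486531) .leaf)) (nat_lit 293165890580609) (.node (.node .leaf (nat_lit 293165903255555) .leaf) (nat_lit 293165907349633) .leaf)) (nat_lit 293170189852675) (.node (.node (.node .leaf (nat_lit 293170193950849) .leaf) (nat_lit 293170198231171) .leaf) (nat_lit 293170202324993) (.node (.node .leaf (nat_lit 293172328695939) .leaf) (nat_lit 293172332724225) .leaf))) (nat_lit 293172336941185) (.node (.node (.node (.node .leaf (nat_lit 293172341297155) .leaf) (nat_lit 293294735120386) .leaf) (nat_lit 293294739474560) (.node (.node .leaf (nat_lit 293294743496706) .leaf) (nat_lit 293294747859072) .leaf)) (nat_lit 293299021820032) (.node (.node (.node .leaf (nat_lit 293299025911810) .leaf) (nat_lit 293299038496770) .leaf) (nat_lit 293299042793600) (.node (.node .leaf (nat_lit 293301169598592) .leaf) (nat_lit 293301173624834) .leaf)))) (nat_lit 293301178001408) (.node (.node (.node (.node (.node .leaf (nat_lit 293301182036098) .leaf) (nat_lit 293303317102594) .leaf) (nat_lit 293303321202688) (.node (.node .leaf (nat_lit 293303333890050) .leaf) (nat_lit 293303337990144) .leaf)) (nat_lit 293307628890114)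 (.node (.node (.node .leaf (nat_lit 293307632924672) .leaf) (nat_lit 293307637297282) .leaf) (nat_lit 293307641323648) (.node (.node .leaf (nat_lit 293309759291394) .leaf) (nat_lit 293309763391488) .leaf))) (nat_lit 293309784375424) (.node (.node (.node (.node .leaf (nat_lit 293309788672130) .leaf) (nat_lit 293432174239872) .leaf) (nat_lit 293432178276354) (.node (.node .leaf (nat_lit 293432182608000) .leaf) (nat_lit 293432186636290) .leaf)) (nat_lit 293436469166080) (.node (.node (.node .leaf (nat_lit 293436473268354) .leaf) (nat_lit 293436485849218) .leaf) (nat_lit 293436490139648) (.node (.node .leaf (nat_lit 293438625159298) .leaf) (nat_lit 293438629511168) .leaf))))) (nat_lit 293438633558018) (.node (.node (.node (.node (.node (.node .leaf (nat_lit 293438637922432) .leaf) (nat_lit 293440764354688) (.node .leaf (nat_lit 293440768653442) .leaf)) (nat_lit 293440781125760) (.node (.node .leaf (nat_lit 293440785420418) .leaf) (nat_lit 293445050914944) .leaf)) (nat_lit 293445055266946) (.node (.node (.node .leaf (nat_lit 293445059280896) .leaf) (nat_lit 293445063645186) .leaf) (nat_lit 293447198273538) (.node (.node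 .leaf (nat_lit 293447202367488) .leaf) (nat_lit 293447223326848) .leaf))) (nat_lit 293447227613314) (.node (.node (.node (.node .leaf (nat_lit 293571752427522) .leaf) (nat_lit 293571756812416) .leaf) (nat_lit 293571777622146) (.node (.node .leaf (nat_lit 293571781957632) .leaf) (nat_lit 293573899714562) .leaf)) (nat_lit 293573903837312) (.node (.node (.node .leaf (nat_lit 293573908123778) .leaf) (nat_lit 293573912213504) .leaf) (nat_lit 293576055935106) (.node (.node .leaf (nat_lit 293576060024832) .leaf) (nat_lit 293576072605824) .leaf)))) (nat_lit 293576076908546) (.node (.node (.node (.node (.node .leaf (nat_lit 293580342099970) .leaf) (nat_lit 293580346484736) .leaf) (nat_lit 293580358885506) (.node (.node .leaf (nat_lit 293580363253888) .leaf) (nat_lit 293582489829504) .leaf)) (nat_lit 293582494115970) (.node (.node (.node .leaf (nat_lit 293582515105922) .leaf) (nat_lit 293582519179392) .leaf) (nat_lit 293584653901824) (.node (.node .leaf (nat_lit 293584658171906) .leaf) (nat_lit 293584662278272) .leaf))) (nat_lit 293584666581122) (.node (.node (.node (.node .leaf (nat_lit 293709191567488) .leaf) (nat_lit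 293709195589634) .leaf) (nat_lit 293709216720896) (.node (.node .leaf (nat_lit 293709220759682) .leaf) (nat_lit 293711355365504) .leaf)) (nat_lit 293711359649794) (.node (.node (.node .leaf (nat_lit 293711363741696) .leaf) (nat_lit 293711368059010) .leaf) (nat_lit 293713486491650) (.node (.node .leaf (nat_lit 293713490595968) .leaf) (nat_lit 293713503180800) .leaf)))))) (nat_lit 293713507465346) (.node (.node (.node (.node (.node (.node (.node .leaf (nat_lit 293717789624448) .leaf) (nat_lit 293717793646722) (.node .leaf (nat_lit 293717806409728) .leaf)) (nat_lit 293717810415618) (.node (.node .leaf (nat_lit 293719928776832) .leaf) (nat_lit 293719933077634) .leaf)) (nat_lit 293719954034818) (.node (.node (.node .leaf (nat_lit 293719958155392) .leaf) (nat_lit 293722076180482) .leaf) (nat_lit 293722080251904) (.node (.node .leaf (nat_lit 293722084548738) .leaf) (nat_lit 293722088652928) .leaf))) (nat_lit 293846630354947) (.node (.node (.node (.node .leaf (nat_lit 293846634702849) .leaf) (nat_lit 293846655510659) .leaf) (nat_lit 293846659879041) (.node (.node .leaf (nat_lit 293848794462211) .leaf) (nat_lit 293848798461953)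 .leaf)) (nat_lit 293848802830467) (.node (.node (.node .leaf (nat_lit 293848806871169) .leaf) (nat_lit 293850925301761) .leaf) (nat_lit 293850929690627) (.node (.node .leaf (nat_lit 293850942273667) .leaf) (nat_lit 293850946273409) .leaf)))) (nat_lit 293855228329987) (.node (.node (.node (.node (.node .leaf (nat_lit 293855232718977) .leaf) (nat_lit 293855245117571) .leaf) (nat_lit 293855249485825) (.node (.node .leaf (nat_lit 293857367937027) .leaf) (nat_lit 293857371957377) .leaf)) (nat_lit 293857392949377) (.node (.node (.node .leaf (nat_lit 293857397276675) .leaf) (nat_lit 293859514908673) .leaf) (nat_lit 293859519297667) (.node (.node .leaf (nat_lit 293859523317889) .leaf) (nat_lit 293859527665667) .leaf))) (nat_lit 293984069457921) (.node (.node (.node (.node .leaf (nat_lit 293984073508867) .leaf) (nat_lit 293984094642305) .leaf) (nat_lit 293984098652291) (.node (.node .leaf (nat_lit 293986216454145) .leaf) (nat_lit 293986220824579) .leaf)) (nat_lit 293986224863361) (.node (.node (.node .leaf (nat_lit 293986229192835) .leaf) (nat_lit 293988372670593) .leaf) (nat_lit 293988377008259) (.node (.node .leaf (nat_lit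 293988389591043) .leaf) (nat_lit 293988393641985) .leaf))))) (nat_lit 293992659081217) (.node (.node (.node (.node (.node (.node .leaf (nat_lit 293992663099523) .leaf) (nat_lit 293992675864705) .leaf) (nat_lit 293992679866371) (.node (.node .leaf (nat_lit 293994806882307) .leaf) (nat_lit 293994810916993) .leaf)) (nat_lit 293994831876225) (.node (.node (.node .leaf (nat_lit 293994836254723) .leaf) (nat_lit 293996970805379) .leaf) (nat_lit 293996974864385) (.node (.node .leaf (nat_lit 293996979214339) .leaf) (nat_lit 293996983232641) .leaf))) (nat_lit 294119368841218) (.node (.node (.node (.node .leaf (nat_lit 294119373181056) .leaf) (nat_lit 294119377215490) .leaf) (nat_lit 294119381592192) (.node (.node .leaf (nat_lit 294123663833088) .leaf) (nat_lit 294123668140162) .leaf)) (nat_lit 294123680725122) (.node (.node (.node .leaf (nat_lit 294123684802560) .leaf) (nat_lit 294125820158082) .leaf) (nat_lit 294125824206848) (.node (.node .leaf (nat_lit 294125828569090) .leaf) (nat_lit 294125832581248) .leaf)))) (nat_lit 294127950757890) (.node (.node (.node (.node (.node .leaf (nat_lit 294127954872320) .leaf) (nat_lit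 294127967543298) .leaf) (nat_lit 294127971657728) (.node (.node .leaf (nat_lit 294132245782656) .leaf) (nat_lit 294132249798786) .leaf)) (nat_lit 294132254160896) (.node (.node (.node .leaf (nat_lit 294132258205698) .leaf) (nat_lit 294134401325186) .leaf) (nat_lit 294134405599360) (.node (.node .leaf (nat_lit 294134409805824) .leaf) (nat_lit 294134413887490) .leaf))) (nat_lit 294256807948416) (.node (.node (.node (.node .leaf (nat_lit 294256811995138) .leaf) (nat_lit 294256816343168) .leaf) (nat_lit 294256820357122) (.node (.node .leaf (nat_lit 294261094402176) .leaf) (nat_lit 294261098678274) .leaf)) (nat_lit 294261111259138) (.node (.node (.node .leaf (nat_lit 294261115371648) .leaf) (nat_lit 294263242184832) .leaf) (nat_lit 294263246526466) (.node (.node .leaf (nat_lit 294263250550784) .leaf) (nat_lit 294263254925442) .leaf))))))))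
def t0_22 : BT := (.node (.node (.node (.node (.node (.node (.node (.node (.node .leaf (nat_lit 294265402306690) .leaf) (nat_lit 294265414799488) (.node .leaf (nat_lit 294265419075714) .leaf)) (nat_lit 294269701341186) (.node (.node .leaf (nat_lit 294269705682944) .leaf) (nat_lit 294269709719682) .leaf)) (nat_lit 294269714094208) (.node (.node (.node .leaf (nat_lit 294271840266370) .leaf) (nat_lit 294271844575360) .leaf) (nat_lit 294271848757248) (.node (.node .leaf (nat_lit 294271852869634) .leaf) (nat_lit 294394246912001) .leaf))) (nat_lit 294394250919939) (.node (.node (.node (.node .leaf (nat_lit 294394255288321) .leaf) (nat_lit 294394259337219) .leaf) (nat_lit 294398533304321) (.node (.node .leaf (nat_lit 294398537684995) .leaf) (nat_lit 294398550267907) .leaf)) (nat_lit 294398554275841) (.node (.node (.node .leaf (nat_lit 294400681148417) .leaf) (nat_lit 294400685463555) .leaf) (nat_lit 294400689559681) (.node (.node .leaf (nat_lit 294400693829763) .leaf) (nat_lit 294402837043201) .leaf)))) (nat_lit 294402841313411) (.node (.node (.node (.node (.node .leaf (nat_lit 294402853826561) .leaf) (nat_lit 294402858100867)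 .leaf) (nat_lit 294407140399107) (.node (.node .leaf (nat_lit 294407144669313) .leaf) (nat_lit 294407148765315) .leaf)) (nat_lit 294407153080321) (.node (.node (.node .leaf (nat_lit 294409279121539) .leaf) (nat_lit 294409283497985) .leaf) (nat_lit 294409287673985) (.node (.node .leaf (nat_lit 294409291722755) .leaf) (nat_lit 294531685689347) .leaf))) (nat_lit 294531690067969) (.node (.node (.node (.node .leaf (nat_lit 294531694090243) .leaf) (nat_lit 294531698427905) .leaf) (nat_lit 294535980675201) (.node (.node .leaf (nat_lit 294535985012867) .leaf) (nat_lit 294535997595779) .leaf)) (nat_lit 294536001646721) (.node (.node (.node .leaf (nat_lit 294538137004163) .leaf) (nat_lit 294538141087873) .leaf) (nat_lit 294538145378307) (.node (.node .leaf (nat_lit 294538149486593) .leaf) (nat_lit 294540267696131) .leaf))))) (nat_lit 294540271804545) (.node (.node (.node (.node (.node (.node .leaf (nat_lit 294540284467203) .leaf) (nat_lit 294540288575617) (.node .leaf (nat_lit 294544562677761) .leaf)) (nat_lit 294544566761603) (.node (.node .leaf (nat_lit 294544571052161) .leaf) (nat_lit 294544575160323) .leaf)) (nat_lit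 294546718087299) (.node (.node (.node .leaf (nat_lit 294546722424833) .leaf) (nat_lit 294546726637697) .leaf) (nat_lit 294546730647555) (.node (.node .leaf (nat_lit 294669116440577) .leaf) (nat_lit 294669120450563) .leaf))) (nat_lit 294669141606401) (.node (.node (.node (.node .leaf (nat_lit 294669145616387) .leaf) (nat_lit 294673419878531) .leaf) (nat_lit 294673424281729) (.node (.node .leaf (nat_lit 294673436835969) .leaf) (nat_lit 294673440845955) .leaf)) (nat_lit 294675558891521) (.node (.node (.node .leaf (nat_lit 294675562901507) .leaf) (nat_lit 294675567296641) .leaf) (nat_lit 294675571306627) (.node (.node .leaf (nat_lit 294677714780161) .leaf) (nat_lit 294677718790275) .leaf)))) (nat_lit 294677731540993) (.node (.node (.node (.node (.node .leaf (nat_lit 294677735551107) .leaf) (nat_lit 294682001604609) .leaf) (nat_lit 294682005614723) (.node (.node .leaf (nat_lit 294682010009729) .leaf) (nat_lit 294682014019587) .leaf)) (nat_lit 294684148826113) (.node (.node (.node .leaf (nat_lit 294684152836227) .leaf) (nat_lit 294684173795331) .leaf) (nat_lit 294684178198657) (.node (.node .leaf (nat_lit 294806563801089)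 .leaf) (nat_lit 294806567809027) .leaf))) (nat_lit 294806572189697) (.node (.node (.node (.node .leaf (nat_lit 294806576197635) .leaf) (nat_lit 294810859038849) .leaf) (nat_lit 294810863030403) (.node (.node .leaf (nat_lit 294810875601027) .leaf) (nat_lit 294810879989889) .leaf)) (nat_lit 294813014653057) (.node (.node (.node .leaf (nat_lit 294813018636419) .leaf) (nat_lit 294813023025153) .leaf) (nat_lit 294813027008515) (.node (.node .leaf (nat_lit 294815153719297) .leaf) (nat_lit 294815157727363) .leaf)))))) (nat_lit 294815170512897) (.node (.node (.node (.node (.node (.node (.node .leaf (nat_lit 294815174520963) .leaf) (nat_lit 294819457345537) (.node .leaf (nat_lit 294819461337219) .leaf)) (nat_lit 294819465750657) (.node (.node .leaf (nat_lit 294819469742083) .leaf) (nat_lit 294821595984003) .leaf)) (nat_lit 294821600364545) (.node (.node (.node .leaf (nat_lit 294821604571265) .leaf) (nat_lit 294821608554499) .leaf) (nat_lit 294944002756736) (.node (.node .leaf (nat_lit 294944006762498) .leaf) (nat_lit 294944011147392) .leaf))) (nat_lit 294944015153154) (.node (.node (.node (.node .leaf (nat_lit 294948298018816)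 .leaf) (nat_lit 294948302024834) .leaf) (nat_lit 294948314581122) (.node (.node .leaf (nat_lit 294948318980096) .leaf) (nat_lit 294950453630976) .leaf)) (nat_lit 294950457636994) (.node (.node (.node .leaf (nat_lit 294950462003328) .leaf) (nat_lit 294950466009090) .leaf) (nat_lit 294952592625792) (.node (.node .leaf (nat_lit 294952596762754) .leaf) (nat_lit 294952609388672) .leaf)))) (nat_lit 294952613525634) (.node (.node (.node (.node (.node .leaf (nat_lit 294956896278656) .leaf) (nat_lit 294956900415618) .leaf) (nat_lit 294956904650752) (.node (.node .leaf (nat_lit 294956908787714) .leaf) (nat_lit 294959035039874) .leaf)) (nat_lit 294959039307904) (.node (.node (.node .leaf (nat_lit 294959043500032) .leaf) (nat_lit 294959047636994) .leaf) (nat_lit 295081433307264) (.node (.node .leaf (nat_lit 295081437310978) .leaf) (nat_lit 295081458471040) .leaf))) (nat_lit 295081462478850) (.node (.node (.node (.node .leaf (nat_lit 295085736779906) .leaf) (nat_lit 295085741164544) .leaf) (nat_lit 295085753741312) (.node (.node .leaf (nat_lit 295085757732994) .leaf) (nat_lit 295087875795072) .leaf)) (nat_lit 295087879782402)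 (.node (.node (.node .leaf (nat_lit 295087884199936) .leaf) (nat_lit 295087888187522) .leaf) (nat_lit 295090031564928) (.node (.node .leaf (nat_lit 295090035699842) .leaf) (nat_lit 295090048356480) .leaf))))) (nat_lit 295090052495490) (.node (.node (.node (.node (.node (.node .leaf (nat_lit 295094318463104) .leaf) (nat_lit 295094322581634) .leaf) (nat_lit 295094326835200) (.node (.node .leaf (nat_lit 295094330953730) .leaf) (nat_lit 295096465680512) .leaf)) (nat_lit 295096469799042) (.node (.node (.node .leaf (nat_lit 295096490784770) .leaf) (nat_lit 295096495034368) .leaf) (nat_lit 295221020041344) (.node (.node .leaf (nat_lit 295221024043010) .leaf) (nat_lit 295221045209088) .leaf))) (nat_lit 295221049211010) (.node (.node (.node (.node .leaf (nat_lit 295223167492224) .leaf) (nat_lit 295223171493890) .leaf) (nat_lit 295223175899136) (.node (.node .leaf (nat_lit 295223179901058) .leaf) (nat_lit 295225322948738) .leaf)) (nat_lit 295225327343616) (.node (.node (.node .leaf (nat_lit 295225339914368) .leaf) (nat_lit 295225343916034) .leaf) (nat_lit 295229618251904) (.node (.node .leaf (nat_lit 295229622515842) .leaf)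 (nat_lit 295229635012608) .leaf)))) (nat_lit 295229639276546) (.node (.node (.node (.node (.node .leaf (nat_lit 295231757295744) .leaf) (nat_lit 295231761559682) .leaf) (nat_lit 295231782520962) (.node (.node .leaf (nat_lit 295231786653824) .leaf) (nat_lit 295233904550016) .leaf)) (nat_lit 295233908813954) (.node (.node (.node .leaf (nat_lit 295233912956928) .leaf) (nat_lit 295233917220866) .leaf) (nat_lit 295358467403904) (.node (.node .leaf (nat_lit 295358471399426) .leaf) (nat_lit 295358475794432) .leaf))) (nat_lit 295358479786114) (.node (.node (.node (.node .leaf (nat_lit 295360623233152) .leaf) (nat_lit 295360627232770) .leaf) (nat_lit 295360631603200) (.node (.node .leaf (nat_lit 295360635607170) .leaf) (nat_lit 295362762100736) .leaf)) (nat_lit 295362766096514) (.node (.node (.node .leaf (nat_lit 295362778675202) .leaf) (nat_lit 295362783060096) .leaf) (nat_lit 295367057191040) (.node (.node .leaf (nat_lit 295367061448834) .leaf) (nat_lit 295367073984512) .leaf))))))) (nat_lit 295367078242306) (.node (.node (.node (.node (.node (.node (.node (.node .leaf (nat_lit 295369204705410) .leaf) (nat_lit 295369208836224)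 (.node .leaf (nat_lit 295369213020288) .leaf)) (nat_lit 295369217282178) (.node (.node .leaf (nat_lit 295371360278528) .leaf) (nat_lit 295371364532226) .leaf)) (nat_lit 295371368681600) (.node (.node (.node .leaf (nat_lit 295371372939394) .leaf) (nat_lit 295495906162691) .leaf) (nat_lit 295495910553601) (.node (.node .leaf (nat_lit 295495914551427) .leaf) (nat_lit 295495918942337) .leaf))) (nat_lit 295498062034947) (.node (.node (.node (.node .leaf (nat_lit 295498066425857) .leaf) (nat_lit 295498070405251) .leaf) (nat_lit 295498074796161) (.node (.node .leaf (nat_lit 295500200835203) .leaf) (nat_lit 295500205226113) .leaf)) (nat_lit 295500217778177) (.node (.node (.node .leaf (nat_lit 295500221775875) .leaf) (nat_lit 295504496293891) .leaf) (nat_lit 295504500291713) (.node (.node .leaf (nat_lit 295504513052803) .leaf) (nat_lit 295504517050369) .leaf)))) (nat_lit 295506643568769) (.node (.node (.node (.node (.node .leaf (nat_lit 295506647959555) .leaf) (nat_lit 295506652166147) .leaf) (nat_lit 295506656163969) (.node (.node .leaf (nat_lit 295508799355011) .leaf) (nat_lit 295508803352577) .leaf)) (nat_lit 295508807725059)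 (.node (.node (.node .leaf (nat_lit 295508811722881) .leaf) (nat_lit 295633336705027) .leaf) (nat_lit 295633341097985) (.node (.node .leaf (nat_lit 295633361870979) .leaf) (nat_lit 295633366263937) .leaf))) (nat_lit 295635484184579) (.node (.node (.node (.node .leaf (nat_lit 295635488577537) .leaf) (nat_lit 295635492591747) .leaf) (nat_lit 295635496980609) (.node (.node .leaf (nat_lit 295637639983233) .leaf) (nat_lit 295637643982979) .leaf)) (nat_lit 295637656535043) (.node (.node (.node .leaf (nat_lit 295637660928001) .leaf) (nat_lit 295641935226883) .leaf) (nat_lit 295641939222657) (.node (.node .leaf (nat_lit 295641952018563) .leaf) (nat_lit 295641956018177) .leaf))))) (nat_lit 295644074332163) (.node (.node (.node (.node (.node (.node .leaf (nat_lit 295644078332033) .leaf) (nat_lit 295644099307649) (.node .leaf (nat_lit 295644103696387) .leaf)) (nat_lit 295646221516803) (.node (.node .leaf (nat_lit 295646225516673) .leaf) (nat_lit 295646229891203) .leaf)) (nat_lit 295646233886721) (.node (.node (.node .leaf (nat_lit 295768636473345) .leaf) (nat_lit 295768640468995) .leaf) (nat_lit 295768644861953) (.node (.node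 .leaf (nat_lit 295768648857603) .leaf) (nat_lit 295772931620995) .leaf))) (nat_lit 295772935780481) (.node (.node (.node (.node .leaf (nat_lit 295772948332673) .leaf) (nat_lit 295772952623235) .leaf) (nat_lit 295775087296643) (.node (.node .leaf (nat_lit 295775091325057) .leaf) (nat_lit 295775095701507) .leaf)) (nat_lit 295775099697153) (.node (.node (.node .leaf (nat_lit 295777218002945) .leaf) (nat_lit 295777222031491) .leaf) (nat_lit 295777234796545) (.node (.node .leaf (nat_lit 295777238792323) .leaf) (nat_lit 295781529944067) .leaf)))) (nat_lit 295781534103681) (.node (.node (.node (.node (.node .leaf (nat_lit 295781538349187) .leaf) (nat_lit 295781542475777) .leaf) (nat_lit 295783660257281) (.node (.node .leaf (nat_lit 295783664679043) .leaf) (nat_lit 295783685636099) .leaf)) (nat_lit 295783689631873) (.node (.node (.node .leaf (nat_lit 295906067023873) .leaf) (nat_lit 295906071050243) .leaf) (nat_lit 295906092189697) (.node (.node .leaf (nat_lit 295906096216067) .leaf) (nat_lit 295910370535553) .leaf))) (nat_lit 295910374774915) (.node (.node (.node (.node .leaf (nat_lit 295910387376259) .leaf) (nat_lit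 295910391484545) .leaf) (nat_lit 295912509501443) (.node (.node .leaf (nat_lit 295912513470465) .leaf) (nat_lit 295912517873795) .leaf)) (nat_lit 295912521875585) (.node (.node (.node .leaf (nat_lit 295914656974849) .leaf) (nat_lit 295914660968579) .leaf) (nat_lit 295914673735681) (.node (.node .leaf (nat_lit 295914677762179) .leaf) (nat_lit 295918952128515) .leaf)))))) (nat_lit 295918956269697) (.node (.node (.node (.node (.node (.node (.node .leaf (nat_lit 295918960533635) .leaf) (nat_lit 295918964641793) (.node .leaf (nat_lit 295921107824771) .leaf)) (nat_lit 295921111793665) (.node (.node .leaf (nat_lit 295921116002433) .leaf) (nat_lit 295921120397315) .leaf)) (nat_lit 296043514368128) (.node (.node (.node .leaf (nat_lit 296043518392322) .leaf) (nat_lit 296043522758784) .leaf) (nat_lit 296043526778882) (.node (.node .leaf (nat_lit 296047801127040) .leaf) (nat_lit 296047805380610) .leaf))) (nat_lit 296047817967618) (.node (.node (.node (.node .leaf (nat_lit 296047822086272) .leaf) (nat_lit 296049948459010) .leaf) (nat_lit 296049952483456) (.node (.node .leaf (nat_lit 296049956864130) .leaf) (nat_lit 296049960855552)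 .leaf)) (nat_lit 296052104237184) (.node (.node (.node .leaf (nat_lit 296052108392578) .leaf) (nat_lit 296052121032832) .leaf) (nat_lit 296052125151362) (.node (.node .leaf (nat_lit 296056391172098) .leaf) (nat_lit 296056395196416) .leaf)))) (nat_lit 296056399577218) (.node (.node (.node (.node (.node .leaf (nat_lit 296056403568768) .leaf) (nat_lit 296058538328066) .leaf) (nat_lit 296058542483456) (.node (.node .leaf (nat_lit 296058563451008) .leaf) (nat_lit 296058567700610) .leaf)) (nat_lit 296180944951424) (.node (.node (.node .leaf (nat_lit 296180948940802) .leaf) (nat_lit 296180970115200) .leaf) (nat_lit 296180974104578) (.node (.node .leaf (nat_lit 296185240133634) .leaf) (nat_lit 296185244270720) .leaf))) (nat_lit 296185256849536) (.node (.node (.node (.node .leaf (nat_lit 296185261117442) .leaf) (nat_lit 296187404220546) .leaf) (nat_lit 296187408193536) (.node (.node .leaf (nat_lit 296187412592642) .leaf) (nat_lit 296187416598656) .leaf)) (nat_lit 296189543209088) (.node (.node (.node .leaf (nat_lit 296189547329666) .leaf) (nat_lit 296189559967872) .leaf) (nat_lit 296189564121218) (.node (.node .leaf (nat_lit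 296193846913026) .leaf) (nat_lit 296193850918912) .leaf))))) (nat_lit 296193855318146) (.node (.node (.node (.node (.node (.node .leaf (nat_lit 296193859291264) .leaf) (nat_lit 296195985631232) .leaf) (nat_lit 296195989866498) (.node (.node .leaf (nat_lit 296195994073218) .leaf) (nat_lit 296195998210176) .leaf)) (nat_lit 296320531619968) (.node (.node (.node .leaf (nat_lit 296320535738370) .leaf) (nat_lit 296320556787712) .leaf) (nat_lit 296320560902274) (.node (.node .leaf (nat_lit 296322679046146) .leaf) (nat_lit 296322683197568) .leaf))) (nat_lit 296322687453314) (.node (.node (.node (.node .leaf (nat_lit 296322691567616) .leaf) (nat_lit 296324834568192) .leaf) (nat_lit 296324838977666) (.node (.node .leaf (nat_lit 296324851533826) .leaf) (nat_lit 296324855550080) .leaf)) (nat_lit 296329121423488) (.node (.node (.node .leaf (nat_lit 296329125804162) .leaf) (nat_lit 296329138184192) .leaf) (nat_lit 296329142597634) (.node (.node .leaf (nat_lit 296331277256834) .leaf) (nat_lit 296331281633408) .leaf)))) (nat_lit 296331285831808) (.node (.node (.node (.node (.node .leaf (nat_lit 296331289852034) .leaf) (nat_lit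 296333416169474) .leaf) (nat_lit 296333420451840) (.node (.node .leaf (nat_lit 296333424576642) .leaf) (nat_lit 296333428822144) .leaf)) (nat_lit 296457978949760) (.node (.node (.node .leaf (nat_lit 296457983090690) .leaf) (nat_lit 296457987340288) .leaf) (nat_lit 296457991481474) (.node (.node .leaf (nat_lit 296460134801410) .leaf) (nat_lit 296460138918016) .leaf))) (nat_lit 296460143175810) (.node (.node (.node (.node .leaf (nat_lit 296460147324928) .leaf) (nat_lit 296462273738882) .leaf) (nat_lit 296462277715968) (.node (.node .leaf (nat_lit 296462290309248) .leaf) (nat_lit 296462294679554) .leaf)) (nat_lit 296466560366720) (.node (.node (.node .leaf (nat_lit 296466564769922) .leaf) (nat_lit 296466577160192) .leaf) (nat_lit 296466581530626) (.node (.node .leaf (nat_lit 296468708001920) .leaf) (nat_lit 296468712020098) .leaf))))))))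
def t0_23 : BT := (.node (.node (.node (.node (.node (.node (.node (.node (.node .leaf (nat_lit 296468737374336) .leaf) (nat_lit 296470871912578) (.node .leaf (nat_lit 296470876184704) .leaf)) (nat_lit 296470880319490) (.node (.node .leaf (nat_lit 296470884558848) .leaf) (nat_lit 296595409465347) .leaf)) (nat_lit 296595413710849) (.node (.node (.node .leaf (nat_lit 296595434631299) .leaf) (nat_lit 296595438876801) .leaf) (nat_lit 296597573715969) (.node (.node .leaf (nat_lit 296597577957379) .leaf) (nat_lit 296597582086273) .leaf))) (nat_lit 296597586364547) (.node (.node (.node (.node .leaf (nat_lit 296599704043521) .leaf) (nat_lit 296599708452867) .leaf) (nat_lit 296599721031811) (.node (.node .leaf (nat_lit 296599725043841) .leaf) (nat_lit 296604007839747) .leaf)) (nat_lit 296604011982977) (.node (.node (.node .leaf (nat_lit 296604024631427) .leaf) (nat_lit 296604028745729) .leaf) (nat_lit 296606155257987) (.node (.node .leaf (nat_lit 296606159532033) .leaf) (nat_lit 296606163716097) .leaf)))) (nat_lit 296606167826563) (.node (.node (.node (.node (.node .leaf (nat_lit 296608310970497) .leaf) (nat_lit 296608314949635)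 .leaf) (nat_lit 296608319340545) (.node (.node .leaf (nat_lit 296608323356803) .leaf) (nat_lit 296732856788995) .leaf)) (nat_lit 296732861065217) (.node (.node (.node .leaf (nat_lit 296732865177731) .leaf) (nat_lit 296732869453953) .leaf) (nat_lit 296734995884033) (.node (.node .leaf (nat_lit 296735000160259) .leaf) (nat_lit 296735004287105) .leaf))) (nat_lit 296735008530563) (.node (.node (.node (.node .leaf (nat_lit 296737143209987) .leaf) (nat_lit 296737147191297) .leaf) (nat_lit 296737159803009) (.node (.node .leaf (nat_lit 296737164177539) .leaf) (nat_lit 296741446805507) .leaf)) (nat_lit 296741450918017) (.node (.node (.node .leaf (nat_lit 296741463564419) .leaf) (nat_lit 296741467709441) .leaf) (nat_lit 296743585900545) (.node (.node .leaf (nat_lit 296743590013059) .leaf) (nat_lit 296743610978435) .leaf))))) (nat_lit 296743615254529) (.node (.node (.node (.node (.node (.node .leaf (nat_lit 296745733158913) .leaf) (nat_lit 296745737140355) (.node .leaf (nat_lit 296745741529217) .leaf)) (nat_lit 296745745543171) (.node (.node .leaf (nat_lit 296870287474689) .leaf) (nat_lit 296870291451907) .leaf)) (nat_lit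 296870312652929) (.node (.node (.node .leaf (nat_lit 296870316605571) .leaf) (nat_lit 296872434958337) .leaf) (nat_lit 296872438935555) (.node (.node .leaf (nat_lit 296872443367553) .leaf) (nat_lit 296872447336579) .leaf))) (nat_lit 296874590359683) (.node (.node (.node (.node .leaf (nat_lit 296874594787457) .leaf) (nat_lit 296874607357953) .leaf) (nat_lit 296874611310595) (.node (.node .leaf (nat_lit 296878885556225) .leaf) (nat_lit 296878889525379) .leaf)) (nat_lit 296878902325377) (.node (.node (.node .leaf (nat_lit 296878906277891) .leaf) (nat_lit 296881024630785) .leaf) (nat_lit 296881028608131) (.node (.node .leaf (nat_lit 296881049579651) .leaf) (nat_lit 296881053990913) .leaf)))) (nat_lit 296883172376577) (.node (.node (.node (.node (.node .leaf (nat_lit 296883176353923) .leaf) (nat_lit 296883180785793) .leaf) (nat_lit 296883184754691) (.node (.node .leaf (nat_lit 297007734603779) .leaf) (nat_lit 297007739041793) .leaf)) (nat_lit 297007743004803) (.node (.node (.node .leaf (nat_lit 297007747418241) .leaf) (nat_lit 297009890476035) .leaf) (nat_lit 297009894914049) (.node (.node .leaf (nat_lit 297009898852483)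 .leaf) (nat_lit 297009903282305) .leaf))) (nat_lit 297012029317251) (.node (.node (.node (.node .leaf (nat_lit 297012033738881) .leaf) (nat_lit 297012046301185) .leaf) (nat_lit 297012050276355) (.node (.node .leaf (nat_lit 297016324259843) .leaf) (nat_lit 297016328697985) .leaf)) (nat_lit 297016341061763) (.node (.node (.node .leaf (nat_lit 297016345483265) .leaf) (nat_lit 297018471987329) .leaf) (nat_lit 297018475937795) (.node (.node .leaf (nat_lit 297018480132099) .leaf) (nat_lit 297018484570241) .leaf)))))) (nat_lit 297020627882115) (.node (.node (.node (.node (.node (.node (.node .leaf (nat_lit 297020632311809) .leaf) (nat_lit 297020636282883) (.node .leaf (nat_lit 297020640721025) .leaf)) (nat_lit 297145173786752) (.node (.node .leaf (nat_lit 297145177759746) .leaf) (nat_lit 297145182189568) .leaf)) (nat_lit 297145186146434) (.node (.node (.node .leaf (nat_lit 297147329640576) .leaf) (nat_lit 297147333662722) .leaf) (nat_lit 297147338008576) (.node (.node .leaf (nat_lit 297147342030978) .leaf) (nat_lit 297149468459008) .leaf))) (nat_lit 297149472497794) (.node (.node (.node (.node .leaf (nat_lit 297149485070338)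 .leaf) (nat_lit 297149489420416) .leaf) (nat_lit 297153763393664) (.node (.node .leaf (nat_lit 297153767497858) .leaf) (nat_lit 297153780164608) .leaf)) (nat_lit 297153784252418) (.node (.node (.node .leaf (nat_lit 297155910815874) .leaf) (nat_lit 297155915051136) .leaf) (nat_lit 297155919247488) (.node (.node .leaf (nat_lit 297155923400834) .leaf) (nat_lit 297158066993152) .leaf)))) (nat_lit 297158071146498) (.node (.node (.node (.node (.node .leaf (nat_lit 297158075361408) .leaf) (nat_lit 297158079514754) .leaf) (nat_lit 297282604109826) (.node (.node .leaf (nat_lit 297282608543872) .leaf) (nat_lit 297282629281922) .leaf)) (nat_lit 297282633695232) (.node (.node (.node .leaf (nat_lit 297284751630338) .leaf) (nat_lit 297284755982464) .leaf) (nat_lit 297284760039554) (.node (.node .leaf (nat_lit 297284764391424) .leaf) (nat_lit 297286907426816) .leaf))) (nat_lit 297286911447170) (.node (.node (.node (.node .leaf (nat_lit 297286924011522) .leaf) (nat_lit 297286928375936) .leaf) (nat_lit 297291202232322) (.node (.node .leaf (nat_lit 297291206535168) .leaf) (nat_lit 297291219036290) .leaf)) (nat_lit 297291223318656)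 (.node (.node (.node .leaf (nat_lit 297293341384706) .leaf) (nat_lit 297293345605632) .leaf) (nat_lit 297293366575104) (.node (.node .leaf (nat_lit 297293370746882) .leaf) (nat_lit 297295489134594) .leaf))))) (nat_lit 297295493355520) (.node (.node (.node (.node (.node (.node .leaf (nat_lit 297295497502850) .leaf) (nat_lit 297295501723776) .leaf) (nat_lit 297417895551104) (.node (.node .leaf (nat_lit 297417899520002) .leaf) (nat_lit 297417920714880) .leaf)) (nat_lit 297417924675586) (.node (.node (.node .leaf (nat_lit 297422198954114) .leaf) (nat_lit 297422203373568) .leaf) (nat_lit 297422215944192) (.node (.node .leaf (nat_lit 297422219905154) .leaf) (nat_lit 297424337969280) .leaf))) (nat_lit 297424342003714) (.node (.node (.node (.node .leaf (nat_lit 297424346380288) .leaf) (nat_lit 297424350406786) .leaf) (nat_lit 297426494027904) (.node (.node .leaf (nat_lit 297426498250882) .leaf) (nat_lit 297426510780544) .leaf)) (nat_lit 297426515003522) (.node (.node (.node .leaf (nat_lit 297430780321920) .leaf) (nat_lit 297430784553090) .leaf) (nat_lit 297430788732928) (.node (.node .leaf (nat_lit 297430792955906) .leaf)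 (nat_lit 297432928034944) .leaf)))) (nat_lit 297432932331650) (.node (.node (.node (.node (.node .leaf (nat_lit 297432953305090) .leaf) (nat_lit 297432957396992) .leaf) (nat_lit 297555342678018) (.node (.node .leaf (nat_lit 297555347095680) .leaf) (nat_lit 297555351068674) .leaf)) (nat_lit 297555355498624) (.node (.node (.node .leaf (nat_lit 297559637915778) .leaf) (nat_lit 297559642333184) .leaf) (nat_lit 297559654903808) (.node (.node .leaf (nat_lit 297559658866818) .leaf) (nat_lit 297561793548418) .leaf))) (nat_lit 297561797904384) (.node (.node (.node (.node .leaf (nat_lit 297561801918466) .leaf) (nat_lit 297561806278784) .leaf) (nat_lit 297563932989442) (.node (.node .leaf (nat_lit 297563937144832) .leaf) (nat_lit 297563949791234) .leaf)) (nat_lit 297563953946624) (.node (.node (.node .leaf (nat_lit 297568236077058) .leaf) (nat_lit 297568240244736) .leaf) (nat_lit 297568244488322) (.node (.node .leaf (nat_lit 297568248643712) .leaf) (nat_lit 297570375368704) .leaf))))))) (nat_lit 297570379667458) (.node (.node (.node (.node (.node (.node (.node (.node .leaf (nat_lit 297570383859842) .leaf) (nat_lit 297570387953792)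 (.node .leaf (nat_lit 297692781635587) .leaf)) (nat_lit 297692786059265) (.node (.node .leaf (nat_lit 297692790020099) .leaf) (nat_lit 297692794443777) .leaf)) (nat_lit 297697076897923) (.node (.node (.node .leaf (nat_lit 297697081256065) .leaf) (nat_lit 297697093824641) .leaf) (nat_lit 297697097855107) (.node (.node .leaf (nat_lit 297699232471171) .leaf) (nat_lit 297699236894849) .leaf))) (nat_lit 297699240837123) (.node (.node (.node (.node .leaf (nat_lit 297699245260801) .leaf) (nat_lit 297701372028931) .leaf) (nat_lit 297701376059521) (.node (.node .leaf (nat_lit 297701388779523) .leaf) (nat_lit 297701392810113) .leaf)) (nat_lit 297705675151363) (.node (.node (.node .leaf (nat_lit 297705679116417) .leaf) (nat_lit 297705683517571) .leaf) (nat_lit 297705687482369) (.node (.node .leaf (nat_lit 297707814312065) .leaf) (nat_lit 297707818670083) .leaf)))) (nat_lit 297707822864515) (.node (.node (.node (.node (.node .leaf (nat_lit 297707826894849) .leaf) (nat_lit 297830212405249) .leaf) (nat_lit 297830216368131) (.node (.node .leaf (nat_lit 297830237583361) .leaf) (nat_lit 297830241546243) .leaf)) (nat_lit 297834515843203)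 (.node (.node (.node .leaf (nat_lit 297834520199297) .leaf) (nat_lit 297834532771969) .leaf) (nat_lit 297834536800387) (.node (.node .leaf (nat_lit 297836654868481) .leaf) (nat_lit 297836658831363) .leaf))) (nat_lit 297836663267457) (.node (.node (.node (.node .leaf (nat_lit 297836667234435) .leaf) (nat_lit 297838810796033) .leaf) (nat_lit 297838815156355) (.node (.node .leaf (nat_lit 297838827599873) .leaf) (nat_lit 297838831956099) .leaf)) (nat_lit 297843097102337) (.node (.node (.node .leaf (nat_lit 297843101524099) .leaf) (nat_lit 297843105476737) .leaf) (nat_lit 297843109902339) (.node (.node .leaf (nat_lit 297845244884993) .leaf) (nat_lit 297845249241219) .leaf))))) (nat_lit 297845270212611) (.node (.node (.node (.node (.node (.node .leaf (nat_lit 297845274245249) .leaf) (nat_lit 297969807347714) (.node .leaf (nat_lit 297969811630208) .leaf)) (nat_lit 297969815740546) (.node (.node .leaf (nat_lit 297969820014592) .leaf) (nat_lit 297971963240576) .leaf)) (nat_lit 297971967481858) (.node (.node (.node .leaf (nat_lit 297971971649536) .leaf) (nat_lit 297971975850114) .leaf) (nat_lit 297974102003712) (.node (.node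 .leaf (nat_lit 297974106384514) .leaf) (nat_lit 297974118952962) .leaf))) (nat_lit 297974122989696) (.node (.node (.node (.node .leaf (nat_lit 297978388611074) .leaf) (nat_lit 297978392934400) .leaf) (nat_lit 297978405412994) (.node (.node .leaf (nat_lit 297978409687168) .leaf) (nat_lit 297980536160258) .leaf)) (nat_lit 297980540352512) (.node (.node (.node .leaf (nat_lit 297980561321984) .leaf) (nat_lit 297980565522434) .leaf) (nat_lit 297982700593152) (.node (.node .leaf (nat_lit 297982704965634) .leaf) (nat_lit 297982709002368) .leaf)))) (nat_lit 297982713333890) (.node (.node (.node (.node (.node .leaf (nat_lit 298107238013056) .leaf) (nat_lit 298107242096642) .leaf) (nat_lit 298107263182848) (.node (.node .leaf (nat_lit 298107267258498) .leaf) (nat_lit 298109385449474) .leaf)) (nat_lit 298109389623424) (.node (.node (.node .leaf (nat_lit 298109393858690) .leaf) (nat_lit 298109397991424) .leaf) (nat_lit 298111540963328) (.node (.node .leaf (nat_lit 298111545333890) .leaf) (nat_lit 298111557894146) .leaf))) (nat_lit 298111561953408) (.node (.node (.node (.node .leaf (nat_lit 298115827669120) .leaf) (nat_lit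 298115831785602) .leaf) (nat_lit 298115844470784) (.node (.node .leaf (nat_lit 298115848538114) .leaf) (nat_lit 298117983514754) .leaf)) (nat_lit 298117987680384) (.node (.node (.node .leaf (nat_lit 298117991876736) .leaf) (nat_lit 298117996099714) .leaf) (nat_lit 298120122953730) (.node (.node .leaf (nat_lit 298120126955520) .leaf) (nat_lit 298120131321986) .leaf)))))) (nat_lit 298120135364736) (.node (.node (.node (.node (.node (.node (.node .leaf (nat_lit 298244685234179) .leaf) (nat_lit 298244689553409) (.node .leaf (nat_lit 298244693637251) .leaf)) (nat_lit 298244697936001) (.node (.node .leaf (nat_lit 298246824329217) .leaf) (nat_lit 298246828648451) .leaf)) (nat_lit 298246832738433) (.node (.node (.node .leaf (nat_lit 298246837024899) .leaf) (nat_lit 298248971735043) .leaf) (nat_lit 298248975693825) (.node (.node .leaf (nat_lit 298248988289153) .leaf) (nat_lit 298248992686211) .leaf))) (nat_lit 298253274841091) (.node (.node (.node (.node .leaf (nat_lit 298253279291521) .leaf) (nat_lit 298253291645059) .leaf) (nat_lit 298253296041985) (.node (.node .leaf (nat_lit 298255413936129) .leaf) (nat_lit 298255418386563)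 .leaf)) (nat_lit 298255439358083) (.node (.node (.node .leaf (nat_lit 298255443296257) .leaf) (nat_lit 298257561747457) .leaf) (nat_lit 298257566066819) (.node (.node .leaf (nat_lit 298257570156673) .leaf) (nat_lit 298257574443011) .leaf)))) (nat_lit 298382115903489) (.node (.node (.node (.node (.node .leaf (nat_lit 298382120024067) .leaf) (nat_lit 298382141071489) .leaf) (nat_lit 298382145175683) (.node (.node .leaf (nat_lit 298384280164355) .leaf) (nat_lit 298384284284929) .leaf)) (nat_lit 298384288565379) (.node (.node (.node .leaf (nat_lit 298384292653185) .leaf) (nat_lit 298386410692611) .leaf) (nat_lit 298386414632961) (.node (.node .leaf (nat_lit 298386427236481) .leaf) (nat_lit 298386431651971) .leaf))) (nat_lit 298390714025985) (.node (.node (.node (.node .leaf (nat_lit 298390718015619) .leaf) (nat_lit 298390730825857) .leaf) (nat_lit 298390734766083) (.node (.node .leaf (nat_lit 298392861292673) .leaf) (nat_lit 298392865724419) .leaf)) (nat_lit 298392869918723) (.node (.node (.node .leaf (nat_lit 298392873875585) .leaf) (nat_lit 298395017595011) .leaf) (nat_lit 298395021682689) (.node (.node .leaf (nat_lit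 298395025971203) .leaf) (nat_lit 298395030091905) .leaf))))) (nat_lit 298517406965763) (.node (.node (.node (.node (.node (.node .leaf (nat_lit 298517411379201) .leaf) (nat_lit 298517432129539) .leaf) (nat_lit 298517436530689) (.node (.node .leaf (nat_lit 298521710704771) .leaf) (nat_lit 298521714876545) .leaf)) (nat_lit 298521727449217) (.node (.node (.node .leaf (nat_lit 298521731686531) .leaf) (nat_lit 298523849392129) .leaf) (nat_lit 298523853838339) (.node (.node .leaf (nat_lit 298523857803393) .leaf) (nat_lit 298523862204547) .leaf))) (nat_lit 298525997293571) (.node (.node (.node (.node .leaf (nat_lit 298526001444993) .leaf) (nat_lit 298526014046211) .leaf) (nat_lit 298526018230401) (.node (.node .leaf (nat_lit 298530292072449) .leaf) (nat_lit 298530296060035) .leaf)) (nat_lit 298530300483713) (.node (.node (.node .leaf (nat_lit 298530304425987) .leaf) (nat_lit 298532448131201) .leaf) (nat_lit 298532452270083) (.node (.node .leaf (nat_lit 298532456464515) .leaf) (nat_lit 298532460713985) .leaf)))) (nat_lit 298654854533121) (.node (.node (.node (.node (.node .leaf (nat_lit 298654858477571) .leaf) (nat_lit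 298654862927873) .leaf) (nat_lit 298654866880515) (.node (.node .leaf (nat_lit 298659149650051) .leaf) (nat_lit 298659153823873) .leaf)) (nat_lit 298659166392449) (.node (.node (.node .leaf (nat_lit 298659170631811) .leaf) (nat_lit 298661305364611) .leaf) (nat_lit 298661309341825) (.node (.node .leaf (nat_lit 298661313767427) .leaf) (nat_lit 298661317720065) .leaf))) (nat_lit 298663436208129) (.node (.node (.node (.node .leaf (nat_lit 298663440423043) .leaf) (nat_lit 298663452977153) .leaf) (nat_lit 298663457224835) (.node (.node .leaf (nat_lit 298667747598339) .leaf) (nat_lit 298667752009857) .leaf)) (nat_lit 298667755976835) (.node (.node (.node .leaf (nat_lit 298667760412673) .leaf) (nat_lit 298669878704129) .leaf) (nat_lit 298669882845315) (.node (.node .leaf (nat_lit 298669903816707) .leaf) (nat_lit 298669908064385) .leaf))))))))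
def t0_24 : BT := (.node (.node (.node (.node (.node (.node (.node (.node (.node .leaf (nat_lit 298792289056770) .leaf) (nat_lit 298792310259840) (.node .leaf (nat_lit 298792314210306) .leaf)) (nat_lit 298796580241410) (.node (.node .leaf (nat_lit 298796584355968) .leaf) (nat_lit 298796596926592) .leaf)) (nat_lit 298796601233410) (.node (.node (.node .leaf (nat_lit 298798744299650) .leaf) (nat_lit 298798748311552) .leaf) (nat_lit 298798752673794) (.node (.node .leaf (nat_lit 298798756722816) .leaf) (nat_lit 298800883476608) .leaf))) (nat_lit 298800887849090) (.node (.node (.node (.node .leaf (nat_lit 298800900259968) .leaf) (nat_lit 298800904603778) .leaf) (nat_lit 298805186652162) (.node (.node .leaf (nat_lit 298805190860800) .leaf) (nat_lit 298805195026562) .leaf)) (nat_lit 298805199272064) (.node (.node (.node .leaf (nat_lit 298807326124032) .leaf) (nat_lit 298807330103298) .leaf) (nat_lit 298807334299778) (.node (.node .leaf (nat_lit 298807338705024) .leaf) (nat_lit 298929732212738) .leaf)))) (nat_lit 298929736620160) (.node (.node (.node (.node (.node .leaf (nat_lit 298929740605442) .leaf) (nat_lit 298929745012864)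 .leaf) (nat_lit 298934019203074) (.node (.node .leaf (nat_lit 298934023315584) .leaf) (nat_lit 298934035886208) .leaf)) (nat_lit 298934040195074) (.node (.node (.node .leaf (nat_lit 298936166303872) .leaf) (nat_lit 298936170645506) .leaf) (nat_lit 298936174678016) (.node (.node .leaf (nat_lit 298936179052674) .leaf) (nat_lit 298938322589698) .leaf))) (nat_lit 298938326636544) (.node (.node (.node (.node .leaf (nat_lit 298938339389442) .leaf) (nat_lit 298938343403520) .leaf) (nat_lit 298942608840832) (.node (.node .leaf (nat_lit 298942613018754) .leaf) (nat_lit 298942617239552) .leaf)) (nat_lit 298942621384706) (.node (.node (.node .leaf (nat_lit 298944756680832) .leaf) (nat_lit 298944760662146) .leaf) (nat_lit 298944781631490) (.node (.node .leaf (nat_lit 298944786038784) .leaf) (nat_lit 299067162755073) .leaf))))) (nat_lit 299067167244291) (.node (.node (.node (.node (.node (.node .leaf (nat_lit 299067171471363) .leaf) (nat_lit 299067175436289) (.node .leaf (nat_lit 299069318692865) .leaf)) (nat_lit 299069323182083) (.node (.node .leaf (nat_lit 299069327409283) .leaf) (nat_lit 299069331374209) .leaf)) (nat_lit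 299071457722369) (.node (.node (.node .leaf (nat_lit 299071462211587) .leaf) (nat_lit 299071474892803) .leaf) (nat_lit 299071478857729) (.node (.node .leaf (nat_lit 299077900173313) .leaf) (nat_lit 299077904662659) .leaf))) (nat_lit 299077925535873) (.node (.node (.node (.node .leaf (nat_lit 299077930024963) .leaf) (nat_lit 299080064565249) .leaf) (nat_lit 299080069054595) (.node (.node .leaf (nat_lit 299080073281667) .leaf) (nat_lit 299080077246465) .leaf)) (nat_lit 299082195140609) (.node (.node (.node .leaf (nat_lit 299082199629955) .leaf) (nat_lit 299082212049025) .leaf) (nat_lit 299082216538115) (.node (.node .leaf (nat_lit 299204601972864) .leaf) (nat_lit 299204605935618) .leaf)))) (nat_lit 299204610162690) (.node (.node (.node (.node (.node .leaf (nat_lit 299204614654080) .leaf) (nat_lit 299206749196290) .leaf) (nat_lit 299206753687680) (.node (.node .leaf (nat_lit 299206774822912) .leaf) (nat_lit 299206778785922) .leaf)) (nat_lit 299208905138306) (.node (.node (.node .leaf (nat_lit 299208909629440) .leaf) (nat_lit 299208922310656) .leaf) (nat_lit 299208926273666) (.node (.node .leaf (nat_lit 299215347601410)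 .leaf) (nat_lit 299215352092672) .leaf))) (nat_lit 299215356055682) (.node (.node (.node (.node .leaf (nat_lit 299215360546944) .leaf) (nat_lit 299217503807616) .leaf) (nat_lit 299217507770498) (.node (.node .leaf (nat_lit 299217511997570) .leaf) (nat_lit 299217516488832) .leaf)) (nat_lit 299219642577026) (.node (.node (.node .leaf (nat_lit 299219647068288) .leaf) (nat_lit 299219659485186) .leaf) (nat_lit 299219663976448) (.node (.node .leaf (nat_lit 299342040928259) .leaf) (nat_lit 299342044889089) .leaf)))))) (nat_lit 299342066026497) (.node (.node (.node (.node (.node (.node (.node .leaf (nat_lit 299342070519811) .leaf) (nat_lit 299344205056129) (.node .leaf (nat_lit 299344209549443) .leaf)) (nat_lit 299344213776515) (.node (.node .leaf (nat_lit 299344217737345) .leaf) (nat_lit 299348483411971) .leaf)) (nat_lit 299348487307265) (.node (.node (.node .leaf (nat_lit 299348500056193) .leaf) (nat_lit 299348504483971) .leaf) (nat_lit 299350638985217) (.node (.node .leaf (nat_lit 299350643478659) .leaf) (nat_lit 299350647572481) .leaf))) (nat_lit 299350652065923) (.node (.node (.node (.node .leaf (nat_lit 299354925662209)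 .leaf) (nat_lit 299354930090115) .leaf) (nat_lit 299354942572545) (.node (.node .leaf (nat_lit 299354947000451) .leaf) (nat_lit 299357073145857) .leaf)) (nat_lit 299357077573763) (.node (.node (.node .leaf (nat_lit 299357081735299) .leaf) (nat_lit 299357085630465) .leaf) (nat_lit 299479488338048) (.node (.node .leaf (nat_lit 299479492296706) .leaf) (nat_lit 299479496525826) .leaf)))) (nat_lit 299479501017216) (.node (.node (.node (.node (.node .leaf (nat_lit 299481644269568) .leaf) (nat_lit 299481648240770) .leaf) (nat_lit 299481652467842) (.node (.node .leaf (nat_lit 299481656950784) .leaf) (nat_lit 299485930825728) .leaf)) (nat_lit 299485934727298) (.node (.node (.node .leaf (nat_lit 299485947475970) .leaf) (nat_lit 299485951893632) .leaf) (nat_lit 299488069632002) (.node (.node .leaf (nat_lit 299488074127360) .leaf) (nat_lit 299488094865410) .leaf))) (nat_lit 299488099356672) (.node (.node (.node (.node .leaf (nat_lit 299492372963458) .leaf) (nat_lit 299492377393280) .leaf) (nat_lit 299492389873794) (.node (.node .leaf (nat_lit 299492394299520) .leaf) (nat_lit 299494512388224) .leaf)) (nat_lit 299494516289666)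 (.node (.node (.node .leaf (nat_lit 299494520451202) .leaf) (nat_lit 299494524872832) .leaf) (nat_lit 299619066085377) (.node (.node .leaf (nat_lit 299619070517251) .leaf) (nat_lit 299619083264131) .leaf))))) (nat_lit 299619087155329) (.node (.node (.node (.node (.node (.node .leaf (nat_lit 299621221992577) .leaf) (nat_lit 299621226489987) .leaf) (nat_lit 299621230714883) (.node (.node .leaf (nat_lit 299621234671617) .leaf) (nat_lit 299623361052673) .leaf)) (nat_lit 299623365484547) (.node (.node (.node .leaf (nat_lit 299623369779331) .leaf) (nat_lit 299623373670529) .leaf) (nat_lit 299625508634625) (.node (.node .leaf (nat_lit 299625513132163) .leaf) (nat_lit 299625525280769) .leaf))) (nat_lit 299625529778307) (.node (.node (.node (.node .leaf (nat_lit 299627672797313) .leaf) (nat_lit 299627677229059) .leaf) (nat_lit 299627681523843) (.node (.node .leaf (nat_lit 299627685414913) .leaf) (nat_lit 299629803601921) .leaf)) (nat_lit 299629808099459) (.node (.node (.node .leaf (nat_lit 299629828704385) .leaf) (nat_lit 299629833201667) .leaf) (nat_lit 299756513499138) (.node (.node .leaf (nat_lit 299756517929088) .leaf)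 (nat_lit 299756530675712) .leaf)))) (nat_lit 299756534569090) (.node (.node (.node (.node (.node .leaf (nat_lit 299758652497922) .leaf) (nat_lit 299758656981120) .leaf) (nat_lit 299758678114304) (.node (.node .leaf (nat_lit 299758682089602) .leaf) (nat_lit 299760800274560) .leaf)) (nat_lit 299760804179970) (.node (.node (.node .leaf (nat_lit 299760808474754) .leaf) (nat_lit 299760812888064) .leaf) (nat_lit 299762956060674) (.node (.node .leaf (nat_lit 299762960556032) .leaf) (nat_lit 299762972706818) .leaf))) (nat_lit 299762977202176) (.node (.node (.node (.node .leaf (nat_lit 299765112043520) .leaf) (nat_lit 299765115932674) .leaf) (nat_lit 299765120227458) (.node (.node .leaf (nat_lit 299765124657280) .leaf) (nat_lit 299767251036290) .leaf)) (nat_lit 299767255515264) (.node (.node (.node .leaf (nat_lit 299767259226114) .leaf) (nat_lit 299767263709184) .leaf) (nat_lit 299891796475905) (.node (.node .leaf (nat_lit 299891800977411) .leaf) (nat_lit 299891813660675) .leaf))))))) (nat_lit 299891817613313) (.node (.node (.node (.node (.node (.node (.node (.node .leaf (nat_lit 299896108660739) .leaf) (nat_lit 299896112547841)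 (.node .leaf (nat_lit 299896116838529) .leaf)) (nat_lit 299896121274499) (.node (.node .leaf (nat_lit 299898238926849) .leaf) (nat_lit 299898243428355) .leaf)) (nat_lit 299898264563715) (.node (.node (.node .leaf (nat_lit 299898268516353) .leaf) (nat_lit 299900386881539) .leaf) (nat_lit 299900390834305) (.node (.node .leaf (nat_lit 299900394932225) .leaf) (nat_lit 299900399433859) .leaf))) (nat_lit 299902534397955) (.node (.node (.node (.node .leaf (nat_lit 299902538285185) .leaf) (nat_lit 299902551046275) .leaf) (nat_lit 299902554933249) (.node (.node .leaf (nat_lit 299906837657731) .leaf) (nat_lit 299906841610241) .leaf)) (nat_lit 299906845980803) (.node (.node (.node .leaf (nat_lit 299906849933313) .leaf) (nat_lit 300029243885570) .leaf) (nat_lit 300029248385152) (.node (.node .leaf (nat_lit 300029261068416) .leaf) (nat_lit 300029265018882) .leaf)))) (nat_lit 300033547347970) (.node (.node (.node (.node (.node .leaf (nat_lit 300033551765632) .leaf) (nat_lit 300033556060160) .leaf) (nat_lit 300033559961730) (.node (.node .leaf (nat_lit 300035686348930) .leaf) (nat_lit 300035690823680) .leaf)) (nat_lit 300035695050752)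 (.node (.node (.node .leaf (nat_lit 300035699030146) .leaf) (nat_lit 300037825576962) .leaf) (nat_lit 300037830080512) (.node (.node .leaf (nat_lit 300037834174592) .leaf) (nat_lit 300037838129282) .leaf))) (nat_lit 300039981686912) (.node (.node (.node (.node .leaf (nat_lit 300039985584258) .leaf) (nat_lit 300039998334976) .leaf) (nat_lit 300040002228226) (.node (.node .leaf (nat_lit 300044268292224) .leaf) (nat_lit 300044272267394) .leaf)) (nat_lit 300044293261440) (.node (.node (.node .leaf (nat_lit 300044297236610) .leaf) (nat_lit 300166674382849) .leaf) (nat_lit 300166678890499) (.node (.node .leaf (nat_lit 300166699745281) .leaf) (nat_lit 300166704252931) .leaf))))) (nat_lit 300170978214019) (.node (.node (.node (.node (.node (.node .leaf (nat_lit 300170982164609) .leaf) (nat_lit 300170994860163) (.node .leaf (nat_lit 300170998810753) .leaf)) (nat_lit 300173117030401) (.node (.node .leaf (nat_lit 300173121538051) .leaf) (nat_lit 300173125632131) .leaf)) (nat_lit 300173129582721) (.node (.node (.node .leaf (nat_lit 300175264595971) .leaf) (nat_lit 300175268546689) .leaf) (nat_lit 300175289679873) (.node (.node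 .leaf (nat_lit 300175294187651) .leaf) (nat_lit 300177428775041) .leaf))) (nat_lit 300177433282563) (.node (.node (.node (.node .leaf (nat_lit 300177437376643) .leaf) (nat_lit 300177441327105) .leaf) (nat_lit 300181706964993) (.node (.node .leaf (nat_lit 300181711472771) .leaf) (nat_lit 300181723889795) .leaf)) (nat_lit 300181727840257) (.node (.node (.node .leaf (nat_lit 300304121790466) .leaf) (nat_lit 300304126296192) .leaf) (nat_lit 300304130244610) (.node (.node .leaf (nat_lit 300304134750336) .leaf) (nat_lit 300308408723584) .leaf)))) (nat_lit 300308412672002) (.node (.node (.node (.node (.node .leaf (nat_lit 300308425369728) .leaf) (nat_lit 300308429318146) .leaf) (nat_lit 300310556276864) (.node (.node .leaf (nat_lit 300310560225282) .leaf) (nat_lit 300310564319362) .leaf)) (nat_lit 300310568824832) (.node (.node (.node .leaf (nat_lit 300312711989376) .leaf) (nat_lit 300312715970690) .leaf) (nat_lit 300312720195586) (.node (.node .leaf (nat_lit 300312724668416) .leaf) (nat_lit 300314867996672) .leaf))) (nat_lit 300314871977986) (.node (.node (.node (.node .leaf (nat_lit 300314876072066) .leaf) (nat_lit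 300314880544896) .leaf) (nat_lit 300319154270338) (.node (.node .leaf (nat_lit 300319158743168) .leaf) (nat_lit 300319171164288) .leaf)) (nat_lit 300319175145602) (.node (.node (.node .leaf (nat_lit 300443699838977) .leaf) (nat_lit 300443704350723) .leaf) (nat_lit 300443725072513) (.node (.node .leaf (nat_lit 300443729580163) .leaf) (nat_lit 300445864351747) .leaf)))))) (nat_lit 300445868228609) (.node (.node (.node (.node (.node (.node (.node .leaf (nat_lit 300445872523393) .leaf) (nat_lit 300445876965507) (.node .leaf (nat_lit 300447995252739) .leaf)) (nat_lit 300447999133697) (.node (.node .leaf (nat_lit 300448011901059) .leaf) (nat_lit 300448015777921) .leaf)) (nat_lit 300450142572547) (.node (.node (.node .leaf (nat_lit 300450146519169) .leaf) (nat_lit 300450150612993) .leaf) (nat_lit 300450155124867) (.node (.node .leaf (nat_lit 300452289708033) .leaf) (nat_lit 300452294219907) .leaf))) (nat_lit 300452315355267) (.node (.node (.node (.node .leaf (nat_lit 300452319297537) .leaf) (nat_lit 300454446026883) .leaf) (nat_lit 300454449907713) (.node (.node .leaf (nat_lit 300454462392449) .leaf) (nat_lit 300454466834435)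 .leaf)) (nat_lit 300581147119618) (.node (.node (.node .leaf (nat_lit 300581151621248) .leaf) (nat_lit 300581155707010) .leaf) (nat_lit 300581160208384) (.node (.node .leaf (nat_lit 300583303030786) .leaf) (nat_lit 300583307475072) .leaf)))) (nat_lit 300583311765504) (.node (.node (.node (.node (.node .leaf (nat_lit 300583315644546) .leaf) (nat_lit 300585442535424) .leaf) (nat_lit 300585446422658) (.node (.node .leaf (nat_lit 300585459179648) .leaf) (nat_lit 300585463066626) .leaf)) (nat_lit 300587581259778) (.node (.node (.node .leaf (nat_lit 300587585736704) .leaf) (nat_lit 300587589834880) .leaf) (nat_lit 300587593812098) (.node (.node .leaf (nat_lit 300589737136130) .leaf) (nat_lit 300589741604864) .leaf))) (nat_lit 300589745831936) (.node (.node (.node (.node .leaf (nat_lit 300589749817346) .leaf) (nat_lit 300591876651136) .leaf) (nat_lit 300591880562818) (.node (.node .leaf (nat_lit 300591893047298) .leaf) (nat_lit 300591897458688) .leaf)) (nat_lit 300716447105025) (.node (.node (.node .leaf (nat_lit 300716451620867) .leaf) (nat_lit 300716455847939) .leaf) (nat_lit 300716459786241) (.node (.node .leaf (nat_lit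 300718586390531) .leaf) (nat_lit 300718590263297) .leaf))))) (nat_lit 300718603298947) (.node (.node (.node (.node (.node (.node .leaf (nat_lit 300718607171713) .leaf) (nat_lit 300722881202305) .leaf) (nat_lit 300722885648515) (.node (.node .leaf (nat_lit 300722889523329) .leaf) (nat_lit 300722893973635) .leaf)) (nat_lit 300725020549123) (.node (.node (.node .leaf (nat_lit 300725024491649) .leaf) (nat_lit 300725036908545) .leaf) (nat_lit 300725041424515) (.node (.node .leaf (nat_lit 300729315098625) .leaf) (nat_lit 300729319614595) .leaf))) (nat_lit 300729323841667) (.node (.node (.node (.node .leaf (nat_lit 300729327779841) .leaf) (nat_lit 300731471005825) .leaf) (nat_lit 300731475451907) (.node (.node .leaf (nat_lit 300731479875715) .leaf) (nat_lit 300731483752449) .leaf)) (nat_lit 300853886347392) (.node (.node (.node .leaf (nat_lit 300853890287618) .leaf) (nat_lit 300853894514690) .leaf) (nat_lit 300853899028608) (.node (.node .leaf (nat_lit 300856017025152) .leaf) (nat_lit 300856020899842) .leaf)))) (nat_lit 300856033933312) (.node (.node (.node (.node (.node .leaf (nat_lit 300856037808258) .leaf) (nat_lit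 300860311842818) .leaf) (nat_lit 300860316274816) (.node (.node .leaf (nat_lit 300860336814082) .leaf) (nat_lit 300860341246080) .leaf)) (nat_lit 300862467940480) (.node (.node (.node .leaf (nat_lit 300862471913602) .leaf) (nat_lit 300862484334594) .leaf) (nat_lit 300862488815616) (.node (.node .leaf (nat_lit 300866754316416) .leaf) (nat_lit 300866758305922) .leaf))) (nat_lit 300866762532994) (.node (.node (.node (.node .leaf (nat_lit 300866766997632) .leaf) (nat_lit 300868901662722) .leaf) (nat_lit 300868906061824) (.node (.node .leaf (nat_lit 300868927131776) .leaf) (nat_lit 300868931055746) .leaf)) (nat_lit 300991308103681) (.node (.node (.node .leaf (nat_lit 300991312623619) .leaf) (nat_lit 300991325014017) .leaf) (nat_lit 300991329529859) (.node (.node .leaf (nat_lit 300993455685633) .leaf) (nat_lit 300993460140035) .leaf))))))))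
def t0_25 : BT := (.node (.node (.node (.node (.node (.node (.node (.node (.node .leaf (nat_lit 300993468170241) .leaf) (nat_lit 300995611981955) (.node .leaf (nat_lit 300995615850625) .leaf)) (nat_lit 300995620173827) (.node (.node .leaf (nat_lit 300995624042497) .leaf) (nat_lit 301002054432771) .leaf)) (nat_lit 301002058301569) (.node (.node (.node .leaf (nat_lit 301002070786177) .leaf) (nat_lit 301002075240451) .leaf) (nat_lit 301004201429121) (.node (.node .leaf (nat_lit 301004205879299) .leaf) (nat_lit 301004210305027) .leaf))) (nat_lit 301004214173825) (.node (.node (.node (.node .leaf (nat_lit 301006357399681) .leaf) (nat_lit 301006361915395) .leaf) (nat_lit 301006366142467) (.node (.node .leaf (nat_lit 301006370080897) .leaf) (nat_lit 301128755513346) .leaf)) (nat_lit 301128760031360) (.node (.node (.node .leaf (nat_lit 301128772419586) .leaf) (nat_lit 301128776937600) .leaf) (nat_lit 301130894928000) (.node (.node .leaf (nat_lit 301130898806786) .leaf) (nat_lit 301130902968322) .leaf)))) (nat_lit 301130907412608) (.node (.node (.node (.node (.node .leaf (nat_lit 301133042473088) .leaf) (nat_lit 301133046360066)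 .leaf) (nat_lit 301133067573248) (.node (.node .leaf (nat_lit 301133071460482) .leaf) (nat_lit 301139484911744) .leaf)) (nat_lit 301139488823426) (.node (.node (.node .leaf (nat_lit 301139501308034) .leaf) (nat_lit 301139505719424) .leaf) (nat_lit 301141632081922) (.node (.node .leaf (nat_lit 301141636485120) .leaf) (nat_lit 301141657556992) .leaf))) (nat_lit 301141661476866) (.node (.node (.node (.node .leaf (nat_lit 301143796613120) .leaf) (nat_lit 301143800606722) .leaf) (nat_lit 301143804833794) (.node (.node .leaf (nat_lit 301143809294336) .leaf) (nat_lit 301266186043393) .leaf)) (nat_lit 301266190499843) (.node (.node (.node .leaf (nat_lit 301266203189251) .leaf) (nat_lit 301266207121409) .leaf) (nat_lit 301270481010689) (.node (.node .leaf (nat_lit 301270485467139) .leaf) (nat_lit 301270489698435) .leaf))))) (nat_lit 301270493630593) (.node (.node (.node (.node (.node (.node .leaf (nat_lit 301272636952705) .leaf) (nat_lit 301272641409155) (.node .leaf (nat_lit 301272645640323) .leaf)) (nat_lit 301272649572481) (.node (.node .leaf (nat_lit 301274793156609) .leaf) (nat_lit 301274797088899) .leaf)) (nat_lit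 301274801319939) (.node (.node (.node .leaf (nat_lit 301274805776513) .leaf) (nat_lit 301276923723777) .leaf) (nat_lit 301276927656067) (.node (.node .leaf (nat_lit 301276940640385) .leaf) (nat_lit 301276944572419) .leaf))) (nat_lit 301281218691073) (.node (.node (.node (.node .leaf (nat_lit 301281222623363) .leaf) (nat_lit 301281244065793) .leaf) (nat_lit 301281247998083) (.node (.node .leaf (nat_lit 301403633719424) .leaf) (nat_lit 301403637649410) .leaf)) (nat_lit 301403650338818) (.node (.node (.node .leaf (nat_lit 301403654797440) .leaf) (nat_lit 301407919939586) .leaf) (nat_lit 301407924398208) (.node (.node .leaf (nat_lit 301407928694784) .leaf) (nat_lit 301407932625026) .leaf)))) (nat_lit 301410067724416) (.node (.node (.node (.node (.node .leaf (nat_lit 301410071654402) .leaf) (nat_lit 301410092777474) .leaf) (nat_lit 301410097236096) (.node (.node .leaf (nat_lit 301412232093698) .leaf) (nat_lit 301412236027904) .leaf)) (nat_lit 301412240324736) (.node (.node (.node .leaf (nat_lit 301412244779138) .leaf) (nat_lit 301414370887808) .leaf) (nat_lit 301414375342210) (.node (.node .leaf (nat_lit 301414387804160)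 .leaf) (nat_lit 301414392258562) .leaf))) (nat_lit 301418665863168) (.node (.node (.node (.node .leaf (nat_lit 301418670317570) .leaf) (nat_lit 301418674313216) .leaf) (nat_lit 301418678767618) (.node (.node .leaf (nat_lit 301543211667459) .leaf) (nat_lit 301543215595521) .leaf)) (nat_lit 301543228352641) (.node (.node (.node .leaf (nat_lit 301543232813187) .leaf) (nat_lit 301545359183875) .leaf) (nat_lit 301545363111937) (.node (.node .leaf (nat_lit 301545384261761) .leaf) (nat_lit 301545388714115) .leaf)))))) (nat_lit 301547523287169) (.node (.node (.node (.node (.node (.node (.node .leaf (nat_lit 301547527747715) .leaf) (nat_lit 301547532036099) (.node .leaf (nat_lit 301547535972353) .leaf)) (nat_lit 301549654212609) (.node (.node .leaf (nat_lit 301549658148995) .leaf) (nat_lit 301549671131137) .leaf)) (nat_lit 301549675067523) (.node (.node (.node .leaf (nat_lit 301551801696257) .leaf) (nat_lit 301551805632643) .leaf) (nat_lit 301551809724419) (.node (.node .leaf (nat_lit 301551814185089) .leaf) (nat_lit 301553957474433) .leaf))) (nat_lit 301553961402371) (.node (.node (.node (.node .leaf (nat_lit 301553966065665)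 .leaf) (nat_lit 301553970002051) .leaf) (nat_lit 301680658808834) (.node (.node .leaf (nat_lit 301680663271552) .leaf) (nat_lit 301680676024320) .leaf)) (nat_lit 301680679954562) (.node (.node (.node .leaf (nat_lit 301682806337666) .leaf) (nat_lit 301682810791936) .leaf) (nat_lit 301682815012992) (.node (.node .leaf (nat_lit 301682818942978) .leaf) (nat_lit 301684962269314) .leaf)))) (nat_lit 301684966719488) (.node (.node (.node (.node (.node .leaf (nat_lit 301684970950784) .leaf) (nat_lit 301684974880770) .leaf) (nat_lit 301687101245568) (.node (.node .leaf (nat_lit 301687105704066) .leaf) (nat_lit 301687118160000) .leaf)) (nat_lit 301687122622594) (.node (.node (.node .leaf (nat_lit 301689240637442) .leaf) (nat_lit 301689244567552) .leaf) (nat_lit 301689248733312) (.node (.node .leaf (nat_lit 301689253183618) .leaf) (nat_lit 301691387869312) .leaf))) (nat_lit 301691392319618) (.node (.node (.node (.node .leaf (nat_lit 301691413086208) .leaf) (nat_lit 301691417548802) .leaf) (nat_lit 301815950317569) (.node (.node .leaf (nat_lit 301815954782211) .leaf) (nat_lit 301815958994947) .leaf)) (nat_lit 301815962935297)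 (.node (.node (.node .leaf (nat_lit 301818089308161) .leaf) (nat_lit 301818093772803) .leaf) (nat_lit 301818098071555) (.node (.node .leaf (nat_lit 301818101995521) .leaf) (nat_lit 301822384275457) .leaf))))) (nat_lit 301822388740099) (.node (.node (.node (.node (.node (.node .leaf (nat_lit 301822401478787) .leaf) (nat_lit 301822405419137) .leaf) (nat_lit 301824532185089) (.node (.node .leaf (nat_lit 301824536125571) .leaf) (nat_lit 301824557299713) .leaf)) (nat_lit 301824561223811) (.node (.node (.node .leaf (nat_lit 301828827152385) .leaf) (nat_lit 301828831092867) .leaf) (nat_lit 301828843806721) (.node (.node .leaf (nat_lit 301828847730819) .leaf) (nat_lit 301830991257729) .leaf))) (nat_lit 301830995181571) (.node (.node (.node (.node .leaf (nat_lit 301830999480323) .leaf) (nat_lit 301831003945089) .leaf) (nat_lit 301953381083264) (.node (.node .leaf (nat_lit 301953385005058) .leaf) (nat_lit 301953406154754) .leaf)) (nat_lit 301953410601088) (.node (.node (.node .leaf (nat_lit 301955528298498) .leaf) (nat_lit 301955532765312) .leaf) (nat_lit 301955536986240) (.node (.node .leaf (nat_lit 301955540912130) .leaf)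 (nat_lit 301959831945216) .leaf)))) (nat_lit 301959835887746) (.node (.node (.node (.node (.node .leaf (nat_lit 301959848626178) .leaf) (nat_lit 301959853088896) .leaf) (nat_lit 301961979359360) (.node (.node .leaf (nat_lit 301961983809666) .leaf) (nat_lit 301961987541120) .leaf)) (nat_lit 301961992003714) (.node (.node (.node .leaf (nat_lit 301966274318336) .leaf) (nat_lit 301966278785026) .leaf) (nat_lit 301966290972672) (.node (.node .leaf (nat_lit 301966295422978) .leaf) (nat_lit 301968430256258) .leaf))) (nat_lit 301968434198656) (.node (.node (.node (.node .leaf (nat_lit 301968438419584) .leaf) (nat_lit 301968442869890) .leaf) (nat_lit 302090836908035) (.node (.node .leaf (nat_lit 302090840844289) .leaf) (nat_lit 302090845138945) .leaf)) (nat_lit 302090849583107) (.node (.node (.node .leaf (nat_lit 302092967215105) .leaf) (nat_lit 302092971683843) .leaf) (nat_lit 302092992872579) (.node (.node .leaf (nat_lit 302092996817025) .leaf) (nat_lit 302095114698753) .leaf))))))) (nat_lit 302095119167491) (.node (.node (.node (.node (.node (.node (.node (.node .leaf (nat_lit 302095131908099) .leaf) (nat_lit 302095135844353)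 (.node .leaf (nat_lit 302101565712387) .leaf)) (nat_lit 302101570164865) (.node (.node .leaf (nat_lit 302101574031491) .leaf) (nat_lit 302101578491905) .leaf)) (nat_lit 302103704875011) (.node (.node (.node .leaf (nat_lit 302103709319297) .leaf) (nat_lit 302103713421441) .leaf) (nat_lit 302103717357571) (.node (.node .leaf (nat_lit 302105852325891) .leaf) (nat_lit 302105856770177) .leaf))) (nat_lit 302105868966019) (.node (.node (.node (.node .leaf (nat_lit 302105873426433) .leaf) (nat_lit 302228275892352) .leaf) (nat_lit 302228279830530) (.node (.node .leaf (nat_lit 302228284059650) .leaf) (nat_lit 302228288505984) .leaf)) (nat_lit 302230414897280) (.node (.node (.node .leaf (nat_lit 302230418819074) .leaf) (nat_lit 302230423124098) .leaf) (nat_lit 302230427566080) (.node (.node .leaf (nat_lit 302232562368512) .leaf) (nat_lit 302232566315138) .leaf)))) (nat_lit 302232579051650) (.node (.node (.node (.node (.node .leaf (nat_lit 302232583514112) .leaf) (nat_lit 302238996615170) .leaf) (nat_lit 302239000553472) (.node (.node .leaf (nat_lit 302239021588610) .leaf) (nat_lit 302239025518720) .leaf)) (nat_lit 302241143806080)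 (.node (.node (.node .leaf (nat_lit 302241148264578) .leaf) (nat_lit 302241152432258) .leaf) (nat_lit 302241156350080) (.node (.node .leaf (nat_lit 302243299879042) .leaf) (nat_lit 302243303805056) .leaf))) (nat_lit 302243316514818) (.node (.node (.node (.node .leaf (nat_lit 302243320461312) .leaf) (nat_lit 302365706408064) .leaf) (nat_lit 302365710325762) (.node (.node .leaf (nat_lit 302365723324544) .leaf) (nat_lit 302365727242242) .leaf)) (nat_lit 302367845187586) (.node (.node (.node .leaf (nat_lit 302367849662592) .leaf) (nat_lit 302367853826176) .leaf) (nat_lit 302367857743874) (.node (.node .leaf (nat_lit 302369992736770) .leaf) (nat_lit 302369997211776) .leaf))))) (nat_lit 302370017849474) (.node (.node (.node (.node (.node (.node .leaf (nat_lit 302370022324224) .leaf) (nat_lit 302376435384322) (.node .leaf (nat_lit 302376439334912) .leaf)) (nat_lit 302376452087808) (.node (.node .leaf (nat_lit 302376456529922) .leaf) (nat_lit 302378582720640) .leaf)) (nat_lit 302378587162754) (.node (.node (.node .leaf (nat_lit 302378608046210) .leaf) (nat_lit 302378611996800) .leaf) (nat_lit 302380747137154) (.node (.node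 .leaf (nat_lit 302380751087744) .leaf) (nat_lit 302380755251328) .leaf))) (nat_lit 302380759693442) (.node (.node (.node (.node .leaf (nat_lit 302503136626689) .leaf) (nat_lit 302503141099523) .leaf) (nat_lit 302503153543169) (.node (.node .leaf (nat_lit 302503158016003) .leaf) (nat_lit 302505284179969) .leaf)) (nat_lit 302505288652803) (.node (.node (.node .leaf (nat_lit 302505292742659) .leaf) (nat_lit 302505296658433) .leaf) (nat_lit 302507440435331) (.node (.node .leaf (nat_lit 302507444351105) .leaf) (nat_lit 302507448614915) .leaf)))) (nat_lit 302507452530689) (.node (.node (.node (.node (.node .leaf (nat_lit 302513882398723) .leaf) (nat_lit 302513886871681) .leaf) (nat_lit 302513899628673) (.node (.node .leaf (nat_lit 302513903544323) .leaf) (nat_lit 302516030404737) .leaf)) (nat_lit 302516034320387) (.node (.node (.node .leaf (nat_lit 302516038270979) .leaf) (nat_lit 302516042743937) .leaf) (nat_lit 302518186137729) (.node (.node .leaf (nat_lit 302518190053379) .leaf) (nat_lit 302518194143235) .leaf))) (nat_lit 302518198616193) (.node (.node (.node (.node .leaf (nat_lit 302640592779392) .leaf) (nat_lit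 302640596688898) .leaf) (nat_lit 302640600922114) (.node (.node .leaf (nat_lit 302640605388928) .leaf) (nat_lit 302642723410048) .leaf)) (nat_lit 302642727323650) (.node (.node (.node .leaf (nat_lit 302642740328448) .leaf) (nat_lit 302642744238210) .leaf) (nat_lit 302647018225666) (.node (.node .leaf (nat_lit 302647022704768) .leaf) (nat_lit 302647043209218) .leaf)))))) (nat_lit 302647047676032) (.node (.node (.node (.node (.node (.node (.node .leaf (nat_lit 302649173917824) .leaf) (nat_lit 302649178364034) (.node .leaf (nat_lit 302649191053314) .leaf)) (nat_lit 302649194995712) (.node (.node .leaf (nat_lit 302653460664448) .leaf) (nat_lit 302653465102466) .leaf)) (nat_lit 302653469266050) (.node (.node (.node .leaf (nat_lit 302653473212544) .leaf) (nat_lit 302655608356866) .leaf) (nat_lit 302655612311552) (.node (.node .leaf (nat_lit 302655633188992) .leaf) (nat_lit 302655637631106) .leaf))) (nat_lit 302778031699971) (.node (.node (.node (.node .leaf (nat_lit 302778035611649) .leaf) (nat_lit 302778039906305) .leaf) (nat_lit 302778044375043) (.node (.node .leaf (nat_lit 302780170405889) .leaf) (nat_lit 302780174882819)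 .leaf)) (nat_lit 302780187320449) (.node (.node (.node .leaf (nat_lit 302780191797379) .leaf) (nat_lit 302784465793155) .leaf) (nat_lit 302784469704833) (.node (.node .leaf (nat_lit 302784474105987) .leaf) (nat_lit 302784478025857) .leaf)))) (nat_lit 302786604812289) (.node (.node (.node (.node (.node .leaf (nat_lit 302786608732291) .leaf) (nat_lit 302786621421571) .leaf) (nat_lit 302786625890433) (.node (.node .leaf (nat_lit 302790899642371) .leaf) (nat_lit 302790904111233) .leaf)) (nat_lit 302790908213377) (.node (.node (.node .leaf (nat_lit 302790912124931) .leaf) (nat_lit 302793055514755) .leaf) (nat_lit 302793059983361) (.node (.node .leaf (nat_lit 302793063944321) .leaf) (nat_lit 302793067855875) .leaf))) (nat_lit 302917609363458) (.node (.node (.node (.node .leaf (nat_lit 302917613842560) .leaf) (nat_lit 302917617950850) .leaf) (nat_lit 302917622417408) (.node (.node .leaf (nat_lit 302919765204994) .leaf) (nat_lit 302919769671808) .leaf)) (nat_lit 302919773968384) (.node (.node (.node .leaf (nat_lit 302919777890434) .leaf) (nat_lit 302921904715776) .leaf) (nat_lit 302921908621442) (.node (.node .leaf (nat_lit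 302921921353856) .leaf) (nat_lit 302921925275650) .leaf))))) (nat_lit 302924043780098) (.node (.node (.node (.node (.node (.node .leaf (nat_lit 302924047738880) .leaf) (nat_lit 302924052035712) .leaf) (nat_lit 302924056465538) (.node (.node .leaf (nat_lit 302926199691266) .leaf) (nat_lit 302926203645952) .leaf)) (nat_lit 302926207729664) (.node (.node (.node .leaf (nat_lit 302926212179970) .leaf) (nat_lit 302928338411648) .leaf) (nat_lit 302928342845570) (.node (.node .leaf (nat_lit 302928355532802) .leaf) (nat_lit 302928359475200) .leaf))) (nat_lit 303055040278531) (.node (.node (.node (.node .leaf (nat_lit 303055044186113) .leaf) (nat_lit 303055065499779) .leaf) (nat_lit 303055069423745) (.node (.node .leaf (nat_lit 303057204185089) .leaf) (nat_lit 303057208666115) .leaf)) (nat_lit 303057212897411) (.node (.node (.node .leaf (nat_lit 303057216804993) .leaf) (nat_lit 303059335067649) .leaf) (nat_lit 303059339532291) (.node (.node .leaf (nat_lit 303059351705729) .leaf) (nat_lit 303059356186755) .leaf)))) (nat_lit 303061482784769) (.node (.node (.node (.node (.node .leaf (nat_lit 303061486708867) .leaf) (nat_lit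 303061490939907) .leaf) (nat_lit 303061495404673) (.node (.node .leaf (nat_lit 303063630065667) .leaf) (nat_lit 303063634530433) .leaf)) (nat_lit 303063655276673) (.node (.node (.node .leaf (nat_lit 303063659184131) .leaf) (nat_lit 303065786085505) .leaf) (nat_lit 303065789992963) (.node (.node .leaf (nat_lit 303065802684547) .leaf) (nat_lit 303065807149057) .leaf))) (nat_lit 303190340135040) (.node (.node (.node (.node .leaf (nat_lit 303190344044546) .leaf) (nat_lit 303190348585088) .leaf) (nat_lit 303190352502786) (.node (.node .leaf (nat_lit 303194626490370) .leaf) (nat_lit 303194630977664) .leaf)) (nat_lit 303194643146754) (.node (.node (.node .leaf (nat_lit 303194647613568) .leaf) (nat_lit 303196774006786) .leaf) (nat_lit 303196778494080) (.node (.node .leaf (nat_lit 303196782651392) .leaf) (nat_lit 303196786561154) .leaf))))))))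
def t0_26 : BT := (.node (.node (.node (.node (.node (.node (.node (.node (.node .leaf (nat_lit 303198934032384) .leaf) (nat_lit 303198938192000) (.node .leaf (nat_lit 303198942634114) .leaf)) (nat_lit 303201085859970) (.node (.node .leaf (nat_lit 303201089802368) .leaf) (nat_lit 303201094025216) .leaf)) (nat_lit 303201098479618) (.node (.node (.node .leaf (nat_lit 303205372258304) .leaf) (nat_lit 303205376692226) .leaf) (nat_lit 303205389381634) (.node (.node .leaf (nat_lit 303205393319936) .leaf) (nat_lit 303327770347521) .leaf))) (nat_lit 303327774832643) (.node (.node (.node (.node .leaf (nat_lit 303327795722241) .leaf) (nat_lit 303327800182787) .leaf) (nat_lit 303332074178691) (.node (.node .leaf (nat_lit 303332078106753) .leaf) (nat_lit 303332090830979) .leaf)) (nat_lit 303332094742657) (.node (.node (.node .leaf (nat_lit 303334213007361) .leaf) (nat_lit 303334217467907) .leaf) (nat_lit 303334221568131) (.node (.node .leaf (nat_lit 303334225488001) .leaf) (nat_lit 303336360456195) .leaf)))) (nat_lit 303336364916865) (.node (.node (.node (.node (.node .leaf (nat_lit 303336385738753) .leaf) (nat_lit 303336389642371)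 .leaf) (nat_lit 303338524799105) (.node (.node .leaf (nat_lit 303338528702467) .leaf) (nat_lit 303338532999299) .leaf)) (nat_lit 303338537476097) (.node (.node (.node .leaf (nat_lit 303342803023873) .leaf) (nat_lit 303342806927491) .leaf) (nat_lit 303342819616899) (.node (.node .leaf (nat_lit 303342824085505) .leaf) (nat_lit 303465217654785) .leaf))) (nat_lit 303465222213635) (.node (.node (.node (.node .leaf (nat_lit 303465226256385) .leaf) (nat_lit 303465230684163) .leaf) (nat_lit 303469512884353) (.node (.node .leaf (nat_lit 303469516918915) .leaf) (nat_lit 303469529809025) .leaf)) (nat_lit 303469533843587) (.node (.node (.node .leaf (nat_lit 303471668969601) .leaf) (nat_lit 303471672873091) .leaf) (nat_lit 303471677095939) (.node (.node .leaf (nat_lit 303471681523713) .leaf) (nat_lit 303473807917059) .leaf))))) (nat_lit 303473811820673) (.node (.node (.node (.node (.node (.node .leaf (nat_lit 303473816190977) .leaf) (nat_lit 303473820618883) (.node .leaf (nat_lit 303475963674753) .leaf)) (nat_lit 303475968102403) (.node (.node .leaf (nat_lit 303475972325507) .leaf) (nat_lit 303475976228865) .leaf)) (nat_lit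 303480250302593) (.node (.node (.node .leaf (nat_lit 303480254337027) .leaf) (nat_lit 303480267030531) .leaf) (nat_lit 303480271458433) (.node (.node .leaf (nat_lit 303602656673794) .leaf) (nat_lit 303602661103744) .leaf))) (nat_lit 303602665144322) (.node (.node (.node (.node .leaf (nat_lit 303602669705344) .leaf) (nat_lit 303606951911554) .leaf) (nat_lit 303606955816960) (.node (.node .leaf (nat_lit 303606968836226) .leaf) (nat_lit 303606972741632) .leaf)) (nat_lit 303609107869826) (.node (.node (.node .leaf (nat_lit 303609111898112) .leaf) (nat_lit 303609115998336) .leaf) (nat_lit 303609120546818) (.node (.node .leaf (nat_lit 303611246823552) .leaf) (nat_lit 303611250856066) .leaf)))) (nat_lit 303611255062530) (.node (.node (.node (.node (.node .leaf (nat_lit 303611259623424) .leaf) (nat_lit 303613402550402) .leaf) (nat_lit 303613407103104) (.node (.node .leaf (nat_lit 303613411203072) .leaf) (nat_lit 303613415227394) .leaf)) (nat_lit 303617689350274) (.node (.node (.node .leaf (nat_lit 303617693247616) .leaf) (nat_lit 303617705916544) .leaf) (nat_lit 303617710465154) (.node (.node .leaf (nat_lit 303742234722305)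 .leaf) (nat_lit 303742239145987) .leaf))) (nat_lit 303742259972225) (.node (.node (.node (.node .leaf (nat_lit 303742264526979) .leaf) (nat_lit 303744382500865) .leaf) (nat_lit 303744386334723) (.node (.node .leaf (nat_lit 303744390631555) .leaf) (nat_lit 303744394989697) .leaf)) (nat_lit 303746538307713) (.node (.node (.node .leaf (nat_lit 303746542272643) .leaf) (nat_lit 303746555234305) .leaf) (nat_lit 303746559199235) (.node (.node .leaf (nat_lit 303748677107713) .leaf) (nat_lit 303748681662595) .leaf)))))) (nat_lit 303748685762563) (.node (.node (.node (.node (.node (.node (.node .leaf (nat_lit 303748689793153) .leaf) (nat_lit 303750824591361) (.node .leaf (nat_lit 303750829146243) .leaf)) (nat_lit 303750850173059) (.node (.node .leaf (nat_lit 303750854203393) .leaf) (nat_lit 303752980500611) .leaf)) (nat_lit 303752984989697) (.node (.node (.node .leaf (nat_lit 303752997750913) .leaf) (nat_lit 303753001584643) .leaf) (nat_lit 303879673614338) (.node (.node .leaf (nat_lit 303879678171264) .leaf) (nat_lit 303879698995330) .leaf))) (nat_lit 303879703416832) (.node (.node (.node (.node .leaf (nat_lit 303881821396994)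 .leaf) (nat_lit 303881825364096) .leaf) (nat_lit 303881829529600) (.node (.node .leaf (nat_lit 303881834016898) .leaf) (nat_lit 303883977339010) .leaf)) (nat_lit 303883981174784) (.node (.node (.node .leaf (nat_lit 303883994265602) .leaf) (nat_lit 303883998097536) .leaf) (nat_lit 303886116143106) (.node (.node .leaf (nat_lit 303886120568832) .leaf) (nat_lit 303886124800128) .leaf)))) (nat_lit 303886128697474) (.node (.node (.node (.node (.node .leaf (nat_lit 303888263630850) .leaf) (nat_lit 303888268056576) .leaf) (nat_lit 303888289169408) (.node (.node .leaf (nat_lit 303888293070850) .leaf) (nat_lit 303890419546112) .leaf)) (nat_lit 303890423902210) (.node (.node (.node .leaf (nat_lit 303890436630658) .leaf) (nat_lit 303890440593536) .leaf) (nat_lit 304014982340736) (.node (.node .leaf (nat_lit 304014986235906) .leaf) (nat_lit 304014990460930) .leaf))) (nat_lit 304014994897024) (.node (.node (.node (.node .leaf (nat_lit 304017121257600) .leaf) (nat_lit 304017125218306) .leaf) (nat_lit 304017138182144) (.node (.node .leaf (nat_lit 304017142143106) .leaf) (nat_lit 304021415962624) .leaf)) (nat_lit 304021420447874)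 (.node (.node (.node .leaf (nat_lit 304021424562176) .leaf) (nat_lit 304021428916354) .leaf) (nat_lit 304023563806848) (.node (.node .leaf (nat_lit 304023567833218) .leaf) (nat_lit 304023580264450) .leaf))))) (nat_lit 304023584700416) (.node (.node (.node (.node (.node (.node .leaf (nat_lit 304027866849408) .leaf) (nat_lit 304027871268994) .leaf) (nat_lit 304027875494018) (.node (.node .leaf (nat_lit 304027879405696) .leaf) (nat_lit 304030006347906) .leaf)) (nat_lit 304030010194048) (.node (.node (.node .leaf (nat_lit 304030014365696) .leaf) (nat_lit 304030018719746) .leaf) (nat_lit 304152421228547) (.node (.node .leaf (nat_lit 304152425256961) .leaf) (nat_lit 304152429346817) .leaf))) (nat_lit 304152433915907) (.node (.node (.node (.node .leaf (nat_lit 304154560280579) .leaf) (nat_lit 304154564100097) .leaf) (nat_lit 304154577205379) (.node (.node .leaf (nat_lit 304154581024897) .leaf) (nat_lit 304158854977667) .leaf)) (nat_lit 304158859337857) (.node (.node (.node .leaf (nat_lit 304158863446147) .leaf) (nat_lit 304158867941505) .leaf) (nat_lit 304161002842115) (.node (.node .leaf (nat_lit 304161006735489) .leaf)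 (nat_lit 304161019133953) .leaf)))) (nat_lit 304161023703171) (.node (.node (.node (.node (.node .leaf (nat_lit 304165305712643) .leaf) (nat_lit 304165310281857) .leaf) (nat_lit 304165314371713) (.node (.node .leaf (nat_lit 304165318400003) .leaf) (nat_lit 304167445262465) .leaf)) (nat_lit 304167449217027) (.node (.node (.node .leaf (nat_lit 304167453233283) .leaf) (nat_lit 304167457728513) .leaf) (nat_lit 304289851443202) (.node (.node .leaf (nat_lit 304289855875200) .leaf) (nat_lit 304289868365826) .leaf))) (nat_lit 304289872797824) (.node (.node (.node (.node .leaf (nat_lit 304291990503426) .leaf) (nat_lit 304291995000960) .leaf) (nat_lit 304291999168640) (.node (.node .leaf (nat_lit 304292003125250) .leaf) (nat_lit 304294138249218) .leaf)) (nat_lit 304294142222464) (.node (.node (.node .leaf (nat_lit 304294163628162) .leaf) (nat_lit 304294167470080) .leaf) (nat_lit 304300589299840) (.node (.node .leaf (nat_lit 304300593125506) .leaf) (nat_lit 304300605620354) .leaf))))))) (nat_lit 304300610117760) (.node (.node (.node (.node (.node (.node (.node (.node .leaf (nat_lit 304302728380418) .leaf) (nat_lit 304302732222464)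 (.node .leaf (nat_lit 304302753181696) .leaf)) (nat_lit 304302757531650) (.node (.node .leaf (nat_lit 304304875831298) .leaf) (nat_lit 304304879738880) .leaf)) (nat_lit 304304883972096) (.node (.node (.node .leaf (nat_lit 304304888387586) .leaf) (nat_lit 304427290329089) .leaf) (nat_lit 304427294894083) (.node (.node .leaf (nat_lit 304427307255809) .leaf) (nat_lit 304427311816707) .leaf))) (nat_lit 304429429528577) (.node (.node (.node (.node .leaf (nat_lit 304429433892867) .leaf) (nat_lit 304429438183427) .leaf) (nat_lit 304429442007041) (.node (.node .leaf (nat_lit 304431577278465) .leaf) (nat_lit 304431581102083) .leaf)) (nat_lit 304431602526337) (.node (.node (.node .leaf (nat_lit 304431606481027) .leaf) (nat_lit 304438028199939) .leaf) (nat_lit 304438032154753) (.node (.node .leaf (nat_lit 304438044629121) .leaf) (nat_lit 304438048993283) .leaf)))) (nat_lit 304440167294977) (.node (.node (.node (.node (.node .leaf (nat_lit 304440171249795) .leaf) (nat_lit 304440192045187) .leaf) (nat_lit 304440196544513) (.node (.node .leaf (nat_lit 304442314749953) .leaf) (nat_lit 304442318770307) .leaf)) (nat_lit 304442322864259)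 (.node (.node (.node .leaf (nat_lit 304442327425025) .leaf) (nat_lit 304564721172483) .leaf) (nat_lit 304564725192705) (.node (.node .leaf (nat_lit 304564729282561) .leaf) (nat_lit 304564733859843) .leaf))) (nat_lit 304566876831745) (.node (.node (.node (.node .leaf (nat_lit 304566881277955) .leaf) (nat_lit 304566885613699) .leaf) (nat_lit 304566889535617) (.node (.node .leaf (nat_lit 304569016320001) .leaf) (nat_lit 304569020241923) .leaf)) (nat_lit 304569032638467) (.node (.node (.node .leaf (nat_lit 304569037215745) .leaf) (nat_lit 304575458312193) .leaf) (nat_lit 304575462889603) (.node (.node .leaf (nat_lit 304575483691137) .leaf) (nat_lit 304575488104451) .leaf))))) (nat_lit 304577605943299) (.node (.node (.node (.node (.node (.node .leaf (nat_lit 304577610487937) .leaf) (nat_lit 304577614577793) (.node .leaf (nat_lit 304577618630659) .leaf)) (nat_lit 304579761815683) (.node (.node .leaf (nat_lit 304579766360065) .leaf) (nat_lit 304579778445315) .leaf)) (nat_lit 304579783022721) (.node (.node (.node .leaf (nat_lit 304702160193664) .leaf) (nat_lit 304702164080642) .leaf) (nat_lit 304702168301570) (.node (.node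 .leaf (nat_lit 304702172745856) .leaf) (nat_lit 304704315723778) .leaf))) (nat_lit 304704320290944) (.node (.node (.node (.node .leaf (nat_lit 304704324507648) .leaf) (nat_lit 304704328550530) .leaf) (nat_lit 304706455216130) (.node (.node .leaf (nat_lit 304706459267200) .leaf) (nat_lit 304706471667840) .leaf)) (nat_lit 304706476111874) (.node (.node (.node .leaf (nat_lit 304712897351682) .leaf) (nat_lit 304712901754880) .leaf) (nat_lit 304712922566786) (.node (.node .leaf (nat_lit 304712927133824) .leaf) (nat_lit 304715044956288) .leaf)))) (nat_lit 304715049400450) (.node (.node (.node (.node (.node .leaf (nat_lit 304715053621378) .leaf) (nat_lit 304715057508480) .leaf) (nat_lit 304717200832512) (.node (.node .leaf (nat_lit 304717205268482) .leaf) (nat_lit 304717217495168) .leaf)) (nat_lit 304717221898370) (.node (.node (.node .leaf (nat_lit 304839607537667) .leaf) (nat_lit 304839611422721) .leaf) (nat_lit 304839615793153) (.node (.node .leaf (nat_lit 304839620198403) .leaf) (nat_lit 304841763211393) .leaf))) (nat_lit 304841767747715) (.node (.node (.node (.node .leaf (nat_lit 304841771849859) .leaf) (nat_lit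 304841775894657) .leaf) (nat_lit 304846049824899) (.node (.node .leaf (nat_lit 304846054299777) .leaf) (nat_lit 304846066796545) .leaf)) (nat_lit 304846070611971) (.node (.node (.node .leaf (nat_lit 304848188735489) .leaf) (nat_lit 304848193308803) .leaf) (nat_lit 304848214116353) (.node (.node .leaf (nat_lit 304848218521731) .leaf) (nat_lit 304852483952643) .leaf)))))) (nat_lit 304852488296577) (.node (.node (.node (.node (.node (.node (.node .leaf (nat_lit 304852500584451) .leaf) (nat_lit 304852504957057) (.node .leaf (nat_lit 304854648342657) .leaf)) (nat_lit 304854652157955) (.node (.node .leaf (nat_lit 304854656456707) .leaf) (nat_lit 304854660829313) .leaf)) (nat_lit 304977046427776) (.node (.node (.node .leaf (nat_lit 304977050441730) .leaf) (nat_lit 304977054681090) .leaf) (nat_lit 304977059219584) (.node (.node .leaf (nat_lit 304979202234498) .leaf) (nat_lit 304979206641664) .leaf))) (nat_lit 304979210862592) (.node (.node (.node (.node .leaf (nat_lit 304979214778498) .leaf) (nat_lit 304983488849920) .leaf) (nat_lit 304983493191810) (.node (.node .leaf (nat_lit 304983505696770) .leaf) (nat_lit 304983509645440)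 .leaf)) (nat_lit 304985627770882) (.node (.node (.node .leaf (nat_lit 304985632178176) .leaf) (nat_lit 304985652987906) .leaf) (nat_lit 304985657559040) (.node (.node .leaf (nat_lit 304989922834560) .leaf) (nat_lit 304989927340162) .leaf)))) (nat_lit 304989939495040) (.node (.node (.node (.node (.node .leaf (nat_lit 304989943967874) .leaf) (nat_lit 304992087226498) .leaf) (nat_lit 304992091207808) (.node (.node .leaf (nat_lit 304992095363200) .leaf) (nat_lit 304992099836034) .leaf)) (nat_lit 305116624289794) (.node (.node (.node .leaf (nat_lit 305116628678784) .leaf) (nat_lit 305116641402880) .leaf) (nat_lit 305116645382274) (.node (.node .leaf (nat_lit 305118772068354) .leaf) (nat_lit 305118776129664) .leaf))) (nat_lit 305118796851200) (.node (.node (.node (.node .leaf (nat_lit 305118801416322) .leaf) (nat_lit 305120936312962) .leaf) (nat_lit 305120940144640) (.node (.node .leaf (nat_lit 305120944433280) .leaf) (nat_lit 305120948801538) .leaf)) (nat_lit 305123075229698) (.node (.node (.node .leaf (nat_lit 305123079680000) .leaf) (nat_lit 305123091892226) .leaf) (nat_lit 305123096309760) (.node (.node .leaf (nat_lit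 305125231018114) .leaf) (nat_lit 305125235374208) .leaf))))) (nat_lit 305125239662592) (.node (.node (.node (.node (.node (.node .leaf (nat_lit 305125243506690) .leaf) (nat_lit 305127370024960) .leaf) (nat_lit 305127374557186) (.node (.node .leaf (nat_lit 305127378591872) .leaf) (nat_lit 305127383029890) .leaf)) (nat_lit 305254063183873) (.node (.node (.node .leaf (nat_lit 305254067693571) .leaf) (nat_lit 305254080426115) .leaf) (nat_lit 305254084264065) (.node (.node .leaf (nat_lit 305256211097601) .leaf) (nat_lit 305256215009283) .leaf))) (nat_lit 305256235862147) (.node (.node (.node (.node .leaf (nat_lit 305256240314497) .leaf) (nat_lit 305258375215233) .leaf) (nat_lit 305258379151491) (.node (.node .leaf (nat_lit 305258383316995) .leaf) (nat_lit 305258387826689) .leaf)) (nat_lit 305260514131969) (.node (.node (.node .leaf (nat_lit 305260518682755) .leaf) (nat_lit 305260530761729) .leaf) (nat_lit 305260535345283) (.node (.node .leaf (nat_lit 305262669895809) .leaf) (nat_lit 305262674405379) .leaf)))) (nat_lit 305262678571139) (.node (.node (.node (.node (.node .leaf (nat_lit 305262682507265) .leaf) (nat_lit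 305264809019523) .leaf) (nat_lit 305264813471745) (.node (.node .leaf (nat_lit 305264817487875) .leaf) (nat_lit 305264822038657) .leaf)) (nat_lit 305389363070978) (.node (.node (.node .leaf (nat_lit 305389367517312) .leaf) (nat_lit 305389380186240) .leaf) (nat_lit 305389384226818) (.node (.node .leaf (nat_lit 305393650008066) .leaf) (nat_lit 305393653999744) .leaf))) (nat_lit 305393658165248) (.node (.node (.node (.node .leaf (nat_lit 305393662627970) .leaf) (nat_lit 305395797524482) .leaf) (nat_lit 305395801450624) (.node (.node .leaf (nat_lit 305395822309504) .leaf) (nat_lit 305395826743298) .leaf)) (nat_lit 305397944745986) (.node (.node (.node .leaf (nat_lit 305397949196288) .leaf) (nat_lit 305397953427584) .leaf) (nat_lit 305397957300354) (.node (.node .leaf (nat_lit 305400092553344) .leaf) (nat_lit 305400096364674) .leaf))))))))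
def t0_27 : BT := (.node (.node (.node (.node (.node (.node (.node (.node (.node .leaf (nat_lit 305400113025026) .leaf) (nat_lit 305404395718786) (.node .leaf (nat_lit 305404399640704) .leaf)) (nat_lit 305404404189314) (.node (.node .leaf (nat_lit 305404408209536) .leaf) (nat_lit 305526801956865) .leaf)) (nat_lit 305526806536195) (.node (.node (.node .leaf (nat_lit 305526819205123) .leaf) (nat_lit 305526823112705) .leaf) (nat_lit 305531089037313) (.node (.node .leaf (nat_lit 305531092879363) .leaf) (nat_lit 305531097176195) .leaf))) (nat_lit 305531101526145) (.node (.node (.node (.node .leaf (nat_lit 305533236426753) .leaf) (nat_lit 305533240465411) .leaf) (nat_lit 305533261185027) (.node (.node .leaf (nat_lit 305533265764353) .leaf) (nat_lit 305535383652353) .leaf)) (nat_lit 305535388199043) (.node (.node (.node .leaf (nat_lit 305535392299011) .leaf) (nat_lit 305535396337793) .leaf) (nat_lit 305537531420675) (.node (.node .leaf (nat_lit 305537535393921) .leaf) (nat_lit 305537548085379) .leaf)))) (nat_lit 305537552025601) (.node (.node (.node (.node (.node .leaf (nat_lit 305541834633345) .leaf) (nat_lit 305541838639107)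 .leaf) (nat_lit 305541843202177) (.node (.node .leaf (nat_lit 305541847109635) .leaf) (nat_lit 305664249552897) .leaf)) (nat_lit 305664253947907) (.node (.node (.node .leaf (nat_lit 305664258174979) .leaf) (nat_lit 305664262037505) .leaf) (nat_lit 305666388430849) (.node (.node .leaf (nat_lit 305666392948739) .leaf) (nat_lit 305666405363841) .leaf))) (nat_lit 305666409881731) (.node (.node (.node (.node .leaf (nat_lit 305670683660417) .leaf) (nat_lit 305670687654019) .leaf) (nat_lit 305670692266113) (.node (.node .leaf (nat_lit 305670696136835) .leaf) (nat_lit 305672831143937) .leaf)) (nat_lit 305672835137667) (.node (.node (.node .leaf (nat_lit 305672847847427) .leaf) (nat_lit 305672852234369) .leaf) (nat_lit 305677134454785) (.node (.node .leaf (nat_lit 305677138849923) .leaf) (nat_lit 305677143076995) .leaf))))) (nat_lit 305677146939393) (.node (.node (.node (.node (.node (.node .leaf (nat_lit 305679273627779) .leaf) (nat_lit 305679277490177) (.node .leaf (nat_lit 305679281938561) .leaf)) (nat_lit 305679286333443) (.node (.node .leaf (nat_lit 305801688770688) .leaf) (nat_lit 305801692639234) .leaf)) (nat_lit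 305801696866306) (.node (.node (.node .leaf (nat_lit 305801701255296) .leaf) (nat_lit 305803827644544) .leaf) (nat_lit 305803831644162) (.node (.node .leaf (nat_lit 305803844577280) .leaf) (nat_lit 305803848577154) .leaf))) (nat_lit 305808122357760) (.node (.node (.node (.node .leaf (nat_lit 305808126881922) .leaf) (nat_lit 305808130955264) .leaf) (nat_lit 305808135340162) (.node (.node .leaf (nat_lit 305810269853824) .leaf) (nat_lit 305810274369666) .leaf)) (nat_lit 305810287046658) (.node (.node (.node .leaf (nat_lit 305810290911232) .leaf) (nat_lit 305814573648000) .leaf) (nat_lit 305814577516674) (.node (.node .leaf (nat_lit 305814581743746) .leaf) (nat_lit 305814586132608) .leaf)))) (nat_lit 305816712339586) (.node (.node (.node (.node (.node .leaf (nat_lit 305816716736640) .leaf) (nat_lit 305816721135616) .leaf) (nat_lit 305816724996098) (.node (.node .leaf (nat_lit 305939118854145) .leaf) (nat_lit 305939123376131) .leaf)) (nat_lit 305939135789057) (.node (.node (.node .leaf (nat_lit 305939140311043) .leaf) (nat_lit 305941258010625) .leaf) (nat_lit 305941262401539) (.node (.node .leaf (nat_lit 305941266628611)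 .leaf) (nat_lit 305941270495233) .leaf))) (nat_lit 305943405723649) (.node (.node (.node (.node .leaf (nat_lit 305943409590275) .leaf) (nat_lit 305943430985857) .leaf) (nat_lit 305943434983555) (.node (.node .leaf (nat_lit 305949856235523) .leaf) (nat_lit 305949860757633) .leaf)) (nat_lit 305949873535105) (.node (.node (.node .leaf (nat_lit 305949877401603) .leaf) (nat_lit 305951995330561) .leaf) (nat_lit 305951999852675) (.node (.node .leaf (nat_lit 305952020949123) .leaf) (nat_lit 305952024946689) .leaf)))))) (nat_lit 305954142814209) (.node (.node (.node (.node (.node (.node (.node .leaf (nat_lit 305954147336323) .leaf) (nat_lit 305954151497859) (.node .leaf (nat_lit 305954155495425) .leaf)) (nat_lit 306076558067840) (.node (.node .leaf (nat_lit 306076562063362) .leaf) (nat_lit 306076574998656) .leaf)) (nat_lit 306076578998274) (.node (.node (.node .leaf (nat_lit 306078697228416) .leaf) (nat_lit 306078701092866) .leaf) (nat_lit 306078705319938) (.node (.node .leaf (nat_lit 306078709713024) .leaf) (nat_lit 306080844429440) .leaf))) (nat_lit 306080848818178) (.node (.node (.node (.node .leaf (nat_lit 306080869662720)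 .leaf) (nat_lit 306080874186882) .leaf) (nat_lit 306087295467522) (.node (.node .leaf (nat_lit 306087299467264) .leaf) (nat_lit 306087312207872) .leaf)) (nat_lit 306087316600834) (.node (.node (.node .leaf (nat_lit 306089434577024) .leaf) (nat_lit 306089438572674) .leaf) (nat_lit 306089459619970) (.node (.node .leaf (nat_lit 306089464139904) .leaf) (nat_lit 306091582056576) .leaf)))) (nat_lit 306091586052226) (.node (.node (.node (.node (.node .leaf (nat_lit 306091590213762) .leaf) (nat_lit 306091594737792) .leaf) (nat_lit 306213997033600) (.node (.node .leaf (nat_lit 306214001018882) .leaf) (nat_lit 306214005620864) .leaf)) (nat_lit 306214009499650) (.node (.node (.node .leaf (nat_lit 306218291738624) .leaf) (nat_lit 306218296248450) .leaf) (nat_lit 306218308655104) (.node (.node .leaf (nat_lit 306218313181314) .leaf) (nat_lit 306220447776768) .leaf))) (nat_lit 306220452180098) (.node (.node (.node (.node .leaf (nat_lit 306220456474626) .leaf) (nat_lit 306220460329088) .leaf) (nat_lit 306222587123714) (.node (.node .leaf (nat_lit 306222590994432) .leaf) (nat_lit 306222595162240) .leaf)) (nat_lit 306222599565442)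 (.node (.node (.node .leaf (nat_lit 306224742612992) .leaf) (nat_lit 306224747016194) .leaf) (nat_lit 306224751310978) (.node (.node .leaf (nat_lit 306224755165312) .leaf) (nat_lit 306229029517312) .leaf))))) (nat_lit 306229033502722) (.node (.node (.node (.node (.node (.node .leaf (nat_lit 306229046016002) .leaf) (nat_lit 306229050394624) .leaf) (nat_lit 306351435714561) (.node (.node .leaf (nat_lit 306351440242691) .leaf) (nat_lit 306351444322305) .leaf)) (nat_lit 306351448707075) (.node (.node (.node .leaf (nat_lit 306355730952321) .leaf) (nat_lit 306355734939779) .leaf) (nat_lit 306355747868801) (.node (.node .leaf (nat_lit 306355751872643) .leaf) (nat_lit 306357886998657) .leaf))) (nat_lit 306357890867331) (.node (.node (.node (.node .leaf (nat_lit 306357895161859) .leaf) (nat_lit 306357899546625) .leaf) (nat_lit 306360025839619) (.node (.node .leaf (nat_lit 306360030216321) .leaf) (nat_lit 306360034371585) .leaf)) (nat_lit 306360038232195) (.node (.node (.node .leaf (nat_lit 306362181826689) .leaf) (nat_lit 306362185678851) .leaf) (nat_lit 306362189973635) (.node (.node .leaf (nat_lit 306362194374657) .leaf)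 (nat_lit 306366468219009) .leaf)))) (nat_lit 306366472738819) (.node (.node (.node (.node (.node .leaf (nat_lit 306366485211139) .leaf) (nat_lit 306366489071745) .leaf) (nat_lit 306491013758978) (.node (.node .leaf (nat_lit 306491018289280) .leaf) (nat_lit 306491039150210) .leaf)) (nat_lit 306491043532800) (.node (.node (.node .leaf (nat_lit 306493161504770) .leaf) (nat_lit 306493165510784) .leaf) (nat_lit 306493169608704) (.node (.node .leaf (nat_lit 306493174122626) .leaf) (nat_lit 306495317416066) .leaf))) (nat_lit 306495321290752) (.node (.node (.node (.node .leaf (nat_lit 306495334346754) .leaf) (nat_lit 306495338205312) .leaf) (nat_lit 306497456635906) (.node (.node .leaf (nat_lit 306497460510720) .leaf) (nat_lit 306497464805504) .leaf)) (nat_lit 306497469188226) (.node (.node (.node .leaf (nat_lit 306499604152322) .leaf) (nat_lit 306499608027136) .leaf) (nat_lit 306499628908544) (.node (.node .leaf (nat_lit 306499633307650) .leaf) (nat_lit 306501760002048) .leaf))))))) (nat_lit 306501763860482) (.node (.node (.node (.node (.node (.node (.node (.node .leaf (nat_lit 306501776371842) .leaf) (nat_lit 306501780885632)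 (.node .leaf (nat_lit 306628452982787) .leaf)) (nat_lit 306628456974337) (.node (.node .leaf (nat_lit 306628478357635) .leaf) (nat_lit 306628482234497) .leaf)) (nat_lit 306630600200195) (.node (.node (.node .leaf (nat_lit 306630604732417) .leaf) (nat_lit 306630608826497) .leaf) (nat_lit 306630612818051) (.node (.node .leaf (nat_lit 306632756107395) .leaf) (nat_lit 306632760504449) .leaf))) (nat_lit 306632773038083) (.node (.node (.node (.node .leaf (nat_lit 306632777422849) .leaf) (nat_lit 306634895355907) .leaf) (nat_lit 306634899740801) (.node (.node .leaf (nat_lit 306634904031233) .leaf) (nat_lit 306634907908227) .leaf)) (nat_lit 306637042868227) (.node (.node (.node .leaf (nat_lit 306637047253121) .leaf) (nat_lit 306637068118145) .leaf) (nat_lit 306637071974403) (.node (.node .leaf (nat_lit 306639198711937) .leaf) (nat_lit 306639203096579) .leaf)))) (nat_lit 306639215566979) (.node (.node (.node (.node (.node .leaf (nat_lit 306639219558401) .leaf) (nat_lit 306765891698690) .leaf) (nat_lit 306765896112256) (.node (.node .leaf (nat_lit 306765908844544) .leaf) (nat_lit 306765912864898) .leaf)) (nat_lit 306768047968386)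 (.node (.node (.node .leaf (nat_lit 306768051849216) .leaf) (nat_lit 306768056000640) .leaf) (nat_lit 306768060413954) (.node (.node .leaf (nat_lit 306770186780800) .leaf) (nat_lit 306770191292418) .leaf))) (nat_lit 306770195386498) (.node (.node (.node (.node .leaf (nat_lit 306770199398400) .leaf) (nat_lit 306772342526080) .leaf) (nat_lit 306772347029634) (.node (.node .leaf (nat_lit 306772359426176) .leaf) (nat_lit 306772363962498) .leaf)) (nat_lit 306774481617024) (.node (.node (.node .leaf (nat_lit 306774486128770) .leaf) (nat_lit 306774490222594) .leaf) (nat_lit 306774494234624) (.node (.node .leaf (nat_lit 306776629182466) .leaf) (nat_lit 306776633726976) .leaf))))) (nat_lit 306776654311554) (.node (.node (.node (.node (.node (.node .leaf (nat_lit 306776658684032) .leaf) (nat_lit 306903330934787) (.node .leaf (nat_lit 306903334780929) .leaf)) (nat_lit 306903347558529) (.node (.node .leaf (nat_lit 306903352060035) .leaf) (nat_lit 306905486684291) .leaf)) (nat_lit 306905491054721) (.node (.node (.node .leaf (nat_lit 306905495226369) .leaf) (nat_lit 306905499080707) .leaf) (nat_lit 306907625994241) (.node (.node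 .leaf (nat_lit 306907630004227) .leaf) (nat_lit 306907634098307) .leaf))) (nat_lit 306907638608001) (.node (.node (.node (.node .leaf (nat_lit 306909781743617) .leaf) (nat_lit 306909785720963) .leaf) (nat_lit 306909798643713) (.node (.node .leaf (nat_lit 306909802653827) .leaf) (nat_lit 306911920838657) .leaf)) (nat_lit 306911924816003) (.node (.node (.node .leaf (nat_lit 306911928909827) .leaf) (nat_lit 306911933452417) .leaf) (nat_lit 306914068406275) (.node (.node .leaf (nat_lit 306914072424577) .leaf) (nat_lit 306914093518979) .leaf)))) (nat_lit 306914097364993) (.node (.node (.node (.node (.node .leaf (nat_lit 307038630756480) .leaf) (nat_lit 307038634739714) .leaf) (nat_lit 307038647449602) (.node (.node .leaf (nat_lit 307038651822208) .leaf) (nat_lit 307042934122498) .leaf)) (nat_lit 307042938101888) (.node (.node (.node .leaf (nat_lit 307042942199808) .leaf) (nat_lit 307042946736258) .leaf) (nat_lit 307045073108992) (.node (.node .leaf (nat_lit 307045077485698) .leaf) (nat_lit 307045081671810) .leaf))) (nat_lit 307045085519872) (.node (.node (.node (.node .leaf (nat_lit 307047229253634) .leaf) (nat_lit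 307047233101824) .leaf) (nat_lit 307047237396608) (.node (.node .leaf (nat_lit 307047241801858) .leaf) (nat_lit 307049359593600) .leaf)) (nat_lit 307049363970178) (.node (.node (.node .leaf (nat_lit 307049376495616) .leaf) (nat_lit 307049380900866) .leaf) (nat_lit 307053654605826) (.node (.node .leaf (nat_lit 307053659146240) .leaf) (nat_lit 307053679736834) .leaf)))))) (nat_lit 307053684109312) (.node (.node (.node (.node (.node (.node (.node .leaf (nat_lit 307176069437441) .leaf) (nat_lit 307176073975811) (.node .leaf (nat_lit 307176086644739) .leaf)) (nat_lit 307176090527745) (.node (.node .leaf (nat_lit 307180372793347) .leaf) (nat_lit 307180377331713) .leaf)) (nat_lit 307180381425793) (.node (.node (.node .leaf (nat_lit 307180385407107) .leaf) (nat_lit 307182512318593) .leaf) (nat_lit 307182516201603) (.node (.node .leaf (nat_lit 307182520338563) .leaf) (nat_lit 307182524745857) .leaf))) (nat_lit 307184667949059) (.node (.node (.node (.node .leaf (nat_lit 307184672323713) .leaf) (nat_lit 307184676614145) .leaf) (nat_lit 307184680497283) (.node (.node .leaf (nat_lit 307186798811137) .leaf) (nat_lit 307186802661507)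 .leaf)) (nat_lit 307186815709313) (.node (.node (.node .leaf (nat_lit 307186819592195) .leaf) (nat_lit 307191093829635) .leaf) (nat_lit 307191097843841) (.node (.node .leaf (nat_lit 307191118944259) .leaf) (nat_lit 307191122794625) .leaf)))) (nat_lit 307313516994561) (.node (.node (.node (.node (.node .leaf (nat_lit 307313521367043) .leaf) (nat_lit 307313525594115) .leaf) (nat_lit 307313529479169) (.node (.node .leaf (nat_lit 307315647447041) .leaf) (nat_lit 307315651999747) .leaf)) (nat_lit 307315673045123) (.node (.node (.node .leaf (nat_lit 307315677061249) .leaf) (nat_lit 307317795422209) .leaf) (nat_lit 307317799319555) (.node (.node .leaf (nat_lit 307317811707907) .leaf) (nat_lit 307317816260609) .leaf))) (nat_lit 307324245964803) (.node (.node (.node (.node .leaf (nat_lit 307324250456193) .leaf) (nat_lit 307324254257283) .leaf) (nat_lit 307324258678785) (.node (.node .leaf (nat_lit 307326401896449) .leaf) (nat_lit 307326406269059) .leaf)) (nat_lit 307326410496131) (.node (.node (.node .leaf (nat_lit 307326414381057) .leaf) (nat_lit 307328540809345) .leaf) (nat_lit 307328545218563) (.node (.node .leaf (nat_lit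 307328557742081) .leaf) (nat_lit 307328562102403) .leaf))))) (nat_lit 307450956187776) (.node (.node (.node (.node (.node (.node .leaf (nat_lit 307450960082946) .leaf) (nat_lit 307450964310018) .leaf) (nat_lit 307450968672384) (.node (.node .leaf (nat_lit 307453086693504) .leaf) (nat_lit 307453090662402) .leaf)) (nat_lit 307453111756930) (.node (.node (.node .leaf (nat_lit 307453116258304) .leaf) (nat_lit 307455234132096) .leaf) (nat_lit 307455238518786) (.node (.node .leaf (nat_lit 307455250939906) .leaf) (nat_lit 307455254933632) .leaf))) (nat_lit 307461685168130) (.node (.node (.node (.node .leaf (nat_lit 307461689161728) .leaf) (nat_lit 307461693485186) .leaf) (nat_lit 307461697355904) (.node (.node .leaf (nat_lit 307463841114240) .leaf) (nat_lit 307463844960386) .leaf)) (nat_lit 307463849187458) (.node (.node (.node .leaf (nat_lit 307463853598848) .leaf) (nat_lit 307465980018688) .leaf) (nat_lit 307465983913986) (.node (.node .leaf (nat_lit 307465996951680) .leaf) (nat_lit 307466000797826) .leaf)))) (nat_lit 307588377968641) (.node (.node (.node (.node (.node .leaf (nat_lit 307588382386179) .leaf) (nat_lit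 307588403494915) .leaf) (nat_lit 307588407388161) (.node (.node .leaf (nat_lit 307590525353985) .leaf) (nat_lit 307590529902595) .leaf)) (nat_lit 307590534064131) (.node (.node (.node .leaf (nat_lit 307590538035201) .leaf) (nat_lit 307594829207681) .leaf) (nat_lit 307594833096835) (.node (.node .leaf (nat_lit 307594845487107) .leaf) (nat_lit 307594850035713) .leaf))) (nat_lit 307596976691201) (.node (.node (.node (.node .leaf (nat_lit 307596980580483) .leaf) (nat_lit 307596984903681) .leaf) (nat_lit 307596988874883) (.node (.node .leaf (nat_lit 307601263161347) .leaf) (nat_lit 307601267005569) .leaf)) (nat_lit 307601280047107) (.node (.node (.node .leaf (nat_lit 307601283936385) .leaf) (nat_lit 307603410354177) .leaf) (nat_lit 307603414771843) (.node (.node .leaf (nat_lit 307603418998915) .leaf) (nat_lit 307603422838785) .leaf))))))))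
def t0_28 : BT := (.node (.node (.node (.node (.node (.node (.node (.node (.node .leaf (nat_lit 307725821057026) .leaf) (nat_lit 307725842214914) (.node .leaf (nat_lit 307725846581376) .leaf)) (nat_lit 307727964596352) (.node (.node .leaf (nat_lit 307727968569346) .leaf) (nat_lit 307727972730882) .leaf)) (nat_lit 307727977277568) (.node (.node (.node .leaf (nat_lit 307732267913216) .leaf) (nat_lit 307732272296066) .leaf) (nat_lit 307732284719106) (.node (.node .leaf (nat_lit 307732288708736) .leaf) (nat_lit 307734415384704) .leaf))) (nat_lit 307734419783810) (.node (.node (.node (.node .leaf (nat_lit 307734423588992) .leaf) (nat_lit 307734428102786) .leaf) (nat_lit 307738701848578) (.node (.node .leaf (nat_lit 307738706214912) .leaf) (nat_lit 307738718734338) .leaf)) (nat_lit 307738723149824) (.node (.node (.node .leaf (nat_lit 307740849571968) .leaf) (nat_lit 307740853463170) .leaf) (nat_lit 307740857690242) (.node (.node .leaf (nat_lit 307740862056576) .leaf) (nat_lit 307865403654145) .leaf)))) (nat_lit 307865407496195) (.node (.node (.node (.node (.node .leaf (nat_lit 307865428639875) .leaf) (nat_lit 307865433006209)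 .leaf) (nat_lit 307867567915011) (.node (.node .leaf (nat_lit 307867571757057) .leaf) (nat_lit 307867575992449) .leaf)) (nat_lit 307867580620931) (.node (.node (.node .leaf (nat_lit 307869698621441) .leaf) (nat_lit 307869702463491) .leaf) (nat_lit 307869715136643) (.node (.node .leaf (nat_lit 307869719502977) .leaf) (nat_lit 307871854313473) .leaf))) (nat_lit 307871858679939) (.node (.node (.node (.node .leaf (nat_lit 307871862489089) .leaf) (nat_lit 307871867117699) .leaf) (nat_lit 307873993588737) (.node (.node .leaf (nat_lit 307873997430915) .leaf) (nat_lit 307874001666051) .leaf)) (nat_lit 307874006294657) (.node (.node (.node .leaf (nat_lit 307878288556033) .leaf) (nat_lit 307878292398211) .leaf) (nat_lit 307878305202305) (.node (.node .leaf (nat_lit 307878309306371) .leaf) (nat_lit 308002842351744) .leaf))))) (nat_lit 308002846715906) (.node (.node (.node (.node (.node (.node .leaf (nat_lit 308002867859586) .leaf) (nat_lit 308002871703552) (.node .leaf (nat_lit 308004989706242) .leaf)) (nat_lit 308004994320512) (.node (.node .leaf (nat_lit 308004998572032) .leaf) (nat_lit 308005002395778) .leaf)) (nat_lit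 308007145797632) (.node (.node (.node .leaf (nat_lit 308007150145666) .leaf) (nat_lit 308007162834946) .leaf) (nat_lit 308007166662784) (.node (.node .leaf (nat_lit 308009293119490) .leaf) (nat_lit 308009297750016) .leaf))) (nat_lit 308009301590018) (.node (.node (.node (.node .leaf (nat_lit 308009305958400) .leaf) (nat_lit 308011448948736) .leaf) (nat_lit 308011453575170) (.node (.node .leaf (nat_lit 308011457777794) .leaf) (nat_lit 308011461621888) .leaf)) (nat_lit 308015735844994) (.node (.node (.node .leaf (nat_lit 308015739934848) .leaf) (nat_lit 308015752753154) .leaf) (nat_lit 308015756580864) (.node (.node .leaf (nat_lit 308138142154754) .leaf) (nat_lit 308138146787456) .leaf)))) (nat_lit 308138150729856) (.node (.node (.node (.node (.node .leaf (nat_lit 308138154829826) .leaf) (nat_lit 308142428684290) .leaf) (nat_lit 308142433251456) (.node (.node .leaf (nat_lit 308142445729920) .leaf) (nat_lit 308142449764354) .leaf)) (nat_lit 308144576430082) (.node (.node (.node .leaf (nat_lit 308144580472960) .leaf) (nat_lit 308144584773632) .leaf) (nat_lit 308144589070466) (.node (.node .leaf (nat_lit 308146740729984)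 .leaf) (nat_lit 308146744830082) .leaf))) (nat_lit 308146748934146) (.node (.node (.node (.node .leaf (nat_lit 308146753304576) .leaf) (nat_lit 308148871303296) .leaf) (nat_lit 308148875665538) (.node (.node .leaf (nat_lit 308148896290816) .leaf) (nat_lit 308148900915202) .leaf)) (nat_lit 308151019081856) (.node (.node (.node .leaf (nat_lit 308151022854274) .leaf) (nat_lit 308151035730048) .leaf) (nat_lit 308151039764610) (.node (.node .leaf (nat_lit 308275581374467) .leaf) (nat_lit 308275585476609) .leaf)))))) (nat_lit 308275589414913) (.node (.node (.node (.node (.node (.node (.node .leaf (nat_lit 308275594049539) .leaf) (nat_lit 308279876382851) (.node .leaf (nat_lit 308279880403073) .leaf)) (nat_lit 308279892893825) (.node (.node .leaf (nat_lit 308279897446531) .leaf) (nat_lit 308282032040067) .leaf)) (nat_lit 308282036326529) (.node (.node (.node .leaf (nat_lit 308282040643585) .leaf) (nat_lit 308282044663811) .leaf) (nat_lit 308284162787329) (.node (.node .leaf (nat_lit 308284167155843) .leaf) (nat_lit 308284171227139) .leaf))) (nat_lit 308284175329409) (.node (.node (.node (.node .leaf (nat_lit 308286310137859)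 .leaf) (nat_lit 308286314772609) .leaf) (nat_lit 308286335355011) (.node (.node .leaf (nat_lit 308286339723265) .leaf) (nat_lit 308288466235523) .leaf)) (nat_lit 308288470255617) (.node (.node (.node .leaf (nat_lit 308288483145859) .leaf) (nat_lit 308288486899713) .leaf) (nat_lit 308413011722241) (.node (.node .leaf (nat_lit 308413016080387) .leaf) (nat_lit 308413028769795) .leaf)))) (nat_lit 308413032603649) (.node (.node (.node (.node (.node .leaf (nat_lit 308415176024195) .leaf) (nat_lit 308415180316801) .leaf) (nat_lit 308415184619649) (.node (.node .leaf (nat_lit 308415188650115) .leaf) (nat_lit 308417306689537) .leaf)) (nat_lit 308417311047683) (.node (.node (.node .leaf (nat_lit 308417332209795) .leaf) (nat_lit 308417336043649) .leaf) (nat_lit 308421601525761) (.node (.node .leaf (nat_lit 308421606146179) .leaf) (nat_lit 308421618434049) .leaf))) (nat_lit 308421622792323) (.node (.node (.node (.node .leaf (nat_lit 308425896493057) .leaf) (nat_lit 308425901113475) .leaf) (nat_lit 308425905367171) (.node (.node .leaf (nat_lit 308425909200897) .leaf) (nat_lit 308428052744321) .leaf)) (nat_lit 308428056774659)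 (.node (.node (.node .leaf (nat_lit 308428061180033) .leaf) (nat_lit 308428064948227) .leaf) (nat_lit 308550459416704) (.node (.node .leaf (nat_lit 308550463252482) .leaf) (nat_lit 308550475925506) .leaf))))) (nat_lit 308550480281728) (.node (.node (.node (.node (.node (.node .leaf (nat_lit 308552598327298) .leaf) (nat_lit 308552602359936) .leaf) (nat_lit 308552606675072) (.node (.node .leaf (nat_lit 308552610969602) .leaf) (nat_lit 308554745907328) .leaf)) (nat_lit 308554749739010) (.node (.node (.node .leaf (nat_lit 308554770901122) .leaf) (nat_lit 308554775257088) .leaf) (nat_lit 308559049066498) (.node (.node .leaf (nat_lit 308559053422592) .leaf) (nat_lit 308559065712642) .leaf))) (nat_lit 308559070330880) (.node (.node (.node (.node .leaf (nat_lit 308563352635520) .leaf) (nat_lit 308563356467330) .leaf) (nat_lit 308563360688258) (.node (.node .leaf (nat_lit 308563365306496) .leaf) (nat_lit 308565491824770) .leaf)) (nat_lit 308565495591040) (.node (.node (.node .leaf (nat_lit 308565500031106) .leaf) (nat_lit 308565504063616) .leaf) (nat_lit 308687889903744) (.node (.node .leaf (nat_lit 308687893733378) .leaf)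 (nat_lit 308687897970690) .leaf)))) (nat_lit 308687902595200) (.node (.node (.node (.node (.node .leaf (nat_lit 308690037158016) .leaf) (nat_lit 308690041446402) .leaf) (nat_lit 308690054187138) (.node (.node .leaf (nat_lit 308690057959424) .leaf) (nat_lit 308694340564992) .leaf)) (nat_lit 308694344919170) (.node (.node (.node .leaf (nat_lit 308694349121666) .leaf) (nat_lit 308694352959488) .leaf) (nat_lit 308698627407874) (.node (.node .leaf (nat_lit 308698631180288) .leaf) (nat_lit 308698644056194) .leaf))) (nat_lit 308698648090752) (.node (.node (.node (.node .leaf (nat_lit 308700774629378) .leaf) (nat_lit 308700778926080) .leaf) (nat_lit 308700799615106) (.node (.node .leaf (nat_lit 308700804173952) .leaf) (nat_lit 308702938990722) .leaf)) (nat_lit 308702943090816) (.node (.node (.node .leaf (nat_lit 308702947209344) .leaf) (nat_lit 308702951563394) .leaf) (nat_lit 308825345228801) (.node (.node .leaf (nat_lit 308825349855235) .leaf) (nat_lit 308825354104835) .leaf))))))) (nat_lit 308825357936641) (.node (.node (.node (.node (.node (.node (.node (.node .leaf (nat_lit 308827484835841) .leaf) (nat_lit 308827488602115)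 (.node .leaf (nat_lit 308827501355139) .leaf)) (nat_lit 308827505653889) (.node (.node .leaf (nat_lit 308831779778689) .leaf) (nat_lit 308831783610499) .leaf)) (nat_lit 308831787812995) (.node (.node (.node .leaf (nat_lit 308831792173185) .leaf) (nat_lit 308836074557441) .leaf) (nat_lit 308836078585987) (.node (.node .leaf (nat_lit 308836091467905) .leaf) (nat_lit 308836095229955) .leaf))) (nat_lit 308838213478401) (.node (.node (.node (.node .leaf (nat_lit 308838218035331) .leaf) (nat_lit 308838238693505) .leaf) (nat_lit 308838242988035) (.node (.node .leaf (nat_lit 308840361050115) .leaf) (nat_lit 308840365414529) .leaf)) (nat_lit 308840369500289) (.node (.node (.node .leaf (nat_lit 308840373594115) .leaf) (nat_lit 308962767683587) .leaf) (nat_lit 308962771773441) (.node (.node .leaf (nat_lit 308962776006657) .leaf) (nat_lit 308962780358659) .leaf)))) (nat_lit 308964923277315) (.node (.node (.node (.node (.node .leaf (nat_lit 308964927924225) .leaf) (nat_lit 308964931879043) .leaf) (nat_lit 308964936231041) (.node (.node .leaf (nat_lit 308967062372353) .leaf) (nat_lit 308967067019267) .leaf)) (nat_lit 308967079280641)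 (.node (.node (.node .leaf (nat_lit 308967083665411) .leaf) (nat_lit 308971366055939) .leaf) (nat_lit 308971370178689) (.node (.node .leaf (nat_lit 308971374116865) .leaf) (nat_lit 308971378763907) .leaf))) (nat_lit 308975660777601) (.node (.node (.node (.node .leaf (nat_lit 308975665391619) .leaf) (nat_lit 308975677800579) .leaf) (nat_lit 308975681923073) (.node (.node .leaf (nat_lit 308977817026689) .leaf) (nat_lit 308977820887043) .leaf)) (nat_lit 308977824956419) (.node (.node (.node .leaf (nat_lit 308977829603457) .leaf) (nat_lit 309100223266818) .leaf) (nat_lit 309100227649664) (.node (.node .leaf (nat_lit 309100231854208) .leaf) (nat_lit 309100235974658) .leaf))))) (nat_lit 309102362368128) (.node (.node (.node (.node (.node (.node .leaf (nat_lit 309102366750722) .leaf) (nat_lit 309102370707456) (.node .leaf (nat_lit 309102375319682) .leaf)) (nat_lit 309104509935746) (.node (.node .leaf (nat_lit 309104514269184) .leaf) (nat_lit 309104526581890) .leaf)) (nat_lit 309104531177472) (.node (.node (.node .leaf (nat_lit 309108804747266) .leaf) (nat_lit 309108809392128) .leaf) (nat_lit 309108813334656) (.node (.node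 .leaf (nat_lit 309108817455234) .leaf) (nat_lit 309113091532928) .leaf))) (nat_lit 309113095637122) (.node (.node (.node (.node .leaf (nat_lit 309113108062210) .leaf) (nat_lit 309113112657920) .leaf) (nat_lit 309115238824064) (.node (.node .leaf (nat_lit 309115243452546) .leaf) (nat_lit 309115247538306) .leaf)) (nat_lit 309115251380352) (.node (.node (.node .leaf (nat_lit 309237653782530) .leaf) (nat_lit 309237658400896) .leaf) (nat_lit 309237662222338) (.node (.node .leaf (nat_lit 309237666607232) .leaf) (nat_lit 309239809660928) .leaf)))) (nat_lit 309239814267010) (.node (.node (.node (.node (.node .leaf (nat_lit 309239818373250) .leaf) (nat_lit 309239822200832) .leaf) (nat_lit 309244096188416) (.node (.node .leaf (nat_lit 309244100765826) .leaf) (nat_lit 309244113098880) .leaf)) (nat_lit 309244117409794) (.node (.node (.node .leaf (nat_lit 309248391319680) .leaf) (nat_lit 309248395700354) .leaf) (nat_lit 309248399902850) (.node (.node .leaf (nat_lit 309248403763328) .leaf) (nat_lit 309250530443266) .leaf))) (nat_lit 309250534766592) (.node (.node (.node (.node .leaf (nat_lit 309250538901504) .leaf) (nat_lit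 309250542954498) .leaf) (nat_lit 309252678123522) (.node (.node .leaf (nat_lit 309252681922560) .leaf) (nat_lit 309252694661120) .leaf)) (nat_lit 309252698939394) (.node (.node (.node .leaf (nat_lit 309375092869121) .leaf) (nat_lit 309375097223171) .leaf) (nat_lit 309375101042689) (.node (.node .leaf (nat_lit 309375105691651) .leaf) (nat_lit 309377232214017) .leaf)))))) (nat_lit 309377236068355) (.node (.node (.node (.node (.node (.node (.node .leaf (nat_lit 309377240137731) .leaf) (nat_lit 309377244786689) (.node .leaf (nat_lit 309381526970371) .leaf)) (nat_lit 309381531242497) (.node (.node .leaf (nat_lit 309381543618691) .leaf) (nat_lit 309381548152961) .leaf)) (nat_lit 309385830537217) (.node (.node (.node .leaf (nat_lit 309385834391683) .leaf) (nat_lit 309385838594179) .leaf) (nat_lit 309385842980865) (.node (.node .leaf (nat_lit 309387986319363) .leaf) (nat_lit 309387990354049) .leaf))) (nat_lit 309387994505345) (.node (.node (.node (.node .leaf (nat_lit 309387998810115) .leaf) (nat_lit 309390125293699) .leaf) (nat_lit 309390129565697) (.node (.node .leaf (nat_lit 309390142320641) .leaf) (nat_lit 309390146093187)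 .leaf)) (nat_lit 309514671194113) (.node (.node (.node .leaf (nat_lit 309514674980867) .leaf) (nat_lit 309514687840385) .leaf) (nat_lit 309514691889283) (.node (.node .leaf (nat_lit 309516818604035) .leaf) (nat_lit 309516822423553) .leaf)))) (nat_lit 309516843690115) (.node (.node (.node (.node (.node .leaf (nat_lit 309516847800449) .leaf) (nat_lit 309518982570115) .leaf) (nat_lit 309518987110529) (.node (.node .leaf (nat_lit 309518991280129) .leaf) (nat_lit 309518995030019) .leaf)) (nat_lit 309521113153537) (.node (.node (.node .leaf (nat_lit 309521117792387) .leaf) (nat_lit 309521122011139) .leaf) (nat_lit 309521125859457) (.node (.node .leaf (nat_lit 309523269199875) .leaf) (nat_lit 309523273506945) .leaf))) (nat_lit 309523286247553) (.node (.node (.node (.node .leaf (nat_lit 309523289997315) .leaf) (nat_lit 309527556096001) .leaf) (nat_lit 309527559882883) (.node (.node .leaf (nat_lit 309527580944387) .leaf) (nat_lit 309527585251457) .leaf)) (nat_lit 309652118362114) (.node (.node (.node .leaf (nat_lit 309652122376320) .leaf) (nat_lit 309652135270530) .leaf) (nat_lit 309652139022336) (.node (.node .leaf (nat_lit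 309654257420416) .leaf) (nat_lit 309654261499906) .leaf))))) (nat_lit 309654282764288) (.node (.node (.node (.node (.node (.node .leaf (nat_lit 309654286614658) .leaf) (nat_lit 309656405127170) .leaf) (nat_lit 309656408912000) (.node (.node .leaf (nat_lit 309656413048832) .leaf) (nat_lit 309656417620098) .leaf)) (nat_lit 309658569287808) (.node (.node (.node .leaf (nat_lit 309658573138050) .leaf) (nat_lit 309658577340418) .leaf) (nat_lit 309658581977088) (.node (.node .leaf (nat_lit 309660700102658) .leaf) (nat_lit 309660703854592) .leaf))) (nat_lit 309660716611584) (.node (.node (.node (.node .leaf (nat_lit 309660720920578) .leaf) (nat_lit 309664994793600) .leaf) (nat_lit 309664999102594) (.node (.node .leaf (nat_lit 309665020164098) .leaf) (nat_lit 309665023948800) .leaf)) (nat_lit 309787409598466) (.node (.node (.node .leaf (nat_lit 309787414204544) .leaf) (nat_lit 309787426504706) .leaf) (nat_lit 309787430852736) (.node (.node .leaf (nat_lit 309791696257026) .leaf) (nat_lit 309791700572288) .leaf)))) (nat_lit 309791704856576) (.node (.node (.node (.node (.node .leaf (nat_lit 309791708897410) .leaf) (nat_lit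 309793843671168) .leaf) (nat_lit 309793848272898) (.node (.node .leaf (nat_lit 309793868886144) .leaf) (nat_lit 309793873258498) .leaf)) (nat_lit 309795991257090) (.node (.node (.node .leaf (nat_lit 309795995637760) .leaf) (nat_lit 309796008327296) .leaf) (nat_lit 309796012138626) (.node (.node .leaf (nat_lit 309798155515904) .leaf) (nat_lit 309798159785986) .leaf))) (nat_lit 309798164086914) (.node (.node (.node (.node .leaf (nat_lit 309798168107136) .leaf) (nat_lit 309800286548096) .leaf) (nat_lit 309800290297986) (.node (.node .leaf (nat_lit 309800311373954) .leaf) (nat_lit 309800315656320) .leaf)) (nat_lit 309924840212481) (.node (.node (.node .leaf (nat_lit 309924844591107) .leaf) (nat_lit 309924856856577) .leaf) (nat_lit 309924861497347) (.node (.node .leaf (nat_lit 309929152141315) .leaf) (nat_lit 309929156151297) .leaf))))))))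
def t0_29 : BT := (.node (.node (.node (.node (.node (.node (.node (.node (.node .leaf (nat_lit 309929164748931) .leaf) (nat_lit 309931282743299) (.node .leaf (nat_lit 309931287089153) .leaf)) (nat_lit 309931307696131) (.node (.node .leaf (nat_lit 309931312336897) .leaf) (nat_lit 309933438826499) .leaf)) (nat_lit 309933442640001) (.node (.node (.node .leaf (nat_lit 309933455312897) .leaf) (nat_lit 309933459691651) .leaf) (nat_lit 309935577815041) (.node (.node .leaf (nat_lit 309935581825155) .leaf) (nat_lit 309935586142211) .leaf))) (nat_lit 309935590422657) (.node (.node (.node (.node .leaf (nat_lit 309937725237249) .leaf) (nat_lit 309937729517699) .leaf) (nat_lit 309937750593667) (.node (.node .leaf (nat_lit 309937754341377) .leaf) (nat_lit 310064426942465) .leaf)) (nat_lit 310064430751747) (.node (.node (.node .leaf (nat_lit 310064451907715) .leaf) (nat_lit 310064456224897) .leaf) (nat_lit 310066591178755) (.node (.node .leaf (nat_lit 310066594971649) .leaf) (nat_lit 310066599293057) .leaf)))) (nat_lit 310066603872387) (.node (.node (.node (.node (.node .leaf (nat_lit 310068721909761) .leaf) (nat_lit 310068725719043)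 .leaf) (nat_lit 310068738400387) (.node (.node .leaf (nat_lit 310068742717569) .leaf) (nat_lit 310070877868033) .leaf)) (nat_lit 310070881677443) (.node (.node (.node .leaf (nat_lit 310070886047745) .leaf) (nat_lit 310070890102915) .leaf) (nat_lit 310073016614913) (.node (.node .leaf (nat_lit 310073020948611) .leaf) (nat_lit 310073025187843) .leaf))) (nat_lit 310073029259393) (.node (.node (.node (.node .leaf (nat_lit 310077311582209) .leaf) (nat_lit 310077315915907) .leaf) (nat_lit 310077328236673) (.node (.node .leaf (nat_lit 310077332815875) .leaf) (nat_lit 310201865736194) .leaf)) (nat_lit 310201869809792) (.node (.node (.node .leaf (nat_lit 310201890760704) .leaf) (nat_lit 310201895338114) .leaf) (nat_lit 310204013389952) (.node (.node .leaf (nat_lit 310204017180674) .leaf) (nat_lit 310204021436546) .leaf))))) (nat_lit 310204026017792) (.node (.node (.node (.node (.node (.node .leaf (nat_lit 310206169178242) .leaf) (nat_lit 310206173235200) (.node .leaf (nat_lit 310206185719936) .leaf)) (nat_lit 310206190313474) (.node (.node .leaf (nat_lit 310208316545152) .leaf) (nat_lit 310208320876674) .leaf)) (nat_lit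 310208324757632) (.node (.node (.node .leaf (nat_lit 310208329334914) .leaf) (nat_lit 310210472341634) .leaf) (nat_lit 310210476660864) (.node (.node .leaf (nat_lit 310210480941056) .leaf) (nat_lit 310210484994050) .leaf))) (nat_lit 310214759262208) (.node (.node (.node (.node .leaf (nat_lit 310214763053058) .leaf) (nat_lit 310214775900288) .leaf) (nat_lit 310214779969666) (.node (.node .leaf (nat_lit 310337165414402) .leaf) (nat_lit 310337170006144) .leaf)) (nat_lit 310337174026368) (.node (.node (.node .leaf (nat_lit 310337178077186) .leaf) (nat_lit 310341451939842) .leaf) (nat_lit 310341456539776) (.node (.node .leaf (nat_lit 310341468960896) .leaf) (nat_lit 310341473011714) .leaf)))) (nat_lit 310343599685634) (.node (.node (.node (.node (.node .leaf (nat_lit 310343603761280) .leaf) (nat_lit 310343607992320) .leaf) (nat_lit 310343612330114) (.node (.node .leaf (nat_lit 310345763764352) .leaf) (nat_lit 310345768339586) .leaf)) (nat_lit 310345772464130) (.node (.node (.node .leaf (nat_lit 310345776252928) .leaf) (nat_lit 310347894853760) .leaf) (nat_lit 310347898658946) (.node (.node .leaf (nat_lit 310347919845376)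 .leaf) (nat_lit 310347923904514) .leaf))) (nat_lit 310350042042496) (.node (.node (.node (.node .leaf (nat_lit 310350046371970) .leaf) (nat_lit 310350058698880) .leaf) (nat_lit 310350063274114) (.node (.node .leaf (nat_lit 310474604533761) .leaf) (nat_lit 310474608861187) .leaf)) (nat_lit 310474613078019) (.node (.node (.node .leaf (nat_lit 310474616864769) .leaf) (nat_lit 310478899476609) .leaf) (nat_lit 310478903787651) (.node (.node .leaf (nat_lit 310478916536451) .leaf) (nat_lit 310478920347777) .leaf)))))) (nat_lit 310481055387777) (.node (.node (.node (.node (.node (.node (.node .leaf (nat_lit 310481059457155) .leaf) (nat_lit 310481063761923) (.node .leaf (nat_lit 310481068089345) .leaf)) (nat_lit 310483185913859) (.node (.node .leaf (nat_lit 310483190507649) .leaf) (nat_lit 310483194648577) .leaf)) (nat_lit 310483198451843) (.node (.node (.node .leaf (nat_lit 310485333563393) .leaf) (nat_lit 310485337890947) .leaf) (nat_lit 310485358518401) (.node (.node .leaf (nat_lit 310485363103747) .leaf) (nat_lit 310487489591425) .leaf))) (nat_lit 310487493378051) (.node (.node (.node (.node .leaf (nat_lit 310487506227329)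 .leaf) (nat_lit 310487510296579) .leaf) (nat_lit 310612035010561) (.node (.node .leaf (nat_lit 310612039335939) .leaf) (nat_lit 310612052017155) .leaf)) (nat_lit 310612055818241) (.node (.node (.node .leaf (nat_lit 310614199271555) .leaf) (nat_lit 310614203596929) .leaf) (nat_lit 310614207854721) (.node (.node .leaf (nat_lit 310614211917955) .leaf) (nat_lit 310616329977857) .leaf)))) (nat_lit 310616334303235) (.node (.node (.node (.node (.node .leaf (nat_lit 310616355461251) .leaf) (nat_lit 310616359262337) .leaf) (nat_lit 310620625076225) (.node (.node .leaf (nat_lit 310620629139587) .leaf) (nat_lit 310620641992705) .leaf)) (nat_lit 310620645793923) (.node (.node (.node .leaf (nat_lit 310624920043521) .leaf) (nat_lit 310624924106883) .leaf) (nat_lit 310624928364675) (.node (.node .leaf (nat_lit 310624932689921) .leaf) (nat_lit 310627075709057) .leaf))) (nat_lit 310627080296451) (.node (.node (.node (.node .leaf (nat_lit 310627084148865) .leaf) (nat_lit 310627088474115) .leaf) (nat_lit 310749482276866) (.node (.node .leaf (nat_lit 310749486862464) .leaf) (nat_lit 310749499347072) .leaf)) (nat_lit 310749503412226)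 (.node (.node (.node .leaf (nat_lit 310751621429376) .leaf) (nat_lit 310751625752578) .leaf) (nat_lit 310751630051330) (.node (.node .leaf (nat_lit 310751634112640) .leaf) (nat_lit 310753768775682) .leaf))))) (nat_lit 310753773365376) (.node (.node (.node (.node (.node (.node .leaf (nat_lit 310753794322432) .leaf) (nat_lit 310753798387842) .leaf) (nat_lit 310758072234112) (.node (.node .leaf (nat_lit 310758076823682) .leaf) (nat_lit 310758089134208) .leaf)) (nat_lit 310758093461634) (.node (.node (.node .leaf (nat_lit 310762375757826) .leaf) (nat_lit 310762379823104) .leaf) (nat_lit 310762384109568) (.node (.node .leaf (nat_lit 310762388436994) .leaf) (nat_lit 310764514902016) .leaf))) (nat_lit 310764518967298) (.node (.node (.node (.node .leaf (nat_lit 310764523386880) .leaf) (nat_lit 310764527185922) .leaf) (nat_lit 310886913192064) (.node (.node .leaf (nat_lit 310886916988930) .leaf) (nat_lit 310886921230338) .leaf)) (nat_lit 310886925813888) (.node (.node (.node .leaf (nat_lit 310889060380800) .leaf) (nat_lit 310889064701954) .leaf) (nat_lit 310889077450882) (.node (.node .leaf (nat_lit 310889081255936) .leaf)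 (nat_lit 310893363849216) .leaf)))) (nat_lit 310893368178818) (.node (.node (.node (.node (.node .leaf (nat_lit 310893372385410) .leaf) (nat_lit 310893376190464) .leaf) (nat_lit 310897650401282) (.node (.node .leaf (nat_lit 310897654730752) .leaf) (nat_lit 310897667057794) .leaf)) (nat_lit 310897671649408) (.node (.node (.node .leaf (nat_lit 310899798147074) .leaf) (nat_lit 310899801952256) .leaf) (nat_lit 310899823145090) (.node (.node .leaf (nat_lit 310899827204224) .leaf) (nat_lit 310901961992322) .leaf))) (nat_lit 310901966583936) (.node (.node (.node (.node .leaf (nat_lit 310901970747520) .leaf) (nat_lit 310901974552706) .leaf) (nat_lit 311024368883715) (.node (.node .leaf (nat_lit 311024372678657) .leaf) (nat_lit 311024377001985) .leaf)) (nat_lit 311024381583363) (.node (.node (.node .leaf (nat_lit 311026507708419) .leaf) (nat_lit 311026512289793) .leaf) (nat_lit 311026524711041) (.node (.node .leaf (nat_lit 311026528776323) .leaf) (nat_lit 311030802634883) .leaf))))))) (nat_lit 311030807216257) (.node (.node (.node (.node (.node (.node (.node (.node .leaf (nat_lit 311030811234433) .leaf) (nat_lit 311030815295619)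 (.node .leaf (nat_lit 311035097954307) .leaf)) (nat_lit 311035101749377) (.node (.node .leaf (nat_lit 311035114590339) .leaf) (nat_lit 311035118651393) .leaf)) (nat_lit 311037236858883) (.node (.node (.node .leaf (nat_lit 311037241182337) .leaf) (nat_lit 311037261815939) .leaf) (nat_lit 311037266409473) (.node (.node .leaf (nat_lit 311039384221697) .leaf) (nat_lit 311039388803203) .leaf))) (nat_lit 311039392880771) (.node (.node (.node (.node .leaf (nat_lit 311039396675585) .leaf) (nat_lit 311161791103104) .leaf) (nat_lit 311161794897922) (.node (.node .leaf (nat_lit 311161799135234) .leaf) (nat_lit 311161803716736) .leaf)) (nat_lit 311163946700928) (.node (.node (.node .leaf (nat_lit 311163951052802) .leaf) (nat_lit 311163955044352) .leaf) (nat_lit 311163959609474) (.node (.node .leaf (nat_lit 311166085758978) .leaf) (nat_lit 311166090111104) .leaf)))) (nat_lit 311166102413314) (.node (.node (.node (.node (.node .leaf (nat_lit 311166107011200) .leaf) (nat_lit 311170389217408) .leaf) (nat_lit 311170393569410) (.node (.node .leaf (nat_lit 311170397773826) .leaf) (nat_lit 311170401585152) .leaf)) (nat_lit 311174684430466)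 (.node (.node (.node .leaf (nat_lit 311174688225408) .leaf) (nat_lit 311174700969984) .leaf) (nat_lit 311174705305602) (.node (.node .leaf (nat_lit 311176839897218) .leaf) (nat_lit 311176844494976) .leaf))) (nat_lit 311176848650368) (.node (.node (.node (.node .leaf (nat_lit 311176852461698) .leaf) (nat_lit 311299246809091) .leaf) (nat_lit 311299250585601) (.node (.node .leaf (nat_lit 311299254908929) .leaf) (nat_lit 311299259471875) .leaf)) (nat_lit 311301385930753) (.node (.node (.node .leaf (nat_lit 311301389723651) .leaf) (nat_lit 311301394249857) .leaf) (nat_lit 311301398321283) (.node (.node .leaf (nat_lit 311303533441155) .leaf) (nat_lit 311303537250433) .leaf))))) (nat_lit 311303550079107) (.node (.node (.node (.node (.node (.node .leaf (nat_lit 311303554166913) .leaf) (nat_lit 311307828023299) (.node .leaf (nat_lit 311307832602753) .leaf)) (nat_lit 311307836647425) (.node (.node .leaf (nat_lit 311307840686211) .leaf) (nat_lit 311312114837505) .leaf)) (nat_lit 311312118876291) (.node (.node (.node .leaf (nat_lit 311312131293187) .leaf) (nat_lit 311312135905409) .leaf) (nat_lit 311314262128641) (.node (.node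 .leaf (nat_lit 311314266691715) .leaf) (nat_lit 311314270806147) .leaf))) (nat_lit 311314274582529) (.node (.node (.node (.node .leaf (nat_lit 311436677206017) .leaf) (nat_lit 311436681521155) .leaf) (nat_lit 311436685387777) (.node (.node .leaf (nat_lit 311436689985539) .leaf) (nat_lit 311438833055875) .leaf)) (nat_lit 311438837350529) (.node (.node (.node .leaf (nat_lit 311438841542785) .leaf) (nat_lit 311438845575299) .leaf) (nat_lit 311443119571075) (.node (.node .leaf (nat_lit 311443123927169) .leaf) (nat_lit 311443136227331) .leaf)))) (nat_lit 311443140825089) (.node (.node (.node (.node (.node .leaf (nat_lit 311447414702083) .leaf) (nat_lit 311447418796161) .leaf) (nat_lit 311447422806145) (.node (.node .leaf (nat_lit 311447427403779) .leaf) (nat_lit 311449553797121) .leaf)) (nat_lit 311449557891203) (.node (.node (.node .leaf (nat_lit 311449562022019) .leaf) (nat_lit 311449566377985) .leaf) (nat_lit 311451700953089) (.node (.node .leaf (nat_lit 311451705571459) .leaf) (nat_lit 311451718056067) .leaf))) (nat_lit 311451722088449) (.node (.node (.node (.node .leaf (nat_lit 311574116403328) .leaf) (nat_lit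 311574120232962) .leaf) (nat_lit 311574124621952) (.node (.node .leaf (nat_lit 311574128656386) .leaf) (nat_lit 311576255252608) .leaf)) (nat_lit 311576259573762) (.node (.node (.node .leaf (nat_lit 311576263671810) .leaf) (nat_lit 311576267731072) .leaf) (nat_lit 311580550475778) (.node (.node .leaf (nat_lit 311580554281088) .leaf) (nat_lit 311580567115906) .leaf)))))) (nat_lit 311580571199488) (.node (.node (.node (.node (.node (.node (.node .leaf (nat_lit 311584853842048) .leaf) (nat_lit 311584857630850) (.node .leaf (nat_lit 311584861878402) .leaf)) (nat_lit 311584866175104) (.node (.node .leaf (nat_lit 311587009579010) .leaf) (nat_lit 311587013638144) .leaf)) (nat_lit 311587017736192) (.node (.node (.node .leaf (nat_lit 311587022057474) .leaf) (nat_lit 311589148532866) .leaf) (nat_lit 311589152870528) (.node (.node .leaf (nat_lit 311589165551744) .leaf) (nat_lit 311589169340546) .leaf))) (nat_lit 311713694318594) (.node (.node (.node (.node .leaf (nat_lit 311713698400384) .leaf) (nat_lit 311713711235202) .leaf) (nat_lit 311713715054592) (.node (.node .leaf (nat_lit 311715841761408) .leaf) (nat_lit 311715845810178)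 .leaf)) (nat_lit 311715867105280) (.node (.node (.node .leaf (nat_lit 311715870920834) .leaf) (nat_lit 311718005915648) .leaf) (nat_lit 311718010226818) (.node (.node .leaf (nat_lit 311718014416898) .leaf) (nat_lit 311718018461824) .leaf)))) (nat_lit 311720136802306) (.node (.node (.node (.node (.node .leaf (nat_lit 311720140621824) .leaf) (nat_lit 311720144910464) .leaf) (nat_lit 311720149512322) (.node (.node .leaf (nat_lit 311722292557952) .leaf) (nat_lit 311722296635522) .leaf)) (nat_lit 311722309122178) (.node (.node (.node .leaf (nat_lit 311722313691264) .leaf) (nat_lit 311726578958338) .leaf) (nat_lit 311726583564288) (.node (.node .leaf (nat_lit 311726604294272) .leaf) (nat_lit 311726608371842) .leaf))) (nat_lit 311851141343235) (.node (.node (.node (.node .leaf (nat_lit 311851145947137) .leaf) (nat_lit 311851158243459) .leaf) (nat_lit 311851162585217) (.node (.node .leaf (nat_lit 311853280438273) .leaf) (nat_lit 311853285042179) .leaf)) (nat_lit 311853305811073) (.node (.node (.node .leaf (nat_lit 311853310120067) .leaf) (nat_lit 311855428128771) .leaf) (nat_lit 311855432437761) (.node (.node .leaf (nat_lit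 311855436554369) .leaf) (nat_lit 311855440601219) .leaf))))) (nat_lit 311857592592385) (.node (.node (.node (.node (.node (.node .leaf (nat_lit 311857596377219) .leaf) (nat_lit 311857600616451) .leaf) (nat_lit 311857605187713) (.node (.node .leaf (nat_lit 311859723350019) .leaf) (nat_lit 311859727167617) .leaf)) (nat_lit 311859739850881) (.node (.node (.node .leaf (nat_lit 311859744159747) .leaf) (nat_lit 311864018040833) .leaf) (nat_lit 311864022349955) (.node (.node .leaf (nat_lit 311864043431939) .leaf) (nat_lit 311864047216769) .leaf))) (nat_lit 311986433021953) (.node (.node (.node (.node .leaf (nat_lit 311986437324803) .leaf) (nat_lit 311986449674241) .leaf) (nat_lit 311986454243331) (.node (.node .leaf (nat_lit 311990719348737) .leaf) (nat_lit 311990723958787) .leaf)) (nat_lit 311990728239235) (.node (.node (.node .leaf (nat_lit 311990732058753) .leaf) (nat_lit 311992867057667) .leaf) (nat_lit 311992871364609) (.node (.node .leaf (nat_lit 311992891998211) .leaf) (nat_lit 311992896608257) .leaf)))) (nat_lit 311995014676481) (.node (.node (.node (.node (.node .leaf (nat_lit 311995018762371) .leaf) (nat_lit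 311995031181315) .leaf) (nat_lit 311995035746433) (.node (.node .leaf (nat_lit 311997178894467) .leaf) (nat_lit 311997182935041) .leaf)) (nat_lit 311997187190913) (.node (.node (.node .leaf (nat_lit 311997191497731) .leaf) (nat_lit 311999309410307) .leaf) (nat_lit 311999313979521) (.node (.node .leaf (nat_lit 311999334740097) .leaf) (nat_lit 311999338784771) .leaf))) (nat_lit 312123863791744) (.node (.node (.node (.node .leaf (nat_lit 312123867572226) .leaf) (nat_lit 312123880427648) .leaf) (nat_lit 312123884470274) (.node (.node .leaf (nat_lit 312128175114242) .leaf) (nat_lit 312128179722368) .leaf)) (nat_lit 312128183937024) (.node (.node (.node .leaf (nat_lit 312128187758722) .leaf) (nat_lit 312130306256898) .leaf) (nat_lit 312130310070400) (.node (.node .leaf (nat_lit 312130331230210) .leaf) (nat_lit 312130335281280) .leaf))))))))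
def t0_30 : BT := (.node (.node (.node (.node (.node (.node (.node (.node (.node .leaf (nat_lit 312132465870848) .leaf) (nat_lit 312132478617728) (.node .leaf (nat_lit 312132482930818) .leaf)) (nat_lit 312134601025664) (.node (.node .leaf (nat_lit 312134605109378) .leaf) (nat_lit 312134609373186) .leaf)) (nat_lit 312134613719040) (.node (.node (.node .leaf (nat_lit 312136748439680) .leaf) (nat_lit 312136752777346) .leaf) (nat_lit 312136773832834) (.node (.node .leaf (nat_lit 312136777646208) .leaf) (nat_lit 312263450230785) .leaf))) (nat_lit 312263454011395) (.node (.node (.node (.node .leaf (nat_lit 312263475134595) .leaf) (nat_lit 312263479439489) .leaf) (nat_lit 312265597714433) (.node (.node .leaf (nat_lit 312265601495043) .leaf) (nat_lit 312265605726339) .leaf)) (nat_lit 312265610293377) (.node (.node (.node .leaf (nat_lit 312267753275521) .leaf) (nat_lit 312267757711491) .leaf) (nat_lit 312267770363907) (.node (.node .leaf (nat_lit 312267774144513) .leaf) (nat_lit 312269892419585) .leaf)))) (nat_lit 312269896724611) (.node (.node (.node (.node (.node .leaf (nat_lit 312269917388801) .leaf) (nat_lit 312269922087043)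 .leaf) (nat_lit 312272040165377) (.node (.node .leaf (nat_lit 312272043946115) .leaf) (nat_lit 312272048177155) .leaf)) (nat_lit 312272052744321) (.node (.node (.node .leaf (nat_lit 312276343406723) .leaf) (nat_lit 312276347449345) .leaf) (nat_lit 312276360298499) (.node (.node .leaf (nat_lit 312276364079233) .leaf) (nat_lit 312400897267840) .leaf))) (nat_lit 312400901693442) (.node (.node (.node (.node .leaf (nat_lit 312400905916546) .leaf) (nat_lit 312400909821952) .leaf) (nat_lit 312403053404162) (.node (.node .leaf (nat_lit 312403057301632) .leaf) (nat_lit 312403061385216) .leaf)) (nat_lit 312403066065026) (.node (.node (.node .leaf (nat_lit 312405192505344) .leaf) (nat_lit 312405196390530) .leaf) (nat_lit 312405209067522) (.node (.node .leaf (nat_lit 312405213350016) .leaf) (nat_lit 312407339630594) .leaf))))) (nat_lit 312407344199680) (.node (.node (.node (.node (.node (.node .leaf (nat_lit 312407348084738) .leaf) (nat_lit 312407352522752) (.node .leaf (nat_lit 312409495834754) .leaf)) (nat_lit 312409499740288) (.node (.node .leaf (nat_lit 312409503848448) .leaf) (nat_lit 312409508536322) .leaf)) (nat_lit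 312413782423552) (.node (.node (.node .leaf (nat_lit 312413786308610) .leaf) (nat_lit 312413799086208) .leaf) (nat_lit 312413803233410) (.node (.node .leaf (nat_lit 312536188665858) .leaf) (nat_lit 312536193228928) .leaf))) (nat_lit 312536197322880) (.node (.node (.node (.node .leaf (nat_lit 312536201361410) .leaf) (nat_lit 312540483928194) .leaf) (nat_lit 312540487901184) (.node (.node .leaf (nat_lit 312540500367360) .leaf) (nat_lit 312540504995970) .leaf)) (nat_lit 312542639806464) (.node (.node (.node .leaf (nat_lit 312542643779714) .leaf) (nat_lit 312542648043522) .leaf) (nat_lit 312542652278912) (.node (.node .leaf (nat_lit 312544787191936) .leaf) (nat_lit 312544791361666) .leaf)))) (nat_lit 312544795428866) (.node (.node (.node (.node (.node .leaf (nat_lit 312544799860736) .leaf) (nat_lit 312546926219392) .leaf) (nat_lit 312546930520194) (.node (.node .leaf (nat_lit 312546934413312) .leaf) (nat_lit 312546939107330) .leaf)) (nat_lit 312549073797250) (.node (.node (.node .leaf (nat_lit 312549077901440) .leaf) (nat_lit 312549090691202) .leaf) (nat_lit 312549094533248) (.node (.node .leaf (nat_lit 312673619415043)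 .leaf) (nat_lit 312673623586817) .leaf))) (nat_lit 312673644314625) (.node (.node (.node (.node .leaf (nat_lit 312673649010691) .leaf) (nat_lit 312677922631811) .leaf) (nat_lit 312677927114881) (.node (.node .leaf (nat_lit 312677939585153) .leaf) (nat_lit 312677943675011) .leaf)) (nat_lit 312680061902851) (.node (.node (.node .leaf (nat_lit 312680065992705) .leaf) (nat_lit 312680070183041) .leaf) (nat_lit 312680074530947) (.node (.node .leaf (nat_lit 312682209431555) .leaf) (nat_lit 312682213472385) .leaf)))))) (nat_lit 312682217670657) (.node (.node (.node (.node (.node (.node (.node .leaf (nat_lit 312682221969539) .leaf) (nat_lit 312684356648963) (.node .leaf (nat_lit 312684361214081) .leaf)) (nat_lit 312684381882499) (.node (.node .leaf (nat_lit 312684386312193) .leaf) (nat_lit 312686512941185) .leaf)) (nat_lit 312686516633603) (.node (.node (.node .leaf (nat_lit 312686529601665) .leaf) (nat_lit 312686533560323) .leaf) (nat_lit 312811066910848) (.node (.node .leaf (nat_lit 312811070814210) .leaf) (nat_lit 312811083466754) .leaf))) (nat_lit 312811087763584) (.node (.node (.node (.node .leaf (nat_lit 312813205823616)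 .leaf) (nat_lit 312813210054658) .leaf) (nat_lit 312813214353410) (.node (.node .leaf (nat_lit 312813218322560) .leaf) (nat_lit 312815353274496) .leaf)) (nat_lit 312815357571074) (.node (.node (.node .leaf (nat_lit 312815378696322) .leaf) (nat_lit 312815382468608) .leaf) (nat_lit 312819656640514) (.node (.node .leaf (nat_lit 312819660937216) .leaf) (nat_lit 312819673270274) .leaf)))) (nat_lit 312819677829120) (.node (.node (.node (.node (.node .leaf (nat_lit 312823943078016) .leaf) (nat_lit 312823947636866) .leaf) (nat_lit 312823951870082) (.node (.node .leaf (nat_lit 312823955642496) .leaf) (nat_lit 312826090856576) .leaf)) (nat_lit 312826094825602) (.node (.node (.node .leaf (nat_lit 312826116089984) .leaf) (nat_lit 312826119927938) .leaf) (nat_lit 312948505591809) (.node (.node .leaf (nat_lit 312948510021635) .leaf) (nat_lit 312948522690563) .leaf))) (nat_lit 312948526460929) (.node (.node (.node (.node .leaf (nat_lit 312950661509251) .leaf) (nat_lit 312950665865345) .leaf) (nat_lit 312950670004353) (.node (.node .leaf (nat_lit 312950674098307) .leaf) (nat_lit 312952800829569) .leaf)) (nat_lit 312952804735107)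 (.node (.node (.node .leaf (nat_lit 312952808947715) .leaf) (nat_lit 312952813377537) .leaf) (nat_lit 312957095378945) (.node (.node .leaf (nat_lit 312957100071043) .leaf) (nat_lit 312957112303617) .leaf))))) (nat_lit 312957116733571) (.node (.node (.node (.node (.node (.node .leaf (nat_lit 312961398734851) .leaf) (nat_lit 312961403426945) .leaf) (nat_lit 312961407541377) (.node (.node .leaf (nat_lit 312961411446787) .leaf) (nat_lit 312963538327683) .leaf)) (nat_lit 312963542024193) (.node (.node (.node .leaf (nat_lit 312963546517635) .leaf) (nat_lit 312963550611457) .leaf) (nat_lit 313085953210371) (.node (.node .leaf (nat_lit 313085957109761) .leaf) (nat_lit 313085961175041) .leaf))) (nat_lit 313085965860867) (.node (.node (.node (.node .leaf (nat_lit 313088092325889) .leaf) (nat_lit 313088096159747) .leaf) (nat_lit 313088108900483) (.node (.node .leaf (nat_lit 313088113127553) .leaf) (nat_lit 313092386998401) .leaf)) (nat_lit 313092391422083) (.node (.node (.node .leaf (nat_lit 313092395661443) .leaf) (nat_lit 313092399560833) .leaf) (nat_lit 313096682194945) (.node (.node .leaf (nat_lit 313096686160003) .leaf)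 (nat_lit 313096699084929) .leaf)))) (nat_lit 313096702787587) (.node (.node (.node (.node (.node .leaf (nat_lit 313098829494403) .leaf) (nat_lit 313098833852417) .leaf) (nat_lit 313098837817347) (.node (.node .leaf (nat_lit 313098842306689) .leaf) (nat_lit 313100985530499) .leaf)) (nat_lit 313100989560833) (.node (.node (.node .leaf (nat_lit 313100993757185) .leaf) (nat_lit 313100998049923) .leaf) (nat_lit 313223375435904) (.node (.node .leaf (nat_lit 313223379202050) .leaf) (nat_lit 313223383435266) .leaf))) (nat_lit 313223387988096) (.node (.node (.node (.node .leaf (nat_lit 313225531023488) .leaf) (nat_lit 313225535383554) .leaf) (nat_lit 313225548107906) (.node (.node .leaf (nat_lit 313225551812608) .leaf) (nat_lit 313229817874560) .leaf)) (nat_lit 313229821640706) (.node (.node (.node .leaf (nat_lit 313229842788354) .leaf) (nat_lit 313229847083136) .leaf) (nat_lit 313234121201666) (.node (.node .leaf (nat_lit 313234125033472) .leaf) (nat_lit 313234137862274) .leaf))))))) (nat_lit 313234141960320) (.node (.node (.node (.node (.node (.node (.node (.node .leaf (nat_lit 313236259920000) .leaf) (nat_lit 313236264538242)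 (.node .leaf (nat_lit 313236285282304) .leaf)) (nat_lit 313236289507330) (.node (.node .leaf (nat_lit 313238407628928) .leaf) (nat_lit 313238411788418) .leaf)) (nat_lit 313238415882370) (.node (.node (.node .leaf (nat_lit 313238420304000) .leaf) (nat_lit 313360814112769) .leaf) (nat_lit 313360818436099) (.node (.node .leaf (nat_lit 313360822632451) .leaf) (nat_lit 313360826693633) .leaf))) (nat_lit 313362969788419) (.node (.node (.node (.node .leaf (nat_lit 313362974504961) .leaf) (nat_lit 313362978373763) .leaf) (nat_lit 313362982697089) (.node (.node .leaf (nat_lit 313365109030915) .leaf) (nat_lit 313365113452545) .leaf)) (nat_lit 313365125660675) (.node (.node (.node .leaf (nat_lit 313365130377217) .leaf) (nat_lit 313369404129283) .leaf) (nat_lit 313369408288897) (.node (.node .leaf (nat_lit 313369429016577) .leaf) (nat_lit 313369433733251) .leaf)))) (nat_lit 313373707485313) (.node (.node (.node (.node (.node .leaf (nat_lit 313373711644675) .leaf) (nat_lit 313373724065923) .leaf) (nat_lit 313373728618497) (.node (.node .leaf (nat_lit 313375846301697) .leaf) (nat_lit 313375851018371) .leaf)) (nat_lit 313375855083651)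 (.node (.node (.node .leaf (nat_lit 313375859013633) .leaf) (nat_lit 313498269794306) .leaf) (nat_lit 313498274214016) (.node (.node .leaf (nat_lit 313498278316160) .leaf) (nat_lit 313498282473474) .leaf))) (nat_lit 313500400507008) (.node (.node (.node (.node .leaf (nat_lit 313500404918274) .leaf) (nat_lit 313500425607168) .leaf) (nat_lit 313500430149762) (.node (.node .leaf (nat_lit 313502547929216) .leaf) (nat_lit 313502552463362) .leaf)) (nat_lit 313502564821120) (.node (.node (.node .leaf (nat_lit 313502569125890) .leaf) (nat_lit 313506851258370) .leaf) (nat_lit 313506855841792) (.node (.node .leaf (nat_lit 313506859927680) .leaf) (nat_lit 313506863954050) .leaf))))) (nat_lit 313511146186752) (.node (.node (.node (.node (.node (.node .leaf (nat_lit 313511150852098) .leaf) (nat_lit 313511163289730) (.node .leaf (nat_lit 313511167299712) .leaf)) (nat_lit 313513302110338) (.node (.node .leaf (nat_lit 313513306669184) .leaf) (nat_lit 313513310894208) .leaf)) (nat_lit 313513314666626) (.node (.node (.node .leaf (nat_lit 313635700293634) .leaf) (nat_lit 313635704842368) .leaf) (nat_lit 313635708749826) (.node (.node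 .leaf (nat_lit 313635713163392) .leaf) (nat_lit 313637856561282) .leaf))) (nat_lit 313637860319232) (.node (.node (.node (.node .leaf (nat_lit 313637864560640) .leaf) (nat_lit 313637869105282) .leaf) (nat_lit 313642142843010) (.node (.node .leaf (nat_lit 313642147194880) .leaf) (nat_lit 313642159474690) .leaf)) (nat_lit 313642164117632) (.node (.node (.node .leaf (nat_lit 313646429458560) .leaf) (nat_lit 313646433745026) .leaf) (nat_lit 313646454868098) (.node (.node .leaf (nat_lit 313646458658944) .leaf) (nat_lit 313648593881090) .leaf)))) (nat_lit 313648597835776) (.node (.node (.node (.node (.node .leaf (nat_lit 313648602142720) .leaf) (nat_lit 313648606359554) .leaf) (nat_lit 313650724372482) (.node (.node .leaf (nat_lit 313650728757248) .leaf) (nat_lit 313650741483520) .leaf)) (nat_lit 313650745208834) (.node (.node (.node .leaf (nat_lit 313773130975233) .leaf) (nat_lit 313773135292419) .leaf) (nat_lit 313773155942401) (.node (.node .leaf (nat_lit 313773160652803) .leaf) (nat_lit 313775278659585) .leaf))) (nat_lit 313775282583555) (.node (.node (.node (.node .leaf (nat_lit 313775286648835) .leaf) (nat_lit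 313775291359233) .leaf) (nat_lit 313779581745281) (.node (.node .leaf (nat_lit 313779586209923) .leaf) (nat_lit 313779598635009) .leaf)) (nat_lit 313779602870275) (.node (.node (.node .leaf (nat_lit 313783876982785) .leaf) (nat_lit 313783880906883) .leaf) (nat_lit 313783885121667) (.node (.node .leaf (nat_lit 313783889537025) .leaf) (nat_lit 313786016000001) .leaf)))))) (nat_lit 313786020071555) (.node (.node (.node (.node (.node (.node (.node .leaf (nat_lit 313786024259715) .leaf) (nat_lit 313786028593153) (.node .leaf (nat_lit 313788163596291) .leaf)) (nat_lit 313788167438465) (.node (.node .leaf (nat_lit 313788180181121) .leaf) (nat_lit 313788184416259) .leaf)) (nat_lit 313912717574146) (.node (.node (.node .leaf (nat_lit 313912721561728) .leaf) (nat_lit 313912734498946) .leaf) (nat_lit 313912738191360) (.node (.node .leaf (nat_lit 313914865090562) .leaf) (nat_lit 313914869012608) .leaf))) (nat_lit 313914890193026) (.node (.node (.node (.node .leaf (nat_lit 313914894241792) .leaf) (nat_lit 313917029392384) .leaf) (nat_lit 313917033248898) (.node (.node .leaf (nat_lit 313917037381634) .leaf) (nat_lit 313917042020480)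 .leaf)) (nat_lit 313919176908928) (.node (.node (.node .leaf (nat_lit 313919180699778) .leaf) (nat_lit 313919184898050) .leaf) (nat_lit 313919189471232) (.node (.node .leaf (nat_lit 313921315981314) .leaf) (nat_lit 313921319800832) .leaf)))) (nat_lit 313921332570112) (.node (.node (.node (.node (.node .leaf (nat_lit 313921336782850) .leaf) (nat_lit 313925611005952) .leaf) (nat_lit 313925614727170) (.node (.node .leaf (nat_lit 313925619138690) .leaf) (nat_lit 313925623355520) .leaf)) (nat_lit 314050156599297) (.node (.node (.node .leaf (nat_lit 314050160445443) .leaf) (nat_lit 314050173261953) .leaf) (nat_lit 314050177337475) (.node (.node .leaf (nat_lit 314052312326273) .leaf) (nat_lit 314052316475523) .leaf))) (nat_lit 314052320913409) (.node (.node (.node (.node .leaf (nat_lit 314052324669443) .leaf) (nat_lit 314054451646467) .leaf) (nat_lit 314054455328769) (.node (.node .leaf (nat_lit 314054459650177) .leaf) (nat_lit 314054464118915) .leaf)) (nat_lit 314056599019523) (.node (.node (.node .leaf (nat_lit 314056602939521) .leaf) (nat_lit 314056607006721) .leaf) (nat_lit 314056611713155) (.node (.node .leaf (nat_lit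 314058754684931) .leaf) (nat_lit 314058759022721) .leaf))))) (nat_lit 314058771779713) (.node (.node (.node (.node (.node (.node .leaf (nat_lit 314058775461891) .leaf) (nat_lit 314063041263617) .leaf) (nat_lit 314063045601411) (.node (.node .leaf (nat_lit 314063066667011) .leaf) (nat_lit 314063070513281) .leaf)) (nat_lit 314185456175105) (.node (.node (.node .leaf (nat_lit 314185460580355) .leaf) (nat_lit 314185472802817) .leaf) (nat_lit 314185477507075) (.node (.node .leaf (nat_lit 314189742964737) .leaf) (nat_lit 314189746948099) .leaf))) (nat_lit 314189751236739) (.node (.node (.node (.node .leaf (nat_lit 314189755478145) .leaf) (nat_lit 314191890087937) .leaf) (nat_lit 314191894792195) (.node (.node .leaf (nat_lit 314191915450369) .leaf) (nat_lit 314191919761411) .leaf)) (nat_lit 314194038059011) (.node (.node (.node .leaf (nat_lit 314194041813121) .leaf) (nat_lit 314194054498305) .leaf) (nat_lit 314194058903683) (.node (.node .leaf (nat_lit 314196185415681) .leaf) (nat_lit 314196189399171) .leaf)))) (nat_lit 314196193687555) (.node (.node (.node (.node (.node .leaf (nat_lit 314196197929089) .leaf) (nat_lit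 314198341437569) .leaf) (nat_lit 314198345121795) (.node (.node .leaf (nat_lit 314198349559811) .leaf) (nat_lit 314198353801345) .leaf)) (nat_lit 314322895063042) (.node (.node (.node .leaf (nat_lit 314322899601536) .leaf) (nat_lit 314322911952898) .leaf) (nat_lit 314322916262016) (.node (.node .leaf (nat_lit 314327198656514) .leaf) (nat_lit 314327202736256) .leaf))) (nat_lit 314327206909952) (.node (.node (.node (.node .leaf (nat_lit 314327211251842) .leaf) (nat_lit 314329337591938) .leaf) (nat_lit 314329341999104) (.node (.node .leaf (nat_lit 314329345915010) .leaf) (nat_lit 314329350453248) .leaf)) (nat_lit 314331476738050) (.node (.node (.node .leaf (nat_lit 314331481014272) .leaf) (nat_lit 314331493724288) .leaf) (nat_lit 314331497607298) (.node (.node .leaf (nat_lit 314333641087106) .leaf) (nat_lit 314333645199488) .leaf))))))))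
def t0_31 : BT := (.node (.node (.node (.node (.node (.node (.node (.node (.node .leaf (nat_lit 314333653723138) .leaf) (nat_lit 314335771662464) (.node .leaf (nat_lit 314335776036994) .leaf)) (nat_lit 314335797108866) (.node (.node .leaf (nat_lit 314335800926336) .leaf) (nat_lit 314460325773313) .leaf)) (nat_lit 314460330045443) (.node (.node (.node .leaf (nat_lit 314460351180803) .leaf) (nat_lit 314460354904065) .leaf) (nat_lit 314464629346433) (.node (.node .leaf (nat_lit 314464633217155) .leaf) (nat_lit 314464645886083) .leaf))) (nat_lit 314464650133633) (.node (.node (.node (.node .leaf (nat_lit 314466768224257) .leaf) (nat_lit 314466772496387) .leaf) (nat_lit 314466776731779) (.node (.node .leaf (nat_lit 314466780733569) .leaf) (nat_lit 314468915970049) .leaf)) (nat_lit 314468919718019) (.node (.node (.node .leaf (nat_lit 314468923953155) .leaf) (nat_lit 314468928479361) .leaf) (nat_lit 314471063191553) (.node (.node .leaf (nat_lit 314471067463811) .leaf) (nat_lit 314471088173185) .leaf)))) (nat_lit 314471092813827) (.node (.node (.node (.node (.node .leaf (nat_lit 314473219182723) .leaf) (nat_lit 314473223184385)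 .leaf) (nat_lit 314473236082819) (.node (.node .leaf (nat_lit 314473239805953) .leaf) (nat_lit 314597772972034) .leaf)) (nat_lit 314597777500288) (.node (.node (.node .leaf (nat_lit 314597781661824) .leaf) (nat_lit 314597785653250) .leaf) (nat_lit 314602068209794) (.node (.node .leaf (nat_lit 314602072197120) .leaf) (nat_lit 314602084669440) .leaf))) (nat_lit 314602089324674) (.node (.node (.node (.node .leaf (nat_lit 314604224108544) .leaf) (nat_lit 314604228108418) .leaf) (nat_lit 314604232310786) (.node (.node .leaf (nat_lit 314604236585088) .leaf) (nat_lit 314606371317888) .leaf)) (nat_lit 314606375833730) (.node (.node (.node .leaf (nat_lit 314606380085250) .leaf) (nat_lit 314606383810560) .leaf) (nat_lit 314608510732416) (.node (.node .leaf (nat_lit 314608514609282) .leaf) (nat_lit 314608519067648) .leaf))))) (nat_lit 314608523051010) (.node (.node (.node (.node (.node (.node .leaf (nat_lit 314610657865858) .leaf) (nat_lit 314610662377600) (.node .leaf (nat_lit 314610674782338) .leaf)) (nat_lit 314610679048320) (.node (.node .leaf (nat_lit 314737359671298) .leaf) (nat_lit 314737363677312) .leaf)) (nat_lit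 314737367840768) (.node (.node (.node .leaf (nat_lit 314737372354690) .leaf) (nat_lit 314739515291776) .leaf) (nat_lit 314739519805442) (.node (.node .leaf (nat_lit 314739524089986) .leaf) (nat_lit 314739527817216) .leaf))) (nat_lit 314741654409346) (.node (.node (.node (.node .leaf (nat_lit 314741658939392) .leaf) (nat_lit 314741671340160) .leaf) (nat_lit 314741675460610) (.node (.node .leaf (nat_lit 314743802019968) .leaf) (nat_lit 314743806288002) .leaf)) (nat_lit 314743810226304) (.node (.node (.node .leaf (nat_lit 314743814871170) .leaf) (nat_lit 314745957971968) .leaf) (nat_lit 314745962092546) (.node (.node .leaf (nat_lit 314745966180482) .leaf) (nat_lit 314745970563200) .leaf)))) (nat_lit 314750244540546) (.node (.node (.node (.node (.node .leaf (nat_lit 314750248677504) .leaf) (nat_lit 314750261442562) .leaf) (nat_lit 314750265300992) (.node (.node .leaf (nat_lit 314874790385665) .leaf) (nat_lit 314874794127363) .leaf)) (nat_lit 314874815264899) (.node (.node (.node .leaf (nat_lit 314874819514497) .leaf) (nat_lit 314876937840641) .leaf) (nat_lit 314876941565955) (.node (.node .leaf (nat_lit 314876945883267)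 .leaf) (nat_lit 314876950399105) .leaf))) (nat_lit 314879093401729) (.node (.node (.node (.node .leaf (nat_lit 314879097782403) .leaf) (nat_lit 314879110518787) .leaf) (nat_lit 314879114260481) (.node (.node .leaf (nat_lit 314881232783361) .leaf) (nat_lit 314881236656259) .leaf)) (nat_lit 314881257893889) (.node (.node (.node .leaf (nat_lit 314881261885571) .leaf) (nat_lit 314883380008961) .leaf) (nat_lit 314883384406147) (.node (.node .leaf (nat_lit 314883388477443) .leaf) (nat_lit 314883392616577) .leaf)))))) (nat_lit 314887683223683) (.node (.node (.node (.node (.node (.node (.node .leaf (nat_lit 314887687870465) .leaf) (nat_lit 314887700142083) (.node .leaf (nat_lit 314887704539265) .leaf)) (nat_lit 315010081857664) (.node (.node .leaf (nat_lit 315010085597186) .leaf) (nat_lit 315010089834498) .leaf)) (nat_lit 315010094352512) (.node (.node (.node .leaf (nat_lit 315012237392000) .leaf) (nat_lit 315012241778690) .leaf) (nat_lit 315012254513282) (.node (.node .leaf (nat_lit 315012258244608) .leaf) (nat_lit 315016524275840) .leaf))) (nat_lit 315016528015362) (.node (.node (.node (.node .leaf (nat_lit 315016549218306)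 .leaf) (nat_lit 315016553474176) .leaf) (nat_lit 315020827416578) (.node (.node .leaf (nat_lit 315020831672320) .leaf) (nat_lit 315020844054658) .leaf)) (nat_lit 315020848572544) (.node (.node (.node .leaf (nat_lit 315022966628480) .leaf) (nat_lit 315022970630274) .leaf) (nat_lit 315022991857664) (.node (.node .leaf (nat_lit 315022995720194) .leaf) (nat_lit 315025113817216) .leaf)))) (nat_lit 315025118343298) (.node (.node (.node (.node (.node .leaf (nat_lit 315025122646146) .leaf) (nat_lit 315025126377600) .leaf) (nat_lit 315147537213441) (.node (.node .leaf (nat_lit 315147541737475) .leaf) (nat_lit 315147545942019) .leaf)) (nat_lit 315147549671425) (.node (.node (.node .leaf (nat_lit 315149676308483) .leaf) (nat_lit 315149680832513) .leaf) (nat_lit 315149693231233) (.node (.node .leaf (nat_lit 315149697366147) .leaf) (nat_lit 315153971529859) .leaf))) (nat_lit 315153975529601) (.node (.node (.node (.node .leaf (nat_lit 315153979627649) .leaf) (nat_lit 315153984143491) .leaf) (nat_lit 315158266619907) (.node (.node .leaf (nat_lit 315158270357633) .leaf) (nat_lit 315158283274371) .leaf)) (nat_lit 315158287273985)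 (.node (.node (.node .leaf (nat_lit 315160413646977) .leaf) (nat_lit 315160418297859) .leaf) (nat_lit 315160422221825) (.node (.node .leaf (nat_lit 315160426483843) .leaf) (nat_lit 315162569939073) .leaf))))) (nat_lit 315162573668355) (.node (.node (.node (.node (.node (.node .leaf (nat_lit 315162577987587) .leaf) (nat_lit 315162582511745) .leaf) (nat_lit 315284967839745) (.node (.node .leaf (nat_lit 315284972230659) .leaf) (nat_lit 315284984889347) .leaf)) (nat_lit 315284988624897) (.node (.node (.node .leaf (nat_lit 315287123712131) .leaf) (nat_lit 315287128103041) .leaf) (nat_lit 315287132188801) (.node (.node .leaf (nat_lit 315287136317571) .leaf) (nat_lit 315289263036545) .leaf))) (nat_lit 315289266903171) (.node (.node (.node (.node .leaf (nat_lit 315289271195651) .leaf) (nat_lit 315289275586561) .leaf) (nat_lit 315293557970945) (.node (.node .leaf (nat_lit 315293561968771) .leaf) (nat_lit 315293574868993) .leaf)) (nat_lit 315293578604675) (.node (.node (.node .leaf (nat_lit 315297861326851) .leaf) (nat_lit 315297865324673) .leaf) (nat_lit 315297869541505) (.node (.node .leaf (nat_lit 315297873801219) .leaf)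 (nat_lit 315300000196739) .leaf)))) (nat_lit 315300004587521) (.node (.node (.node (.node (.node .leaf (nat_lit 315300008515715) .leaf) (nat_lit 315300013037569) .leaf) (nat_lit 315422406694914) (.node (.node .leaf (nat_lit 315422411214976) .leaf) (nat_lit 315422423681152) .leaf)) (nat_lit 315422427807746) (.node (.node (.node .leaf (nat_lit 315424546000898) .leaf) (nat_lit 315424550131840) .leaf) (nat_lit 315424554250368) (.node (.node .leaf (nat_lit 315424558643202) .leaf) (nat_lit 315426693488642) .leaf))) (nat_lit 315426697619584) (.node (.node (.node (.node .leaf (nat_lit 315426718361600) .leaf) (nat_lit 315426723012738) .leaf) (nat_lit 315430996648064) (.node (.node .leaf (nat_lit 315431001172098) .leaf) (nat_lit 315431013566592) .leaf)) (nat_lit 315431017824386) (.node (.node (.node .leaf (nat_lit 315435283374082) .leaf) (nat_lit 315435287635968) .leaf) (nat_lit 315435291836416) (.node (.node .leaf (nat_lit 315435295836162) .leaf) (nat_lit 315437431091202) .leaf))))))) (nat_lit 315437434828800) (.node (.node (.node (.node (.node (.node (.node (.node .leaf (nat_lit 315437456048130) .leaf) (nat_lit 315437460178944)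 (.node .leaf (nat_lit 315559845990528) .leaf)) (nat_lit 315559849879554) (.node (.node .leaf (nat_lit 315559854317696) .leaf) (nat_lit 315559858329602) .leaf)) (nat_lit 315561984983042) (.node (.node (.node .leaf (nat_lit 315561989011584) .leaf) (nat_lit 315561993277568) .leaf) (nat_lit 315561997559810) (.node (.node .leaf (nat_lit 315566279934080) .leaf) (nat_lit 315566284060674) .leaf))) (nat_lit 315566296834048) (.node (.node (.node (.node .leaf (nat_lit 315566300715138) .leaf) (nat_lit 315570575032448) .leaf) (nat_lit 315570578897026) (.node (.node .leaf (nat_lit 315570599899266) .leaf) (nat_lit 315570604296320) .leaf)) (nat_lit 315572722204674) (.node (.node (.node .leaf (nat_lit 315572726626304) .leaf) (nat_lit 315572730761216) .leaf) (nat_lit 315572734912514) (.node (.node .leaf (nat_lit 315574878359682) .leaf) (nat_lit 315574882216064) .leaf)))) (nat_lit 315574894981248) (.node (.node (.node (.node (.node .leaf (nat_lit 315574899214466) .leaf) (nat_lit 315697276356609) .leaf) (nat_lit 315697280645123) (.node (.node .leaf (nat_lit 315697301338113) .leaf) (nat_lit 315697305995267) .leaf)) (nat_lit 315699440595075)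 (.node (.node (.node .leaf (nat_lit 315699444859009) .leaf) (nat_lit 315699449145473) .leaf) (nat_lit 315699453155459) (.node (.node .leaf (nat_lit 315703718623233) .leaf) (nat_lit 315703723280387) .leaf))) (nat_lit 315703735539841) (.node (.node (.node (.node .leaf (nat_lit 315703739918467) .leaf) (nat_lit 315708022210563) .leaf) (nat_lit 315708026335361) (.node (.node .leaf (nat_lit 315708030367873) .leaf) (nat_lit 315708035024899) .leaf)) (nat_lit 315710178082819) (.node (.node (.node .leaf (nat_lit 315710182207617) .leaf) (nat_lit 315710186379393) .leaf) (nat_lit 315710190757891) (.node (.node .leaf (nat_lit 315712317270145) .leaf) (nat_lit 315712321280003) .leaf))))) (nat_lit 315712333676547) (.node (.node (.node (.node (.node (.node .leaf (nat_lit 315712338358401) .leaf) (nat_lit 315834731980801) (.node .leaf (nat_lit 315834736476163) .leaf)) (nat_lit 315834740729859) (.node (.node .leaf (nat_lit 315834744438785) .leaf) (nat_lit 315836871462913) .leaf)) (nat_lit 315836875192323) (.node (.node (.node .leaf (nat_lit 315836879661185) .leaf) (nat_lit 315836883763331) .leaf) (nat_lit 315839018717313) (.node (.node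 .leaf (nat_lit 315839022839939) .leaf) (nat_lit 315839035619457) .leaf))) (nat_lit 315839039492227) (.node (.node (.node (.node .leaf (nat_lit 315843305099267) .leaf) (nat_lit 315843309615233) .leaf) (nat_lit 315843330553857) (.node (.node .leaf (nat_lit 315843334557827) .leaf) (nat_lit 315847599980545) .leaf)) (nat_lit 315847604660355) (.node (.node (.node .leaf (nat_lit 315847617132547) .leaf) (nat_lit 315847621136513) .leaf) (nat_lit 315849764726913) (.node (.node .leaf (nat_lit 315849768435715) .leaf) (nat_lit 315849772754947) .leaf)))) (nat_lit 315849777250433) (.node (.node (.node (.node (.node .leaf (nat_lit 315972154546304) .leaf) (nat_lit 315972158273538) .leaf) (nat_lit 315972162506754) (.node (.node .leaf (nat_lit 315972167020672) .leaf) (nat_lit 315974301698176) .leaf)) (nat_lit 315974306080770) (.node (.node (.node .leaf (nat_lit 315974326808576) .leaf) (nat_lit 315974331306114) .leaf) (nat_lit 315976457398272) (.node (.node .leaf (nat_lit 315976462059650) .leaf) (nat_lit 315976474312704) .leaf))) (nat_lit 315976478695554) (.node (.node (.node (.node .leaf (nat_lit 315980752603264) .leaf) (nat_lit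 315980756854914) .leaf) (nat_lit 315980761212930) (.node (.node .leaf (nat_lit 315980764956672) .leaf) (nat_lit 315985039187970) .leaf)) (nat_lit 315985043423232) (.node (.node (.node .leaf (nat_lit 315985056125056) .leaf) (nat_lit 315985059983490) .leaf) (nat_lit 315987186493568) (.node (.node .leaf (nat_lit 315987191023746) .leaf) (nat_lit 315987195306114) .leaf)))))) (nat_lit 315987199049856) (.node (.node (.node (.node (.node (.node (.node .leaf (nat_lit 316109593214977) .leaf) (nat_lit 316109597497347) (.node .leaf (nat_lit 316109609885697) .leaf)) (nat_lit 316109614397443) (.node (.node .leaf (nat_lit 316113904730115) .leaf) (nat_lit 316113909405697) .leaf)) (nat_lit 316113913559169) (.node (.node (.node .leaf (nat_lit 316113917436035) .leaf) (nat_lit 316116035436545) .leaf) (nat_lit 316116040112131) (.node (.node .leaf (nat_lit 316116060813313) .leaf) (nat_lit 316116065083395) .leaf))) (nat_lit 316118191626241) (.node (.node (.node (.node .leaf (nat_lit 316118195732611) .leaf) (nat_lit 316118208174083) .leaf) (nat_lit 316118212673665) (.node (.node .leaf (nat_lit 316120347541635) .leaf) (nat_lit 316120351561729)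 .leaf)) (nat_lit 316120355780737) (.node (.node (.node .leaf (nat_lit 316120360050691) .leaf) (nat_lit 316122486618243) .leaf) (nat_lit 316122490626049) (.node (.node .leaf (nat_lit 316122494787585) .leaf) (nat_lit 316122499299459) .leaf)))) (nat_lit 316247032457344) (.node (.node (.node (.node (.node .leaf (nat_lit 316247036180482) .leaf) (nat_lit 316247049078912) .leaf) (nat_lit 316247053096962) (.node (.node .leaf (nat_lit 316251327307778) .leaf) (nat_lit 316251331195008) .leaf)) (nat_lit 316251335331840) (.node (.node (.node .leaf (nat_lit 316251339997314) .leaf) (nat_lit 316253483106304) .leaf) (nat_lit 316253487124610) (.node (.node .leaf (nat_lit 316253491574784) .leaf) (nat_lit 316253495453826) .leaf))) (nat_lit 316255630727170) (.node (.node (.node (.node .leaf (nat_lit 316255634475008) .leaf) (nat_lit 316255647207552) .leaf) (nat_lit 316255651610754) (.node (.node .leaf (nat_lit 316257769607170) .leaf) (nat_lit 316257773846528) .leaf)) (nat_lit 316257778098304) (.node (.node (.node .leaf (nat_lit 316257782083714) .leaf) (nat_lit 316259917334656) .leaf) (nat_lit 316259921090690) (.node (.node .leaf (nat_lit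 316259942226050) .leaf) (nat_lit 316259946465408) .leaf))))) (nat_lit 316386627082242) (.node (.node (.node (.node (.node (.node .leaf (nat_lit 316386631192704) .leaf) (nat_lit 316386643980418) .leaf) (nat_lit 316386647865344) (.node (.node .leaf (nat_lit 316388766285826) .leaf) (nat_lit 316388770171008) .leaf)) (nat_lit 316388791398530) (.node (.node (.node .leaf (nat_lit 316388795414528) .leaf) (nat_lit 316390913540098) .leaf) (nat_lit 316390917818496) (.node (.node .leaf (nat_lit 316390922102784) .leaf) (nat_lit 316390926114946) .leaf))) (nat_lit 316393061285890) (.node (.node (.node (.node .leaf (nat_lit 316393065039872) .leaf) (nat_lit 316393069324416) .leaf) (nat_lit 316393073860738) (.node (.node .leaf (nat_lit 316395208667264) .leaf) (nat_lit 316395212650626) .leaf)) (nat_lit 316395225147522) (.node (.node (.node .leaf (nat_lit 316395229782144) .leaf) (nat_lit 316399512017026) .leaf) (nat_lit 316399515996288) (.node (.node .leaf (nat_lit 316399520159744) .leaf) (nat_lit 316399524696066) .leaf)))) (nat_lit 316524065765379) (.node (.node (.node (.node (.node .leaf (nat_lit 316524070434817) .leaf) (nat_lit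 316524082679939) .leaf) (nat_lit 316524087054465) (.node (.node .leaf (nat_lit 316526213433475) .leaf) (nat_lit 316526217709697) .leaf)) (nat_lit 316526221637635) (.node (.node (.node .leaf (nat_lit 316526226307073) .leaf) (nat_lit 316528369412227) .leaf) (nat_lit 316528373426305) (.node (.node .leaf (nat_lit 316528377694209) .leaf) (nat_lit 316528381970435) .leaf))) (nat_lit 316530516645891) (.node (.node (.node (.node .leaf (nat_lit 316530521151617) .leaf) (nat_lit 316530525468673) .leaf) (nat_lit 316530529187971) (.node (.node .leaf (nat_lit 316532647698435) .leaf) (nat_lit 316532651581569) .leaf)) (nat_lit 316532664250497) (.node (.node (.node .leaf (nat_lit 316532668526595) .leaf) (nat_lit 316536942753793) .leaf) (nat_lit 316536946473091) (.node (.node .leaf (nat_lit 316536967606275) .leaf) (nat_lit 316536971882625) .leaf))))))))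

/-- Colour class 0. -/
def tree0 : BT := (.node (.node (.node (.node (.node t0_0 (nat_lit 10737647617) t0_1) (nat_lit 687207497857) (.node t0_2 (nat_lit 1511845286017) t0_3)) (nat_lit 2476057362435) (.node (.node t0_4 (nat_lit 5783202895875) t0_5) (nat_lit 9491890376704) (.node t0_6 (nat_lit 13056721918082) t0_7))) (nat_lit 16361677940867) (.node (.node (.node t0_8 (nat_lit 18429734377602) t0_9) (nat_lit 20630904981504) (.node t0_10 (nat_lit 23776939352066) t0_11)) (nat_lit 25840670736385) (.node (.node t0_12 (nat_lit 28039723692160) t0_13) (nat_lit 30378320592898) (.node t0_14 (nat_lit 32579478956033) t0_15)))) (nat_lit 34643218810880) (.node (.node (.node (.node t0_16 (nat_lit 283126416902273) t0_17) (nat_lit 285331857735682) (.node t0_18 (nat_lit 287533036660864) t0_19)) (nat_lit 289860900483075) (.node (.node t0_20 (nat_lit 292062088019971) t0_21) (nat_lit 294265398030464) (.node t0_22 (nat_lit 296468732995714) t0_23))) (nat_lit 298792285106304) (.node (.node (.node t0_24 (nat_lit 300993464301571) t0_25) (nat_lit 303198930081794) (.node t0_26 (nat_lit 305400109185024) t0_27)) (nat_lit 307725817215104) (.node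 (.node t0_28 (nat_lit 309929160468609) t0_29) (nat_lit 312132462057474) (.node t0_30 (nat_lit 314333649348608) t0_31)))))

end Cfsg.Agent.Lib.Helper18.Tits
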