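/-
helper18: the Tits group, data: colour class 1 of the orbit of the Cartan vector h_1 under 2F4(2)
(packed vectors, as a binary search tree). Generated.
-/
import Cfsg.Agent.Lib.Helper18.TitsData.Defs

set_option autoImplicit false
set_option maxRecDepth 100000

namespace Cfsg.Agent.Lib.Helper18.Tits

def t1_0 : BT := (.node (.node (.node (.node (.node (.node (.node (.node (.node .leaf (nat_lit 65537) .leaf) (nat_lit 65665) (.node .leaf (nat_lit 67585) .leaf)) (nat_lit 67713) (.node (.node .leaf (nat_lit 98305) .leaf) (nat_lit 98433) .leaf)) (nat_lit 100353) (.node (.node (.node .leaf (nat_lit 100481) .leaf) (nat_lit 131073) .leaf) (nat_lit 131201) (.node (.node .leaf (nat_lit 133121) .leaf) (nat_lit 133249) .leaf))) (nat_lit 163841) (.node (.node (.node (.node .leaf (nat_lit 163969) .leaf) (nat_lit 165889) .leaf) (nat_lit 166017) (.node (.node .leaf (nat_lit 4194305) .leaf) (nat_lit 4194433) .leaf)) (nat_lit 4196353) (.node (.node (.node .leaf (nat_lit 4196481) .leaf) (nat_lit 4227073) .leaf) (nat_lit 4227201) (.node (.node .leaf (nat_lit 4229121) .leaf) (nat_lit 4229249) .leaf)))) (nat_lit 4403201) (.node (.node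 (.node (.node (.node .leaf (nat_lit 4403329) .leaf) (nat_lit 4405249) .leaf) (nat_lit 4405377) (.node (.node .leaf (nat_lit 4435969) .leaf) (nat_lit 4436097) .leaf)) (nat_lit 4438017) (.node (.node (.node .leaf (nat_lit 4438145) .leaf) (nat_lit 8454145) .leaf) (nat_lit 8454273) (.node (.node .leaf (nat_lit 8456193) .leaf) (nat_lit 8456321) .leaf))) (nat_lit 8491009) (.node (.node (.node (.node .leaf (nat_lit 8491137) .leaf) (nat_lit 8493057) .leaf) (nat_lit 8493185) (.node (.node .leaf (nat_lit 8536065) .leaf) (nat_lit 8536193) .leaf)) (nat_lit 8538113) (.node (.node (.node .leaf (nat_lit 8538241) .leaf) (nat_lit 8572929) .leaf) (nat_lit 8573057) (.node (.node .leaf (nat_lit 8574977) .leaf) (nat_lit 8575105) .leaf))))) (nat_lit 12582913) (.node (.node (.node (.node (.node (.node .leaf (nat_lit 12583041) .leaf) (nat_lit 12584961) (.node .leaf (nat_lit 12585089) .leaf)) (nat_lit 12619777) (.node (.node .leaf (nat_lit 12619905) .leaf) (nat_lit 12621825) .leaf)) (nat_lit 12621953) (.node (.node (.node .leaf (nat_lit 12808193) .leaf) (nat_lit 12808321) .leaf) (nat_lit 12810241) (.node (.node .leaf (nat_lit 12810369)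 .leaf) (nat_lit 12836865) .leaf))) (nat_lit 12836993) (.node (.node (.node (.node .leaf (nat_lit 12838913) .leaf) (nat_lit 12839041) .leaf) (nat_lit 16777217) (.node (.node .leaf (nat_lit 16777345) .leaf) (nat_lit 16779265) .leaf)) (nat_lit 16779393) (.node (.node (.node .leaf (nat_lit 16818177) .leaf) (nat_lit 16818305) .leaf) (nat_lit 16820225) (.node (.node .leaf (nat_lit 16820353) .leaf) (nat_lit 16908289) .leaf)))) (nat_lit 16908417) (.node (.node (.node (.node (.node .leaf (nat_lit 16910337) .leaf) (nat_lit 16910465) .leaf) (nat_lit 16949249) (.node (.node .leaf (nat_lit 16949377) .leaf) (nat_lit 16951297) .leaf)) (nat_lit 16951425) (.node (.node (.node .leaf (nat_lit 21057537) .leaf) (nat_lit 21057665) .leaf) (nat_lit 21059585) (.node (.node .leaf (nat_lit 21059713) .leaf) (nat_lit 21098497) .leaf))) (nat_lit 21098625) (.node (.node (.node (.node .leaf (nat_lit 21100545) .leaf) (nat_lit 21100673) .leaf) (nat_lit 21196801) (.node (.node .leaf (nat_lit 21196929) .leaf) (nat_lit 21198849) .leaf)) (nat_lit 21198977) (.node (.node (.node .leaf (nat_lit 21221377) .leaf) (nat_lit 21221505) .leaf) (nat_lit 21223425)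 (.node (.node .leaf (nat_lit 21223553) .leaf) (nat_lit 25165825) .leaf)))))) (nat_lit 25165953) (.node (.node (.node (.node (.node (.node (.node .leaf (nat_lit 25167873) .leaf) (nat_lit 25168001) (.node .leaf (nat_lit 25210881) .leaf)) (nat_lit 25211009) (.node (.node .leaf (nat_lit 25212929) .leaf) (nat_lit 25213057) .leaf)) (nat_lit 25313281) (.node (.node (.node .leaf (nat_lit 25313409) .leaf) (nat_lit 25315329) .leaf) (nat_lit 25315457) (.node (.node .leaf (nat_lit 25358337) .leaf) (nat_lit 25358465) .leaf))) (nat_lit 25360385) (.node (.node (.node (.node .leaf (nat_lit 25360513) .leaf) (nat_lit 29446145) .leaf) (nat_lit 29446273) (.node (.node .leaf (nat_lit 29448193) .leaf) (nat_lit 29448321) .leaf)) (nat_lit 29483009) (.node (.node (.node .leaf (nat_lit 29483137) .leaf) (nat_lit 29485057) .leaf) (nat_lit 29485185) (.node (.node .leaf (nat_lit 29569025) .leaf) (nat_lit 29569153) .leaf)))) (nat_lit 29571073) (.node (.node (.node (.node (.node .leaf (nat_lit 29571201) .leaf) (nat_lit 29589505) .leaf) (nat_lit 29589633) (.node (.node .leaf (nat_lit 29591553) .leaf) (nat_lit 29591681) .leaf)) (nat_lit 2147483649)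 (.node (.node (.node .leaf (nat_lit 2147483777) .leaf) (nat_lit 2147489793) .leaf) (nat_lit 2147489921) (.node (.node .leaf (nat_lit 2147516417) .leaf) (nat_lit 2147516545) .leaf))) (nat_lit 2147522561) (.node (.node (.node (.node .leaf (nat_lit 2147522689) .leaf) (nat_lit 2147549185) .leaf) (nat_lit 2147549313) (.node (.node .leaf (nat_lit 2147555329) .leaf) (nat_lit 2147555457) .leaf)) (nat_lit 2147581953) (.node (.node (.node .leaf (nat_lit 2147582081) .leaf) (nat_lit 2147588097) .leaf) (nat_lit 2147588225) (.node (.node .leaf (nat_lit 2152079361) .leaf) (nat_lit 2152079489) .leaf))))) (nat_lit 2152085505) (.node (.node (.node (.node (.node (.node .leaf (nat_lit 2152085633) .leaf) (nat_lit 2152112129) (.node .leaf (nat_lit 2152112257) .leaf)) (nat_lit 2152118273) (.node (.node .leaf (nat_lit 2152118401) .leaf) (nat_lit 2152146945) .leaf)) (nat_lit 2152147073) (.node (.node (.node .leaf (nat_lit 2152148993) .leaf) (nat_lit 2152149121) .leaf) (nat_lit 2152179713) (.node (.node .leaf (nat_lit 2152179841) .leaf) (nat_lit 2152181761) .leaf))) (nat_lit 2152181889) (.node (.node (.node (.node .leaf (nat_lit 2156150787)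 .leaf) (nat_lit 2156150915) .leaf) (nat_lit 2156154883) (.node (.node .leaf (nat_lit 2156155011) .leaf) (nat_lit 2156193795) .leaf)) (nat_lit 2156193923) (.node (.node (.node .leaf (nat_lit 2156197891) .leaf) (nat_lit 2156198019) .leaf) (nat_lit 2156199939) (.node (.node .leaf (nat_lit 2156200067) .leaf) (nat_lit 2156204035) .leaf)))) (nat_lit 2156204163) (.node (.node (.node (.node (.node .leaf (nat_lit 2156242947) .leaf) (nat_lit 2156243075) .leaf) (nat_lit 2156247043) (.node (.node .leaf (nat_lit 2156247171) .leaf) (nat_lit 2160066563) .leaf)) (nat_lit 2160066691) (.node (.node (.node .leaf (nat_lit 2160070659) .leaf) (nat_lit 2160070787) .leaf) (nat_lit 2160109571) (.node (.node .leaf (nat_lit 2160109699) .leaf) (nat_lit 2160113667) .leaf))) (nat_lit 2160113795) (.node (.node (.node (.node .leaf (nat_lit 2160150531) .leaf) (nat_lit 2160150659) .leaf) (nat_lit 2160154627) (.node (.node .leaf (nat_lit 2160154755) .leaf) (nat_lit 2160189443) .leaf)) (nat_lit 2160189571) (.node (.node (.node .leaf (nat_lit 2160193539) .leaf) (nat_lit 2160193667) .leaf) (nat_lit 4295098369) (.node (.node .leaf (nat_lit 4295098497)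 .leaf) (nat_lit 4295108609) .leaf))))))) (nat_lit 4295108737) (.node (.node (.node (.node (.node (.node (.node (.node .leaf (nat_lit 4295131137) .leaf) (nat_lit 4295131265) (.node .leaf (nat_lit 4295141377) .leaf)) (nat_lit 4295141505) (.node (.node .leaf (nat_lit 4295294977) .leaf) (nat_lit 4295295105) .leaf)) (nat_lit 4295305217) (.node (.node (.node .leaf (nat_lit 4295305345) .leaf) (nat_lit 4295327745) .leaf) (nat_lit 4295327873) (.node (.node .leaf (nat_lit 4295337985) .leaf) (nat_lit 4295338113) .leaf))) (nat_lit 4299161601) (.node (.node (.node (.node .leaf (nat_lit 4299161729) .leaf) (nat_lit 4299171841) .leaf) (nat_lit 4299171969) (.node (.node .leaf (nat_lit 4299194369) .leaf) (nat_lit 4299194497) .leaf)) (nat_lit 4299204609) (.node (.node (.node .leaf (nat_lit 4299204737) .leaf) (nat_lit 4299626497) .leaf) (nat_lit 4299626625) (.node (.node .leaf (nat_lit 4299632641) .leaf) (nat_lit 4299632769) .leaf)))) (nat_lit 4299659265) (.node (.node (.node (.node (.node .leaf (nat_lit 4299659393) .leaf) (nat_lit 4299665409) .leaf) (nat_lit 4299665537) (.node (.node .leaf (nat_lit 4311891971) .leaf) (nat_lit 4311892099)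 .leaf)) (nat_lit 4311900163) (.node (.node (.node .leaf (nat_lit 4311900291) .leaf) (nat_lit 4311930883) .leaf) (nat_lit 4311931011) (.node (.node .leaf (nat_lit 4311939075) .leaf) (nat_lit 4311939203) .leaf))) (nat_lit 4312023043) (.node (.node (.node (.node .leaf (nat_lit 4312023171) .leaf) (nat_lit 4312031235) .leaf) (nat_lit 4312031363) (.node (.node .leaf (nat_lit 4312061955) .leaf) (nat_lit 4312062083) .leaf)) (nat_lit 4312070147) (.node (.node (.node .leaf (nat_lit 4312070275) .leaf) (nat_lit 4315938819) .leaf) (nat_lit 4315938947) (.node (.node .leaf (nat_lit 4315947011) .leaf) (nat_lit 4315947139) .leaf))))) (nat_lit 4315977731) (.node (.node (.node (.node (.node (.node .leaf (nat_lit 4315977859) .leaf) (nat_lit 4315985923) (.node .leaf (nat_lit 4315986051) .leaf)) (nat_lit 4316338179) (.node (.node .leaf (nat_lit 4316338307) .leaf) (nat_lit 4316346371) .leaf)) (nat_lit 4316346499) (.node (.node (.node .leaf (nat_lit 4316364803) .leaf) (nat_lit 4316364931) .leaf) (nat_lit 4316372995) (.node (.node .leaf (nat_lit 4316373123) .leaf) (nat_lit 6442450945) .leaf))) (nat_lit 6442451073) (.node (.node (.node (.node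 .leaf (nat_lit 6442465281) .leaf) (nat_lit 6442465409) .leaf) (nat_lit 6442483713) (.node (.node .leaf (nat_lit 6442483841) .leaf) (nat_lit 6442498049) .leaf)) (nat_lit 6442498177) (.node (.node (.node .leaf (nat_lit 6442778625) .leaf) (nat_lit 6442778753) .leaf) (nat_lit 6442792961) (.node (.node .leaf (nat_lit 6442793089) .leaf) (nat_lit 6442811393) .leaf)))) (nat_lit 6442811521) (.node (.node (.node (.node (.node .leaf (nat_lit 6442825729) .leaf) (nat_lit 6442825857) .leaf) (nat_lit 6446843905) (.node (.node .leaf (nat_lit 6446844033) .leaf) (nat_lit 6446854145) .leaf)) (nat_lit 6446854273) (.node (.node (.node .leaf (nat_lit 6446876673) .leaf) (nat_lit 6446876801) .leaf) (nat_lit 6446886913) (.node (.node .leaf (nat_lit 6446887041) .leaf) (nat_lit 6447044609) .leaf))) (nat_lit 6447044737) (.node (.node (.node (.node .leaf (nat_lit 6447046657) .leaf) (nat_lit 6447046785) .leaf) (nat_lit 6447077377) (.node (.node .leaf (nat_lit 6447077505) .leaf) (nat_lit 6447079425) .leaf)) (nat_lit 6447079553) (.node (.node (.node .leaf (nat_lit 6467616771) .leaf) (nat_lit 6467616899) .leaf) (nat_lit 6467629059) (.node (.node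 .leaf (nat_lit 6467629187) .leaf) (nat_lit 6467655683) .leaf)))))) (nat_lit 6467655811) (.node (.node (.node (.node (.node (.node (.node .leaf (nat_lit 6467659779) .leaf) (nat_lit 6467659907) (.node .leaf (nat_lit 6467895299) .leaf)) (nat_lit 6467895427) (.node (.node .leaf (nat_lit 6467907587) .leaf) (nat_lit 6467907715) .leaf)) (nat_lit 6467934211) (.node (.node (.node .leaf (nat_lit 6467934339) .leaf) (nat_lit 6467938307) .leaf) (nat_lit 6467938435) (.node (.node .leaf (nat_lit 6472026115) .leaf) (nat_lit 6472026243) .leaf))) (nat_lit 6472038403) (.node (.node (.node (.node .leaf (nat_lit 6472038531) .leaf) (nat_lit 6472060931) .leaf) (nat_lit 6472061059) (.node (.node .leaf (nat_lit 6472065027) .leaf) (nat_lit 6472065155) .leaf)) (nat_lit 6472275971) (.node (.node (.node .leaf (nat_lit 6472276099) .leaf) (nat_lit 6472280067) .leaf) (nat_lit 6472280195) (.node (.node .leaf (nat_lit 6472302595) .leaf) (nat_lit 6472302723) .leaf)))) (nat_lit 6472314883) (.node (.node (.node (.node (.node .leaf (nat_lit 6472315011) .leaf) (nat_lit 8589934593) .leaf) (nat_lit 8589953025) (.node (.node .leaf (nat_lit 8590000129) .leaf)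 (nat_lit 8590018561) .leaf)) (nat_lit 8590065665) (.node (.node (.node .leaf (nat_lit 8590084097) .leaf) (nat_lit 8590131329) .leaf) (nat_lit 8590149761) (.node (.node .leaf (nat_lit 8590229505) .leaf) (nat_lit 8590248065) .leaf))) (nat_lit 8590295041) (.node (.node (.node (.node .leaf (nat_lit 8590313601) .leaf) (nat_lit 8590360577) .leaf) (nat_lit 8590379137) (.node (.node .leaf (nat_lit 8590426241) .leaf) (nat_lit 8590444545) .leaf)) (nat_lit 8598323201) (.node (.node (.node .leaf (nat_lit 8598341633) .leaf) (nat_lit 8598388737) .leaf) (nat_lit 8598407169) (.node (.node .leaf (nat_lit 8598456321) .leaf) (nat_lit 8598470657) .leaf))))) (nat_lit 8598521985) (.node (.node (.node (.node (.node (.node .leaf (nat_lit 8598536321) .leaf) (nat_lit 8598622337) .leaf) (nat_lit 8598640641) (.node (.node .leaf (nat_lit 8598687873) .leaf) (nat_lit 8598706177) .leaf)) (nat_lit 8598755457) (.node (.node (.node .leaf (nat_lit 8598769665) .leaf) (nat_lit 8598820865) .leaf) (nat_lit 8598835329) (.node (.node .leaf (nat_lit 8606711939) .leaf) (nat_lit 8606728323) .leaf))) (nat_lit 8606783619) (.node (.node (.node (.node .leaf (nat_lit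 8606800003) .leaf) (nat_lit 8606851075) .leaf) (nat_lit 8606867459) (.node (.node .leaf (nat_lit 8606922883) .leaf) (nat_lit 8606939267) .leaf)) (nat_lit 8606982275) (.node (.node (.node .leaf (nat_lit 8606998531) .leaf) (nat_lit 8607053955) .leaf) (nat_lit 8607070211) (.node (.node .leaf (nat_lit 8607105027) .leaf) (nat_lit 8607121539) .leaf)))) (nat_lit 8607176835) (.node (.node (.node (.node (.node .leaf (nat_lit 8607193091) .leaf) (nat_lit 8615100547) .leaf) (nat_lit 8615116931) (.node (.node .leaf (nat_lit 8615172227) .leaf) (nat_lit 8615188611) .leaf)) (nat_lit 8615241731) (.node (.node (.node .leaf (nat_lit 8615258115) .leaf) (nat_lit 8615309443) .leaf) (nat_lit 8615325827) (.node (.node .leaf (nat_lit 8615374851) .leaf) (nat_lit 8615391363) .leaf))) (nat_lit 8615438339) (.node (.node (.node (.node .leaf (nat_lit 8615454851) .leaf) (nat_lit 8615499907) .leaf) (nat_lit 8615516163) (.node (.node .leaf (nat_lit 8615559171) .leaf) (nat_lit 8615575683) .leaf)) (nat_lit 10737418371) (.node (.node (.node .leaf (nat_lit 10737438851) .leaf) (nat_lit 10737487875) .leaf) (nat_lit 10737500163) (.node (.node .leaf (nat_lit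 10737590403) .leaf) (nat_lit 10737610883) .leaf))))))))
def t1_1 : BT := (.node (.node (.node (.node (.node (.node (.node (.node (.node .leaf (nat_lit 10737672323) .leaf) (nat_lit 10737680515) (.node .leaf (nat_lit 10737700867) .leaf)) (nat_lit 10737750019) (.node (.node .leaf (nat_lit 10737762435) .leaf) (nat_lit 10737852547) .leaf)) (nat_lit 10737872899) (.node (.node (.node .leaf (nat_lit 10737922179) .leaf) (nat_lit 10737934339) .leaf) (nat_lit 10745806851) (.node (.node .leaf (nat_lit 10745827331) .leaf) (nat_lit 10745876611) .leaf))) (nat_lit 10745888899) (.node (.node (.node (.node .leaf (nat_lit 10745980931) .leaf) (nat_lit 10746001411) .leaf) (nat_lit 10746050563) (.node (.node .leaf (nat_lit 10746062851) .leaf) (nat_lit 10746073219) .leaf)) (nat_lit 10746085379) (.node (.node (.node .leaf (nat_lit 10746134531) .leaf) (nat_lit 10746155139) .leaf) (nat_lit 10746247299) (.node (.node .leaf (nat_lit 10746259459) .leaf) (nat_lit 10746308739) .leaf)))) (nat_lit 10746329091) (.node (.node (.node (.node (.node .leaf (nat_lit 10758389889) .leaf) (nat_lit 10758412417) .leaf) (nat_lit 10758457345) (.node (.node .leaf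 (nat_lit 10758475777) .leaf) (nat_lit 10758553601) .leaf)) (nat_lit 10758576129) (.node (.node (.node .leaf (nat_lit 10758621185) .leaf) (nat_lit 10758639617) .leaf) (nat_lit 10758692993) (.node (.node .leaf (nat_lit 10758715393) .leaf) (nat_lit 10758760449) .leaf))) (nat_lit 10758779009) (.node (.node (.node (.node .leaf (nat_lit 10758791169) .leaf) (nat_lit 10758813825) .leaf) (nat_lit 10758858753) (.node (.node .leaf (nat_lit 10758877313) .leaf) (nat_lit 10766778369) .leaf)) (nat_lit 10766800897) (.node (.node (.node .leaf (nat_lit 10766846081) .leaf) (nat_lit 10766864513) .leaf) (nat_lit 10766944385) (.node (.node .leaf (nat_lit 10766962817) .leaf) (nat_lit 10767007873) .leaf))))) (nat_lit 10767030401) (.node (.node (.node (.node (.node (.node .leaf (nat_lit 10767085697) .leaf) (nat_lit 10767099905) (.node .leaf (nat_lit 10767153153) .leaf)) (nat_lit 10767163521) (.node (.node .leaf (nat_lit 10767185921) .leaf) (nat_lit 10767196289) .leaf)) (nat_lit 10767249409) (.node (.node (.node .leaf (nat_lit 10767263873) .leaf) (nat_lit 12884901889) .leaf) (nat_lit 12884928641) (.node (.node .leaf (nat_lit 12885000193)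 .leaf) (nat_lit 12885026945) .leaf))) (nat_lit 12885032961) (.node (.node (.node (.node .leaf (nat_lit 12885059713) .leaf) (nat_lit 12885131393) .leaf) (nat_lit 12885157889) (.node (.node .leaf (nat_lit 12885196801) .leaf) (nat_lit 12885223425) .leaf)) (nat_lit 12885229569) (.node (.node (.node .leaf (nat_lit 12885256193) .leaf) (nat_lit 12885327873) .leaf) (nat_lit 12885354497) (.node (.node .leaf (nat_lit 12885360769) .leaf) (nat_lit 12885387393) .leaf)))) (nat_lit 12897484801) (.node (.node (.node (.node (.node .leaf (nat_lit 12897511553) .leaf) (nat_lit 12897583105) .leaf) (nat_lit 12897609857) (.node (.node .leaf (nat_lit 12897617921) .leaf) (nat_lit 12897640577) .leaf)) (nat_lit 12897716353) (.node (.node (.node .leaf (nat_lit 12897738753) .leaf) (nat_lit 12897783937) .leaf) (nat_lit 12897810561) (.node (.node .leaf (nat_lit 12897816705) .leaf) (nat_lit 12897843329) .leaf))) (nat_lit 12897917057) (.node (.node (.node (.node .leaf (nat_lit 12897939585) .leaf) (nat_lit 12897949697) .leaf) (nat_lit 12897972225) (.node (.node .leaf (nat_lit 12901679107) .leaf) (nat_lit 12901703811) .leaf)) (nat_lit 12901783555)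 (.node (.node (.node .leaf (nat_lit 12901808259) .leaf) (nat_lit 12901818499) .leaf) (nat_lit 12901826563) (.node (.node .leaf (nat_lit 12901922819) .leaf) (nat_lit 12901931139) .leaf)))))) (nat_lit 12901949443) (.node (.node (.node (.node (.node (.node (.node .leaf (nat_lit 12901957635) .leaf) (nat_lit 12902053891) (.node .leaf (nat_lit 12902062083) .leaf)) (nat_lit 12902072451) (.node (.node .leaf (nat_lit 12902097027) .leaf) (nat_lit 12902176771) .leaf)) (nat_lit 12902201347) (.node (.node (.node .leaf (nat_lit 12914262019) .leaf) (nat_lit 12914286723) .leaf) (nat_lit 12914366467) (.node (.node .leaf (nat_lit 12914391171) .leaf) (nat_lit 12914403459) .leaf))) (nat_lit 12914411523) (.node (.node (.node (.node .leaf (nat_lit 12914503683) .leaf) (nat_lit 12914512003) .leaf) (nat_lit 12914536579) (.node (.node .leaf (nat_lit 12914544771) .leaf) (nat_lit 12914632835) .leaf)) (nat_lit 12914641027) (.node (.node (.node .leaf (nat_lit 12914661379) .leaf) (nat_lit 12914685955) .leaf) (nat_lit 12914753667) (.node (.node .leaf (nat_lit 12914778243) .leaf) (nat_lit 15032385667) .leaf)))) (nat_lit 15032414211) (.node (.node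 (.node (.node (.node .leaf (nat_lit 15032487939) .leaf) (nat_lit 15032508547) .leaf) (nat_lit 15032557699) (.node (.node .leaf (nat_lit 15032569859) .leaf) (nat_lit 15032594563) .leaf)) (nat_lit 15032598531) (.node (.node (.node .leaf (nat_lit 15032647811) .leaf) (nat_lit 15032676483) .leaf) (nat_lit 15032750083) (.node (.node .leaf (nat_lit 15032770563) .leaf) (nat_lit 15032819843) .leaf))) (nat_lit 15032832131) (.node (.node (.node (.node .leaf (nat_lit 15032856707) .leaf) (nat_lit 15032860803) .leaf) (nat_lit 15044968451) (.node (.node .leaf (nat_lit 15044997251) .leaf) (nat_lit 15045070979) .leaf)) (nat_lit 15045091331) (.node (.node (.node .leaf (nat_lit 15045142531) .leaf) (nat_lit 15045154947) .leaf) (nat_lit 15045179395) (.node (.node .leaf (nat_lit 15045183619) .leaf) (nat_lit 15045234819) .leaf))))) (nat_lit 15045255299) (.node (.node (.node (.node (.node (.node .leaf (nat_lit 15045328899) .leaf) (nat_lit 15045357571) .leaf) (nat_lit 15045408899) (.node (.node .leaf (nat_lit 15045412995) .leaf) (nat_lit 15045437571) .leaf)) (nat_lit 15045449859) (.node (.node (.node .leaf (nat_lit 15053357057) .leaf) (nat_lit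 15053387905) .leaf) (nat_lit 15053457537) (.node (.node .leaf (nat_lit 15053484033) .leaf) (nat_lit 15053521025) .leaf))) (nat_lit 15053551617) (.node (.node (.node (.node .leaf (nat_lit 15053555841) .leaf) (nat_lit 15053582337) .leaf) (nat_lit 15053660161) (.node (.node .leaf (nat_lit 15053674497) .leaf) (nat_lit 15053695105) .leaf)) (nat_lit 15053705345) (.node (.node (.node .leaf (nat_lit 15053758593) .leaf) (nat_lit 15053772929) .leaf) (nat_lit 15053858945) (.node (.node .leaf (nat_lit 15053869185) .leaf) (nat_lit 15057551489) .leaf)))) (nat_lit 15057582081) (.node (.node (.node (.node (.node .leaf (nat_lit 15057651713) .leaf) (nat_lit 15057678465) .leaf) (nat_lit 15057717249) (.node (.node .leaf (nat_lit 15057744001) .leaf) (nat_lit 15057747969) .leaf)) (nat_lit 15057778817) (.node (.node (.node .leaf (nat_lit 15057858561) .leaf) (nat_lit 15057864705) .leaf) (nat_lit 15057893505) (.node (.node .leaf (nat_lit 15057895553) .leaf) (nat_lit 15057959041) .leaf))) (nat_lit 15057961089) (.node (.node (.node (.node .leaf (nat_lit 15058055297) .leaf) (nat_lit 15058061441) .leaf) (nat_lit 274877906945) (.node (.node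 .leaf (nat_lit 274877908993) .leaf) (nat_lit 274877911169) .leaf)) (nat_lit 274877913217) (.node (.node (.node .leaf (nat_lit 274878005250) .leaf) (nat_lit 274878007298) .leaf) (nat_lit 274878009346) (.node (.node .leaf (nat_lit 274878011394) .leaf) (nat_lit 274882101249) .leaf))))))) (nat_lit 274882103297) (.node (.node (.node (.node (.node (.node (.node (.node .leaf (nat_lit 274882105473) .leaf) (nat_lit 274882107521) (.node .leaf (nat_lit 274882207874) .leaf)) (nat_lit 274882209922) (.node (.node .leaf (nat_lit 274882211970) .leaf) (nat_lit 274882214018) .leaf)) (nat_lit 274886295553) (.node (.node (.node .leaf (nat_lit 274886297601) .leaf) (nat_lit 274886299777) .leaf) (nat_lit 274886301825) (.node (.node .leaf (nat_lit 274886410370) .leaf) (nat_lit 274886412418) .leaf))) (nat_lit 274886414466) (.node (.node (.node (.node .leaf (nat_lit 274886416514) .leaf) (nat_lit 274890489857) .leaf) (nat_lit 274890491905) (.node (.node .leaf (nat_lit 274890494081) .leaf) (nat_lit 274890496129) .leaf)) (nat_lit 274890612738) (.node (.node (.node .leaf (nat_lit 274890614786) .leaf) (nat_lit 274890616834) .leaf) (nat_lit 274890618882)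 (.node (.node .leaf (nat_lit 277025390593) .leaf) (nat_lit 277025392769) .leaf)))) (nat_lit 277025394817) (.node (.node (.node (.node (.node .leaf (nat_lit 277025396737) .leaf) (nat_lit 277025718274) .leaf) (nat_lit 277025720450) (.node (.node .leaf (nat_lit 277025722370) .leaf) (nat_lit 277025724546) .leaf)) (nat_lit 277029617665) (.node (.node (.node .leaf (nat_lit 277029619841) .leaf) (nat_lit 277029621889) .leaf) (nat_lit 277029623809) (.node (.node .leaf (nat_lit 277029953666) .leaf) (nat_lit 277029955586) .leaf))) (nat_lit 277029957762) (.node (.node (.node (.node .leaf (nat_lit 277029959682) .leaf) (nat_lit 277033844737) .leaf) (nat_lit 277033846913) (.node (.node .leaf (nat_lit 277033848961) .leaf) (nat_lit 277033850881) .leaf)) (nat_lit 277034057730) (.node (.node (.node .leaf (nat_lit 277034059906) .leaf) (nat_lit 277034061826) .leaf) (nat_lit 277034064002) (.node (.node .leaf (nat_lit 277038071809) .leaf) (nat_lit 277038073985) .leaf))))) (nat_lit 277038076033) (.node (.node (.node (.node (.node (.node .leaf (nat_lit 277038077953) .leaf) (nat_lit 277038293122) (.node .leaf (nat_lit 277038295042) .leaf))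 (nat_lit 277038297218) (.node (.node .leaf (nat_lit 277038299138) .leaf) (nat_lit 412316901378) .leaf)) (nat_lit 412316903426) (.node (.node (.node .leaf (nat_lit 412316905474) .leaf) (nat_lit 412316907522) .leaf) (nat_lit 412321087490) (.node (.node .leaf (nat_lit 412321089538) .leaf) (nat_lit 412321091586) .leaf))) (nat_lit 412321093634) (.node (.node (.node (.node .leaf (nat_lit 412325306498) .leaf) (nat_lit 412325308546) .leaf) (nat_lit 412325310594) (.node (.node .leaf (nat_lit 412325312642) .leaf) (nat_lit 412329492610) .leaf)) (nat_lit 412329494658) (.node (.node (.node .leaf (nat_lit 412329496706) .leaf) (nat_lit 412329498754) .leaf) (nat_lit 412333719553) (.node (.node .leaf (nat_lit 412333721601) .leaf) (nat_lit 412333723777) .leaf)))) (nat_lit 412333725825) (.node (.node (.node (.node (.node .leaf (nat_lit 412337913985) .leaf) (nat_lit 412337916033) .leaf) (nat_lit 412337917953) (.node (.node .leaf (nat_lit 412337920001) .leaf) (nat_lit 412342108161) .leaf)) (nat_lit 412342110209) (.node (.node (.node .leaf (nat_lit 412342112385) .leaf) (nat_lit 412342114433) .leaf) (nat_lit 412346302593) (.node (.node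 .leaf (nat_lit 412346304641) .leaf) (nat_lit 412346306561) .leaf))) (nat_lit 412346308609) (.node (.node (.node (.node .leaf (nat_lit 414464385027) .leaf) (nat_lit 414464387203) .leaf) (nat_lit 414464389123) (.node (.node .leaf (nat_lit 414464391299) .leaf) (nat_lit 414468538371) .leaf)) (nat_lit 414468540547) (.node (.node (.node .leaf (nat_lit 414468542467) .leaf) (nat_lit 414468544643) .leaf) (nat_lit 414472855683) (.node (.node .leaf (nat_lit 414472857603) .leaf) (nat_lit 414472859779) .leaf)))))) (nat_lit 414472861699) (.node (.node (.node (.node (.node (.node (.node .leaf (nat_lit 414477009027) .leaf) (nat_lit 414477010947) (.node .leaf (nat_lit 414477013123) .leaf)) (nat_lit 414477015043) (.node (.node .leaf (nat_lit 414481637376) .leaf) (nat_lit 414481639552) .leaf)) (nat_lit 414481641600) (.node (.node (.node .leaf (nat_lit 414481643520) .leaf) (nat_lit 414485799040) .leaf) (nat_lit 414485800960) (.node (.node .leaf (nat_lit 414485803008) .leaf) (nat_lit 414485805184) .leaf))) (nat_lit 414489960576) (.node (.node (.node (.node .leaf (nat_lit 414489962496) .leaf) (nat_lit 414489964544) .leaf) (nat_lit 414489966720)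 (.node (.node .leaf (nat_lit 414494121984) .leaf) (nat_lit 414494124160) .leaf)) (nat_lit 414494126208) (.node (.node (.node .leaf (nat_lit 414494128128) .leaf) (nat_lit 549755813889) .leaf) (nat_lit 549755822209) (.node (.node .leaf (nat_lit 549755846657) .leaf) (nat_lit 549755854977) .leaf)))) (nat_lit 549755947010) (.node (.node (.node (.node (.node .leaf (nat_lit 549755955202) .leaf) (nat_lit 549755979778) .leaf) (nat_lit 549755987970) (.node (.node .leaf (nat_lit 549760008193) .leaf) (nat_lit 549760016513) .leaf)) (nat_lit 549760040961) (.node (.node (.node .leaf (nat_lit 549760049281) .leaf) (nat_lit 549760145538) .leaf) (nat_lit 549760153730) (.node (.node .leaf (nat_lit 549760178306) .leaf) (nat_lit 549760186498) .leaf))) (nat_lit 549772591105) (.node (.node (.node (.node .leaf (nat_lit 549772599425) .leaf) (nat_lit 549772624001) .leaf) (nat_lit 549772632065) (.node (.node .leaf (nat_lit 549772738562) .leaf) (nat_lit 549772746754) .leaf)) (nat_lit 549772771458) (.node (.node (.node .leaf (nat_lit 549772779650) .leaf) (nat_lit 549776787457) .leaf) (nat_lit 549776795777) (.node (.node .leaf (nat_lit 549776820353)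 .leaf) (nat_lit 549776828417) .leaf))))) (nat_lit 549776939138) (.node (.node (.node (.node (.node (.node .leaf (nat_lit 549776947330) .leaf) (nat_lit 549776971778) .leaf) (nat_lit 549776979970) (.node (.node .leaf (nat_lit 554050781185) .leaf) (nat_lit 554050789505) .leaf)) (nat_lit 554050813953) (.node (.node (.node .leaf (nat_lit 554050822273) .leaf) (nat_lit 554051176578) .leaf) (nat_lit 554051184770) (.node (.node .leaf (nat_lit 554051209346) .leaf) (nat_lit 554051217538) .leaf))) (nat_lit 554054975489) (.node (.node (.node (.node .leaf (nat_lit 554054983809) .leaf) (nat_lit 554055008257) .leaf) (nat_lit 554055016577) (.node (.node .leaf (nat_lit 554055374850) .leaf) (nat_lit 554055383042) .leaf)) (nat_lit 554055407618) (.node (.node (.node .leaf (nat_lit 554055415810) .leaf) (nat_lit 554067689473) .leaf) (nat_lit 554067697793) (.node (.node .leaf (nat_lit 554067722369) .leaf) (nat_lit 554067730433) .leaf)))) (nat_lit 554067836930) (.node (.node (.node (.node (.node .leaf (nat_lit 554067845122) .leaf) (nat_lit 554067869826) .leaf) (nat_lit 554067878018) (.node (.node .leaf (nat_lit 554071885825) .leaf) (nat_lit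 554071894145) .leaf)) (nat_lit 554071918721) (.node (.node (.node .leaf (nat_lit 554071926785) .leaf) (nat_lit 554072037506) .leaf) (nat_lit 554072045698) (.node (.node .leaf (nat_lit 554072070146) .leaf) (nat_lit 554072078338) .leaf))) (nat_lit 687194916866) (.node (.node (.node (.node .leaf (nat_lit 687194923010) .leaf) (nat_lit 687194951682) .leaf) (nat_lit 687194961922) (.node (.node .leaf (nat_lit 687199115394) .leaf) (nat_lit 687199121538) .leaf)) (nat_lit 687199142018) (.node (.node (.node .leaf (nat_lit 687199152258) .leaf) (nat_lit 687203155969) .leaf) (nat_lit 687203166337) (.node (.node .leaf (nat_lit 687203194881) .leaf) (nat_lit 687203201153) .leaf))))))))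
def t1_2 : BT := (.node (.node (.node (.node (.node (.node (.node (.node (.node .leaf (nat_lit 687207360641) .leaf) (nat_lit 687207389185) (.node .leaf (nat_lit 687207395457) .leaf)) (nat_lit 687211675650) (.node (.node .leaf (nat_lit 687211685890) .leaf) (nat_lit 687211714690) .leaf)) (nat_lit 687211720834) (.node (.node (.node .leaf (nat_lit 687215876226) .leaf) (nat_lit 687215882370) .leaf) (nat_lit 687215902722) (.node (.node .leaf (nat_lit 687215912962) .leaf) (nat_lit 687219933185) .leaf))) (nat_lit 687219943553) (.node (.node (.node (.node .leaf (nat_lit 687219972225) .leaf) (nat_lit 687219978241) .leaf) (nat_lit 687224129537) (.node (.node .leaf (nat_lit 687224135809) .leaf) (nat_lit 687224164481) .leaf)) (nat_lit 687224174593) (.node (.node (.node .leaf (nat_lit 691489882115) .leaf) (nat_lit 691489892483) .leaf) (nat_lit 691489921155) (.node (.node .leaf (nat_lit 691489927171) .leaf) (nat_lit 691494078467) .leaf)))) (nat_lit 691494084739) (.node (.node (.node (.node (.node .leaf (nat_lit 691494113411) .leaf) (nat_lit 691494123523) .leaf) (nat_lit 691498450944) (.node (.node .leaf (nat_lit 691498461184)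 .leaf) (nat_lit 691498489984) .leaf)) (nat_lit 691498496128) (.node (.node (.node .leaf (nat_lit 691502651520) .leaf) (nat_lit 691502657664) .leaf) (nat_lit 691502678016) (.node (.node .leaf (nat_lit 691502688256) .leaf) (nat_lit 691506511875) .leaf))) (nat_lit 691506522243) (.node (.node (.node (.node .leaf (nat_lit 691506550787) .leaf) (nat_lit 691506557059) .leaf) (nat_lit 691510706179) (.node (.node .leaf (nat_lit 691510716547) .leaf) (nat_lit 691510745091) .leaf)) (nat_lit 691510751363) (.node (.node (.node .leaf (nat_lit 691515361408) .leaf) (nat_lit 691515367552) .leaf) (nat_lit 691515396224) (.node (.node .leaf (nat_lit 691515406464) .leaf) (nat_lit 691519559680) .leaf))))) (nat_lit 691519565824) (.node (.node (.node (.node (.node (.node .leaf (nat_lit 691519586304) .leaf) (nat_lit 691519596544) (.node .leaf (nat_lit 824633722882) .leaf)) (nat_lit 824633735170) (.node (.node .leaf (nat_lit 824633753602) .leaf) (nat_lit 824633765890) .leaf)) (nat_lit 824633919489) (.node (.node (.node .leaf (nat_lit 824633931905) .leaf) (nat_lit 824633950209) .leaf) (nat_lit 824633962625) (.node (.node .leaf (nat_lit 824637919234)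 .leaf) (nat_lit 824637923330) .leaf))) (nat_lit 824637954050) (.node (.node (.node (.node .leaf (nat_lit 824637958146) .leaf) (nat_lit 824638111873) .leaf) (nat_lit 824638124033) (.node (.node .leaf (nat_lit 824638146689) .leaf) (nat_lit 824638158849) .leaf)) (nat_lit 824658905090) (.node (.node (.node .leaf (nat_lit 824658917378) .leaf) (nat_lit 824658935938) .leaf) (nat_lit 824658948226) (.node (.node .leaf (nat_lit 824659083265) .leaf) (nat_lit 824659095681) .leaf)))) (nat_lit 824659118209) (.node (.node (.node (.node (.node .leaf (nat_lit 824659130369) .leaf) (nat_lit 824663103490) .leaf) (nat_lit 824663107586) (.node (.node .leaf (nat_lit 824663134338) .leaf) (nat_lit 824663138434) .leaf)) (nat_lit 824663277697) (.node (.node (.node .leaf (nat_lit 824663289857) .leaf) (nat_lit 824663312385) .leaf) (nat_lit 824663324801) (.node (.node .leaf (nat_lit 831076368385) .leaf) (nat_lit 831076380801) .leaf))) (nat_lit 831076403329) (.node (.node (.node (.node .leaf (nat_lit 831076415489) .leaf) (nat_lit 831076436098) .leaf) (nat_lit 831076448386) (.node (.node .leaf (nat_lit 831076466690) .leaf) (nat_lit 831076478978)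 .leaf)) (nat_lit 831080562817) (.node (.node (.node .leaf (nat_lit 831080574977) .leaf) (nat_lit 831080597505) .leaf) (nat_lit 831080609921) (.node (.node .leaf (nat_lit 831080634498) .leaf) (nat_lit 831080638594) .leaf)))))) (nat_lit 831080665090) (.node (.node (.node (.node (.node (.node (.node .leaf (nat_lit 831080669186) .leaf) (nat_lit 831101339777) (.node .leaf (nat_lit 831101351937) .leaf)) (nat_lit 831101370497) (.node (.node .leaf (nat_lit 831101382657) .leaf) (nat_lit 831101814914) .leaf)) (nat_lit 831101827202) (.node (.node (.node .leaf (nat_lit 831101845634) .leaf) (nat_lit 831101857922) .leaf) (nat_lit 831105531905) (.node (.node .leaf (nat_lit 831105544321) .leaf) (nat_lit 831105566721) .leaf))) (nat_lit 831105579137) (.node (.node (.node (.node .leaf (nat_lit 831106011266) .leaf) (nat_lit 831106015362) .leaf) (nat_lit 831106046082) (.node (.node .leaf (nat_lit 831106050178) .leaf) (nat_lit 962072676354) .leaf)) (nat_lit 962072686594) (.node (.node (.node .leaf (nat_lit 962072713218) .leaf) (nat_lit 962072715266) .leaf) (nat_lit 962076872706) (.node (.node .leaf (nat_lit 962076878850) .leaf) (nat_lit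 962076901378) .leaf)))) (nat_lit 962076915714) (.node (.node (.node (.node (.node .leaf (nat_lit 962081277953) .leaf) (nat_lit 962081288321) .leaf) (nat_lit 962081314817) (.node (.node .leaf (nat_lit 962081316993) .leaf) (nat_lit 962085470337) .leaf)) (nat_lit 962085484545) (.node (.node (.node .leaf (nat_lit 962085507201) .leaf) (nat_lit 962085513217) .leaf) (nat_lit 962089664513) (.node (.node .leaf (nat_lit 962089678977) .leaf) (nat_lit 962089701505) .leaf))) (nat_lit 962089707521) (.node (.node (.node (.node .leaf (nat_lit 962093858945) .leaf) (nat_lit 962093873153) .leaf) (nat_lit 962093895681) (.node (.node .leaf (nat_lit 962093901953) .leaf) (nat_lit 962097858562) .leaf)) (nat_lit 962097868802) (.node (.node (.node .leaf (nat_lit 962097895554) .leaf) (nat_lit 962097897602) .leaf) (nat_lit 962102056962) (.node (.node .leaf (nat_lit 962102059010) .leaf) (nat_lit 962102085762) .leaf))))) (nat_lit 962102096002) (.node (.node (.node (.node (.node (.node .leaf (nat_lit 968515127427) .leaf) (nat_lit 968515137539) .leaf) (nat_lit 968515164291) (.node (.node .leaf (nat_lit 968515166211) .leaf) (nat_lit 968519319555)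 .leaf)) (nat_lit 968519334019) (.node (.node (.node .leaf (nat_lit 968519356419) .leaf) (nat_lit 968519362691) .leaf) (nat_lit 968523925632) (.node (.node .leaf (nat_lit 968523935872) .leaf) (nat_lit 968523962496) .leaf))) (nat_lit 968523964544) (.node (.node (.node (.node .leaf (nat_lit 968528121984) .leaf) (nat_lit 968528128128) .leaf) (nat_lit 968528150656) (.node (.node .leaf (nat_lit 968528164992) .leaf) (nat_lit 968532248704) .leaf)) (nat_lit 968532258944) (.node (.node (.node .leaf (nat_lit 968532285440) .leaf) (nat_lit 968532287488) .leaf) (nat_lit 968536447104) (.node (.node .leaf (nat_lit 968536449152) .leaf) (nat_lit 968536475648) .leaf)))) (nat_lit 968536485888) (.node (.node (.node (.node (.node .leaf (nat_lit 968540504067) .leaf) (nat_lit 968540518531) .leaf) (nat_lit 968540541059) (.node (.node .leaf (nat_lit 968540547075) .leaf) (nat_lit 968544698499) .leaf)) (nat_lit 968544712707) (.node (.node (.node .leaf (nat_lit 968544735235) .leaf) (nat_lit 968544741507) .leaf) (nat_lit 1099511693313) (.node (.node .leaf (nat_lit 1099511695361) .leaf) (nat_lit 1099511709825) .leaf))) (nat_lit 1099511711873)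 (.node (.node (.node (.node .leaf (nat_lit 1099511824386) .leaf) (nat_lit 1099511826434) .leaf) (nat_lit 1099511840770) (.node (.node .leaf (nat_lit 1099511842818) .leaf) (nat_lit 1099520081921) .leaf)) (nat_lit 1099520083969) (.node (.node (.node .leaf (nat_lit 1099520098433) .leaf) (nat_lit 1099520100481) .leaf) (nat_lit 1099520217218) (.node (.node .leaf (nat_lit 1099520219266) .leaf) (nat_lit 1099520233602) .leaf))))))) (nat_lit 1099520235650) (.node (.node (.node (.node (.node (.node (.node (.node .leaf (nat_lit 1099528404993) .leaf) (nat_lit 1099528407041) (.node .leaf (nat_lit 1099528421505) .leaf)) (nat_lit 1099528423553) (.node (.node .leaf (nat_lit 1099528544258) .leaf) (nat_lit 1099528546306) .leaf)) (nat_lit 1099528560642) (.node (.node (.node .leaf (nat_lit 1099528562690) .leaf) (nat_lit 1099536793601) .leaf) (nat_lit 1099536795649) (.node (.node .leaf (nat_lit 1099536810113) .leaf) (nat_lit 1099536812161) .leaf))) (nat_lit 1099536937090) (.node (.node (.node (.node .leaf (nat_lit 1099536939138) .leaf) (nat_lit 1099536953474) .leaf) (nat_lit 1099536955522) (.node (.node .leaf (nat_lit 1108101562369)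 .leaf) (nat_lit 1108101580801) .leaf)) (nat_lit 1108101627905) (.node (.node (.node .leaf (nat_lit 1108101646337) .leaf) (nat_lit 1108101955586) .leaf) (nat_lit 1108101974146) (.node (.node .leaf (nat_lit 1108102021122) .leaf) (nat_lit 1108102039682) .leaf)))) (nat_lit 1108109950977) (.node (.node (.node (.node (.node .leaf (nat_lit 1108109969409) .leaf) (nat_lit 1108110016513) .leaf) (nat_lit 1108110034945) (.node (.node .leaf (nat_lit 1108110348418) .leaf) (nat_lit 1108110366722) .leaf)) (nat_lit 1108110413954) (.node (.node (.node .leaf (nat_lit 1108110432258) .leaf) (nat_lit 1108118470657) .leaf) (nat_lit 1108118489089) (.node (.node .leaf (nat_lit 1108118536321) .leaf) (nat_lit 1108118554753) .leaf))) (nat_lit 1108118609922) (.node (.node (.node (.node .leaf (nat_lit 1108118628482) .leaf) (nat_lit 1108118675586) .leaf) (nat_lit 1108118693890) (.node (.node .leaf (nat_lit 1108126861313) .leaf) (nat_lit 1108126875649) .leaf)) (nat_lit 1108126926977) (.node (.node (.node .leaf (nat_lit 1108126941313) .leaf) (nat_lit 1108127004802) .leaf) (nat_lit 1108127019010) (.node (.node .leaf (nat_lit 1108127070210) .leaf)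 (nat_lit 1108127084674) .leaf))))) (nat_lit 1236950720514) (.node (.node (.node (.node (.node (.node .leaf (nat_lit 1236950722562) .leaf) (nat_lit 1236950736898) (.node .leaf (nat_lit 1236950738946) .leaf)) (nat_lit 1236954775553) (.node (.node .leaf (nat_lit 1236954777601) .leaf) (nat_lit 1236954792065) .leaf)) (nat_lit 1236954794113) (.node (.node (.node .leaf (nat_lit 1236959113346) .leaf) (nat_lit 1236959115394) .leaf) (nat_lit 1236959129730) (.node (.node .leaf (nat_lit 1236959131778) .leaf) (nat_lit 1236963164161) .leaf))) (nat_lit 1236963166209) (.node (.node (.node (.node .leaf (nat_lit 1236963180673) .leaf) (nat_lit 1236963182721) .leaf) (nat_lit 1236967559298) (.node (.node .leaf (nat_lit 1236967561346) .leaf) (nat_lit 1236967575682) .leaf)) (nat_lit 1236967577730) (.node (.node (.node .leaf (nat_lit 1236971622529) .leaf) (nat_lit 1236971624577) .leaf) (nat_lit 1236971638785) (.node (.node .leaf (nat_lit 1236971640833) .leaf) (nat_lit 1236975943682) .leaf)))) (nat_lit 1236975945730) (.node (.node (.node (.node (.node .leaf (nat_lit 1236975960066) .leaf) (nat_lit 1236975962114) .leaf) (nat_lit 1236980011137)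 (.node (.node .leaf (nat_lit 1236980013185) .leaf) (nat_lit 1236980027393) .leaf)) (nat_lit 1236980029441) (.node (.node (.node .leaf (nat_lit 1245540655107) .leaf) (nat_lit 1245540671491) .leaf) (nat_lit 1245540726915) (.node (.node .leaf (nat_lit 1245540743299) .leaf) (nat_lit 1245545005056) .leaf))) (nat_lit 1245545021568) (.node (.node (.node (.node .leaf (nat_lit 1245545076864) .leaf) (nat_lit 1245545093120) .leaf) (nat_lit 1245549045763) (.node (.node .leaf (nat_lit 1245549062147) .leaf) (nat_lit 1245549113475) .leaf)) (nat_lit 1245549129859) (.node (.node (.node .leaf (nat_lit 1245553399936) .leaf) (nat_lit 1245553416192) .leaf) (nat_lit 1245553459200) (.node (.node .leaf (nat_lit 1245553475712) .leaf) (nat_lit 1245557295235) .leaf)))))) (nat_lit 1245557311619) (.node (.node (.node (.node (.node (.node (.node .leaf (nat_lit 1245557362819) .leaf) (nat_lit 1245557379203) (.node .leaf (nat_lit 1245561915520) .leaf)) (nat_lit 1245561931776) (.node (.node .leaf (nat_lit 1245561983104) .leaf) (nat_lit 1245561999360) .leaf)) (nat_lit 1245565683843) (.node (.node (.node .leaf (nat_lit 1245565700227) .leaf) (nat_lit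 1245565751427) .leaf) (nat_lit 1245565767811) (.node (.node .leaf (nat_lit 1245570308096) .leaf) (nat_lit 1245570324608) .leaf))) (nat_lit 1245570367488) (.node (.node (.node (.node .leaf (nat_lit 1245570384000) .leaf) (nat_lit 1374389534721) .leaf) (nat_lit 1374389536769) (.node (.node .leaf (nat_lit 1374389555329) .leaf) (nat_lit 1374389557377) .leaf)) (nat_lit 1374389698562) (.node (.node (.node .leaf (nat_lit 1374389700610) .leaf) (nat_lit 1374389719042) .leaf) (nat_lit 1374389721090) (.node (.node .leaf (nat_lit 1374397923329) .leaf) (nat_lit 1374397925377) .leaf)))) (nat_lit 1374397943937) (.node (.node (.node (.node (.node .leaf (nat_lit 1374397945985) .leaf) (nat_lit 1374398091394) .leaf) (nat_lit 1374398093442) (.node (.node .leaf (nat_lit 1374398103682) .leaf) (nat_lit 1374398105730) .leaf)) (nat_lit 1374410571905) (.node (.node (.node .leaf (nat_lit 1374410573953) .leaf) (nat_lit 1374410592257) .leaf) (nat_lit 1374410594305) (.node (.node .leaf (nat_lit 1374410743938) .leaf) (nat_lit 1374410745986) .leaf))) (nat_lit 1374410764418) (.node (.node (.node (.node .leaf (nat_lit 1374410766466) .leaf) (nat_lit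 1374418960513) .leaf) (nat_lit 1374418962561) (.node (.node .leaf (nat_lit 1374418980865) .leaf) (nat_lit 1374418982913) .leaf)) (nat_lit 1374419136514) (.node (.node (.node .leaf (nat_lit 1374419138562) .leaf) (nat_lit 1374419148802) .leaf) (nat_lit 1374419150850) (.node (.node .leaf (nat_lit 1385127118977) .leaf) (nat_lit 1385127137409) .leaf))))) (nat_lit 1385127182337) (.node (.node (.node (.node (.node (.node .leaf (nat_lit 1385127204865) .leaf) (nat_lit 1385127217282) .leaf) (nat_lit 1385127235586) (.node (.node .leaf (nat_lit 1385127280642) .leaf) (nat_lit 1385127303298) .leaf)) (nat_lit 1385135507457) (.node (.node (.node .leaf (nat_lit 1385135525889) .leaf) (nat_lit 1385135571073) .leaf) (nat_lit 1385135593601) (.node (.node .leaf (nat_lit 1385135609986) .leaf) (nat_lit 1385135620098) .leaf))) (nat_lit 1385135673346) (.node (.node (.node (.node .leaf (nat_lit 1385135687810) .leaf) (nat_lit 1385147924481) .leaf) (nat_lit 1385147947009) (.node (.node .leaf (nat_lit 1385147992065) .leaf) (nat_lit 1385148010497) .leaf)) (nat_lit 1385148358658) (.node (.node (.node .leaf (nat_lit 1385148381314) .leaf) (nat_lit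 1385148426242) .leaf) (nat_lit 1385148444802) (.node (.node .leaf (nat_lit 1385156315265) .leaf) (nat_lit 1385156333697) .leaf)))) (nat_lit 1385156378753) (.node (.node (.node (.node (.node .leaf (nat_lit 1385156401281) .leaf) (nat_lit 1385156753410) .leaf) (nat_lit 1385156763778) (.node (.node .leaf (nat_lit 1385156816898) .leaf) (nat_lit 1385156831362) .leaf)) (nat_lit 1511828660226) (.node (.node (.node .leaf (nat_lit 1511828662274) .leaf) (nat_lit 1511828680706) .leaf) (nat_lit 1511828682754) (.node (.node .leaf (nat_lit 1511832682497) .leaf) (nat_lit 1511832684545) .leaf))) (nat_lit 1511832703105) (.node (.node (.node (.node .leaf (nat_lit 1511832705153) .leaf) (nat_lit 1511837053058) .leaf) (nat_lit 1511837055106) (.node (.node .leaf (nat_lit 1511837065346) .leaf) (nat_lit 1511837067394) .leaf)) (nat_lit 1511841071105) (.node (.node (.node .leaf (nat_lit 1511841073153) .leaf) (nat_lit 1511841091713) .leaf) (nat_lit 1511841093761) (.node (.node .leaf (nat_lit 1511845335169) .leaf) (nat_lit 1511845337217) .leaf))))))))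
def t1_3 : BT := (.node (.node (.node (.node (.node (.node (.node (.node (.node .leaf (nat_lit 1511845349377) .leaf) (nat_lit 1511849693314) (.node .leaf (nat_lit 1511849695362) .leaf)) (nat_lit 1511849705602) (.node (.node .leaf (nat_lit 1511849707650) .leaf) (nat_lit 1511853723777) .leaf)) (nat_lit 1511853725825) (.node (.node (.node .leaf (nat_lit 1511853735937) .leaf) (nat_lit 1511853737985) .leaf) (nat_lit 1511858077698) (.node (.node .leaf (nat_lit 1511858079746) .leaf) (nat_lit 1511858098178) .leaf))) (nat_lit 1511858100226) (.node (.node (.node (.node .leaf (nat_lit 1522565908611) .leaf) (nat_lit 1522565929091) .leaf) (nat_lit 1522565978243) (.node (.node .leaf (nat_lit 1522565990531) .leaf) (nat_lit 1522570504320) .leaf)) (nat_lit 1522570524672) (.node (.node (.node .leaf (nat_lit 1522570573952) .leaf) (nat_lit 1522570586112) .leaf) (nat_lit 1522574295043) (.node (.node .leaf (nat_lit 1522574315523) .leaf) (nat_lit 1522574364675) .leaf)))) (nat_lit 1522574376963) (.node (.node (.node (.node (.node .leaf (nat_lit 1522578894976) .leaf) (nat_lit 1522578907136) .leaf) (nat_lit 1522578956416) (.node (.node .leaf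 (nat_lit 1522578976768) .leaf) (nat_lit 1522582988928) .leaf)) (nat_lit 1522583009280) (.node (.node (.node .leaf (nat_lit 1522583058432) .leaf) (nat_lit 1522583070848) .leaf) (nat_lit 1522587052163) (.node (.node .leaf (nat_lit 1522587072643) .leaf) (nat_lit 1522587121667) .leaf))) (nat_lit 1522587133955) (.node (.node (.node (.node .leaf (nat_lit 1522591381632) .leaf) (nat_lit 1522591393792) .leaf) (nat_lit 1522591442944) (.node (.node .leaf (nat_lit 1522591463552) .leaf) (nat_lit 1522595440643) .leaf)) (nat_lit 1522595461123) (.node (.node (.node .leaf (nat_lit 1522595510403) .leaf) (nat_lit 1522595522691) .leaf) (nat_lit 1649267441665) (.node (.node .leaf (nat_lit 1649267468417) .leaf) (nat_lit 1649267539969) .leaf))))) (nat_lit 1649267566721) (.node (.node (.node (.node (.node (.node .leaf (nat_lit 1649267572738) .leaf) (nat_lit 1649267599362) (.node .leaf (nat_lit 1649267671042) .leaf)) (nat_lit 1649267697666) (.node (.node .leaf (nat_lit 1649280024577) .leaf) (nat_lit 1649280051329) .leaf)) (nat_lit 1649280122881) (.node (.node (.node .leaf (nat_lit 1649280149633) .leaf) (nat_lit 1649280159874) .leaf) (nat_lit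 1649280186498) (.node (.node .leaf (nat_lit 1649280258178) .leaf) (nat_lit 1649280284802) .leaf))) (nat_lit 1649284218881) (.node (.node (.node (.node .leaf (nat_lit 1649284245633) .leaf) (nat_lit 1649284317313) .leaf) (nat_lit 1649284343809) (.node (.node .leaf (nat_lit 1649284358146) .leaf) (nat_lit 1649284368386) .leaf)) (nat_lit 1649284456578) (.node (.node (.node .leaf (nat_lit 1649284466818) .leaf) (nat_lit 1649296803841) .leaf) (nat_lit 1649296826497) (.node (.node .leaf (nat_lit 1649296902273) .leaf) (nat_lit 1649296924673) .leaf)))) (nat_lit 1649296947330) (.node (.node (.node (.node (.node .leaf (nat_lit 1649296953474) .leaf) (nat_lit 1649297045506) .leaf) (nat_lit 1649297051650) (.node (.node .leaf (nat_lit 1662152441857) .leaf) (nat_lit 1662152444033) .leaf)) (nat_lit 1662152466561) (.node (.node (.node .leaf (nat_lit 1662152468481) .leaf) (nat_lit 1662152835074) .leaf) (nat_lit 1662152837250) (.node (.node .leaf (nat_lit 1662152859650) .leaf) (nat_lit 1662152861826) .leaf))) (nat_lit 1662164926465) (.node (.node (.node (.node .leaf (nat_lit 1662164928641) .leaf) (nat_lit 1662164951169) .leaf) (nat_lit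 1662164953089) (.node (.node .leaf (nat_lit 1662165323906) .leaf) (nat_lit 1662165325826) .leaf)) (nat_lit 1662165348482) (.node (.node (.node .leaf (nat_lit 1662165350402) .leaf) (nat_lit 1662169251841) .leaf) (nat_lit 1662169254017) (.node (.node .leaf (nat_lit 1662169276545) .leaf) (nat_lit 1662169278465) .leaf)))))) (nat_lit 1662169391106) (.node (.node (.node (.node (.node (.node (.node .leaf (nat_lit 1662169393282) .leaf) (nat_lit 1662169399298) (.node .leaf (nat_lit 1662169401474) .leaf)) (nat_lit 1662181933057) (.node (.node .leaf (nat_lit 1662181935233) .leaf) (nat_lit 1662181957761) .leaf)) (nat_lit 1662181959681) (.node (.node (.node .leaf (nat_lit 1662182076546) .leaf) (nat_lit 1662182078466) .leaf) (nat_lit 1662182084738) (.node (.node .leaf (nat_lit 1662182086658) .leaf) (nat_lit 1786706534402) .leaf))) (nat_lit 1786706542594) (.node (.node (.node (.node .leaf (nat_lit 1786706638850) .leaf) (nat_lit 1786706647042) .leaf) (nat_lit 1786710589441) (.node (.node .leaf (nat_lit 1786710614145) .leaf) (nat_lit 1786710693889) .leaf)) (nat_lit 1786710718593) (.node (.node (.node .leaf (nat_lit 1786714783745)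 .leaf) (nat_lit 1786714808449) .leaf) (nat_lit 1786714888193) (.node (.node .leaf (nat_lit 1786714912897) .leaf) (nat_lit 1786719121538) .leaf)))) (nat_lit 1786719129730) (.node (.node (.node (.node (.node .leaf (nat_lit 1786719217794) .leaf) (nat_lit 1786719225986) .leaf) (nat_lit 1786723305474) (.node (.node .leaf (nat_lit 1786723330050) .leaf) (nat_lit 1786723405954) .leaf)) (nat_lit 1786723430530) (.node (.node (.node .leaf (nat_lit 1786727368705) .leaf) (nat_lit 1786727393409) .leaf) (nat_lit 1786727469185) (.node (.node .leaf (nat_lit 1786727493633) .leaf) (nat_lit 1786731560961) .leaf))) (nat_lit 1786731585665) (.node (.node (.node (.node .leaf (nat_lit 1786731665537) .leaf) (nat_lit 1786731689985) .leaf) (nat_lit 1786735890562) (.node (.node .leaf (nat_lit 1786735915138) .leaf) (nat_lit 1786735986690) .leaf)) (nat_lit 1786736011266) (.node (.node (.node .leaf (nat_lit 1799591436291) .leaf) (nat_lit 1799591438467) .leaf) (nat_lit 1799591444483) (.node (.node .leaf (nat_lit 1799591446659) .leaf) (nat_lit 1799595786240) .leaf))))) (nat_lit 1799595788416) (.node (.node (.node (.node (.node (.node .leaf (nat_lit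 1799595810944) .leaf) (nat_lit 1799595812864) .leaf) (nat_lit 1799600013312) (.node (.node .leaf (nat_lit 1799600015488) .leaf) (nat_lit 1799600038016) .leaf)) (nat_lit 1799600039936) (.node (.node (.node .leaf (nat_lit 1799604121731) .leaf) (nat_lit 1799604123651) .leaf) (nat_lit 1799604129923) (.node (.node .leaf (nat_lit 1799604131843) .leaf) (nat_lit 1799608176771) .leaf))) (nat_lit 1799608178691) (.node (.node (.node (.node .leaf (nat_lit 1799608201347) .leaf) (nat_lit 1799608203267) .leaf) (nat_lit 1799612731520) (.node (.node .leaf (nat_lit 1799612733440) .leaf) (nat_lit 1799612755968) .leaf)) (nat_lit 1799612758144) (.node (.node (.node .leaf (nat_lit 1799616893056) .leaf) (nat_lit 1799616894976) .leaf) (nat_lit 1799616917504) (.node (.node .leaf (nat_lit 1799616919680) .leaf) (nat_lit 1799620657155) .leaf)))) (nat_lit 1799620659331) (.node (.node (.node (.node (.node .leaf (nat_lit 1799620681731) .leaf) (nat_lit 1799620683907) .leaf) (nat_lit 1924145350658) (.node (.node .leaf (nat_lit 1924145377282) .leaf) (nat_lit 1924145446914) .leaf)) (nat_lit 1924145477634) (.node (.node (.node .leaf (nat_lit 1924145514497)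 .leaf) (nat_lit 1924145541249) .leaf) (nat_lit 1924145545217) (.node (.node .leaf (nat_lit 1924145576065) .leaf) (nat_lit 1924157935618) .leaf))) (nat_lit 1924157958146) (.node (.node (.node (.node .leaf (nat_lit 1924158035970) .leaf) (nat_lit 1924158054402) .leaf) (nat_lit 1924158095489) (.node (.node .leaf (nat_lit 1924158126081) .leaf) (nat_lit 1924158130305) .leaf)) (nat_lit 1924158156801) (.node (.node (.node .leaf (nat_lit 1924166328322) .leaf) (nat_lit 1924166342658) .leaf) (nat_lit 1924166428802) (.node (.node .leaf (nat_lit 1924166439042) .leaf) (nat_lit 1924166483969) .leaf))))))) (nat_lit 1924166514817) (.node (.node (.node (.node (.node (.node (.node (.node .leaf (nat_lit 1924166518913) .leaf) (nat_lit 1924166545409) (.node .leaf (nat_lit 1924170526722) .leaf)) (nat_lit 1924170532866) (.node (.node .leaf (nat_lit 1924170627202) .leaf) (nat_lit 1924170629250) .leaf)) (nat_lit 1924170678401) (.node (.node (.node .leaf (nat_lit 1924170708993) .leaf) (nat_lit 1924170713089) .leaf) (nat_lit 1924170739841) (.node (.node .leaf (nat_lit 1939177734145) .leaf) (nat_lit 1939177736321) .leaf))) (nat_lit 1939177762945)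 (.node (.node (.node (.node .leaf (nat_lit 1939177764865) .leaf) (nat_lit 1939178160130) .leaf) (nat_lit 1939178162306) (.node (.node .leaf (nat_lit 1939178188802) .leaf) (nat_lit 1939178190978) .leaf)) (nat_lit 1939190415361) (.node (.node (.node .leaf (nat_lit 1939190417537) .leaf) (nat_lit 1939190444161) .leaf) (nat_lit 1939190446081) (.node (.node .leaf (nat_lit 1939190780034) .leaf) (nat_lit 1939190781954) .leaf)))) (nat_lit 1939190800514) (.node (.node (.node (.node (.node .leaf (nat_lit 1939190802434) .leaf) (nat_lit 1939198902401) .leaf) (nat_lit 1939198904321) (.node (.node .leaf (nat_lit 1939198930945) .leaf) (nat_lit 1939198933121) .leaf)) (nat_lit 1939199074434) (.node (.node (.node .leaf (nat_lit 1939199076354) .leaf) (nat_lit 1939199086722) .leaf) (nat_lit 1939199088642) (.node (.node .leaf (nat_lit 1939203063937) .leaf) (nat_lit 1939203065857) .leaf))) (nat_lit 1939203092481) (.node (.node (.node (.node .leaf (nat_lit 1939203094657) .leaf) (nat_lit 1939203174402) .leaf) (nat_lit 1939203176578) (.node (.node .leaf (nat_lit 1939203178498) .leaf) (nat_lit 1939203180674) .leaf)) (nat_lit 2061584304130)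 (.node (.node (.node .leaf (nat_lit 2061584332802) .leaf) (nat_lit 2061584406530) .leaf) (nat_lit 2061584427010) (.node (.node .leaf (nat_lit 2061588670465) .leaf) (nat_lit 2061588682881) .leaf))))) (nat_lit 2061588707329) (.node (.node (.node (.node (.node (.node .leaf (nat_lit 2061588711553) .leaf) (nat_lit 2061592862849) (.node .leaf (nat_lit 2061592875009) .leaf)) (nat_lit 2061592899713) (.node (.node .leaf (nat_lit 2061592903681) .leaf) (nat_lit 2061596889090) .leaf)) (nat_lit 2061596909570) (.node (.node (.node .leaf (nat_lit 2061596983298) .leaf) (nat_lit 2061597011970) .leaf) (nat_lit 2061601253377) (.node (.node .leaf (nat_lit 2061601265793) .leaf) (nat_lit 2061601290369) .leaf))) (nat_lit 2061601294337) (.node (.node (.node (.node .leaf (nat_lit 2061605283842) .leaf) (nat_lit 2061605296130) .leaf) (nat_lit 2061605386370) (.node (.node .leaf (nat_lit 2061605390466) .leaf) (nat_lit 2061609482242) .leaf)) (nat_lit 2061609486338) (.node (.node (.node .leaf (nat_lit 2061609576578) .leaf) (nat_lit 2061609588866) .leaf) (nat_lit 2061613836417) (.node (.node .leaf (nat_lit 2061613848577) .leaf) (nat_lit 2061613873153)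 .leaf)))) (nat_lit 2061613877377) (.node (.node (.node (.node (.node .leaf (nat_lit 2076616859651) .leaf) (nat_lit 2076616861827) .leaf) (nat_lit 2076616871939) (.node (.node .leaf (nat_lit 2076616874115) .leaf) (nat_lit 2076621176832) .leaf)) (nat_lit 2076621179008) (.node (.node (.node .leaf (nat_lit 2076621205632) .leaf) (nat_lit 2076621207552) .leaf) (nat_lit 2076625403904) (.node (.node .leaf (nat_lit 2076625406080) .leaf) (nat_lit 2076625432704) .leaf))) (nat_lit 2076625434624) (.node (.node (.node (.node .leaf (nat_lit 2076629479555) .leaf) (nat_lit 2076629481475) .leaf) (nat_lit 2076629483651) (.node (.node .leaf (nat_lit 2076629485571) .leaf) (nat_lit 2076633960576) .leaf)) (nat_lit 2076633962496) (.node (.node (.node .leaf (nat_lit 2076633980928) .leaf) (nat_lit 2076633983104) .leaf) (nat_lit 2076637761667) (.node (.node .leaf (nat_lit 2076637763587) .leaf) (nat_lit 2076637782147) .leaf)))))) (nat_lit 2076637784067) (.node (.node (.node (.node (.node (.node (.node .leaf (nat_lit 2076641853443) .leaf) (nat_lit 2076641855619) (.node .leaf (nat_lit 2076641882115) .leaf)) (nat_lit 2076641884291) (.node (.node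 .leaf (nat_lit 2076646445184) .leaf) (nat_lit 2076646447104) .leaf)) (nat_lit 2076646465536) (.node (.node (.node .leaf (nat_lit 2076646467712) .leaf) (nat_lit 2336462487555) .leaf) (nat_lit 2336462491650) (.node (.node .leaf (nat_lit 2336462495746) .leaf) (nat_lit 2336462499843) .leaf))) (nat_lit 2336462522499) (.node (.node (.node (.node .leaf (nat_lit 2336462526466) .leaf) (nat_lit 2336462530562) .leaf) (nat_lit 2336462534787) (.node (.node .leaf (nat_lit 2336466684034) .leaf) (nat_lit 2336466686083) .leaf)) (nat_lit 2336466690179) (.node (.node (.node .leaf (nat_lit 2336466696322) .leaf) (nat_lit 2336466714754) .leaf) (nat_lit 2336466720771) (.node (.node .leaf (nat_lit 2336466724867) .leaf) (nat_lit 2336466727042) .leaf)))) (nat_lit 2338618081283) (.node (.node (.node (.node (.node .leaf (nat_lit 2338618093699) .leaf) (nat_lit 2338618116227) .leaf) (nat_lit 2338618128387) (.node (.node .leaf (nat_lit 2338618146818) .leaf) (nat_lit 2338618159234) .leaf)) (nat_lit 2338618181634) (.node (.node (.node .leaf (nat_lit 2338618194050) .leaf) (nat_lit 2338622275587) .leaf) (nat_lit 2338622288003) (.node (.node .leaf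 (nat_lit 2338622310531) .leaf) (nat_lit 2338622322691) .leaf))) (nat_lit 2338622343170) (.node (.node (.node (.node .leaf (nat_lit 2338622355586) .leaf) (nat_lit 2338622373890) .leaf) (nat_lit 2338622386306) (.node (.node .leaf (nat_lit 2340773953539) .leaf) (nat_lit 2340773965955) .leaf)) (nat_lit 2340773988483) (.node (.node (.node .leaf (nat_lit 2340774000643) .leaf) (nat_lit 2340774084610) .leaf) (nat_lit 2340774097026) (.node (.node .leaf (nat_lit 2340774119426) .leaf) (nat_lit 2340774131842) .leaf))))) (nat_lit 2340778147843) (.node (.node (.node (.node (.node (.node .leaf (nat_lit 2340778160259) .leaf) (nat_lit 2340778182787) .leaf) (nat_lit 2340778194947) (.node (.node .leaf (nat_lit 2340778280962) .leaf) (nat_lit 2340778293378) .leaf)) (nat_lit 2340778311682) (.node (.node (.node .leaf (nat_lit 2340778324098) .leaf) (nat_lit 2342929825795) .leaf) (nat_lit 2342929838083) (.node (.node .leaf (nat_lit 2342929860739) .leaf) (nat_lit 2342929873027) .leaf))) (nat_lit 2342930026626) (.node (.node (.node (.node .leaf (nat_lit 2342930030722) .leaf) (nat_lit 2342930061442) .leaf) (nat_lit 2342930065538) (.node (.node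 .leaf (nat_lit 2342934024323) .leaf) (nat_lit 2342934028419) .leaf)) (nat_lit 2342934059011) (.node (.node (.node .leaf (nat_lit 2342934063107) .leaf) (nat_lit 2342934218754) .leaf) (nat_lit 2342934231042) (.node (.node .leaf (nat_lit 2342934249474) .leaf) (nat_lit 2342934261762) .leaf)))) (nat_lit 2473901494274) (.node (.node (.node (.node (.node .leaf (nat_lit 2473901500418) .leaf) (nat_lit 2473901522946) .leaf) (nat_lit 2473901537282) (.node (.node .leaf (nat_lit 2473905686658) .leaf) (nat_lit 2473905696898) .leaf)) (nat_lit 2473905723522) (.node (.node (.node .leaf (nat_lit 2473905725570) .leaf) (nat_lit 2473909878787) .leaf) (nat_lit 2473909893123) (.node (.node .leaf (nat_lit 2473909915779) .leaf) (nat_lit 2473909921923) .leaf))) (nat_lit 2473914077315) (.node (.node (.node (.node .leaf (nat_lit 2473914083459) .leaf) (nat_lit 2473914105859) .leaf) (nat_lit 2473914120195) (.node (.node .leaf (nat_lit 2476048711682) .leaf) (nat_lit 2476048726146) .leaf)) (nat_lit 2476048748546) (.node (.node (.node .leaf (nat_lit 2476048754818) .leaf) (nat_lit 2476052908034) .leaf) (nat_lit 2476052918402) (.node (.node .leaf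 (nat_lit 2476052944898) .leaf) (nat_lit 2476052947074) .leaf))))))))
def t1_4 : BT := (.node (.node (.node (.node (.node (.node (.node (.node (.node .leaf (nat_lit 2476057049219) .leaf) (nat_lit 2476057071747) (.node .leaf (nat_lit 2476057077763) .leaf)) (nat_lit 2476061229059) (.node (.node .leaf (nat_lit 2476061243523) .leaf) (nat_lit 2476061266051) .leaf)) (nat_lit 2476061272067) (.node (.node (.node .leaf (nat_lit 2478196129793) .leaf) (nat_lit 2478196144257) .leaf) (nat_lit 2478196166785) (.node (.node .leaf (nat_lit 2478196172801) .leaf) (nat_lit 2478200324097) .leaf))) (nat_lit 2478200338561) (.node (.node (.node (.node .leaf (nat_lit 2478200361089) .leaf) (nat_lit 2478200367105) .leaf) (nat_lit 2478204665856) (.node (.node .leaf (nat_lit 2478204680320) .leaf) (nat_lit 2478204702720) .leaf)) (nat_lit 2478204708992) (.node (.node (.node .leaf (nat_lit 2478208862208) .leaf) (nat_lit 2478208872576) .leaf) (nat_lit 2478208899072) (.node (.node .leaf (nat_lit 2478208901248) .leaf) (nat_lit 2480343613441) .leaf)))) (nat_lit 2480343627777) (.node (.node (.node (.node (.node .leaf (nat_lit 2480343650433) .leaf) (nat_lit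 2480343656577) .leaf) (nat_lit 2480347811969) (.node (.node .leaf (nat_lit 2480347818113) .leaf) (nat_lit 2480347840513) .leaf)) (nat_lit 2480347854849) (.node (.node (.node .leaf (nat_lit 2480352219264) .leaf) (nat_lit 2480352225408) .leaf) (nat_lit 2480352247936) (.node (.node .leaf (nat_lit 2480352262272) .leaf) (nat_lit 2480356411392) .leaf))) (nat_lit 2480356421632) (.node (.node (.node (.node .leaf (nat_lit 2480356448256) .leaf) (nat_lit 2480356450304) .leaf) (nat_lit 2748779075586) (.node (.node .leaf (nat_lit 2748779083778) .leaf) (nat_lit 2748779108354) .leaf)) (nat_lit 2748779116546) (.node (.node (.node .leaf (nat_lit 2748783265794) .leaf) (nat_lit 2748783273986) .leaf) (nat_lit 2748783298562) (.node (.node .leaf (nat_lit 2748783306754) .leaf) (nat_lit 2748795852803) .leaf))))) (nat_lit 2748795860995) (.node (.node (.node (.node (.node (.node .leaf (nat_lit 2748795885699) .leaf) (nat_lit 2748795893891) (.node .leaf (nat_lit 2748800040963) .leaf)) (nat_lit 2748800049155) (.node (.node .leaf (nat_lit 2748800073859) .leaf) (nat_lit 2748800082051) .leaf)) (nat_lit 2750926946305) (.node (.node (.node .leaf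 (nat_lit 2750926954625) .leaf) (nat_lit 2750926979073) .leaf) (nat_lit 2750926987393) (.node (.node .leaf (nat_lit 2750931140737) .leaf) (nat_lit 2750931148801) .leaf))) (nat_lit 2750931173505) (.node (.node (.node (.node .leaf (nat_lit 2750931181569) .leaf) (nat_lit 2750943811584) .leaf) (nat_lit 2750943819904) (.node (.node .leaf (nat_lit 2750943844480) .leaf) (nat_lit 2750943852544) .leaf)) (nat_lit 2750948003968) (.node (.node (.node .leaf (nat_lit 2750948012032) .leaf) (nat_lit 2750948036608) .leaf) (nat_lit 2750948044928) (.node (.node .leaf (nat_lit 2753074305154) .leaf) (nat_lit 2753074313346) .leaf)))) (nat_lit 2753074337922) (.node (.node (.node (.node (.node .leaf (nat_lit 2753074346114) .leaf) (nat_lit 2753078495362) .leaf) (nat_lit 2753078503554) (.node (.node .leaf (nat_lit 2753078528130) .leaf) (nat_lit 2753078536322) .leaf)) (nat_lit 2753091213443) (.node (.node (.node .leaf (nat_lit 2753091221635) .leaf) (nat_lit 2753091246083) .leaf) (nat_lit 2753091254275) (.node (.node .leaf (nat_lit 2753095401603) .leaf) (nat_lit 2753095409795) .leaf))) (nat_lit 2753095434243) (.node (.node (.node (.node .leaf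 (nat_lit 2753095442435) .leaf) (nat_lit 2755221913601) .leaf) (nat_lit 2755221921921) (.node (.node .leaf (nat_lit 2755221946369) .leaf) (nat_lit 2755221954689) .leaf)) (nat_lit 2755226108033) (.node (.node (.node .leaf (nat_lit 2755226116097) .leaf) (nat_lit 2755226140801) .leaf) (nat_lit 2755226148865) (.node (.node .leaf (nat_lit 2755238647936) .leaf) (nat_lit 2755238656000) .leaf)))))) (nat_lit 2755238680576) (.node (.node (.node (.node (.node (.node (.node .leaf (nat_lit 2755238688896) .leaf) (nat_lit 2755242840064) (.node .leaf (nat_lit 2755242848384) .leaf)) (nat_lit 2755242872960) (.node (.node .leaf (nat_lit 2755242881024) .leaf) (nat_lit 3023656982530) .leaf)) (nat_lit 3023656988674) (.node (.node (.node .leaf (nat_lit 3023657009154) .leaf) (nat_lit 3023657019394) .leaf) (nat_lit 3023661172738) (.node (.node .leaf (nat_lit 3023661178882) .leaf) (nat_lit 3023661207554) .leaf))) (nat_lit 3023661217794) (.node (.node (.node (.node .leaf (nat_lit 3023682148355) .leaf) (nat_lit 3023682154499) .leaf) (nat_lit 3023682175107) (.node (.node .leaf (nat_lit 3023682185347) .leaf) (nat_lit 3023686336515) .leaf)) (nat_lit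 3023686346755) (.node (.node (.node .leaf (nat_lit 3023686375555) .leaf) (nat_lit 3023686381699) .leaf) (nat_lit 3025804918785) (.node (.node .leaf (nat_lit 3025804929153) .leaf) (nat_lit 3025804957697) .leaf)))) (nat_lit 3025804963969) (.node (.node (.node (.node (.node .leaf (nat_lit 3025809113217) .leaf) (nat_lit 3025809123329) .leaf) (nat_lit 3025809152129) (.node (.node .leaf (nat_lit 3025809158145) .leaf) (nat_lit 3025830041600) .leaf)) (nat_lit 3025830047872) (.node (.node (.node .leaf (nat_lit 3025830068352) .leaf) (nat_lit 3025830078464) .leaf) (nat_lit 3025834233984) (.node (.node .leaf (nat_lit 3025834244096) .leaf) (nat_lit 3025834264576) .leaf))) (nat_lit 3025834270848) (.node (.node (.node (.node .leaf (nat_lit 3027952408705) .leaf) (nat_lit 3027952414849) .leaf) (nat_lit 3027952435201) (.node (.node .leaf (nat_lit 3027952445441) .leaf) (nat_lit 3027956596865) .leaf)) (nat_lit 3027956607105) (.node (.node (.node .leaf (nat_lit 3027956635649) .leaf) (nat_lit 3027956641793) .leaf) (nat_lit 3027977459840) (.node (.node .leaf (nat_lit 3027977465984) .leaf) (nat_lit 3027977486464) .leaf))))) (nat_lit 3027977496704)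 (.node (.node (.node (.node (.node (.node .leaf (nat_lit 3027981650048) .leaf) (nat_lit 3027981656192) .leaf) (nat_lit 3027981684864) (.node (.node .leaf (nat_lit 3027981695104) .leaf) (nat_lit 3030099695746) .leaf)) (nat_lit 3030099701762) (.node (.node (.node .leaf (nat_lit 3030099722242) .leaf) (nat_lit 3030099732610) .leaf) (nat_lit 3030103887874) (.node (.node .leaf (nat_lit 3030103898242) .leaf) (nat_lit 3030103918722) .leaf))) (nat_lit 3030103924738) (.node (.node (.node (.node .leaf (nat_lit 3030125051907) .leaf) (nat_lit 3030125062275) .leaf) (nat_lit 3030125090819) (.node (.node .leaf (nat_lit 3030125097091) .leaf) (nat_lit 3030129246339) .leaf)) (nat_lit 3030129256451) (.node (.node (.node .leaf (nat_lit 3030129285251) .leaf) (nat_lit 3030129291267) .leaf) (nat_lit 4406636449923) (.node (.node .leaf (nat_lit 4406636466307) .leaf) (nat_lit 4406636511363) .leaf)))) (nat_lit 4406636527747) (.node (.node (.node (.node (.node .leaf (nat_lit 4406636580994) .leaf) (nat_lit 4406636597378) .leaf) (nat_lit 4406636642306) (.node (.node .leaf (nat_lit 4406636658690) .leaf) (nat_lit 4406644838531) .leaf)) (nat_lit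 4406644854915) (.node (.node (.node .leaf (nat_lit 4406644899971) .leaf) (nat_lit 4406644916355) .leaf) (nat_lit 4406644971650) (.node (.node .leaf (nat_lit 4406644988034) .leaf) (nat_lit 4406645032962) .leaf))) (nat_lit 4406645049346) (.node (.node (.node (.node .leaf (nat_lit 4408783933571) .leaf) (nat_lit 4408783949827) .leaf) (nat_lit 4408783995011) (.node (.node .leaf (nat_lit 4408784011267) .leaf) (nat_lit 4408784097410) .leaf)) (nat_lit 4408784113666) (.node (.node (.node .leaf (nat_lit 4408784158722) .leaf) (nat_lit 4408784175234) .leaf) (nat_lit 4408792317955) (.node (.node .leaf (nat_lit 4408792334467) .leaf) (nat_lit 4408792387587) .leaf))))))) (nat_lit 4408792404099) (.node (.node (.node (.node (.node (.node (.node (.node .leaf (nat_lit 4408792483842) .leaf) (nat_lit 4408792500354) (.node .leaf (nat_lit 4408792553602) .leaf)) (nat_lit 4408792569858) (.node (.node .leaf (nat_lit 4535485734914) .leaf) (nat_lit 4535485739011) .leaf)) (nat_lit 4535485751299) (.node (.node (.node .leaf (nat_lit 4535485755394) .leaf) (nat_lit 4535485802627) .leaf) (nat_lit 4535485806594) (.node (.node .leaf (nat_lit 4535485818882)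 .leaf) (nat_lit 4535485823107) .leaf))) (nat_lit 4535494125698) (.node (.node (.node (.node .leaf (nat_lit 4535494127747) .leaf) (nat_lit 4535494140035) .leaf) (nat_lit 4535494146178) (.node (.node .leaf (nat_lit 4535494191107) .leaf) (nat_lit 4535494193282) .leaf)) (nat_lit 4535494205570) (.node (.node (.node .leaf (nat_lit 4535494211587) .leaf) (nat_lit 4537637146627) .leaf) (nat_lit 4537637159043) (.node (.node .leaf (nat_lit 4537637175298) .leaf) (nat_lit 4537637195906) .leaf)))) (nat_lit 4537637210243) (.node (.node (.node (.node (.node .leaf (nat_lit 4537637230595) .leaf) (nat_lit 4537637246978) .leaf) (nat_lit 4537637259394) (.node (.node .leaf (nat_lit 4537645531139) .leaf) (nat_lit 4537645551747) .leaf)) (nat_lit 4537645570050) (.node (.node (.node .leaf (nat_lit 4537645582466) .leaf) (nat_lit 4537645602947) .leaf) (nat_lit 4537645615107) (.node (.node .leaf (nat_lit 4537645629442) .leaf) (nat_lit 4537645650050) .leaf))) (nat_lit 4672924712962) (.node (.node (.node (.node .leaf (nat_lit 4672924735490) .leaf) (nat_lit 4672924778498) .leaf) (nat_lit 4672924801026) (.node (.node .leaf (nat_lit 4672928907267)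 .leaf) (nat_lit 4672928929795) .leaf)) (nat_lit 4672928972931) (.node (.node (.node .leaf (nat_lit 4672928995459) .leaf) (nat_lit 4672933103746) .leaf) (nat_lit 4672933122178) (.node (.node .leaf (nat_lit 4672933169282) .leaf) (nat_lit 4672933187714) .leaf))))) (nat_lit 4672937296003) (.node (.node (.node (.node (.node (.node .leaf (nat_lit 4672937318531) .leaf) (nat_lit 4672937361411) (.node .leaf (nat_lit 4672937383939) .leaf)) (nat_lit 4675071934466) (.node (.node .leaf (nat_lit 4675071957122) .leaf) (nat_lit 4675072000002) .leaf)) (nat_lit 4675072022658) (.node (.node (.node .leaf (nat_lit 4675076096003) .leaf) (nat_lit 4675076118659) .leaf) (nat_lit 4675076161667) (.node (.node .leaf (nat_lit 4675076184067) .leaf) (nat_lit 4675080329218) .leaf))) (nat_lit 4675080339586) (.node (.node (.node (.node .leaf (nat_lit 4675080394754) .leaf) (nat_lit 4675080405122) .leaf) (nat_lit 4675084488707) (.node (.node .leaf (nat_lit 4675084503171) .leaf) (nat_lit 4675084554371) .leaf)) (nat_lit 4675084568579) (.node (.node (.node .leaf (nat_lit 4818970083329) .leaf) (nat_lit 4818970101761) .leaf) (nat_lit 4818970150913) (.node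 (.node .leaf (nat_lit 4818970165249) .leaf) (nat_lit 4818974421120) .leaf)))) (nat_lit 4818974439552) (.node (.node (.node (.node (.node .leaf (nat_lit 4818974488576) .leaf) (nat_lit 4818974502912) .leaf) (nat_lit 4818978471937) (.node (.node .leaf (nat_lit 4818978490369) .leaf) (nat_lit 4818978539521) .leaf)) (nat_lit 4818978553857) (.node (.node (.node .leaf (nat_lit 4818982811776) .leaf) (nat_lit 4818982826112) .leaf) (nat_lit 4818982875136) (.node (.node .leaf (nat_lit 4818982893568) .leaf) (nat_lit 4821117743232) .leaf))) (nat_lit 4821117761536) (.node (.node (.node (.node .leaf (nat_lit 4821117810688) .leaf) (nat_lit 4821117825152) .leaf) (nat_lit 4821121761281) (.node (.node .leaf (nat_lit 4821121779841) .leaf) (nat_lit 4821121828865) .leaf)) (nat_lit 4821121843329) (.node (.node (.node .leaf (nat_lit 4821126129664) .leaf) (nat_lit 4821126144128) .leaf) (nat_lit 4821126193280) (.node (.node .leaf (nat_lit 4821126211584) .leaf) (nat_lit 4821130154113) .leaf)))))) (nat_lit 4821130172417) (.node (.node (.node (.node (.node (.node (.node .leaf (nat_lit 4821130221697) .leaf) (nat_lit 4821130235905) (.node .leaf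 (nat_lit 5497558532098) .leaf)) (nat_lit 5497558554626) (.node (.node .leaf (nat_lit 5497558597634) .leaf) (nat_lit 5497558620162) .leaf)) (nat_lit 5497566922882) (.node (.node (.node .leaf (nat_lit 5497566941314) .leaf) (nat_lit 5497566988418) .leaf) (nat_lit 5497567006850) (.node (.node .leaf (nat_lit 5497575309315) .leaf) (nat_lit 5497575331843) .leaf))) (nat_lit 5497575374979) (.node (.node (.node (.node .leaf (nat_lit 5497575397507) .leaf) (nat_lit 5497583698051) .leaf) (nat_lit 5497583720579) (.node (.node .leaf (nat_lit 5497583763459) .leaf) (nat_lit 5497583785987) .leaf)) (nat_lit 5499705622529) (.node (.node (.node .leaf (nat_lit 5499705645185) .leaf) (nat_lit 5499705688065) .leaf) (nat_lit 5499705710721) (.node (.node .leaf (nat_lit 5499714017281) .leaf) (nat_lit 5499714027649) .leaf)))) (nat_lit 5499714082817) (.node (.node (.node (.node (.node .leaf (nat_lit 5499714093185) .leaf) (nat_lit 5499722440704) .leaf) (nat_lit 5499722463360) (.node (.node .leaf (nat_lit 5499722506368) .leaf) (nat_lit 5499722528768) .leaf)) (nat_lit 5499730833408) (.node (.node (.node .leaf (nat_lit 5499730847872) .leaf) (nat_lit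 5499730899072) .leaf) (nat_lit 5499730913280) (.node (.node .leaf (nat_lit 5643587033219) .leaf) (nat_lit 5643587049603) .leaf))) (nat_lit 5643587094659) (.node (.node (.node (.node .leaf (nat_lit 5643587111043) .leaf) (nat_lit 5643595421827) .leaf) (nat_lit 5643595438211) (.node (.node .leaf (nat_lit 5643595483267) .leaf) (nat_lit 5643595499651) .leaf)) (nat_lit 5643603941506) (.node (.node (.node .leaf (nat_lit 5643603957890) .leaf) (nat_lit 5643604002818) .leaf) (nat_lit 5643604019202) (.node (.node .leaf (nat_lit 5643612328066) .leaf) (nat_lit 5643612344450) .leaf))))) (nat_lit 5643612389378) (.node (.node (.node (.node (.node (.node .leaf (nat_lit 5643612405762) .leaf) (nat_lit 5645738883200) .leaf) (nat_lit 5645738899456) (.node (.node .leaf (nat_lit 5645738944640) .leaf) (nat_lit 5645738960896) .leaf)) (nat_lit 5645747267584) (.node (.node (.node .leaf (nat_lit 5645747284096) .leaf) (nat_lit 5645747337216) .leaf) (nat_lit 5645747353728) (.node (.node .leaf (nat_lit 5645755488385) .leaf) (nat_lit 5645755504641) .leaf))) (nat_lit 5645755549697) (.node (.node (.node (.node .leaf (nat_lit 5645755566209) .leaf)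 (nat_lit 5645763870721) .leaf) (nat_lit 5645763887233) (.node (.node .leaf (nat_lit 5645763940481) .leaf) (nat_lit 5645763956737) .leaf)) (nat_lit 5772436471810) (.node (.node (.node .leaf (nat_lit 5772436492290) .leaf) (nat_lit 5772436543490) .leaf) (nat_lit 5772436555778) (.node (.node .leaf (nat_lit 5772444862594) .leaf) (nat_lit 5772444883074) .leaf)))) (nat_lit 5772444930178) (.node (.node (.node (.node (.node .leaf (nat_lit 5772444942466) .leaf) (nat_lit 5772457449475) .leaf) (nat_lit 5772457461763) (.node (.node .leaf (nat_lit 5772457508995) .leaf) (nat_lit 5772457529475) .leaf)) (nat_lit 5772465838211) (.node (.node (.node .leaf (nat_lit 5772465850499) .leaf) (nat_lit 5772465897475) .leaf) (nat_lit 5772465917955) (.node (.node .leaf (nat_lit 5774583529473) .leaf) (nat_lit 5774583550081) .leaf))) (nat_lit 5774583601153) (.node (.node (.node (.node .leaf (nat_lit 5774583613569) .leaf) (nat_lit 5774591924225) .leaf) (nat_lit 5774591936641) (.node (.node .leaf (nat_lit 5774591983617) .leaf) (nat_lit 5774592004225) .leaf)) (nat_lit 5774604548096) (.node (.node (.node .leaf (nat_lit 5774604560512) .leaf) (nat_lit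 5774604607616) .leaf) (nat_lit 5774604627968) (.node (.node .leaf (nat_lit 5774612932608) .leaf) (nat_lit 5774612953216) .leaf))))))))
def t1_5 : BT := (.node (.node (.node (.node (.node (.node (.node (.node (.node .leaf (nat_lit 5774613012480) .leaf) (nat_lit 5918469273728) (.node .leaf (nat_lit 5918469288064) .leaf)) (nat_lit 5918469337088) (.node (.node .leaf (nat_lit 5918469355520) .leaf) (nat_lit 5918477660288) .leaf)) (nat_lit 5918477678720) (.node (.node (.node .leaf (nat_lit 5918477727744) .leaf) (nat_lit 5918477742080) .leaf) (nat_lit 5918481711105) (.node (.node .leaf (nat_lit 5918481729537) .leaf) (nat_lit 5918481778689) .leaf))) (nat_lit 5918481793025) (.node (.node (.node (.node .leaf (nat_lit 5918490099713) .leaf) (nat_lit 5918490118145) .leaf) (nat_lit 5918490167297) (.node (.node .leaf (nat_lit 5918490181633) .leaf) (nat_lit 5920612423811) .leaf)) (nat_lit 5920612438019) (.node (.node (.node .leaf (nat_lit 5920612487171) .leaf) (nat_lit 5920612505731) .leaf) (nat_lit 5920620806147) (.node (.node .leaf (nat_lit 5920620824707) .leaf) (nat_lit 5920620873859) .leaf)))) (nat_lit 5920620888067) (.node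 (.node (.node (.node (.node .leaf (nat_lit 5920633552898) .leaf) (nat_lit 5920633571458) .leaf) (nat_lit 5920633620482) (.node (.node .leaf (nat_lit 5920633634946) .leaf) (nat_lit 5920641945730) .leaf)) (nat_lit 5920641964034) (.node (.node (.node .leaf (nat_lit 5920642013314) .leaf) (nat_lit 5920642027522) .leaf) (nat_lit 6609954934915) (.node (.node .leaf (nat_lit 6609954959491) .leaf) (nat_lit 6609955029123) .leaf))) (nat_lit 6609955053699) (.node (.node (.node (.node .leaf (nat_lit 6609955065986) .leaf) (nat_lit 6609955090562) .leaf) (nat_lit 6609955160066) (.node (.node .leaf (nat_lit 6609955184642) .leaf) (nat_lit 6609967513731) .leaf)) (nat_lit 6609967538307) (.node (.node (.node .leaf (nat_lit 6609967616131) .leaf) (nat_lit 6609967640707) .leaf) (nat_lit 6609967646850) (.node (.node .leaf (nat_lit 6609967671426) .leaf) (nat_lit 6609967749122) .leaf))))) (nat_lit 6609967773698) (.node (.node (.node (.node (.node (.node .leaf (nat_lit 6612102418563) .leaf) (nat_lit 6612102443011) (.node .leaf (nat_lit 6612102512771) .leaf)) (nat_lit 6612102537219) (.node (.node .leaf (nat_lit 6612102582402) .leaf) (nat_lit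 6612102606850) .leaf)) (nat_lit 6612102610946) (.node (.node (.node .leaf (nat_lit 6612102635650) .leaf) (nat_lit 6612115001347) .leaf) (nat_lit 6612115026051) (.node (.node .leaf (nat_lit 6612115095555) .leaf) (nat_lit 6612115120259) .leaf))) (nat_lit 6612115167234) (.node (.node (.node (.node .leaf (nat_lit 6612115191938) .leaf) (nat_lit 6612115196034) .leaf) (nat_lit 6612115220482) (.node (.node .leaf (nat_lit 6734508990467) .leaf) (nat_lit 6734508994562) .leaf)) (nat_lit 6734508998658) (.node (.node (.node .leaf (nat_lit 6734509002755) .leaf) (nat_lit 6734509090818) .leaf) (nat_lit 6734509095043) (.node (.node .leaf (nat_lit 6734509099139) .leaf) (nat_lit 6734509103106) .leaf)))) (nat_lit 6734521575554) (.node (.node (.node (.node (.node .leaf (nat_lit 6734521577603) .leaf) (nat_lit 6734521581699) .leaf) (nat_lit 6734521587842) (.node (.node .leaf (nat_lit 6734521673731) .leaf) (nat_lit 6734521675906) .leaf)) (nat_lit 6734521680002) (.node (.node (.node .leaf (nat_lit 6734521686019) .leaf) (nat_lit 6736660398083) .leaf) (nat_lit 6736660426883) (.node (.node .leaf (nat_lit 6736660434946) .leaf) (nat_lit 6736660455554)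 .leaf))) (nat_lit 6736660465666) (.node (.node (.node (.node .leaf (nat_lit 6736660494466) .leaf) (nat_lit 6736660502659) .leaf) (nat_lit 6736660523011) (.node (.node .leaf (nat_lit 6736664592387) .leaf) (nat_lit 6736664621187) .leaf)) (nat_lit 6736664631298) (.node (.node (.node .leaf (nat_lit 6736664651906) .leaf) (nat_lit 6736664657922) .leaf) (nat_lit 6736664686722) (.node (.node .leaf (nat_lit 6736664696963) .leaf) (nat_lit 6736664717315) .leaf)))))) (nat_lit 6871947968514) (.node (.node (.node (.node (.node (.node (.node .leaf (nat_lit 6871947999234) .leaf) (nat_lit 6871948001282) (.node .leaf (nat_lit 6871948032002) .leaf)) (nat_lit 6871952162819) (.node (.node .leaf (nat_lit 6871952193539) .leaf) (nat_lit 6871952195715) .leaf)) (nat_lit 6871952226435) (.node (.node (.node .leaf (nat_lit 6871956361347) .leaf) (nat_lit 6871956383875) .leaf) (nat_lit 6871956393987) (.node (.node .leaf (nat_lit 6871956416515) .leaf) (nat_lit 6871960557698) .leaf))) (nat_lit 6871960576130) (.node (.node (.node (.node .leaf (nat_lit 6871960590466) .leaf) (nat_lit 6871960608898) .leaf) (nat_lit 6874095190018) (.node (.node .leaf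 (nat_lit 6874095220866) .leaf) (nat_lit 6874095222786) .leaf)) (nat_lit 6874095253634) (.node (.node (.node .leaf (nat_lit 6874099351555) .leaf) (nat_lit 6874099382403) .leaf) (nat_lit 6874099449987) (.node (.node .leaf (nat_lit 6874099480579) .leaf) (nat_lit 6874103545859) .leaf)))) (nat_lit 6874103576707) (.node (.node (.node (.node (.node .leaf (nat_lit 6874103644291) .leaf) (nat_lit 6874103674883) .leaf) (nat_lit 6874107774978) (.node (.node .leaf (nat_lit 6874107801730) .leaf) (nat_lit 6874107807746) .leaf)) (nat_lit 6874107834498) (.node (.node (.node .leaf (nat_lit 7022288613505) .leaf) (nat_lit 7022288623745) .leaf) (nat_lit 7022288648321) (.node (.node .leaf (nat_lit 7022288654465) .leaf) (nat_lit 7022292926464) .leaf))) (nat_lit 7022292953088) (.node (.node (.node (.node .leaf (nat_lit 7022292961408) .leaf) (nat_lit 7022292983936) .leaf) (nat_lit 7022297126912) (.node (.node .leaf (nat_lit 7022297149440) .leaf) (nat_lit 7022297157760) .leaf)) (nat_lit 7022297184384) (.node (.node (.node .leaf (nat_lit 7022301192321) .leaf) (nat_lit 7022301202561) .leaf) (nat_lit 7022301227137) (.node (.node .leaf (nat_lit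 7022301233281) .leaf) (nat_lit 7024436183040) .leaf))))) (nat_lit 7024436209792) (.node (.node (.node (.node (.node (.node .leaf (nat_lit 7024436283520) .leaf) (nat_lit 7024436305920) .leaf) (nat_lit 7024440291457) (.node (.node .leaf (nat_lit 7024440301569) .leaf) (nat_lit 7024440326273) .leaf)) (nat_lit 7024440332289) (.node (.node (.node .leaf (nat_lit 7024444485633) .leaf) (nat_lit 7024444496001) .leaf) (nat_lit 7024444520449) (.node (.node .leaf (nat_lit 7024444526721) .leaf) (nat_lit 7024448768128) .leaf))) (nat_lit 7024448790528) (.node (.node (.node (.node .leaf (nat_lit 7024448864256) .leaf) (nat_lit 7024448891008) .leaf) (nat_lit 8259222241282) (.node (.node .leaf (nat_lit 8259222272130) .leaf) (nat_lit 8259222339586) .leaf)) (nat_lit 8259222370434) (.node (.node (.node .leaf (nat_lit 8259234826242) .leaf) (nat_lit 8259234852994) .leaf) (nat_lit 8259234924546) (.node (.node .leaf (nat_lit 8259234951298) .leaf) (nat_lit 8259238887427) .leaf)))) (nat_lit 8259238918275) (.node (.node (.node (.node (.node .leaf (nat_lit 8259238985859) .leaf) (nat_lit 8259239016451) .leaf) (nat_lit 8259251470339) (.node (.node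 .leaf (nat_lit 8259251501187) .leaf) (nat_lit 8259251568771) .leaf)) (nat_lit 8259251599363) (.node (.node (.node .leaf (nat_lit 8261369593857) .leaf) (nat_lit 8261369624577) .leaf) (nat_lit 8261369692161) (.node (.node .leaf (nat_lit 8261369722881) .leaf) (nat_lit 8261382183041) .leaf))) (nat_lit 8261382201473) (.node (.node (.node (.node .leaf (nat_lit 8261382281345) .leaf) (nat_lit 8261382299777) .leaf) (nat_lit 8261386543104) (.node (.node .leaf (nat_lit 8261386557440) .leaf) (nat_lit 8261386576000) .leaf)) (nat_lit 8261386590336) (.node (.node (.node .leaf (nat_lit 8261399130240) .leaf) (nat_lit 8261399136384) .leaf) (nat_lit 8261399162880) (.node (.node .leaf (nat_lit 8261399169024) .leaf) (nat_lit 8383776167938) .leaf))))))) (nat_lit 8383776192514) (.node (.node (.node (.node (.node (.node (.node (.node .leaf (nat_lit 8383776262146) .leaf) (nat_lit 8383776286722) (.node .leaf (nat_lit 8383788746754) .leaf)) (nat_lit 8383788771330) (.node (.node .leaf (nat_lit 8383788849154) .leaf) (nat_lit 8383788873730) .leaf)) (nat_lit 8383792945155) (.node (.node (.node .leaf (nat_lit 8383792969731) .leaf) (nat_lit 8383793039491)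 .leaf) (nat_lit 8383793064067) (.node (.node .leaf (nat_lit 8383805521923) .leaf) (nat_lit 8383805546499) .leaf))) (nat_lit 8383805624451) (.node (.node (.node (.node .leaf (nat_lit 8383805649027) .leaf) (nat_lit 8385928247297) .leaf) (nat_lit 8385928255617) (.node (.node .leaf (nat_lit 8385928341505) .leaf) (nat_lit 8385928349825) .leaf)) (nat_lit 8385932441729) (.node (.node (.node .leaf (nat_lit 8385932449793) .leaf) (nat_lit 8385932535937) .leaf) (nat_lit 8385932544001) (.node (.node .leaf (nat_lit 8385945049088) .leaf) (nat_lit 8385945073792) .leaf)))) (nat_lit 8385945077888) (.node (.node (.node (.node (.node .leaf (nat_lit 8385945102336) .leaf) (nat_lit 8385949241472) .leaf) (nat_lit 8385949265920) (.node (.node .leaf (nat_lit 8385949270016) .leaf) (nat_lit 8385949294720) .leaf)) (nat_lit 8534100017153) (.node (.node (.node .leaf (nat_lit 8534100045953) .leaf) (nat_lit 8534100121729) .leaf) (nat_lit 8534100142081) (.node (.node .leaf (nat_lit 8534112600065) .leaf) (nat_lit 8534112628865) .leaf))) (nat_lit 8534112704641) (.node (.node (.node (.node .leaf (nat_lit 8534112724993) .leaf) (nat_lit 8534121134208)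 .leaf) (nat_lit 8534121138176) (.node (.node .leaf (nat_lit 8534121226368) .leaf) (nat_lit 8534121238528) .leaf)) (nat_lit 8534125326464) (.node (.node (.node .leaf (nat_lit 8534125330432) .leaf) (nat_lit 8534125422720) .leaf) (nat_lit 8534125434880) (.node (.node .leaf (nat_lit 8536247664642) .leaf) (nat_lit 8536247693314) .leaf))))) (nat_lit 8536247703682) (.node (.node (.node (.node (.node (.node .leaf (nat_lit 8536247724162) .leaf) (nat_lit 8536260251778) (.node .leaf (nat_lit 8536260272258) .leaf)) (nat_lit 8536260282370) (.node (.node .leaf (nat_lit 8536260311042) .leaf) (nat_lit 8536268478595) .leaf)) (nat_lit 8536268499075) (.node (.node (.node .leaf (nat_lit 8536268570755) .leaf) (nat_lit 8536268599427) .leaf) (nat_lit 8536272666627) (.node (.node .leaf (nat_lit 8536272695299) .leaf) (nat_lit 8536272771075) .leaf))) (nat_lit 8536272791555) (.node (.node (.node (.node .leaf (nat_lit 8658654074882) .leaf) (nat_lit 8658654097410) .leaf) (nat_lit 8658654171138) (.node (.node .leaf (nat_lit 8658654197762) .leaf) (nat_lit 8658666653698) .leaf)) (nat_lit 8658666676226) (.node (.node (.node .leaf (nat_lit 8658666749954)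 .leaf) (nat_lit 8658666776578) .leaf) (nat_lit 8658675040259) (.node (.node .leaf (nat_lit 8658675066883) .leaf) (nat_lit 8658675140739) .leaf)))) (nat_lit 8658675163267) (.node (.node (.node (.node (.node .leaf (nat_lit 8658679240707) .leaf) (nat_lit 8658679263235) .leaf) (nat_lit 8658679337091) (.node (.node .leaf (nat_lit 8658679363715) .leaf) (nat_lit 8660806187009) .leaf)) (nat_lit 8660806193281) (.node (.node (.node .leaf (nat_lit 8660806217729) .leaf) (nat_lit 8660806228097) .leaf) (nat_lit 8660810381441) (.node (.node .leaf (nat_lit 8660810387457) .leaf) (nat_lit 8660810412161) .leaf))) (nat_lit 8660810422273) (.node (.node (.node (.node .leaf (nat_lit 8660818722816) .leaf) (nat_lit 8660818749568) .leaf) (nat_lit 8660818823296) (.node (.node .leaf (nat_lit 8660818845696) .leaf) (nat_lit 8660831307904) .leaf)) (nat_lit 8660831330304) (.node (.node (.node .leaf (nat_lit 8660831404032) .leaf) (nat_lit 8660831430784) .leaf) (nat_lit 8804682965123) (.node (.node .leaf (nat_lit 8804683030658) .leaf) (nat_lit 8804683088003) .leaf)))))) (nat_lit 8804683153410) (.node (.node (.node (.node (.node (.node (.node .leaf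 (nat_lit 8804683227267) .leaf) (nat_lit 8804683292802) (.node .leaf (nat_lit 8804683350147) .leaf)) (nat_lit 8804683415554) (.node (.node .leaf (nat_lit 8804699742339) .leaf) (nat_lit 8804699809922) .leaf)) (nat_lit 8804699865219) (.node (.node (.node .leaf (nat_lit 8804699932674) .leaf) (nat_lit 8804700004355) .leaf) (nat_lit 8804700071938) (.node (.node .leaf (nat_lit 8804700127235) .leaf) (nat_lit 8804700194946) .leaf))) (nat_lit 8808977932419) (.node (.node (.node (.node .leaf (nat_lit 8808978030722) .leaf) (nat_lit 8808978055299) .leaf) (nat_lit 8808978153474) (.node (.node .leaf (nat_lit 8808978194563) .leaf) (nat_lit 8808978292866) .leaf)) (nat_lit 8808978317443) (.node (.node (.node .leaf (nat_lit 8808978415618) .leaf) (nat_lit 8808994701315) .leaf) (nat_lit 8808994801666) (.node (.node .leaf (nat_lit 8808994840579) .leaf) (nat_lit 8808994941058) .leaf)))) (nat_lit 8808994963587) (.node (.node (.node (.node (.node .leaf (nat_lit 8808995063938) .leaf) (nat_lit 8808995102851) .leaf) (nat_lit 8808995203074) (.node (.node .leaf (nat_lit 8942130323587) .leaf) (nat_lit 8942130389122) .leaf)) (nat_lit 8942130448515)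 (.node (.node (.node .leaf (nat_lit 8942130513922) .leaf) (nat_lit 8942130589827) .leaf) (nat_lit 8942130655362) (.node (.node .leaf (nat_lit 8942130714755) .leaf) (nat_lit 8942130780162) .leaf))) (nat_lit 8942147100803) (.node (.node (.node (.node .leaf (nat_lit 8942147168386) .leaf) (nat_lit 8942147225731) .leaf) (nat_lit 8942147289090) (.node (.node .leaf (nat_lit 8942147366915) .leaf) (nat_lit 8942147434498) .leaf)) (nat_lit 8942147491843) (.node (.node (.node .leaf (nat_lit 8942147555458) .leaf) (nat_lit 8946429476995) .leaf) (nat_lit 8946429575298) (.node (.node .leaf (nat_lit 8946429618307) .leaf) (nat_lit 8946429716482) .leaf))))) (nat_lit 8946429743235) (.node (.node (.node (.node (.node (.node .leaf (nat_lit 8946429841538) .leaf) (nat_lit 8946429884547) .leaf) (nat_lit 8946429982722) (.node (.node .leaf (nat_lit 8946446262275) .leaf) (nat_lit 8946446362626) .leaf)) (nat_lit 8946446387203) (.node (.node (.node .leaf (nat_lit 8946446483586) .leaf) (nat_lit 8946446528643) .leaf) (nat_lit 8946446628994) (.node (.node .leaf (nat_lit 8946446653571) .leaf) (nat_lit 8946446749698) .leaf))) (nat_lit 9345848854530)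 (.node (.node (.node (.node .leaf (nat_lit 9345848985602) .leaf) (nat_lit 9345849157634) .leaf) (nat_lit 9345849288706) (.node (.node .leaf (nat_lit 9345853048835) .leaf) (nat_lit 9345853180035) .leaf)) (nat_lit 9345853351939) (.node (.node (.node .leaf (nat_lit 9345853483139) .leaf) (nat_lit 9345865615362) .leaf) (nat_lit 9345865746434) (.node (.node .leaf (nat_lit 9345865918594) .leaf) (nat_lit 9345866049666) .leaf)))) (nat_lit 9345869807619) (.node (.node (.node (.node (.node .leaf (nat_lit 9345869938819) .leaf) (nat_lit 9345870110851) .leaf) (nat_lit 9345870241795) (.node (.node .leaf (nat_lit 9350143854722) .leaf) (nat_lit 9350143985794) .leaf)) (nat_lit 9350144092290) (.node (.node (.node .leaf (nat_lit 9350144223362) .leaf) (nat_lit 9350148016259) .leaf) (nat_lit 9350148147203) (.node (.node .leaf (nat_lit 9350148319363) .leaf) (nat_lit 9350148450307) .leaf))) (nat_lit 9350160623618) (.node (.node (.node (.node .leaf (nat_lit 9350160754690) .leaf) (nat_lit 9350160844930) .leaf) (nat_lit 9350160976002) (.node (.node .leaf (nat_lit 9350164783107) .leaf) (nat_lit 9350164914307) .leaf)) (nat_lit 9350165069955)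 (.node (.node (.node .leaf (nat_lit 9350165200899) .leaf) (nat_lit 9483287808002) .leaf) (nat_lit 9483287937026) (.node (.node .leaf (nat_lit 9483288115202) .leaf) (nat_lit 9483288244226) .leaf))))))))
def t1_6 : BT := (.node (.node (.node (.node (.node (.node (.node (.node (.node .leaf (nat_lit 9483292131459) .leaf) (nat_lit 9483292309507) (.node .leaf (nat_lit 9483292438659) .leaf)) (nat_lit 9483304568834) (.node (.node .leaf (nat_lit 9483304697858) .leaf) (nat_lit 9483304876162) .leaf)) (nat_lit 9483305005186) (.node (.node (.node .leaf (nat_lit 9483308761091) .leaf) (nat_lit 9483308894339) .leaf) (nat_lit 9483309068419) (.node (.node .leaf (nat_lit 9483309201411) .leaf) (nat_lit 9487582783619) .leaf))) (nat_lit 9487582912515) (.node (.node (.node (.node .leaf (nat_lit 9487583074435) .leaf) (nat_lit 9487583203331) .leaf) (nat_lit 9487587010690) (.node (.node .leaf (nat_lit 9487587139714) .leaf) (nat_lit 9487587235970) .leaf)) (nat_lit 9487587364994) (.node (.node (.node .leaf (nat_lit 9487599534083) .leaf) (nat_lit 9487599667331) .leaf) (nat_lit 9487599841411) (.node (.node .leaf (nat_lit 9487599974403) .leaf)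 (nat_lit 9487603763202) .leaf)))) (nat_lit 9487603892226) (.node (.node (.node (.node (.node .leaf (nat_lit 9487604004994) .leaf) (nat_lit 9487604134018) .leaf) (nat_lit 9904194660482) (.node (.node .leaf (nat_lit 9904194797570) .leaf) (nat_lit 9904194873474) .leaf)) (nat_lit 9904194977794) (.node (.node (.node .leaf (nat_lit 9904202983555) .leaf) (nat_lit 9904203120771) .leaf) (nat_lit 9904203327619) (.node (.node .leaf (nat_lit 9904203432067) .leaf) (nat_lit 9904211435650) .leaf))) (nat_lit 9904211576834) (.node (.node (.node (.node .leaf (nat_lit 9904211648514) .leaf) (nat_lit 9904211757186) .leaf) (nat_lit 9904219760771) (.node (.node .leaf (nat_lit 9904219897987) .leaf) (nat_lit 9904220104707) .leaf)) (nat_lit 9904220209155) (.node (.node (.node .leaf (nat_lit 9908489551873) .leaf) (nat_lit 9908489709569) .leaf) (nat_lit 9908489896065) (.node (.node .leaf (nat_lit 9908490020993) .leaf) (nat_lit 9908498042880) .leaf))))) (nat_lit 9908498200704) (.node (.node (.node (.node (.node (.node .leaf (nat_lit 9908498256000) .leaf) (nat_lit 9908498380800) (.node .leaf (nat_lit 9908506339457) .leaf)) (nat_lit 9908506476673)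 (.node (.node .leaf (nat_lit 9908506683521) .leaf) (nat_lit 9908506787969) .leaf)) (nat_lit 9908514828416) (.node (.node (.node .leaf (nat_lit 9908514969600) .leaf) (nat_lit 9908515041408) .leaf) (nat_lit 9908515149824) (.node (.node .leaf (nat_lit 10041633564803) .leaf) (nat_lit 10041633671299) .leaf))) (nat_lit 10041633880195) (.node (.node (.node (.node .leaf (nat_lit 10041634019459) .leaf) (nat_lit 10041642018946) .leaf) (nat_lit 10041642125314) (.node (.node .leaf (nat_lit 10041642203266) .leaf) (nat_lit 10041642342402) .leaf)) (nat_lit 10041650342019) (.node (.node (.node .leaf (nat_lit 10041650448515) .leaf) (nat_lit 10041650657283) .leaf) (nat_lit 10041650796547) (.node (.node .leaf (nat_lit 10041658794114) .leaf) (nat_lit 10041658900482) .leaf)))) (nat_lit 10041658978306) (.node (.node (.node (.node (.node .leaf (nat_lit 10041659117698) .leaf) (nat_lit 10045932828672) .leaf) (nat_lit 10045932935296) (.node (.node .leaf (nat_lit 10045933004928) .leaf) (nat_lit 10045933144064) .leaf)) (nat_lit 10045941114881) (.node (.node (.node .leaf (nat_lit 10045941221377) .leaf) (nat_lit 10045941430401) .leaf) (nat_lit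 10045941569665) (.node (.node .leaf (nat_lit 10045949597824) .leaf) (nat_lit 10045949720576) .leaf))) (nat_lit 10045949773952) (.node (.node (.node (.node .leaf (nat_lit 10045949929472) .leaf) (nat_lit 10045957881985) .leaf) (nat_lit 10045958004865) (.node (.node .leaf (nat_lit 10045958197377) .leaf) (nat_lit 10045958353025) .leaf)) (nat_lit 10445360482306) (.node (.node (.node .leaf (nat_lit 10445360594946) .leaf) (nat_lit 10445360834562) .leaf) (nat_lit 10445360979970) (.node (.node .leaf (nat_lit 10445373065219) .leaf) (nat_lit 10445373177987) .leaf)))))) (nat_lit 10445373417475) (.node (.node (.node (.node (.node (.node (.node .leaf (nat_lit 10445373563011) .leaf) (nat_lit 10445377243138) (.node .leaf (nat_lit 10445377388546) .leaf)) (nat_lit 10445377628290) (.node (.node .leaf (nat_lit 10445377740930) .leaf) (nat_lit 10445389824003) .leaf)) (nat_lit 10445389973635) (.node (.node (.node .leaf (nat_lit 10445390209155) .leaf) (nat_lit 10445390325763) .leaf) (nat_lit 10449655431169) (.node (.node .leaf (nat_lit 10449655580801) .leaf) (nat_lit 10449655816321) .leaf))) (nat_lit 10449655932929) (.node (.node (.node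 (.node .leaf (nat_lit 10449668050944) .leaf) (nat_lit 10449668200448) .leaf) (nat_lit 10449668370560) (.node (.node .leaf (nat_lit 10449668487296) .leaf) (nat_lit 10449672233089) .leaf)) (nat_lit 10449672349697) (.node (.node (.node .leaf (nat_lit 10449672568961) .leaf) (nat_lit 10449672718337) .leaf) (nat_lit 10449684854912) (.node (.node .leaf (nat_lit 10449684967552) .leaf) (nat_lit 10449685125248) .leaf)))) (nat_lit 10449685270656) (.node (.node (.node (.node (.node .leaf (nat_lit 10582799435778) .leaf) (nat_lit 10582799550466) .leaf) (nat_lit 10582799792130) (.node (.node .leaf (nat_lit 10582799939586) .leaf) (nat_lit 10582812018691) .leaf)) (nat_lit 10582812133507) (.node (.node (.node .leaf (nat_lit 10582812375043) .leaf) (nat_lit 10582812522627) .leaf) (nat_lit 10582816196610) (.node (.node .leaf (nat_lit 10582816344066) .leaf) (nat_lit 10582816585858) .leaf))) (nat_lit 10582816700546) (.node (.node (.node (.node .leaf (nat_lit 10582828777475) .leaf) (nat_lit 10582828925059) .leaf) (nat_lit 10582829166723) (.node (.node .leaf (nat_lit 10582829281283) .leaf) (nat_lit 10587098589185) .leaf)) (nat_lit 10587098736769)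 (.node (.node (.node .leaf (nat_lit 10587098962049) .leaf) (nat_lit 10587099076609) .leaf) (nat_lit 10587102820352) (.node (.node .leaf (nat_lit 10587102967808) .leaf) (nat_lit 10587103119488) .leaf))))) (nat_lit 10587103234176) (.node (.node (.node (.node (.node (.node .leaf (nat_lit 10587115374721) .leaf) (nat_lit 10587115489281) .leaf) (nat_lit 10587115731073) (.node (.node .leaf (nat_lit 10587115878401) .leaf) (nat_lit 10587119603840) .leaf)) (nat_lit 10587119718528) (.node (.node (.node .leaf (nat_lit 10587119886464) .leaf) (nat_lit 10587120033920) .leaf) (nat_lit 10995116298242) (.node (.node .leaf (nat_lit 10995116306435) .leaf) (nat_lit 10995116462211) .leaf))) (nat_lit 10995116470274) (.node (.node (.node (.node .leaf (nat_lit 10995116560387) .leaf) (nat_lit 10995116568578) .leaf) (nat_lit 10995116724226) (.node (.node .leaf (nat_lit 10995116732547) .leaf) (nat_lit 10995137251330) .leaf)) (nat_lit 10995137257475) (.node (.node (.node .leaf (nat_lit 10995137413251) .leaf) (nat_lit 10995137423362) .leaf) (nat_lit 10995137511555) (.node (.node .leaf (nat_lit 10995137521794) .leaf) (nat_lit 10995137677442)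 .leaf)))) (nat_lit 10995137683459) (.node (.node (.node (.node (.node .leaf (nat_lit 10999411273859) .leaf) (nat_lit 10999411298434) .leaf) (nat_lit 10999411404930) (.node (.node .leaf (nat_lit 10999411429379) .leaf) (nat_lit 10999411527811) .leaf)) (nat_lit 10999411568770) (.node (.node (.node .leaf (nat_lit 10999411658882) .leaf) (nat_lit 10999411699715) .leaf) (nat_lit 10999432216579) (.node (.node .leaf (nat_lit 10999432259586) .leaf) (nat_lit 10999432349698) .leaf))) (nat_lit 10999432388739) (.node (.node (.node (.node .leaf (nat_lit 10999432487043) .leaf) (nat_lit 10999432513666) .leaf) (nat_lit 10999432620162) (.node (.node .leaf (nat_lit 10999432642563) .leaf) (nat_lit 11132555251715) .leaf)) (nat_lit 11132555259906) (.node (.node (.node .leaf (nat_lit 11132555417602) .leaf) (nat_lit 11132555425923) .leaf) (nat_lit 11132555509762) (.node (.node .leaf (nat_lit 11132555517955) .leaf) (nat_lit 11132555675779) .leaf))))))) (nat_lit 11132555683842) (.node (.node (.node (.node (.node (.node (.node (.node .leaf (nat_lit 11132576202755) .leaf) (nat_lit 11132576212994) (.node .leaf (nat_lit 11132576366594) .leaf))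 (nat_lit 11132576376963) (.node (.node .leaf (nat_lit 11132576471170) .leaf) (nat_lit 11132576477315) .leaf)) (nat_lit 11132576634883) (.node (.node (.node .leaf (nat_lit 11132576641154) .leaf) (nat_lit 11136854421635) .leaf) (nat_lit 11136854446210) (.node (.node .leaf (nat_lit 11136854554754) .leaf) (nat_lit 11136854579203) .leaf))) (nat_lit 11136854671491) (.node (.node (.node (.node .leaf (nat_lit 11136854712450) .leaf) (nat_lit 11136854804610) .leaf) (nat_lit 11136854845443) (.node (.node .leaf (nat_lit 11136866975747) .leaf) (nat_lit 11136867018754) .leaf)) (nat_lit 11136867106818) (.node (.node (.node .leaf (nat_lit 11136867149955) .leaf) (nat_lit 11136867250307) .leaf) (nat_lit 11136867276930) (.node (.node .leaf (nat_lit 11136867381378) .leaf) (nat_lit 11136867407875) .leaf)))) (nat_lit 11555609509889) (.node (.node (.node (.node (.node .leaf (nat_lit 11555609673729) .leaf) (nat_lit 11555609804801) .leaf) (nat_lit 11555609903105) (.node (.node .leaf (nat_lit 11555613782144) .leaf) (nat_lit 11555613945856) .leaf)) (nat_lit 11555614077056) (.node (.node (.node .leaf (nat_lit 11555614175232) .leaf) (nat_lit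 11555626367104) .leaf) (nat_lit 11555626530816) (.node (.node .leaf (nat_lit 11555626661888) .leaf) (nat_lit 11555626760320) .leaf))) (nat_lit 11555630481409) (.node (.node (.node (.node .leaf (nat_lit 11555630645249) .leaf) (nat_lit 11555630776449) .leaf) (nat_lit 11555630874753) (.node (.node .leaf (nat_lit 11559904477185) .leaf) (nat_lit 11559904641025) .leaf)) (nat_lit 11559904772097) (.node (.node (.node .leaf (nat_lit 11559904870401) .leaf) (nat_lit 11559908782208) .leaf) (nat_lit 11559908880384) (.node (.node .leaf (nat_lit 11559909011584) .leaf) (nat_lit 11559909175296) .leaf))))) (nat_lit 11559921358848) (.node (.node (.node (.node (.node (.node .leaf (nat_lit 11559921457280) .leaf) (nat_lit 11559921588352) (.node .leaf (nat_lit 11559921752064) .leaf)) (nat_lit 11559925457025) (.node (.node .leaf (nat_lit 11559925620865) .leaf) (nat_lit 11559925751809) .leaf)) (nat_lit 11559925850113) (.node (.node (.node .leaf (nat_lit 11693056882817) .leaf) (nat_lit 11693057044609) .leaf) (nat_lit 11693057173633) (.node (.node .leaf (nat_lit 11693057269889) .leaf) (nat_lit 11693061130240) .leaf))) (nat_lit 11693061292160)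 (.node (.node (.node (.node .leaf (nat_lit 11693061429248) .leaf) (nat_lit 11693061525632) .leaf) (nat_lit 11693073711104) (.node (.node .leaf (nat_lit 11693073877120) .leaf) (nat_lit 11693074010240) .leaf)) (nat_lit 11693074110464) (.node (.node (.node .leaf (nat_lit 11693077854337) .leaf) (nat_lit 11693078016129) .leaf) (nat_lit 11693078145025) (.node (.node .leaf (nat_lit 11693078241281) .leaf) (nat_lit 11697351944192) .leaf)))) (nat_lit 11697352040576) (.node (.node (.node (.node (.node .leaf (nat_lit 11697352177664) .leaf) (nat_lit 11697352339584) .leaf) (nat_lit 11697356036225) (.node (.node .leaf (nat_lit 11697356198017) .leaf) (nat_lit 11697356327041) .leaf)) (nat_lit 11697356423297) (.node (.node (.node .leaf (nat_lit 11697368627201) .leaf) (nat_lit 11697368788993) .leaf) (nat_lit 11697368918145) (.node (.node .leaf (nat_lit 11697369014401) .leaf) (nat_lit 11697372905600) .leaf))) (nat_lit 11697373005824) (.node (.node (.node (.node .leaf (nat_lit 11697373138944) .leaf) (nat_lit 11697373304960) .leaf) (nat_lit 12369505843202) (.node (.node .leaf (nat_lit 12369505976322) .leaf) (nat_lit 12369506140162) .leaf))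 (nat_lit 12369506334722) (.node (.node (.node .leaf (nat_lit 12369514221571) .leaf) (nat_lit 12369514375299) .leaf) (nat_lit 12369514539011) (.node (.node .leaf (nat_lit 12369514713219) .leaf) (nat_lit 12369526792194) .leaf)))))) (nat_lit 12369526970370) (.node (.node (.node (.node (.node (.node (.node .leaf (nat_lit 12369527134338) .leaf) (nat_lit 12369527283842) (.node .leaf (nat_lit 12369535172611) .leaf)) (nat_lit 12369535367299) (.node (.node .leaf (nat_lit 12369535531139) .leaf) (nat_lit 12369535664131) .leaf)) (nat_lit 12373800779777) (.node (.node (.node .leaf (nat_lit 12373800974465) .leaf) (nat_lit 12373801138305) .leaf) (nat_lit 12373801271297) (.node (.node .leaf (nat_lit 12373809215488) .leaf) (nat_lit 12373809315840) .leaf))) (nat_lit 12373809545344) (.node (.node (.node (.node .leaf (nat_lit 12373809641600) .leaf) (nat_lit 12373821782145) .leaf) (nat_lit 12373821915137) (.node (.node .leaf (nat_lit 12373822079105) .leaf) (nat_lit 12373822273537) .leaf)) (nat_lit 12373830191232) (.node (.node (.node .leaf (nat_lit 12373830283392) .leaf) (nat_lit 12373830512768) .leaf) (nat_lit 12373830617216) (.node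 (.node .leaf (nat_lit 12506944786434) .leaf) (nat_lit 12506944937986) .leaf)))) (nat_lit 12506945107970) (.node (.node (.node (.node (.node .leaf (nat_lit 12506945275906) .leaf) (nat_lit 12506953185283) .leaf) (nat_lit 12506953320579) (.node (.node .leaf (nat_lit 12506953486339) .leaf) (nat_lit 12506953670787) .leaf)) (nat_lit 12506965739522) (.node (.node (.node .leaf (nat_lit 12506965932034) .leaf) (nat_lit 12506966089858) .leaf) (nat_lit 12506966233218) (.node (.node .leaf (nat_lit 12506974136323) .leaf) (nat_lit 12506974312579) .leaf))) (nat_lit 12506974470275) (.node (.node (.node (.node .leaf (nat_lit 12506974629891) .leaf) (nat_lit 12511243927553) .leaf) (nat_lit 12511244120193) (.node (.node .leaf (nat_lit 12511244281985) .leaf) (nat_lit 12511244425217) .leaf)) (nat_lit 12511252363264) (.node (.node (.node .leaf (nat_lit 12511252465664) .leaf) (nat_lit 12511252697216) .leaf) (nat_lit 12511252783232) (.node (.node .leaf (nat_lit 12511256541313) .leaf) (nat_lit 12511256676353) .leaf))))) (nat_lit 12511256842369) (.node (.node (.node (.node (.node (.node .leaf (nat_lit 12511257026561) .leaf) (nat_lit 12511264950400)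 .leaf) (nat_lit 12511265044608) (.node (.node .leaf (nat_lit 12511265267840) .leaf) (nat_lit 12511265378432) .leaf)) (nat_lit 12929999044609) (.node (.node (.node .leaf (nat_lit 12929999230977) .leaf) (nat_lit 12929999427585) .leaf) (nat_lit 12929999503361) (.node (.node .leaf (nat_lit 12930011707520) .leaf) (nat_lit 12930011881472) .leaf))) (nat_lit 12930011947136) (.node (.node (.node (.node .leaf (nat_lit 12930012035072) .leaf) (nat_lit 12930020016129) .leaf) (nat_lit 12930020202497) (.node (.node .leaf (nat_lit 12930020399233) .leaf) (nat_lit 12930020475009) .leaf)) (nat_lit 12930024288384) (.node (.node (.node .leaf (nat_lit 12930024466432) .leaf) (nat_lit 12930024531968) .leaf) (nat_lit 12930024616064) (.node (.node .leaf (nat_lit 12934294110210) .leaf) (nat_lit 12934294231170) .leaf)))) (nat_lit 12934294296706) (.node (.node (.node (.node (.node .leaf (nat_lit 12934294437890) .leaf) (nat_lit 12934306605187) .leaf) (nat_lit 12934306787459) (.node (.node .leaf (nat_lit 12934306983939) .leaf) (nat_lit 12934307063811) .leaf)) (nat_lit 12934315090050) (.node (.node (.node .leaf (nat_lit 12934315210754) .leaf)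 (nat_lit 12934315276418) .leaf) (nat_lit 12934315417602) (.node (.node .leaf (nat_lit 12934319177731) .leaf) (nat_lit 12934319364099) .leaf))) (nat_lit 12934319560707) (.node (.node (.node (.node .leaf (nat_lit 12934319636483) .leaf) (nat_lit 13067442276352) .leaf) (nat_lit 13067442428032) (.node (.node .leaf (nat_lit 13067442487296) .leaf) (nat_lit 13067442606208) .leaf)) (nat_lit 13067446415489) (.node (.node (.node .leaf (nat_lit 13067446558849) .leaf) (nat_lit 13067446761601) .leaf) (nat_lit 13067446872193) (.node (.node .leaf (nat_lit 13067454857216) .leaf) (nat_lit 13067455008896) .leaf))))))))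
def t1_7 : BT := (.node (.node (.node (.node (.node (.node (.node (.node (.node .leaf (nat_lit 13067455191040) .leaf) (nat_lit 13067467387009) (.node .leaf (nat_lit 13067467530369) .leaf)) (nat_lit 13067467732993) (.node (.node .leaf (nat_lit 13067467843585) .leaf) (nat_lit 13071732994051) .leaf)) (nat_lit 13071733137411) (.node (.node (.node .leaf (nat_lit 13071733340291) .leaf) (nat_lit 13071733450883) .leaf) (nat_lit 13071745669250) (.node (.node .leaf (nat_lit 13071745746946) .leaf) (nat_lit 13071745814530) .leaf))) (nat_lit 13071745990786) (.node (.node (.node (.node .leaf (nat_lit 13071753959555) .leaf) (nat_lit 13071754102915) .leaf) (nat_lit 13071754301571) (.node (.node .leaf (nat_lit 13071754412163) .leaf) (nat_lit 13071758260226) .leaf)) (nat_lit 13071758338178) (.node (.node (.node .leaf (nat_lit 13071758405634) .leaf) (nat_lit 13071758581890) .leaf) (nat_lit 13194139545603) (.node (.node .leaf (nat_lit 13194139561986) .leaf) (nat_lit 13194139730051) .leaf)))) (nat_lit 13194139746306) (.node (.node (.node (.node (.node .leaf (nat_lit 13194139807746) .leaf) (nat_lit 13194139824131) .leaf) (nat_lit 13194139992066)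 (.node (.node .leaf (nat_lit 13194140008579) .leaf) (nat_lit 13194164713474) .leaf)) (nat_lit 13194164727811) (.node (.node (.node .leaf (nat_lit 13194164897794) .leaf) (nat_lit 13194164912259) .leaf) (nat_lit 13194164973699) (.node (.node .leaf (nat_lit 13194164992130) .leaf) (nat_lit 13194165157891) .leaf))) (nat_lit 13194165176450) (.node (.node (.node (.node .leaf (nat_lit 13200582013059) .leaf) (nat_lit 13200582029314) .leaf) (nat_lit 13200582197251) (.node (.node .leaf (nat_lit 13200582213634) .leaf) (nat_lit 13200582258691) .leaf)) (nat_lit 13200582307970) (.node (.node (.node .leaf (nat_lit 13200582443139) .leaf) (nat_lit 13200582492290) .leaf) (nat_lit 13200607150083) (.node (.node .leaf (nat_lit 13200607201410) .leaf) (nat_lit 13200607359107) .leaf))))) (nat_lit 13200607410306) (.node (.node (.node (.node (.node (.node .leaf (nat_lit 13200607428611) .leaf) (nat_lit 13200607447170) (.node .leaf (nat_lit 13200607637635) .leaf)) (nat_lit 13200607656066) (.node (.node .leaf (nat_lit 13331578499074) .leaf) (nat_lit 13331578515459) .leaf)) (nat_lit 13331578685442) (.node (.node (.node .leaf (nat_lit 13331578701955)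 .leaf) (nat_lit 13331578757123) .leaf) (nat_lit 13331578773506) (.node (.node .leaf (nat_lit 13331578951811) .leaf) (nat_lit 13331578968066) .leaf))) (nat_lit 13331603664899) (.node (.node (.node (.node .leaf (nat_lit 13331603683330) .leaf) (nat_lit 13331603851395) .leaf) (nat_lit 13331603865602) (.node (.node .leaf (nat_lit 13331603925122) .leaf) (nat_lit 13331603939459) .leaf)) (nat_lit 13331604115586) (.node (.node (.node .leaf (nat_lit 13331604133891) .leaf) (nat_lit 13338025132035) .leaf) (nat_lit 13338025181314) (.node (.node .leaf (nat_lit 13338025343107) .leaf) (nat_lit 13338025392258) .leaf)))) (nat_lit 13338025414787) (.node (.node (.node (.node (.node .leaf (nat_lit 13338025431042) .leaf) (nat_lit 13338025617411) .leaf) (nat_lit 13338025633794) (.node (.node .leaf (nat_lit 13338050326659) .leaf) (nat_lit 13338050344962) .leaf)) (nat_lit 13338050512899) (.node (.node (.node .leaf (nat_lit 13338050527234) .leaf) (nat_lit 13338050568323) .leaf) (nat_lit 13338050619394) (.node (.node .leaf (nat_lit 13338050762755) .leaf) (nat_lit 13338050809858) .leaf))) (nat_lit 14027363188737) (.node (.node (.node (.node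 .leaf (nat_lit 14027363385345) .leaf) (nat_lit 14027363514497) .leaf) (nat_lit 14027363711105) (.node (.node .leaf (nat_lit 14027367471104) .leaf) (nat_lit 14027367536768) .leaf)) (nat_lit 14027367751808) (.node (.node (.node .leaf (nat_lit 14027367817216) .leaf) (nat_lit 14027388354561) .leaf) (nat_lit 14027388551169) (.node (.node .leaf (nat_lit 14027388680193) .leaf) (nat_lit 14027388876801) .leaf)))))) (nat_lit 14027392634880) (.node (.node (.node (.node (.node (.node (.node .leaf (nat_lit 14027392700544) .leaf) (nat_lit 14027392919552) (.node .leaf (nat_lit 14027392985216) .leaf)) (nat_lit 14033805639681) (.node (.node .leaf (nat_lit 14033805836289) .leaf) (nat_lit 14033805965313) .leaf)) (nat_lit 14033806161921) (.node (.node (.node .leaf (nat_lit 14033809954944) .leaf) (nat_lit 14033810020352) .leaf) (nat_lit 14033810169984) (.node (.node .leaf (nat_lit 14033810235392) .leaf) (nat_lit 14033830817921) .leaf))) (nat_lit 14033831014529) (.node (.node (.node (.node .leaf (nat_lit 14033831118849) .leaf) (nat_lit 14033831315457) .leaf) (nat_lit 14033835122688) (.node (.node .leaf (nat_lit 14033835188352) .leaf)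 (nat_lit 14033835333760) .leaf)) (nat_lit 14033835399168) (.node (.node (.node .leaf (nat_lit 14164810530817) .leaf) (nat_lit 14164810729473) .leaf) (nat_lit 14164810852481) (.node (.node .leaf (nat_lit 14164811047041) .leaf) (nat_lit 14164814813184) .leaf)))) (nat_lit 14164814876800) (.node (.node (.node (.node (.node .leaf (nat_lit 14164815097984) .leaf) (nat_lit 14164815165440) .leaf) (nat_lit 14164818919425) (.node (.node .leaf (nat_lit 14164819118081) .leaf) (nat_lit 14164819240961) .leaf)) (nat_lit 14164819435521) (.node (.node (.node .leaf (nat_lit 14164823199744) .leaf) (nat_lit 14164823267456) .leaf) (nat_lit 14164823488512) (.node (.node .leaf (nat_lit 14164823552128) .leaf) (nat_lit 14171253106688) .leaf))) (nat_lit 14171253170304) (.node (.node (.node (.node .leaf (nat_lit 14171253309440) .leaf) (nat_lit 14171253377152) .leaf) (nat_lit 14171257188481) (.node (.node .leaf (nat_lit 14171257387137) .leaf) (nat_lit 14171257493633) .leaf)) (nat_lit 14171257688193) (.node (.node (.node .leaf (nat_lit 14171261489280) .leaf) (nat_lit 14171261556736) .leaf) (nat_lit 14171261712384) (.node (.node .leaf (nat_lit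 14171261776000) .leaf) (nat_lit 14171265564673) .leaf))))) (nat_lit 14171265763329) (.node (.node (.node (.node (.node (.node .leaf (nat_lit 14171265886337) .leaf) (nat_lit 14171266080897) .leaf) (nat_lit 14293651191810) (.node (.node .leaf (nat_lit 14293651357698) .leaf) (nat_lit 14293651519490) .leaf)) (nat_lit 14293651554306) (.node (.node (.node .leaf (nat_lit 14293659564035) .leaf) (nat_lit 14293659762819) .leaf) (nat_lit 14293659891715) (.node (.node .leaf (nat_lit 14293659959427) .leaf) (nat_lit 14293667969027) .leaf))) (nat_lit 14293668135043) (.node (.node (.node (.node .leaf (nat_lit 14293668296835) .leaf) (nat_lit 14293668331523) .leaf) (nat_lit 14293676339202) (.node (.node .leaf (nat_lit 14293676541954) .leaf) (nat_lit 14293676667010) .leaf)) (nat_lit 14293676738690) (.node (.node (.node .leaf (nat_lit 14300093612033) .leaf) (nat_lit 14300093839489) .leaf) (nat_lit 14300093939713) (.node (.node .leaf (nat_lit 14300094036097) .leaf) (nat_lit 14300102054016) .leaf)))) (nat_lit 14300102240384) (.node (.node (.node (.node (.node .leaf (nat_lit 14300102381696) .leaf) (nat_lit 14300102436992) .leaf) (nat_lit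 14300110430208) (.node (.node .leaf (nat_lit 14300110641152) .leaf) (nat_lit 14300110758016) .leaf)) (nat_lit 14300110837888) (.node (.node (.node .leaf (nat_lit 14300118808705) .leaf) (nat_lit 14300118974465) .leaf) (nat_lit 14300119136257) (.node (.node .leaf (nat_lit 14300119171201) .leaf) (nat_lit 14431090128898) .leaf))) (nat_lit 14431090329602) (.node (.node (.node (.node .leaf (nat_lit 14431090452482) .leaf) (nat_lit 14431090530306) .leaf) (nat_lit 14431098533891) (.node (.node .leaf (nat_lit 14431098701955) .leaf) (nat_lit 14431098857475) .leaf)) (nat_lit 14431098902659) (.node (.node (.node .leaf (nat_lit 14431106906115) .leaf) (nat_lit 14431107106947) .leaf) (nat_lit 14431107229827) (.node (.node .leaf (nat_lit 14431107307523) .leaf) (nat_lit 14431115309058) .leaf))))))) (nat_lit 14431115476994) (.node (.node (.node (.node (.node (.node (.node (.node .leaf (nat_lit 14431115632770) .leaf) (nat_lit 14431115677826) (.node .leaf (nat_lit 14437536790657) .leaf)) (nat_lit 14437536958465) (.node (.node .leaf (nat_lit 14437537114241) .leaf) (nat_lit 14437537159169) .leaf)) (nat_lit 14437545191424) (.node (.node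 (.node .leaf (nat_lit 14437545400320) .leaf) (nat_lit 14437545523200) .leaf) (nat_lit 14437545592832) (.node (.node .leaf (nat_lit 14437553592448) .leaf) (nat_lit 14437553776768) .leaf))) (nat_lit 14437553915904) (.node (.node (.node (.node .leaf (nat_lit 14437553977344) .leaf) (nat_lit 14437561925633) .leaf) (nat_lit 14437562151041) (.node (.node .leaf (nat_lit 14437562257537) .leaf) (nat_lit 14437562343425) .leaf)) (nat_lit 15126874816513) (.node (.node (.node .leaf (nat_lit 15126875031553) .leaf) (nat_lit 15126875191425) .leaf) (nat_lit 15126875271297) (.node (.node .leaf (nat_lit 15126887487488) .leaf) (nat_lit 15126887534720) .leaf)))) (nat_lit 15126887719040) (.node (.node (.node (.node (.node .leaf (nat_lit 15126887901184) .leaf) (nat_lit 15126895874048) .leaf) (nat_lit 15126895925376) (.node (.node .leaf (nat_lit 15126896109568) .leaf) (nat_lit 15126896287872) .leaf)) (nat_lit 15126899982337) (.node (.node (.node .leaf (nat_lit 15126900197377) .leaf) (nat_lit 15126900357121) .leaf) (nat_lit 15126900436993) (.node (.node .leaf (nat_lit 15133317384322) .leaf) (nat_lit 15133317431298) .leaf))) (nat_lit 15133317558274)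 (.node (.node (.node (.node .leaf (nat_lit 15133317740674) .leaf) (nat_lit 15133329850371) .leaf) (nat_lit 15133330065411) (.node (.node .leaf (nat_lit 15133330225283) .leaf) (nat_lit 15133330305155) .leaf)) (nat_lit 15133338253443) (.node (.node (.node .leaf (nat_lit 15133338464387) .leaf) (nat_lit 15133338599555) .leaf) (nat_lit 15133338683523) (.node (.node .leaf (nat_lit 15133342562306) .leaf) (nat_lit 15133342609538) .leaf))))) (nat_lit 15133342711810) (.node (.node (.node (.node (.node (.node .leaf (nat_lit 15133342894210) .leaf) (nat_lit 15264318052352) (.node .leaf (nat_lit 15264318101632) .leaf)) (nat_lit 15264318288000) (.node (.node .leaf (nat_lit 15264318468096) .leaf) (nat_lit 15264322158593) .leaf)) (nat_lit 15264322371585) (.node (.node (.node .leaf (nat_lit 15264322529409) .leaf) (nat_lit 15264322611329) .leaf) (nat_lit 15264330547201) (.node (.node .leaf (nat_lit 15264330760193) .leaf) (nat_lit 15264330917889) .leaf))) (nat_lit 15264330999809) (.node (.node (.node (.node .leaf (nat_lit 15264343216128) .leaf) (nat_lit 15264343265408) .leaf) (nat_lit 15264343455744) (.node (.node .leaf (nat_lit 15264343636096)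 .leaf) (nat_lit 15270756235395) .leaf)) (nat_lit 15270756448387) (.node (.node (.node .leaf (nat_lit 15270756585475) .leaf) (nat_lit 15270756667395) .leaf) (nat_lit 15270768930818) (.node (.node .leaf (nat_lit 15270768980098) .leaf) (nat_lit 15270769088642) .leaf)))) (nat_lit 15270769268738) (.node (.node (.node (.node (.node .leaf (nat_lit 15270777307266) .leaf) (nat_lit 15270777356290) .leaf) (nat_lit 15270777481346) (.node (.node .leaf (nat_lit 15270777661442) .leaf) (nat_lit 15270781386755) .leaf)) (nat_lit 15270781599747) (.node (.node (.node .leaf (nat_lit 15270781757443) .leaf) (nat_lit 15270781839363) .leaf) (nat_lit 15393162801154) (.node (.node .leaf (nat_lit 15393162809347) .leaf) (nat_lit 15393163018242) .leaf))) (nat_lit 15393163042947) (.node (.node (.node (.node .leaf (nat_lit 15393163063299) .leaf) (nat_lit 15393163071490) .leaf) (nat_lit 15393163280515) (.node (.node .leaf (nat_lit 15393163304962) .leaf) (nat_lit 15393192148995) .leaf)) (nat_lit 15393192175618) (.node (.node (.node .leaf (nat_lit 15393192390787) .leaf) (nat_lit 15393192400898) .leaf) (nat_lit 15393192413314) (.node (.node .leaf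 (nat_lit 15393192435843) .leaf) (nat_lit 15393192654978) .leaf)))))) (nat_lit 15393192660995) (.node (.node (.node (.node (.node (.node (.node .leaf (nat_lit 15399605252099) .leaf) (nat_lit 15399605293186) (.node .leaf (nat_lit 15399605461122) .leaf)) (nat_lit 15399605469315) (.node (.node .leaf (nat_lit 15399605522563) .leaf) (nat_lit 15399605547010) .leaf)) (nat_lit 15399605698562) (.node (.node (.node .leaf (nat_lit 15399605755907) .leaf) (nat_lit 15399634620547) .leaf) (nat_lit 15399634647042) (.node (.node .leaf (nat_lit 15399634798594) .leaf) (nat_lit 15399634853891) .leaf))) (nat_lit 15399634874499) (.node (.node (.node (.node .leaf (nat_lit 15399634917378) .leaf) (nat_lit 15399635085314) .leaf) (nat_lit 15399635091459) (.node (.node .leaf (nat_lit 15530601754627) .leaf) (nat_lit 15530601762818) .leaf)) (nat_lit 15530601973891) (.node (.node (.node .leaf (nat_lit 15530601998338) .leaf) (nat_lit 15530602012674) .leaf) (nat_lit 15530602020867) (.node (.node .leaf (nat_lit 15530602240002) .leaf) (nat_lit 15530602264707) .leaf)))) (nat_lit 15530631104514) (.node (.node (.node (.node (.node .leaf (nat_lit 15530631127043)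 .leaf) (nat_lit 15530631344130) .leaf) (nat_lit 15530631354499) (.node (.node .leaf (nat_lit 15530631368835) .leaf) (nat_lit 15530631395458) .leaf)) (nat_lit 15530631604227) (.node (.node (.node .leaf (nat_lit 15530631610498) .leaf) (nat_lit 15537048412291) .leaf) (nat_lit 15537048420354) (.node (.node .leaf (nat_lit 15537048598530) .leaf) (nat_lit 15537048639491) .leaf))) (nat_lit 15537048653827) (.node (.node (.node (.node .leaf (nat_lit 15537048711298) .leaf) (nat_lit 15537048864898) .leaf) (nat_lit 15537048889475) (.node (.node .leaf (nat_lit 15537069359107) .leaf) (nat_lit 15537069418626) .leaf)) (nat_lit 15537069576322) (.node (.node (.node .leaf (nat_lit 15537069602947) .leaf) (nat_lit 15537069649923) .leaf) (nat_lit 15537069660290) (.node (.node .leaf (nat_lit 15537069826178) .leaf) (nat_lit 15537069869187) .leaf))))) (nat_lit 16228533927937) (.node (.node (.node (.node (.node (.node .leaf (nat_lit 16228534157313) .leaf) (nat_lit 16228534245377) .leaf) (nat_lit 16228534409217) (.node (.node .leaf (nat_lit 16228538218624) .leaf) (nat_lit 16228538316800) .leaf)) (nat_lit 16228538491008) (.node (.node (.node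 .leaf (nat_lit 16228538523648) .leaf) (nat_lit 16228559188096) .leaf) (nat_lit 16228559286272) (.node (.node .leaf (nat_lit 16228559464448) .leaf) (nat_lit 16228559497344) .leaf))) (nat_lit 16228563288065) (.node (.node (.node (.node .leaf (nat_lit 16228563517441) .leaf) (nat_lit 16228563605633) .leaf) (nat_lit 16228563769473) (.node (.node .leaf (nat_lit 16230681411585) .leaf) (nat_lit 16230681640961) .leaf)) (nat_lit 16230681729153) (.node (.node (.node .leaf (nat_lit 16230681892993) .leaf) (nat_lit 16230685734912) .leaf) (nat_lit 16230685767808) (.node (.node .leaf (nat_lit 16230685941888) .leaf) (nat_lit 16230686040064) .leaf)))) (nat_lit 16230706692224) (.node (.node (.node (.node (.node .leaf (nat_lit 16230706724864) .leaf) (nat_lit 16230706911360) .leaf) (nat_lit 16230707009536) (.node (.node .leaf (nat_lit 16230710784129) .leaf) (nat_lit 16230711013505) .leaf)) (nat_lit 16230711093377) (.node (.node (.node .leaf (nat_lit 16230711257217) .leaf) (nat_lit 16365981282433) .leaf) (nat_lit 16365981513857) (.node (.node .leaf (nat_lit 16365981595777) .leaf) (nat_lit 16365981757569) .leaf))) (nat_lit 16365985548288)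 (.node (.node (.node (.node .leaf (nat_lit 16365985644672) .leaf) (nat_lit 16365985824768) .leaf) (nat_lit 16365985859712) (.node (.node .leaf (nat_lit 16365989740544) .leaf) (nat_lit 16365989841024) .leaf)) (nat_lit 16365990021248) (.node (.node (.node .leaf (nat_lit 16365990051840) .leaf) (nat_lit 16365993865345) .leaf) (nat_lit 16365994096769) (.node (.node .leaf (nat_lit 16365994178561) .leaf) (nat_lit 16365994340353) .leaf))))))))
def t1_8 : BT := (.node (.node (.node (.node (.node (.node (.node (.node (.node .leaf (nat_lit 16368128913536) .leaf) (nat_lit 16368129093760) (.node .leaf (nat_lit 16368129193984) .leaf)) (nat_lit 16368132947969) (.node (.node .leaf (nat_lit 16368133179393) .leaf) (nat_lit 16368133261441) .leaf)) (nat_lit 16368133423233) (.node (.node (.node .leaf (nat_lit 16368137154689) .leaf) (nat_lit 16368137386113) .leaf) (nat_lit 16368137468033) (.node (.node .leaf (nat_lit 16368137629825) .leaf) (nat_lit 16368141451392) .leaf))) (nat_lit 16368141486080) (.node (.node (.node (.node .leaf (nat_lit 16368141666432) .leaf) (nat_lit 16368141762560) .leaf) (nat_lit 16767552344066) (.node (.node .leaf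 (nat_lit 16767552567298) .leaf) (nat_lit 16767552677890) .leaf)) (nat_lit 16767552749570) (.node (.node (.node .leaf (nat_lit 16767560726531) .leaf) (nat_lit 16767560962179) .leaf) (nat_lit 16767561039875) (.node (.node .leaf (nat_lit 16767561164931) .leaf) (nat_lit 16767573321731) .leaf)))) (nat_lit 16767573524611) (.node (.node (.node (.node (.node .leaf (nat_lit 16767573643395) .leaf) (nat_lit 16767573735427) .leaf) (nat_lit 16767581685762) (.node (.node .leaf (nat_lit 16767581937666) .leaf) (nat_lit 16767582023810) .leaf)) (nat_lit 16767582132354) (.node (.node (.node .leaf (nat_lit 16773994774529) .leaf) (nat_lit 16773995030657) .leaf) (nat_lit 16773995116545) (.node (.node .leaf (nat_lit 16773995221121) .leaf) (nat_lit 16774003226752) .leaf))) (nat_lit 16774003363968) (.node (.node (.node (.node .leaf (nat_lit 16774003540096) .leaf) (nat_lit 16774003566720) .leaf) (nat_lit 16774015784960) (.node (.node .leaf (nat_lit 16774015971328) .leaf) (nat_lit 16774016114816) .leaf)) (nat_lit 16774016157824) (.node (.node (.node .leaf (nat_lit 16774024161409) .leaf) (nat_lit 16774024364033) .leaf) (nat_lit 16774024482817)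 (.node (.node .leaf (nat_lit 16774024575105) .leaf) (nat_lit 16904991291394) .leaf))))) (nat_lit 16904991528962) (.node (.node (.node (.node (.node (.node .leaf (nat_lit 16904991608834) .leaf) (nat_lit 16904991731714) (.node .leaf (nat_lit 16904999686147) .leaf)) (nat_lit 16904999907459) (.node (.node .leaf (nat_lit 16905000024067) .leaf) (nat_lit 16905000097923) .leaf)) (nat_lit 16905012248579) (.node (.node (.node .leaf (nat_lit 16905012502659) .leaf) (nat_lit 16905012586627) .leaf) (nat_lit 16905012692995) (.node (.node .leaf (nat_lit 16905020661762) .leaf) (nat_lit 16905020866562) .leaf))) (nat_lit 16905020983426) (.node (.node (.node (.node .leaf (nat_lit 16905021073538) .leaf) (nat_lit 16911437942913) .leaf) (nat_lit 16911438163969) (.node (.node .leaf (nat_lit 16911438280833) .leaf) (nat_lit 16911438354433) .leaf)) (nat_lit 16911446353920) (.node (.node (.node .leaf (nat_lit 16911446525952) .leaf) (nat_lit 16911446671360) .leaf) (nat_lit 16911446728704) (.node (.node .leaf (nat_lit 16911450556544) .leaf) (nat_lit 16911450712192) .leaf)))) (nat_lit 16911450890240) (.node (.node (.node (.node (.node .leaf (nat_lit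 16911450898432) .leaf) (nat_lit 16911458908161) .leaf) (nat_lit 16911459145857) (.node (.node .leaf (nat_lit 16911459225729) .leaf) (nat_lit 16911459348481) .leaf)) (nat_lit 17053167648769) (.node (.node (.node .leaf (nat_lit 17053167900673) .leaf) (nat_lit 17053168009217) .leaf) (nat_lit 17053168064513) (.node (.node .leaf (nat_lit 17053180326016) .leaf) (nat_lit 17053180405760) .leaf))) (nat_lit 17053180555392) (.node (.node (.node (.node .leaf (nat_lit 17053180700672) .leaf) (nat_lit 17053184522368) .leaf) (nat_lit 17053184598016) (.node (.node .leaf (nat_lit 17053184751616) .leaf) (nat_lit 17053184893056) .leaf)) (nat_lit 17053197008897) (.node (.node (.node .leaf (nat_lit 17053197260801) .leaf) (nat_lit 17053197369473) .leaf) (nat_lit 17053197424769) (.node (.node .leaf (nat_lit 17055315253378) .leaf) (nat_lit 17055315263490) .leaf)))))) (nat_lit 17055315417218) (.node (.node (.node (.node (.node (.node (.node .leaf (nat_lit 17055315623938) .leaf) (nat_lit 17055327729795) (.node .leaf (nat_lit 17055327969411) .leaf)) (nat_lit 17055328090243) (.node (.node .leaf (nat_lit 17055328133251) .leaf) (nat_lit 17055331909635)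 .leaf)) (nat_lit 17055332161539) (.node (.node (.node .leaf (nat_lit 17055332270211) .leaf) (nat_lit 17055332325507) .leaf) (nat_lit 17055344617474) (.node (.node .leaf (nat_lit 17055344636034) .leaf) (nat_lit 17055344781442) .leaf))) (nat_lit 17055344996354) (.node (.node (.node (.node .leaf (nat_lit 17190610880512) .leaf) (nat_lit 17190610966656) .leaf) (nat_lit 17190611113984) (.node (.node .leaf (nat_lit 17190611257472) .leaf) (nat_lit 17190615005313) .leaf)) (nat_lit 17190615246977) (.node (.node (.node .leaf (nat_lit 17190615361665) .leaf) (nat_lit 17190615414913) .leaf) (nat_lit 17190627588225) (.node (.node .leaf (nat_lit 17190627829889) .leaf) (nat_lit 17190627944449) .leaf)))) (nat_lit 17190627997697) (.node (.node (.node (.node (.node .leaf (nat_lit 17190631849984) .leaf) (nat_lit 17190631936128) .leaf) (nat_lit 17190632083584) (.node (.node .leaf (nat_lit 17190632226816) .leaf) (nat_lit 17192754100355) .leaf)) (nat_lit 17192754342019) (.node (.node (.node .leaf (nat_lit 17192754456707) .leaf) (nat_lit 17192754509955) .leaf) (nat_lit 17192766789762) (.node (.node .leaf (nat_lit 17192766801922) .leaf)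 (nat_lit 17192766949506) .leaf))) (nat_lit 17192767166466) (.node (.node (.node (.node .leaf (nat_lit 17192770988034) .leaf) (nat_lit 17192771008642) .leaf) (nat_lit 17192771156098) (.node (.node .leaf (nat_lit 17192771364866) .leaf) (nat_lit 17192783446019) .leaf)) (nat_lit 17192783695875) (.node (.node (.node .leaf (nat_lit 17192783810691) .leaf) (nat_lit 17192783855747) .leaf) (nat_lit 17592186175489) (.node (.node .leaf (nat_lit 17592186208257) .leaf) (nat_lit 17592186241026) .leaf))))) (nat_lit 17592186273794) (.node (.node (.node (.node (.node (.node .leaf (nat_lit 17592186437761) .leaf) (nat_lit 17592186470529) .leaf) (nat_lit 17592186503170) (.node (.node .leaf (nat_lit 17592186535938) .leaf) (nat_lit 17594333528065) .leaf)) (nat_lit 17594333560833) (.node (.node (.node .leaf (nat_lit 17594333597698) .leaf) (nat_lit 17594333630466) .leaf) (nat_lit 17594333790337) (.node (.node .leaf (nat_lit 17594333823105) .leaf) (nat_lit 17594333859842) .leaf))) (nat_lit 17594333892610) (.node (.node (.node (.node .leaf (nat_lit 17596481142785) .leaf) (nat_lit 17596481175553) .leaf) (nat_lit 17596481216642) (.node (.node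 .leaf (nat_lit 17596481249410) .leaf) (nat_lit 17596481405057) .leaf)) (nat_lit 17596481437825) (.node (.node (.node .leaf (nat_lit 17596481478786) .leaf) (nat_lit 17596481511554) .leaf) (nat_lit 17598628495361) (.node (.node .leaf (nat_lit 17598628528129) .leaf) (nat_lit 17598628573314) .leaf)))) (nat_lit 17598628606082) (.node (.node (.node (.node (.node .leaf (nat_lit 17598628757633) .leaf) (nat_lit 17598628790401) .leaf) (nat_lit 17598628835458) (.node (.node .leaf (nat_lit 17598628868226) .leaf) (nat_lit 17600775979009) .leaf)) (nat_lit 17600776060930) (.node (.node (.node .leaf (nat_lit 17600776110081) .leaf) (nat_lit 17600776192002) .leaf) (nat_lit 17600776273921) (.node (.node .leaf (nat_lit 17600776355970) .leaf) (nat_lit 17600776404993) .leaf))) (nat_lit 17600776487042) (.node (.node (.node (.node .leaf (nat_lit 17602923483138) .leaf) (nat_lit 17602923528193) .leaf) (nat_lit 17602923614338) (.node (.node .leaf (nat_lit 17602923659393) .leaf) (nat_lit 17602923778178) .leaf)) (nat_lit 17602923823105) (.node (.node (.node .leaf (nat_lit 17602923909122) .leaf) (nat_lit 17602923954305) .leaf) (nat_lit 17605070946305)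 (.node (.node .leaf (nat_lit 17605071036546) .leaf) (nat_lit 17605071077377) .leaf))))))) (nat_lit 17605071167618) (.node (.node (.node (.node (.node (.node (.node (.node .leaf (nat_lit 17605071241217) .leaf) (nat_lit 17605071331330) (.node .leaf (nat_lit 17605071372289) .leaf)) (nat_lit 17605071462402) (.node (.node .leaf (nat_lit 17607218491522) .leaf) (nat_lit 17607218528257) .leaf)) (nat_lit 17607218622466) (.node (.node (.node .leaf (nat_lit 17607218659457) .leaf) (nat_lit 17607218720770) .leaf) (nat_lit 17607218757633) (.node (.node .leaf (nat_lit 17607218851970) .leaf) (nat_lit 17607218888833) .leaf))) (nat_lit 17867063951361) (.node (.node (.node (.node .leaf (nat_lit 17867064016898) .leaf) (nat_lit 17867064084481) .leaf) (nat_lit 17867064150018) (.node (.node .leaf (nat_lit 17867064250497) .leaf) (nat_lit 17867064315906) .leaf)) (nat_lit 17867064383617) (.node (.node (.node .leaf (nat_lit 17867064449026) .leaf) (nat_lit 17869211435009) .leaf) (nat_lit 17869211504642) (.node (.node .leaf (nat_lit 17869211568257) .leaf) (nat_lit 17869211637890) .leaf)))) (nat_lit 17869211734145) (.node (.node (.node (.node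 (.node .leaf (nat_lit 17869211795458) .leaf) (nat_lit 17869211867137) .leaf) (nat_lit 17869211928706) (.node (.node .leaf (nat_lit 17871363112961) .leaf) (nat_lit 17871363186818) .leaf)) (nat_lit 17871363246081) (.node (.node (.node .leaf (nat_lit 17871363319938) .leaf) (nat_lit 17871363412097) .leaf) (nat_lit 17871363485826) (.node (.node .leaf (nat_lit 17871363545217) .leaf) (nat_lit 17871363618946) .leaf))) (nat_lit 17873510629377) (.node (.node (.node (.node .leaf (nat_lit 17873510707330) .leaf) (nat_lit 17873510762625) .leaf) (nat_lit 17873510840322) (.node (.node .leaf (nat_lit 17873510862977) .leaf) (nat_lit 17873510932610) .leaf)) (nat_lit 17873510995969) (.node (.node (.node .leaf (nat_lit 17873511065602) .leaf) (nat_lit 17875662407681) .leaf) (nat_lit 17875662440577) (.node (.node .leaf (nat_lit 17875662489602) .leaf) (nat_lit 17875662522498) .leaf))))) (nat_lit 17875662674049) (.node (.node (.node (.node (.node (.node .leaf (nat_lit 17875662706689) .leaf) (nat_lit 17875662755842) (.node .leaf (nat_lit 17875662788738) .leaf)) (nat_lit 17877809778690) (.node (.node .leaf (nat_lit 17877809811586) .leaf)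 (nat_lit 17877809823745) .leaf)) (nat_lit 17877809856641) (.node (.node (.node .leaf (nat_lit 17877810036738) .leaf) (nat_lit 17877810069634) .leaf) (nat_lit 17877810090113) (.node (.node .leaf (nat_lit 17877810122753) .leaf) (nat_lit 17879961436161) .leaf))) (nat_lit 17879961469057) (.node (.node (.node (.node .leaf (nat_lit 17879961526402) .leaf) (nat_lit 17879961559042) .leaf) (nat_lit 17879961702529) (.node (.node .leaf (nat_lit 17879961735169) .leaf) (nat_lit 17879961792642) .leaf)) (nat_lit 17879961825282) (.node (.node (.node .leaf (nat_lit 17882109081730) .leaf) (nat_lit 17882109114370) .leaf) (nat_lit 17882109118465) (.node (.node .leaf (nat_lit 17882109151361) .leaf) (nat_lit 17882109339778) .leaf)))) (nat_lit 17882109372418) (.node (.node (.node (.node (.node .leaf (nat_lit 17882109384833) .leaf) (nat_lit 17882109417473) .leaf) (nat_lit 18141941858305) (.node (.node .leaf (nat_lit 18141941891073) .leaf) (nat_lit 18141941925890) .leaf)) (nat_lit 18141941958658) (.node (.node (.node .leaf (nat_lit 18141942128769) .leaf) (nat_lit 18141942161537) .leaf) (nat_lit 18141942196226) (.node (.node .leaf (nat_lit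 18141942228994) .leaf) (nat_lit 18144093667457) .leaf))) (nat_lit 18144093700225) (.node (.node (.node (.node .leaf (nat_lit 18144093739138) .leaf) (nat_lit 18144093771906) .leaf) (nat_lit 18144093937665) (.node (.node .leaf (nat_lit 18144093970433) .leaf) (nat_lit 18144094009474) .leaf)) (nat_lit 18144094042242) (.node (.node (.node .leaf (nat_lit 18146236825601) .leaf) (nat_lit 18146236858369) .leaf) (nat_lit 18146236901506) (.node (.node .leaf (nat_lit 18146236934274) .leaf) (nat_lit 18146237096065) .leaf)))))) (nat_lit 18146237128833) (.node (.node (.node (.node (.node (.node (.node .leaf (nat_lit 18146237155458) .leaf) (nat_lit 18146237188226) (.node .leaf (nat_lit 18148388634753) .leaf)) (nat_lit 18148388667521) (.node (.node .leaf (nat_lit 18148388714498) .leaf) (nat_lit 18148388747266) .leaf)) (nat_lit 18148388904961) (.node (.node (.node .leaf (nat_lit 18148388937729) .leaf) (nat_lit 18148388968450) .leaf) (nat_lit 18148389001218) (.node (.node .leaf (nat_lit 18150548619394) .leaf) (nat_lit 18150548670593) .leaf))) (nat_lit 18150548717570) (.node (.node (.node (.node .leaf (nat_lit 18150548768769) .leaf)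 (nat_lit 18150548856834) .leaf) (nat_lit 18150548908161) (.node (.node .leaf (nat_lit 18150549020802) .leaf) (nat_lit 18150549071873) .leaf)) (nat_lit 18152700248065) (.node (.node (.node .leaf (nat_lit 18152700336130) .leaf) (nat_lit 18152700411905) .leaf) (nat_lit 18152700499970) (.node (.node .leaf (nat_lit 18152700551169) .leaf) (nat_lit 18152700639362) .leaf)))) (nat_lit 18152700649473) (.node (.node (.node (.node (.node .leaf (nat_lit 18152700737666) .leaf) (nat_lit 18154843594882) .leaf) (nat_lit 18154843637761) (.node (.node .leaf (nat_lit 18154843693058) .leaf) (nat_lit 18154843736193) .leaf)) (nat_lit 18154843815938) (.node (.node (.node .leaf (nat_lit 18154843875329) .leaf) (nat_lit 18154843979906) .leaf) (nat_lit 18154844039297) (.node (.node .leaf (nat_lit 18156995248257) .leaf) (nat_lit 18156995344386) .leaf))) (nat_lit 18156995346561) (.node (.node (.node (.node .leaf (nat_lit 18156995442690) .leaf) (nat_lit 18156995485825) .leaf) (nat_lit 18156995565698) (.node (.node .leaf (nat_lit 18156995649665) .leaf) (nat_lit 18156995729538) .leaf)) (nat_lit 18416819798018) (.node (.node (.node .leaf (nat_lit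 18416819865601) .leaf) (nat_lit 18416819898370) .leaf) (nat_lit 18416819961857) (.node (.node .leaf (nat_lit 18416820039682) .leaf) (nat_lit 18416820107393) .leaf))))) (nat_lit 18416820205570) (.node (.node (.node (.node (.node (.node .leaf (nat_lit 18416820269185) .leaf) (nat_lit 18418971447298) .leaf) (nat_lit 18418971510785) (.node (.node .leaf (nat_lit 18418971613314) .leaf) (nat_lit 18418971672705) .leaf)) (nat_lit 18418971746306) (.node (.node (.node .leaf (nat_lit 18418971818113) .leaf) (nat_lit 18418971846786) .leaf) (nat_lit 18418971914241) (.node (.node .leaf (nat_lit 18421118935042) .leaf) (nat_lit 18421118994561) .leaf))) (nat_lit 18421119100930) (.node (.node (.node (.node .leaf (nat_lit 18421119156353) .leaf) (nat_lit 18421119225858) .leaf) (nat_lit 18421119301633) (.node (.node .leaf (nat_lit 18421119326210) .leaf) (nat_lit 18421119397889) .leaf)) (nat_lit 18423262228482) (.node (.node (.node .leaf (nat_lit 18423262283905) .leaf) (nat_lit 18423262394498) .leaf) (nat_lit 18423262445569) (.node (.node .leaf (nat_lit 18423262511106) .leaf) (nat_lit 18423262590977) .leaf)))) (nat_lit 18423262611586) (.node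 (.node (.node (.node (.node .leaf (nat_lit 18423262687361) .leaf) (nat_lit 18425434865665) .leaf) (nat_lit 18425434898561) (.node (.node .leaf (nat_lit 18425434949634) .leaf) (nat_lit 18425434982530) .leaf)) (nat_lit 18425435140225) (.node (.node (.node .leaf (nat_lit 18425435172865) .leaf) (nat_lit 18425435224066) .leaf) (nat_lit 18425435256962) (.node (.node .leaf (nat_lit 18427586697346) .leaf) (nat_lit 18427586729986) .leaf))) (nat_lit 18427586740353) (.node (.node (.node (.node .leaf (nat_lit 18427586772993) .leaf) (nat_lit 18427586963586) .leaf) (nat_lit 18427586996226) (.node (.node .leaf (nat_lit 18427587014657) .leaf) (nat_lit 18427587047553) .leaf)) (nat_lit 18429734160385) (.node (.node (.node .leaf (nat_lit 18429734193281) .leaf) (nat_lit 18429734248578) .leaf) (nat_lit 18429734281218) (.node (.node .leaf (nat_lit 18429734434945) .leaf) (nat_lit 18429734467585) .leaf))))))))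
def t1_9 : BT := (.node (.node (.node (.node (.node (.node (.node (.node (.node .leaf (nat_lit 18429734539266) .leaf) (nat_lit 18431877345282) (.node .leaf (nat_lit 18431877378178) .leaf)) (nat_lit 18431877384321) (.node (.node .leaf (nat_lit 18431877416961) .leaf) (nat_lit 18431877595138) .leaf)) (nat_lit 18431877628034) (.node (.node (.node .leaf (nat_lit 18431877658625) .leaf) (nat_lit 18431877691521) .leaf) (nat_lit 18700287606785) (.node (.node .leaf (nat_lit 18700287688706) .leaf) (nat_lit 18700287789186) .leaf))) (nat_lit 18700287838337) (.node (.node (.node (.node .leaf (nat_lit 18700287920129) .leaf) (nat_lit 18700287969410) .leaf) (nat_lit 18700288000002) (.node (.node .leaf (nat_lit 18700288082049) .leaf) (nat_lit 18702443513985) .leaf)) (nat_lit 18702443600002) (.node (.node (.node .leaf (nat_lit 18702443630722) .leaf) (nat_lit 18702443675777) .leaf) (nat_lit 18702443757697) (.node (.node .leaf (nat_lit 18702443810818) .leaf) (nat_lit 18702443911170) .leaf)))) (nat_lit 18702443989121) (.node (.node (.node (.node (.node .leaf (nat_lit 18704599386241) .leaf) (nat_lit 18704599476226) .leaf) (nat_lit 18704599506946)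 (.node (.node .leaf (nat_lit 18704599548033) .leaf) (nat_lit 18704599629953) .leaf)) (nat_lit 18704599687298) (.node (.node (.node .leaf (nat_lit 18704599787650) .leaf) (nat_lit 18704599861377) .leaf) (nat_lit 18706755258497) (.node (.node .leaf (nat_lit 18706755352578) .leaf) (nat_lit 18706755383426) .leaf))) (nat_lit 18706755420161) (.node (.node (.node (.node .leaf (nat_lit 18706755502209) .leaf) (nat_lit 18706755563650) .leaf) (nat_lit 18706755663874) (.node (.node .leaf (nat_lit 18706755733505) .leaf) (nat_lit 18966575579137) .leaf)) (nat_lit 18966575644674) (.node (.node (.node .leaf (nat_lit 18966575742978) .leaf) (nat_lit 18966575808513) .leaf) (nat_lit 18966575896705) (.node (.node .leaf (nat_lit 18966575962114) .leaf) (nat_lit 18966575994882) .leaf))))) (nat_lit 18966576060545) (.node (.node (.node (.node (.node (.node .leaf (nat_lit 18968731490306) .leaf) (nat_lit 18968731551745) (.node .leaf (nat_lit 18968731584641) .leaf)) (nat_lit 18968731654274) (.node (.node .leaf (nat_lit 18968731729922) .leaf) (nat_lit 18968731799681) .leaf)) (nat_lit 18968731897857) (.node (.node (.node .leaf (nat_lit 18968731959426)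 .leaf) (nat_lit 18970891526146) .leaf) (nat_lit 18970891583617) (.node (.node .leaf (nat_lit 18970891681793) .leaf) (nat_lit 18970891755650) .leaf))) (nat_lit 18970891843586) (.node (.node (.node (.node .leaf (nat_lit 18970891900929) .leaf) (nat_lit 18970891933825) .leaf) (nat_lit 18970892007554) (.node (.node .leaf (nat_lit 18973047390209) .leaf) (nat_lit 18973047468162) .leaf)) (nat_lit 18973047566466) (.node (.node (.node .leaf (nat_lit 18973047619585) .leaf) (nat_lit 18973047707777) .leaf) (nat_lit 18973047777410) (.node (.node .leaf (nat_lit 18973047810178) .leaf) (nat_lit 18973047871617) .leaf)))) (nat_lit 19241453486081) (.node (.node (.node (.node (.node .leaf (nat_lit 19241453553666) .leaf) (nat_lit 19241453617154) .leaf) (nat_lit 19241453684737) (.node (.node .leaf (nat_lit 19241453807745) .leaf) (nat_lit 19241453871106) .leaf)) (nat_lit 19241453938690) (.node (.node (.node .leaf (nat_lit 19241454002305) .leaf) (nat_lit 19243613556738) .leaf) (nat_lit 19243613620225) (.node (.node .leaf (nat_lit 19243613683841) .leaf) (nat_lit 19243613755522) .leaf))) (nat_lit 19243613878274) (.node (.node (.node (.node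 .leaf (nat_lit 19243613937793) .leaf) (nat_lit 19243614005249) .leaf) (nat_lit 19243614072962) (.node (.node .leaf (nat_lit 19245765273602) .leaf) (nat_lit 19245765329025) .leaf)) (nat_lit 19245765396481) (.node (.node (.node .leaf (nat_lit 19245765468290) .leaf) (nat_lit 19245765509122) .leaf) (nat_lit 19245765584897) (.node (.node .leaf (nat_lit 19245765648513) .leaf) (nat_lit 19245765707906) .leaf)))))) (nat_lit 19247925297153) (.node (.node (.node (.node (.node (.node (.node .leaf (nat_lit 19247925377154) .leaf) (nat_lit 19247925440642) (.node .leaf (nat_lit 19247925495809) .leaf)) (nat_lit 19247925618817) (.node (.node .leaf (nat_lit 19247925678210) .leaf) (nat_lit 19247925745794) .leaf)) (nat_lit 19247925813377) (.node (.node (.node .leaf (nat_lit 19524946493441) .leaf) (nat_lit 19524946577410) .leaf) (nat_lit 19524946642946) (.node (.node .leaf (nat_lit 19524946690049) .leaf) (nat_lit 19524946819073) .leaf))) (nat_lit 19524946866306) (.node (.node (.node (.node .leaf (nat_lit 19524946931842) .leaf) (nat_lit 19524947015681) .leaf) (nat_lit 19527089782785) (.node (.node .leaf (nat_lit 19527089870850) .leaf)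 (nat_lit 19527089936514) .leaf)) (nat_lit 19527089979521) (.node (.node (.node .leaf (nat_lit 19527090108417) .leaf) (nat_lit 19527090151554) .leaf) (nat_lit 19527090216962) (.node (.node .leaf (nat_lit 19527090305153) .leaf) (nat_lit 19529228912769) .leaf)))) (nat_lit 19529229000706) (.node (.node (.node (.node (.node .leaf (nat_lit 19529229066370) .leaf) (nat_lit 19529229109249) .leaf) (nat_lit 19529229168769) (.node (.node .leaf (nat_lit 19529229211778) .leaf) (nat_lit 19529229277186) .leaf)) (nat_lit 19529229365249) (.node (.node (.node .leaf (nat_lit 19531363778561) .leaf) (nat_lit 19531363874946) .leaf) (nat_lit 19531363940482) (.node (.node .leaf (nat_lit 19531363975169) .leaf) (nat_lit 19531364104193) .leaf))) (nat_lit 19531364139010) (.node (.node (.node (.node .leaf (nat_lit 19531364204546) .leaf) (nat_lit 19531364300801) .leaf) (nat_lit 19791209369602) (.node (.node .leaf (nat_lit 19791209402370) .leaf) (nat_lit 19791209631746) .leaf)) (nat_lit 19791209664514) (.node (.node (.node .leaf (nat_lit 19791213494273) .leaf) (nat_lit 19791213527041) .leaf) (nat_lit 19791213756545) (.node (.node .leaf (nat_lit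 19791213789313) .leaf) (nat_lit 19793356988546) .leaf))))) (nat_lit 19793357021314) (.node (.node (.node (.node (.node (.node .leaf (nat_lit 19793357250690) .leaf) (nat_lit 19793357283458) .leaf) (nat_lit 19793361117313) (.node (.node .leaf (nat_lit 19793361150081) .leaf) (nat_lit 19793361379329) .leaf)) (nat_lit 19793361412097) (.node (.node (.node .leaf (nat_lit 19795504345218) .leaf) (nat_lit 19795504377986) .leaf) (nat_lit 19795504607362) (.node (.node .leaf (nat_lit 19795504640130) .leaf) (nat_lit 19795508461569) .leaf))) (nat_lit 19795508494337) (.node (.node (.node (.node .leaf (nat_lit 19795508723841) .leaf) (nat_lit 19795508756609) .leaf) (nat_lit 19797651947522) (.node (.node .leaf (nat_lit 19797651980290) .leaf) (nat_lit 19797652209666) .leaf)) (nat_lit 19797652242434) (.node (.node (.node .leaf (nat_lit 19797656084609) .leaf) (nat_lit 19797656117377) .leaf) (nat_lit 19797656346625) (.node (.node .leaf (nat_lit 19797656379393) .leaf) (nat_lit 19799799304195) .leaf)))) (nat_lit 19799799476355) (.node (.node (.node (.node (.node .leaf (nat_lit 19799799566339) .leaf) (nat_lit 19799799738499) .leaf) (nat_lit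 19799803447296) (.node (.node .leaf (nat_lit 19799803619456) .leaf) (nat_lit 19799803709568) .leaf)) (nat_lit 19799803881472) (.node (.node (.node .leaf (nat_lit 19801946751107) .leaf) (nat_lit 19801946857603) .leaf) (nat_lit 19801947013251) (.node (.node .leaf (nat_lit 19801947119747) .leaf) (nat_lit 19801951029376) .leaf))) (nat_lit 19801951135872) (.node (.node (.node (.node .leaf (nat_lit 19801951291392) .leaf) (nat_lit 19801951397888) .leaf) (nat_lit 19804094304259) (.node (.node .leaf (nat_lit 19804094410883) .leaf) (nat_lit 19804094566403) .leaf)) (nat_lit 19804094673027) (.node (.node (.node .leaf (nat_lit 19804098455680) .leaf) (nat_lit 19804098545664) .leaf) (nat_lit 19804098717696) (.node (.node .leaf (nat_lit 19804098807936) .leaf) (nat_lit 19806241718403) .leaf))))))) (nat_lit 19806241824899) (.node (.node (.node (.node (.node (.node (.node (.node .leaf (nat_lit 19806241980547) .leaf) (nat_lit 19806242087043) (.node .leaf (nat_lit 19806246004736) .leaf)) (nat_lit 19806246094848) (.node (.node .leaf (nat_lit 19806246267008) .leaf) (nat_lit 19806246357120) .leaf)) (nat_lit 20066087276546) (.node (.node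 (.node .leaf (nat_lit 20066087450626) .leaf) (nat_lit 20066087534594) .leaf) (nat_lit 20066087708674) (.node (.node .leaf (nat_lit 20066091401217) .leaf) (nat_lit 20066091575297) .leaf))) (nat_lit 20066091667585) (.node (.node (.node (.node .leaf (nat_lit 20066091841665) .leaf) (nat_lit 20068234788866) .leaf) (nat_lit 20068234897538) (.node (.node .leaf (nat_lit 20068235055106) .leaf) (nat_lit 20068235163778) .leaf)) (nat_lit 20068238917633) (.node (.node (.node .leaf (nat_lit 20068239026305) .leaf) (nat_lit 20068239184001) .leaf) (nat_lit 20068239292417) (.node (.node .leaf (nat_lit 20070382174209) .leaf) (nat_lit 20070382348289) .leaf)))) (nat_lit 20070382440577) (.node (.node (.node (.node (.node .leaf (nat_lit 20070382614657) .leaf) (nat_lit 20070386446466) .leaf) (nat_lit 20070386604162) (.node (.node .leaf (nat_lit 20070386704514) .leaf) (nat_lit 20070386862210) .leaf)) (nat_lit 20072529657857) (.node (.node (.node .leaf (nat_lit 20072529832065) .leaf) (nat_lit 20072529924225) .leaf) (nat_lit 20072530098177) (.node (.node .leaf (nat_lit 20072533926018) .leaf) (nat_lit 20072534083586) .leaf))) (nat_lit 20072534192258)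 (.node (.node (.node (.node .leaf (nat_lit 20072534349826) .leaf) (nat_lit 20074685599747) .leaf) (nat_lit 20074685632643) (.node (.node .leaf (nat_lit 20074685857795) .leaf) (nat_lit 20074685890691) .leaf)) (nat_lit 20074689742848) (.node (.node (.node .leaf (nat_lit 20074689775744) .leaf) (nat_lit 20074690009216) .leaf) (nat_lit 20074690041856) (.node (.node .leaf (nat_lit 20076833155203) .leaf) (nat_lit 20076833187843) .leaf))))) (nat_lit 20076833421443) (.node (.node (.node (.node (.node (.node .leaf (nat_lit 20076833454083) .leaf) (nat_lit 20076837429376) (.node .leaf (nat_lit 20076837462016) .leaf)) (nat_lit 20076837695488) (.node (.node .leaf (nat_lit 20076837728384) .leaf) (nat_lit 20078980644864) .leaf)) (nat_lit 20078980677760) (.node (.node (.node .leaf (nat_lit 20078980911232) .leaf) (nat_lit 20078980943872) .leaf) (nat_lit 20078984902787) (.node (.node .leaf (nat_lit 20078984935427) .leaf) (nat_lit 20078985160835) .leaf))) (nat_lit 20078985193475) (.node (.node (.node (.node .leaf (nat_lit 20081128073344) .leaf) (nat_lit 20081128105984) .leaf) (nat_lit 20081128339456) (.node (.node .leaf (nat_lit 20081128372352)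 .leaf) (nat_lit 20081132175363) .leaf)) (nat_lit 20081132208259) (.node (.node (.node .leaf (nat_lit 20081132441603) .leaf) (nat_lit 20081132474499) .leaf) (nat_lit 20340965185538) (.node (.node .leaf (nat_lit 20340965218306) .leaf) (nat_lit 20340965455874) .leaf)))) (nat_lit 20340965488642) (.node (.node (.node (.node (.node .leaf (nat_lit 20340969308161) .leaf) (nat_lit 20340969340929) .leaf) (nat_lit 20340969578625) (.node (.node .leaf (nat_lit 20340969611393) .leaf) (nat_lit 20343112736897) .leaf)) (nat_lit 20343112769665) (.node (.node (.node .leaf (nat_lit 20343112990721) .leaf) (nat_lit 20343113023489) .leaf) (nat_lit 20343116998786) (.node (.node .leaf (nat_lit 20343117031554) .leaf) (nat_lit 20343117252738) .leaf))) (nat_lit 20343117285506) (.node (.node (.node (.node .leaf (nat_lit 20345260161154) .leaf) (nat_lit 20345260193922) .leaf) (nat_lit 20345260415106) (.node (.node .leaf (nat_lit 20345260447874) .leaf) (nat_lit 20345264275457) .leaf)) (nat_lit 20345264308225) (.node (.node (.node .leaf (nat_lit 20345264545921) .leaf) (nat_lit 20345264578689) .leaf) (nat_lit 20347407704193) (.node (.node .leaf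 (nat_lit 20347407736961) .leaf) (nat_lit 20347407958017) .leaf)))))) (nat_lit 20347407990785) (.node (.node (.node (.node (.node (.node (.node .leaf (nat_lit 20347411957762) .leaf) (nat_lit 20347411990530) (.node .leaf (nat_lit 20347412228098) .leaf)) (nat_lit 20347412260866) (.node (.node .leaf (nat_lit 20349571858563) .leaf) (nat_lit 20349571997827) .leaf)) (nat_lit 20349572128899) (.node (.node (.node .leaf (nat_lit 20349572251779) .leaf) (nat_lit 20349576138880) .leaf) (nat_lit 20349576278144) (.node (.node .leaf (nat_lit 20349576409088) .leaf) (nat_lit 20349576531968) .leaf))) (nat_lit 20351719364736) (.node (.node (.node (.node .leaf (nat_lit 20351719503872) .leaf) (nat_lit 20351719634944) .leaf) (nat_lit 20351719757952) (.node (.node .leaf (nat_lit 20351723608195) .leaf) (nat_lit 20351723747331) .leaf)) (nat_lit 20351723878531) (.node (.node (.node .leaf (nat_lit 20351724001283) .leaf) (nat_lit 20353866792963) .leaf) (nat_lit 20353866932227) (.node (.node .leaf (nat_lit 20353867063299) .leaf) (nat_lit 20353867186179) .leaf)))) (nat_lit 20353871081600) (.node (.node (.node (.node (.node .leaf (nat_lit 20353871204480)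 .leaf) (nat_lit 20353871335424) .leaf) (nat_lit 20353871474688) (.node (.node .leaf (nat_lit 20356014340224) .leaf) (nat_lit 20356014462976) .leaf)) (nat_lit 20356014594048) (.node (.node (.node .leaf (nat_lit 20356014733440) .leaf) (nat_lit 20356018575363) .leaf) (nat_lit 20356018714755) (.node (.node .leaf (nat_lit 20356018845699) .leaf) (nat_lit 20356018968707) .leaf))) (nat_lit 20615843053570) (.node (.node (.node (.node .leaf (nat_lit 20615843194882) .leaf) (nat_lit 20615843328002) .leaf) (nat_lit 20615843452930) (.node (.node .leaf (nat_lit 20615847319553) .leaf) (nat_lit 20615847456769) .leaf)) (nat_lit 20615847585921) (.node (.node (.node .leaf (nat_lit 20615847706753) .leaf) (nat_lit 20617990608897) .leaf) (nat_lit 20617990746241) (.node (.node .leaf (nat_lit 20617990875265) .leaf) (nat_lit 20617990995969) .leaf))))) (nat_lit 20617994735618) (.node (.node (.node (.node (.node (.node .leaf (nat_lit 20617994877058) .leaf) (nat_lit 20617995001858) .leaf) (nat_lit 20617995126914) (.node (.node .leaf (nat_lit 20620138059905) .leaf) (nat_lit 20620138197121) .leaf)) (nat_lit 20620138326017) (.node (.node (.node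 .leaf (nat_lit 20620138446849) .leaf) (nat_lit 20620142190594) .leaf) (nat_lit 20620142315522) (.node (.node .leaf (nat_lit 20620142448642) .leaf) (nat_lit 20620142589954) .leaf))) (nat_lit 20622285516802) (.node (.node (.node (.node .leaf (nat_lit 20622285641858) .leaf) (nat_lit 20622285766658) .leaf) (nat_lit 20622285908098) (.node (.node .leaf (nat_lit 20622289770625) .leaf) (nat_lit 20622289907713) .leaf)) (nat_lit 20622290036737) (.node (.node (.node .leaf (nat_lit 20622290157697) .leaf) (nat_lit 20624458192899) .leaf) (nat_lit 20624458225795) (.node (.node .leaf (nat_lit 20624458459139) .leaf) (nat_lit 20624458492035) .leaf)))) (nat_lit 20624462333952) (.node (.node (.node (.node (.node .leaf (nat_lit 20624462366848) .leaf) (nat_lit 20624462608512) .leaf) (nat_lit 20624462641152) (.node (.node .leaf (nat_lit 20626605828224) .leaf) (nat_lit 20626605860864) .leaf)) (nat_lit 20626606086144) (.node (.node (.node .leaf (nat_lit 20626606119040) .leaf) (nat_lit 20626609940611) .leaf) (nat_lit 20626609973251) (.node (.node .leaf (nat_lit 20626610198659) .leaf) (nat_lit 20626610231299) .leaf))) (nat_lit 20628753235968)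 (.node (.node (.node (.node .leaf (nat_lit 20628753268864) .leaf) (nat_lit 20628753510528) .leaf) (nat_lit 20628753543168) (.node (.node .leaf (nat_lit 20628757491843) .leaf) (nat_lit 20628757524483) .leaf)) (nat_lit 20628757741699) (.node (.node (.node .leaf (nat_lit 20628757774339) .leaf) (nat_lit 20630900572163) .leaf) (nat_lit 20630900605059) (.node (.node .leaf (nat_lit 20630900846595) .leaf) (nat_lit 20630900879491) .leaf))))))))
def t1_10 : BT := (.node (.node (.node (.node (.node (.node (.node (.node (.node .leaf (nat_lit 20630904889344) .leaf) (nat_lit 20630905114624) (.node .leaf (nat_lit 20630905147520) .leaf)) (nat_lit 21028159985666) (.node (.node .leaf (nat_lit 21028160055298) .leaf) (nat_lit 21028160264194) .leaf)) (nat_lit 21028160333826) (.node (.node (.node .leaf (nat_lit 21028164110337) .leaf) (nat_lit 21028164319233) .leaf) (nat_lit 21028164388993) (.node (.node .leaf (nat_lit 21028164597889) .leaf) (nat_lit 21030315792386) .leaf))) (nat_lit 21030315993218) (.node (.node (.node (.node .leaf (nat_lit 21030316070914) .leaf) (nat_lit 21030316271746) .leaf) (nat_lit 21030320052225) (.node (.node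 .leaf (nat_lit 21030320121985) .leaf) (nat_lit 21030320330881) .leaf)) (nat_lit 21030320400385) (.node (.node (.node .leaf (nat_lit 21032471668738) .leaf) (nat_lit 21032471861378) .leaf) (nat_lit 21032471947266) (.node (.node .leaf (nat_lit 21032472139906) .leaf) (nat_lit 21032475924609) .leaf)))) (nat_lit 21032475994113) (.node (.node (.node (.node (.node .leaf (nat_lit 21032476203009) .leaf) (nat_lit 21032476272769) .leaf) (nat_lit 21034627571842) (.node (.node .leaf (nat_lit 21034627633282) .leaf) (nat_lit 21034627850370) .leaf)) (nat_lit 21034627911810) (.node (.node (.node .leaf (nat_lit 21034631692289) .leaf) (nat_lit 21034631901185) .leaf) (nat_lit 21034631970945) (.node (.node .leaf (nat_lit 21034632179841) .leaf) (nat_lit 21311636215939) .leaf))) (nat_lit 21311636283523) (.node (.node (.node (.node .leaf (nat_lit 21311636490371) .leaf) (nat_lit 21311636566147) .leaf) (nat_lit 21311640354944) (.node (.node .leaf (nat_lit 21311640565888) .leaf) (nat_lit 21311640604672) .leaf)) (nat_lit 21311640807424) (.node (.node (.node .leaf (nat_lit 21313775310979) .leaf) (nat_lit 21313775378435) .leaf) (nat_lit 21313775585411)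 (.node (.node .leaf (nat_lit 21313775661059) .leaf) (nat_lit 21313779454080) .leaf))))) (nat_lit 21313779656704) (.node (.node (.node (.node (.node (.node .leaf (nat_lit 21313779695616) .leaf) (nat_lit 21313779906688) (.node .leaf (nat_lit 21315947913344) .leaf)) (nat_lit 21315948107776) (.node (.node .leaf (nat_lit 21315948163072) .leaf) (nat_lit 21315948349568) .leaf)) (nat_lit 21315952154627) (.node (.node (.node .leaf (nat_lit 21315952222339) .leaf) (nat_lit 21315952429059) .leaf) (nat_lit 21315952504963) (.node (.node .leaf (nat_lit 21318086981632) .leaf) (nat_lit 21318087163904) .leaf))) (nat_lit 21318087223424) (.node (.node (.node (.node .leaf (nat_lit 21318087413888) .leaf) (nat_lit 21318091214979) .leaf) (nat_lit 21318091286659) (.node (.node .leaf (nat_lit 21318091489411) .leaf) (nat_lit 21318091569283) .leaf)) (nat_lit 21586522478595) (.node (.node (.node .leaf (nat_lit 21586522581123) .leaf) (nat_lit 21586522765315) .leaf) (nat_lit 21586522851459) (.node (.node .leaf (nat_lit 21586526619648) .leaf) (nat_lit 21586526861440) .leaf)))) (nat_lit 21586526873728) (.node (.node (.node (.node (.node .leaf (nat_lit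 21586527098880) .leaf) (nat_lit 21588678332544) .leaf) (nat_lit 21588678500480) (.node (.node .leaf (nat_lit 21588678586368) .leaf) (nat_lit 21588678737920) .leaf)) (nat_lit 21588682576003) (.node (.node (.node .leaf (nat_lit 21588682612867) .leaf) (nat_lit 21588682862723) .leaf) (nat_lit 21588682883203) (.node (.node .leaf (nat_lit 21590800668803) .leaf) (nat_lit 21590800771203) .leaf))) (nat_lit 21590800955523) (.node (.node (.node (.node .leaf (nat_lit 21590801041539) .leaf) (nat_lit 21590804817920) .leaf) (nat_lit 21590805043200) (.node (.node .leaf (nat_lit 21590805055616) .leaf) (nat_lit 21590805297280) .leaf)) (nat_lit 21592956499968) (.node (.node (.node .leaf (nat_lit 21592956717184) .leaf) (nat_lit 21592956737664) .leaf) (nat_lit 21592956971008) (.node (.node .leaf (nat_lit 21592960735363) .leaf) (nat_lit 21592960837635) .leaf)))))) (nat_lit 21592961022083) (.node (.node (.node (.node (.node (.node (.node .leaf (nat_lit 21592961107971) .leaf) (nat_lit 21852793673730) (.node .leaf (nat_lit 21852793774082) .leaf)) (nat_lit 21852793956354) (.node (.node .leaf (nat_lit 21852794048514) .leaf) (nat_lit 21852797796353)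 .leaf)) (nat_lit 21852798040065) (.node (.node (.node .leaf (nat_lit 21852798087297) .leaf) (nat_lit 21852798306433) .leaf) (nat_lit 21854949576705) (.node (.node .leaf (nat_lit 21854949615745) .leaf) (nat_lit 21854949859457) .leaf))) (nat_lit 21854949890049) (.node (.node (.node (.node .leaf (nat_lit 21854953707522) .leaf) (nat_lit 21854953873538) .leaf) (nat_lit 21854953990146) (.node (.node .leaf (nat_lit 21854954147970) .leaf) (nat_lit 21857105449089) .leaf)) (nat_lit 21857105487873) (.node (.node (.node .leaf (nat_lit 21857105731585) .leaf) (nat_lit 21857105762433) .leaf) (nat_lit 21857109583874) (.node (.node .leaf (nat_lit 21857109741698) .leaf) (nat_lit 21857109858306) .leaf)))) (nat_lit 21857110024322) (.node (.node (.node (.node (.node .leaf (nat_lit 21859261325442) .leaf) (nat_lit 21859261356162) .leaf) (nat_lit 21859261599874) (.node (.node .leaf (nat_lit 21859261638786) .leaf) (nat_lit 21859265447937) .leaf)) (nat_lit 21859265622017) (.node (.node (.node .leaf (nat_lit 21859265738881) .leaf) (nat_lit 21859265888385) .leaf) (nat_lit 21998822572034) (.node (.node .leaf (nat_lit 21998822658178) .leaf)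 (nat_lit 21998822805634) .leaf))) (nat_lit 21998822948866) (.node (.node (.node (.node .leaf (nat_lit 21998830878721) .leaf) (nat_lit 21998831128705) .leaf) (nat_lit 21998831243265) (.node (.node .leaf (nat_lit 21998831288449) .leaf) (nat_lit 22000970088578) .leaf)) (nat_lit 22000970109058) (.node (.node (.node .leaf (nat_lit 22000970256386) .leaf) (nat_lit 22000970465282) .leaf) (nat_lit 22000978399361) (.node (.node .leaf (nat_lit 22000978575489) .leaf) (nat_lit 22000978690177) .leaf))))) (nat_lit 22000978808961) (.node (.node (.node (.node (.node (.node .leaf (nat_lit 22003117494403) .leaf) (nat_lit 22003117670531) .leaf) (nat_lit 22003117785219) (.node (.node .leaf (nat_lit 22003117904003) .leaf) (nat_lit 22003125975040) .leaf)) (nat_lit 22003125987328) (.node (.node (.node .leaf (nat_lit 22003126134912) .leaf) (nat_lit 22003126352000) .leaf) (nat_lit 22005264978051) (.node (.node .leaf (nat_lit 22005265154051) .leaf) (nat_lit 22005265268867) .leaf))) (nat_lit 22005265387523) (.node (.node (.node (.node .leaf (nat_lit 22005273454592) .leaf) (nat_lit 22005273475200) .leaf) (nat_lit 22005273622656) (.node (.node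 .leaf (nat_lit 22005273831424) .leaf) (nat_lit 22265110528002) .leaf)) (nat_lit 22265110648834) (.node (.node (.node .leaf (nat_lit 22265110757378) .leaf) (nat_lit 22265110943746) .leaf) (nat_lit 22265118851073) (.node (.node .leaf (nat_lit 22265119102977) .leaf) (nat_lit 22265119211649) .leaf)))) (nat_lit 22265119266945) (.node (.node (.node (.node (.node .leaf (nat_lit 22267257978882) .leaf) (nat_lit 22267258165378) .leaf) (nat_lit 22267258273794) (.node (.node .leaf (nat_lit 22267258394754) .leaf) (nat_lit 22267266437121) .leaf)) (nat_lit 22267266484353) (.node (.node (.node .leaf (nat_lit 22267266601089) .leaf) (nat_lit 22267266844673) .leaf) (nat_lit 22269409689731) (.node (.node .leaf (nat_lit 22269409810435) .leaf) (nat_lit 22269409918979) .leaf))) (nat_lit 22269410105475) (.node (.node (.node (.node .leaf (nat_lit 22269418022912) .leaf) (nat_lit 22269418270848) .leaf) (nat_lit 22269418383360) (.node (.node .leaf (nat_lit 22269418434688) .leaf) (nat_lit 22271557107715) .leaf)) (nat_lit 22271557359619) (.node (.node (.node .leaf (nat_lit 22271557468291) .leaf) (nat_lit 22271557523587) .leaf) (nat_lit 22271565576320)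 (.node (.node .leaf (nat_lit 22271565684864) .leaf) (nat_lit 22271565805696) .leaf))))))) (nat_lit 22271565979776) (.node (.node (.node (.node (.node (.node (.node (.node .leaf (nat_lit 22677427390466) .leaf) (nat_lit 22677427470338) (.node .leaf (nat_lit 22677427630082) .leaf)) (nat_lit 22677427845122) (.node (.node .leaf (nat_lit 22677435711489) .leaf) (nat_lit 22677435926529) .leaf)) (nat_lit 22677436086401) (.node (.node (.node .leaf (nat_lit 22677436166273) .leaf) (nat_lit 22679579004930) .leaf) (nat_lit 22679579220098) (.node (.node .leaf (nat_lit 22679579371522) .leaf) (nat_lit 22679579451522) .leaf))) (nat_lit 22679587457025) (.node (.node (.node (.node .leaf (nat_lit 22679587537025) .leaf) (nat_lit 22679587696769) .leaf) (nat_lit 22679587911681) (.node (.node .leaf (nat_lit 22681722394755) .leaf) (nat_lit 22681722474499) .leaf)) (nat_lit 22681722560515) (.node (.node (.node .leaf (nat_lit 22681722775683) .leaf) (nat_lit 22681730725888) .leaf) (nat_lit 22681730936960) (.node (.node .leaf (nat_lit 22681731006464) .leaf) (nat_lit 22681731090560) .leaf)))) (nat_lit 22683873968131) (.node (.node (.node (.node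 (.node .leaf (nat_lit 22683874183171) .leaf) (nat_lit 22683874343043) .leaf) (nat_lit 22683874422915) (.node (.node .leaf (nat_lit 22683882434688) .leaf) (nat_lit 22683882518656) .leaf)) (nat_lit 22683882653824) (.node (.node (.node .leaf (nat_lit 22683882864768) .leaf) (nat_lit 22960911941633) .leaf) (nat_lit 22960912154625) (.node (.node .leaf (nat_lit 22960912312321) .leaf) (nat_lit 22960912394241) .leaf))) (nat_lit 22960920414210) (.node (.node (.node (.node .leaf (nat_lit 22960920463362) .leaf) (nat_lit 22960920649858) .leaf) (nat_lit 22960920830082) (.node (.node .leaf (nat_lit 22963063619585) .leaf) (nat_lit 22963063832705) .leaf)) (nat_lit 22963063990273) (.node (.node (.node .leaf (nat_lit 22963064072321) .leaf) (nat_lit 22963072096258) .leaf) (nat_lit 22963072145538) (.node (.node .leaf (nat_lit 22963072331906) .leaf) (nat_lit 22963072512002) .leaf))))) (nat_lit 22965211230208) (.node (.node (.node (.node (.node (.node .leaf (nat_lit 22965211279488) .leaf) (nat_lit 22965211388032) (.node .leaf (nat_lit 22965211568128) .leaf)) (nat_lit 22965219528835) (.node (.node .leaf (nat_lit 22965219741699) .leaf)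 (nat_lit 22965219833987) .leaf)) (nat_lit 22965219915779) (.node (.node (.node .leaf (nat_lit 22967354486912) .leaf) (nat_lit 22967354536064) .leaf) (nat_lit 22967354710016) (.node (.node .leaf (nat_lit 22967354890240) .leaf) (nat_lit 22967362781187) .leaf))) (nat_lit 22967362994179) (.node (.node (.node (.node .leaf (nat_lit 22967363151875) .leaf) (nat_lit 22967363233795) .leaf) (nat_lit 23089744396290) (.node (.node .leaf (nat_lit 23089744435202) .leaf) (nat_lit 23089744576514) .leaf)) (nat_lit 23089744615426) (.node (.node (.node .leaf (nat_lit 23089752719361) .leaf) (nat_lit 23089752758273) .leaf) (nat_lit 23089753030785) (.node (.node .leaf (nat_lit 23089753069697) .leaf) (nat_lit 23091891666945) .leaf)))) (nat_lit 23091891705857) (.node (.node (.node (.node (.node .leaf (nat_lit 23091892011137) .leaf) (nat_lit 23091892050049) .leaf) (nat_lit 23091900125186) (.node (.node .leaf (nat_lit 23091900155906) .leaf) (nat_lit 23091900338178) .leaf)) (nat_lit 23091900368898) (.node (.node (.node .leaf (nat_lit 23094056075267) .leaf) (nat_lit 23094056114179) .leaf) (nat_lit 23094056386691) (.node (.node .leaf (nat_lit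 23094056425603) .leaf) (nat_lit 23094064539776) .leaf))) (nat_lit 23094064574592) (.node (.node (.node (.node .leaf (nat_lit 23094064720000) .leaf) (nat_lit 23094064754816) .leaf) (nat_lit 23096203491456) (.node (.node .leaf (nat_lit 23096203518080) .leaf) (nat_lit 23096203704448) .leaf)) (nat_lit 23096203731072) (.node (.node (.node .leaf (nat_lit 23096211800067) .leaf) (nat_lit 23096211838979) .leaf) (nat_lit 23096212144259) (.node (.node .leaf (nat_lit 23096212183171) .leaf) (nat_lit 23098334199810) .leaf)))))) (nat_lit 23098334314498) (.node (.node (.node (.node (.node (.node (.node .leaf (nat_lit 23098334419074) .leaf) (nat_lit 23098334566530) (.node .leaf (nat_lit 23098342506497) .leaf)) (nat_lit 23098342653953) (.node (.node .leaf (nat_lit 23098342889473) .leaf) (nat_lit 23098343004161) .leaf)) (nat_lit 23100481667073) (.node (.node (.node .leaf (nat_lit 23100481814657) .leaf) (nat_lit 23100481918977) .leaf) (nat_lit 23100482033793) (.node (.node .leaf (nat_lit 23100490010626) .leaf) (nat_lit 23100490125442) .leaf))) (nat_lit 23100490352770) (.node (.node (.node (.node .leaf (nat_lit 23100490500098) .leaf)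 (nat_lit 23102645862403) .leaf) (nat_lit 23102646009859) (.node (.node .leaf (nat_lit 23102646245379) .leaf) (nat_lit 23102646360067) .leaf)) (nat_lit 23102654343296) (.node (.node (.node .leaf (nat_lit 23102654457984) .leaf) (nat_lit 23102654558208) .leaf) (nat_lit 23102654705664) (.node (.node .leaf (nat_lit 23104793403520) .leaf) (nat_lit 23104793518080) .leaf)))) (nat_lit 23104793688064) (.node (.node (.node (.node (.node .leaf (nat_lit 23104793835648) .leaf) (nat_lit 23104801839107) .leaf) (nat_lit 23104801986691) (.node (.node .leaf (nat_lit 23104802013187) .leaf) (nat_lit 23104802128003) .leaf)) (nat_lit 23364622155778) (.node (.node (.node .leaf (nat_lit 23364622305282) .leaf) (nat_lit 23364622403586) .leaf) (nat_lit 23364622516226) (.node (.node .leaf (nat_lit 23364630478849) .leaf) (nat_lit 23364630628353) .leaf))) (nat_lit 23364630857857) (.node (.node (.node (.node .leaf (nat_lit 23364630970497) .leaf) (nat_lit 23366769573889) .leaf) (nat_lit 23366769723521) (.node (.node .leaf (nat_lit 23366769952897) .leaf) (nat_lit 23366770065409) .leaf)) (nat_lit 23366778032130) (.node (.node (.node .leaf (nat_lit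 23366778181762) .leaf) (nat_lit 23366778279938) .leaf) (nat_lit 23366778392706) (.node (.node .leaf (nat_lit 23368938029059) .leaf) (nat_lit 23368938178563) .leaf))))) (nat_lit 23368938408067) (.node (.node (.node (.node (.node (.node .leaf (nat_lit 23368938520707) .leaf) (nat_lit 23368946493568) .leaf) (nat_lit 23368946638976) (.node (.node .leaf (nat_lit 23368946737280) .leaf) (nat_lit 23368946854016) .leaf)) (nat_lit 23371085619328) (.node (.node (.node .leaf (nat_lit 23371085768704) .leaf) (nat_lit 23371085801600) .leaf) (nat_lit 23371085914112) (.node (.node .leaf (nat_lit 23371093940227) .leaf) (nat_lit 23371094085763) .leaf))) (nat_lit 23371094249603) (.node (.node (.node (.node .leaf (nat_lit 23371094366211) .leaf) (nat_lit 23373212174337) .leaf) (nat_lit 23373212209281) (.node (.node .leaf (nat_lit 23373212489857) .leaf) (nat_lit 23373212516353) .leaf)) (nat_lit 23373220612098) (.node (.node (.node .leaf (nat_lit 23373220647042) .leaf) (nat_lit 23373220829186) .leaf) (nat_lit 23373220855938) (.node (.node .leaf (nat_lit 23375359528962) .leaf) (nat_lit 23375359559810) .leaf)))) (nat_lit 23375359836162) (.node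 (.node (.node (.node (.node .leaf (nat_lit 23375359875202) .leaf) (nat_lit 23375367962625) .leaf) (nat_lit 23375368001665) (.node (.node .leaf (nat_lit 23375368179841) .leaf) (nat_lit 23375368210433) .leaf)) (nat_lit 23377528055936) (.node (.node (.node .leaf (nat_lit 23377528090624) .leaf) (nat_lit 23377528240256) .leaf) (nat_lit 23377528266752) (.node (.node .leaf (nat_lit 23377536352259) .leaf) (nat_lit 23377536391299) .leaf))) (nat_lit 23377536700547) (.node (.node (.node (.node .leaf (nat_lit 23377536731139) .leaf) (nat_lit 23379675662339) .leaf) (nat_lit 23379675697283) (.node (.node .leaf (nat_lit 23379675846787) .leaf) (nat_lit 23379675873283) .leaf)) (nat_lit 23379683979392) (.node (.node (.node .leaf (nat_lit 23379684009984) .leaf) (nat_lit 23379684319360) .leaf) (nat_lit 23379684358144) (.node (.node .leaf (nat_lit 23776939018242) .leaf) (nat_lit 23776939053058) .leaf))))))))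
def t1_11 : BT := (.node (.node (.node (.node (.node (.node (.node (.node (.node .leaf (nat_lit 23776939276290) .leaf) (nat_lit 23776947339265) (.node .leaf (nat_lit 23776947378177) .leaf)) (nat_lit 23776947693697) (.node (.node .leaf (nat_lit 23776947728513) .leaf) (nat_lit 23779090776193) .leaf)) (nat_lit 23779090815105) (.node (.node (.node .leaf (nat_lit 23779091097601) .leaf) (nat_lit 23779091132417) .leaf) (nat_lit 23779099236482) (.node (.node .leaf (nat_lit 23779099263106) .leaf) (nat_lit 23779099422850) .leaf))) (nat_lit 23779099453570) (.node (.node (.node (.node .leaf (nat_lit 23781250695171) .leaf) (nat_lit 23781250734083) .leaf) (nat_lit 23781251049603) (.node (.node .leaf (nat_lit 23781251084419) .leaf) (nat_lit 23781259157632) .leaf)) (nat_lit 23781259196544) (.node (.node (.node .leaf (nat_lit 23781259364480) .leaf) (nat_lit 23781259399296) .leaf) (nat_lit 23783402598400) (.node (.node .leaf (nat_lit 23783402629120) .leaf) (nat_lit 23783402772480) .leaf)))) (nat_lit 23783402799104) (.node (.node (.node (.node (.node .leaf (nat_lit 23783410909315) .leaf) (nat_lit 23783410948227) .leaf) (nat_lit 23783411230723)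 (.node (.node .leaf (nat_lit 23783411265539) .leaf) (nat_lit 23785545717890) .leaf)) (nat_lit 23785545793538) (.node (.node (.node .leaf (nat_lit 23785546000386) .leaf) (nat_lit 23785546182786) .leaf) (nat_lit 23785554153601) (.node (.node .leaf (nat_lit 23785554266113) .leaf) (nat_lit 23785554337921) .leaf))) (nat_lit 23785554491393) (.node (.node (.node (.node .leaf (nat_lit 23787697340417) .leaf) (nat_lit 23787697526785) .leaf) (nat_lit 23787697729537) (.node (.node .leaf (nat_lit 23787697809409) .leaf) (nat_lit 23787705817090) .leaf)) (nat_lit 23787705958402) (.node (.node (.node .leaf (nat_lit 23787706034306) .leaf) (nat_lit 23787706151042) .leaf) (nat_lit 23789823954947) (.node (.node .leaf (nat_lit 23789824067715) .leaf) (nat_lit 23789824139267) .leaf))))) (nat_lit 23789824292995) (.node (.node (.node (.node (.node (.node .leaf (nat_lit 23789832302720) .leaf) (nat_lit 23789832382464) (.node .leaf (nat_lit 23789832568832) .leaf)) (nat_lit 23789832755328) (.node (.node .leaf (nat_lit 23791975655424) .leaf) (nat_lit 23791975739392) .leaf)) (nat_lit 23791975798912) (.node (.node (.node .leaf (nat_lit 23791975972992)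 .leaf) (nat_lit 23791983958147) .leaf) (nat_lit 23791984066691) (.node (.node .leaf (nat_lit 23791984273539) .leaf) (nat_lit 23791984423043) .leaf))) (nat_lit 24051816896514) (.node (.node (.node (.node .leaf (nat_lit 24051817007106) .leaf) (nat_lit 24051817216002) .leaf) (nat_lit 24051817359362) (.node (.node .leaf (nat_lit 24051825348609) .leaf) (nat_lit 24051825459201) .leaf)) (nat_lit 24051825537153) (.node (.node (.node .leaf (nat_lit 24051825680513) .leaf) (nat_lit 24053968603137) .leaf) (nat_lit 24053968787585) (.node (.node .leaf (nat_lit 24053968857217) .leaf) (nat_lit 24053968943105) .leaf)))) (nat_lit 24053976928258) (.node (.node (.node (.node (.node .leaf (nat_lit 24053977104514) .leaf) (nat_lit 24053977313282) .leaf) (nat_lit 24053977391234) (.node (.node .leaf (nat_lit 24056132864131) .leaf) (nat_lit 24056133048451) .leaf)) (nat_lit 24056133117955) (.node (.node (.node .leaf (nat_lit 24056133203971) .leaf) (nat_lit 24056141195264) .leaf) (nat_lit 24056141379584) (.node (.node .leaf (nat_lit 24056141563904) .leaf) (nat_lit 24056141649920) .leaf))) (nat_lit 24058276100096) (.node (.node (.node (.node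 .leaf (nat_lit 24058276276352) .leaf) (nat_lit 24058276468736) .leaf) (nat_lit 24058276546688) (.node (.node .leaf (nat_lit 24058284542083) .leaf) (nat_lit 24058284726275) .leaf)) (nat_lit 24058284795907) (.node (.node (.node .leaf (nat_lit 24058284882051) .leaf) (nat_lit 24060423569409) .leaf) (nat_lit 24060423608449) (.node (.node .leaf (nat_lit 24060423927937) .leaf) (nat_lit 24060423954433) .leaf)))))) (nat_lit 24060432041986) (.node (.node (.node (.node (.node (.node (.node .leaf (nat_lit 24060432076930) .leaf) (nat_lit 24060432232450) (.node .leaf (nat_lit 24060432263298) .leaf)) (nat_lit 24062575384706) (.node (.node .leaf (nat_lit 24062575411202) .leaf) (nat_lit 24062575730818) .leaf)) (nat_lit 24062575769602) (.node (.node (.node .leaf (nat_lit 24062583849089) .leaf) (nat_lit 24062583887873) .leaf) (nat_lit 24062584043521) (.node (.node .leaf (nat_lit 24062584070273) .leaf) (nat_lit 24064706160768) .leaf))) (nat_lit 24064706195456) (.node (.node (.node (.node .leaf (nat_lit 24064706367616) .leaf) (nat_lit 24064706398208) .leaf) (nat_lit 24064714491907) (.node (.node .leaf (nat_lit 24064714526851) .leaf)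 (nat_lit 24064714813571) .leaf)) (nat_lit 24064714844163) (.node (.node (.node .leaf (nat_lit 24066849310851) .leaf) (nat_lit 24066849345539) .leaf) (nat_lit 24066849533955) (.node (.node .leaf (nat_lit 24066849564803) .leaf) (nat_lit 24066857662464) .leaf)))) (nat_lit 24066857689216) (.node (.node (.node (.node (.node .leaf (nat_lit 24066857959424) .leaf) (nat_lit 24066857998464) .leaf) (nat_lit 24197845844099) (.node (.node .leaf (nat_lit 24197845938307) .leaf) (nat_lit 24197846044803) .leaf)) (nat_lit 24197846261891) (.node (.node (.node .leaf (nat_lit 24197858384000) .leaf) (nat_lit 24197858568320) .leaf) (nat_lit 24197858707456) (.node (.node .leaf (nat_lit 24197858768896) .leaf) (nat_lit 24199993327747) .leaf))) (nat_lit 24199993421827) (.node (.node (.node (.node .leaf (nat_lit 24199993528451) .leaf) (nat_lit 24199993745411) .leaf) (nat_lit 24200005863552) (.node (.node .leaf (nat_lit 24200006055936) .leaf) (nat_lit 24200006195200) .leaf)) (nat_lit 24200006248576) (.node (.node (.node .leaf (nat_lit 24202140774530) .leaf) (nat_lit 24202140942338) .leaf) (nat_lit 24202141097986) (.node (.node .leaf (nat_lit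 24202141143170) .leaf) (nat_lit 24202153394177) .leaf))))) (nat_lit 24202153488513) (.node (.node (.node (.node (.node (.node .leaf (nat_lit 24202153594881) .leaf) (nat_lit 24202153812097) .leaf) (nat_lit 24204288225282) (.node (.node .leaf (nat_lit 24204288393218) .leaf) (nat_lit 24204288548994) .leaf)) (nat_lit 24204288594050) (.node (.node (.node .leaf (nat_lit 24204300849281) .leaf) (nat_lit 24204300935297) .leaf) (nat_lit 24204301041793) (.node (.node .leaf (nat_lit 24204301267073) .leaf) (nat_lit 24464133816322) .leaf))) (nat_lit 24464133912578) (.node (.node (.node (.node .leaf (nat_lit 24464134012930) .leaf) (nat_lit 24464134240258) .leaf) (nat_lit 24464146337793) (.node (.node .leaf (nat_lit 24464146556929) .leaf) (nat_lit 24464146665601) .leaf)) (nat_lit 24464146753665) (.node (.node (.node .leaf (nat_lit 24466281234434) .leaf) (nat_lit 24466281461890) .leaf) (nat_lit 24466281562114) (.node (.node .leaf (nat_lit 24466281658498) .leaf) (nat_lit 24466293882881) .leaf)))) (nat_lit 24466293979265) (.node (.node (.node (.node (.node .leaf (nat_lit 24466294079617) .leaf) (nat_lit 24466294306817) .leaf) (nat_lit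 24468432978051) (.node (.node .leaf (nat_lit 24468433074179) .leaf) (nat_lit 24468433174531) .leaf)) (nat_lit 24468433401987) (.node (.node (.node .leaf (nat_lit 24468437121024) .leaf) (nat_lit 24468437319808) .leaf) (nat_lit 24468437448704) (.node (.node .leaf (nat_lit 24468437516416) .leaf) (nat_lit 24470580363267) .leaf))) (nat_lit 24470580590595) (.node (.node (.node (.node .leaf (nat_lit 24470580691075) .leaf) (nat_lit 24470580787331) .leaf) (nat_lit 24470584633472) (.node (.node .leaf (nat_lit 24470584709248) .leaf) (nat_lit 24470584830080) .leaf)) (nat_lit 24470585036928) (.node (.node (.node .leaf (nat_lit 24876450650114) .leaf) (nat_lit 24876450770946) .leaf) (nat_lit 24876450848770) (.node (.node .leaf (nat_lit 24876451088386) .leaf) (nat_lit 24876463161345) .leaf))))))) (nat_lit 24876463417345) (.node (.node (.node (.node (.node (.node (.node (.node .leaf (nat_lit 24876463503489) .leaf) (nat_lit 24876463607937) (.node .leaf (nat_lit 24878602289154) .leaf)) (nat_lit 24878602479746) (.node (.node .leaf (nat_lit 24878602631170) .leaf) (nat_lit 24878602670210) .leaf)) (nat_lit 24878606551041) (.node (.node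 (.node .leaf (nat_lit 24878606606465) .leaf) (nat_lit 24878606758017) .leaf) (nat_lit 24878606931969) (.node (.node .leaf (nat_lit 24880745646211) .leaf) (nat_lit 24880745701379) .leaf))) (nat_lit 24880745852931) (.node (.node (.node (.node .leaf (nat_lit 24880746027139) .leaf) (nat_lit 24880758175744) .leaf) (nat_lit 24880758345856) (.node (.node .leaf (nat_lit 24880758489088) .leaf) (nat_lit 24880758548608) .leaf)) (nat_lit 24882897260547) (.node (.node (.node .leaf (nat_lit 24882897451011) .leaf) (nat_lit 24882897594499) .leaf) (nat_lit 24882897633411) (.node (.node .leaf (nat_lit 24882901528704) .leaf) (nat_lit 24882901571712) .leaf)))) (nat_lit 24882901715072) (.node (.node (.node (.node (.node .leaf (nat_lit 24882901901440) .leaf) (nat_lit 25159939409920) .leaf) (nat_lit 25159939631232) (.node (.node .leaf (nat_lit 25159939743872) .leaf) (nat_lit 25159939817472) .leaf)) (nat_lit 25159943657475) (.node (.node (.node .leaf (nat_lit 25159943780483) .leaf) (nat_lit 25159943860227) .leaf) (nat_lit 25159944097923) (.node (.node .leaf (nat_lit 25162082732160) .leaf) (nat_lit 25162082887808) .leaf))) (nat_lit 25162083065856)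 (.node (.node (.node (.node .leaf (nat_lit 25162083074048) .leaf) (nat_lit 25162095364227) .leaf) (nat_lit 25162095421571) (.node (.node .leaf (nat_lit 25162095566979) .leaf) (nat_lit 25162095739011) .leaf)) (nat_lit 25164230236289) (.node (.node (.node .leaf (nat_lit 25164230359169) .leaf) (nat_lit 25164230439041) .leaf) (nat_lit 25164230676609) (.node (.node .leaf (nat_lit 25164242771970) .leaf) (nat_lit 25164242976770) .leaf))))) (nat_lit 25164243093634) (.node (.node (.node (.node (.node (.node .leaf (nat_lit 25164243183746) .leaf) (nat_lit 25166381914241) (.node .leaf (nat_lit 25166382036993) .leaf)) (nat_lit 25166382116993) (.node (.node .leaf (nat_lit 25166382354433) .leaf) (nat_lit 25166386065410) .leaf)) (nat_lit 25166386270338) (.node (.node (.node .leaf (nat_lit 25166386387074) .leaf) (nat_lit 25166386477058) .leaf) (nat_lit 25426206461954) (.node (.node .leaf (nat_lit 25426206648322) .leaf) (nat_lit 25426206670850) .leaf))) (nat_lit 25426206832642) (.node (.node (.node (.node .leaf (nat_lit 25426218975233) .leaf) (nat_lit 25426219169793) .leaf) (nat_lit 25426219323521) (.node (.node .leaf (nat_lit 25426219477121)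 .leaf) (nat_lit 25428358109185) .leaf)) (nat_lit 25428358226049) (.node (.node (.node .leaf (nat_lit 25428358449281) .leaf) (nat_lit 25428358541313) .leaf) (nat_lit 25428362369026) (.node (.node .leaf (nat_lit 25428362485890) .leaf) (nat_lit 25428362577922) .leaf)))) (nat_lit 25428362670210) (.node (.node (.node (.node (.node .leaf (nat_lit 25430518136835) .leaf) (nat_lit 25430518331395) .leaf) (nat_lit 25430518485123) (.node (.node .leaf (nat_lit 25430518638723) .leaf) (nat_lit 25430530799744) .leaf)) (nat_lit 25430530965632) (.node (.node (.node .leaf (nat_lit 25430531008640) .leaf) (nat_lit 25430531149952) .leaf) (nat_lit 25432669890688) (.node (.node .leaf (nat_lit 25432670064640) .leaf) (nat_lit 25432670107776) .leaf))) (nat_lit 25432670240768) (.node (.node (.node (.node .leaf (nat_lit 25432674009091) .leaf) (nat_lit 25432674203779) .leaf) (nat_lit 25432674357379) (.node (.node .leaf (nat_lit 25432674510851) .leaf) (nat_lit 25434796396547) .leaf)) (nat_lit 25434796427395) (.node (.node (.node .leaf (nat_lit 25434796605443) .leaf) (nat_lit 25434796644483) .leaf) (nat_lit 25434808928256) (.node (.node .leaf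 (nat_lit 25434808963200) .leaf) (nat_lit 25434809243776) .leaf)))))) (nat_lit 25434809270272) (.node (.node (.node (.node (.node (.node (.node .leaf (nat_lit 25436948211840) .leaf) (nat_lit 25436948246528) (.node .leaf (nat_lit 25436948428800) .leaf)) (nat_lit 25436948455552) (.node (.node .leaf (nat_lit 25436952354947) .leaf) (nat_lit 25436952393731) .leaf)) (nat_lit 25436952670339) (.node (.node (.node .leaf (nat_lit 25436952700931) .leaf) (nat_lit 25439108202498) .leaf) (nat_lit 25439108241538) (.node (.node .leaf (nat_lit 25439108550786) .leaf) (nat_lit 25439108581378) .leaf))) (nat_lit 25439120879745) (.node (.node (.node (.node .leaf (nat_lit 25439120910337) .leaf) (nat_lit 25439121055873) .leaf) (nat_lit 25439121094657) (.node (.node .leaf (nat_lit 25441259749377) .leaf) (nat_lit 25441259788417) .leaf)) (nat_lit 25441260097537) (.node (.node (.node .leaf (nat_lit 25441260128385) .leaf) (nat_lit 25441264033922) .leaf) (nat_lit 25441264072706) (.node (.node .leaf (nat_lit 25441264218114) .leaf) (nat_lit 25441264248962) .leaf)))) (nat_lit 25701084368898) (.node (.node (.node (.node (.node .leaf (nat_lit 25701084399618)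 .leaf) (nat_lit 25701084581890) .leaf) (nat_lit 25701084612610) (.node (.node .leaf (nat_lit 25701096882177) .leaf) (nat_lit 25701096921089) .leaf)) (nat_lit 25701097226369) (.node (.node (.node .leaf (nat_lit 25701097265281) .leaf) (nat_lit 25703236135041) .leaf) (nat_lit 25703236169857) (.node (.node .leaf (nat_lit 25703236446209) .leaf) (nat_lit 25703236481025) .leaf))) (nat_lit 25703240394882) (.node (.node (.node (.node .leaf (nat_lit 25703240429698) .leaf) (nat_lit 25703240575106) .leaf) (nat_lit 25703240609922) (.node (.node .leaf (nat_lit 25705400238083) .leaf) (nat_lit 25705400276995) .leaf)) (nat_lit 25705400582275) (.node (.node (.node .leaf (nat_lit 25705400621187) .leaf) (nat_lit 25705404512384) .leaf) (nat_lit 25705404539008) (.node (.node .leaf (nat_lit 25705404725376) .leaf) (nat_lit 25705404752000) .leaf))))) (nat_lit 25707543740416) (.node (.node (.node (.node (.node (.node .leaf (nat_lit 25707543779328) .leaf) (nat_lit 25707543920640) .leaf) (nat_lit 25707543959552) (.node (.node .leaf (nat_lit 25707556268163) .leaf) (nat_lit 25707556302979) .leaf)) (nat_lit 25707556579331) (.node (.node (.node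 .leaf (nat_lit 25707556614147) .leaf) (nat_lit 25709678446592) .leaf) (nat_lit 25709678606464) (.node (.node .leaf (nat_lit 25709678758016) .leaf) (nat_lit 25709678950400) .leaf))) (nat_lit 25709682692099) (.node (.node (.node (.node .leaf (nat_lit 25709682876547) .leaf) (nat_lit 25709682905091) .leaf) (nat_lit 25709683056771) (.node (.node .leaf (nat_lit 25711821756547) .leaf) (nat_lit 25711821875331) .leaf)) (nat_lit 25711822100611) (.node (.node (.node .leaf (nat_lit 25711822186627) .leaf) (nat_lit 25711834419328) .leaf) (nat_lit 25711834505344) (.node (.node .leaf (nat_lit 25711834599424) .leaf) (nat_lit 25711834718208) .leaf)))) (nat_lit 25713986078721) (.node (.node (.node (.node (.node .leaf (nat_lit 25713986205825) .leaf) (nat_lit 25713986291713) .leaf) (nat_lit 25713986386049) (.node (.node .leaf (nat_lit 25713998624898) .leaf) (nat_lit 25713998694402) .leaf)) (nat_lit 25713998936066) (.node (.node (.node .leaf (nat_lit 25713999038594) .leaf) (nat_lit 25716137785346) .leaf) (nat_lit 25716137854978) (.node (.node .leaf (nat_lit 25716137965698) .leaf) (nat_lit 25716138068098) .leaf))) (nat_lit 25716141889665)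 (.node (.node (.node (.node .leaf (nat_lit 25716142008449) .leaf) (nat_lit 25716142233729) .leaf) (nat_lit 25716142319745) (.node (.node .leaf (nat_lit 25838523291650) .leaf) (nat_lit 25838523447298) .leaf)) (nat_lit 25838523637762) (.node (.node (.node .leaf (nat_lit 25838523744258) .leaf) (nat_lit 25838535933953) .leaf) (nat_lit 25838536089601) (.node (.node .leaf (nat_lit 25838536161409) .leaf) (nat_lit 25838536267905) .leaf))))))))
def t1_12 : BT := (.node (.node (.node (.node (.node (.node (.node (.node (.node .leaf (nat_lit 25840670990465) .leaf) (nat_lit 25840671062145) (.node .leaf (nat_lit 25840671168513) .leaf)) (nat_lit 25840683354114) (.node (.node .leaf (nat_lit 25840683509890) .leaf) (nat_lit 25840683708418) .leaf)) (nat_lit 25840683815042) (.node (.node (.node .leaf (nat_lit 25842835069059) .leaf) (nat_lit 25842835224707) .leaf) (nat_lit 25842835283971) (.node (.node .leaf (nat_lit 25842835390467) .leaf) (nat_lit 25842847590400) .leaf))) (nat_lit 25842847729664) (.node (.node (.node (.node .leaf (nat_lit 25842847928320) .leaf) (nat_lit 25842848051200) .leaf) (nat_lit 25844982521856) (.node (.node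 .leaf (nat_lit 25844982661248) .leaf) (nat_lit 25844982863872) .leaf)) (nat_lit 25844982986880) (.node (.node (.node .leaf (nat_lit 25844995162243) .leaf) (nat_lit 25844995317763) .leaf) (nat_lit 25844995389443) (.node (.node .leaf (nat_lit 25844995496067) .leaf) (nat_lit 25847130036227) .leaf)))) (nat_lit 25847130062979) (.node (.node (.node (.node (.node .leaf (nat_lit 25847130251267) .leaf) (nat_lit 25847130290307) .leaf) (nat_lit 25847142565888) (.node (.node .leaf (nat_lit 25847142600832) .leaf) (nat_lit 25847142887552) .leaf)) (nat_lit 25847142918144) (.node (.node (.node .leaf (nat_lit 25849277653120) .leaf) (nat_lit 25849277691904) .leaf) (nat_lit 25849277863936) (.node (.node .leaf (nat_lit 25849277890688) .leaf) (nat_lit 25849290186883) .leaf))) (nat_lit 25849290225667) (.node (.node (.node (.node .leaf (nat_lit 25849290496131) .leaf) (nat_lit 25849290522627) .leaf) (nat_lit 25851408285698) (.node (.node .leaf (nat_lit 25851408324738) .leaf) (nat_lit 25851408644226) .leaf)) (nat_lit 25851408670722) (.node (.node (.node .leaf (nat_lit 25851420964993) .leaf) (nat_lit 25851420991489) .leaf) (nat_lit 25851421130881)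 (.node (.node .leaf (nat_lit 25851421169665) .leaf) (nat_lit 25853555638273) .leaf))))) (nat_lit 25853555677313) (.node (.node (.node (.node (.node (.node .leaf (nat_lit 25853555996673) .leaf) (nat_lit 25853556023425) (.node .leaf (nat_lit 25853568313474) .leaf)) (nat_lit 25853568348162) (.node (.node .leaf (nat_lit 25853568487426) .leaf) (nat_lit 25853568518274) .leaf)) (nat_lit 26113401231362) (.node (.node (.node .leaf (nat_lit 26113401257986) .leaf) (nat_lit 26113401450498) .leaf) (nat_lit 26113401481218) (.node (.node .leaf (nat_lit 26113413742593) .leaf) (nat_lit 26113413781505) .leaf))) (nat_lit 26113414097025) (.node (.node (.node (.node .leaf (nat_lit 26113414131841) .leaf) (nat_lit 26115548801153) .leaf) (nat_lit 26115548835969) (.node (.node .leaf (nat_lit 26115549102081) .leaf) (nat_lit 26115549140993) .leaf)) (nat_lit 26115561447554) (.node (.node (.node .leaf (nat_lit 26115561486466) .leaf) (nat_lit 26115561621634) .leaf) (nat_lit 26115561656450) (.node (.node .leaf (nat_lit 26117717098499) .leaf) (nat_lit 26117717137411) .leaf)))) (nat_lit 26117717452931) (.node (.node (.node (.node (.node .leaf (nat_lit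 26117717487747) .leaf) (nat_lit 26117721370752) .leaf) (nat_lit 26117721401472) (.node (.node .leaf (nat_lit 26117721577600) .leaf) (nat_lit 26117721604224) .leaf)) (nat_lit 26119864797184) (.node (.node (.node .leaf (nat_lit 26119864832000) .leaf) (nat_lit 26119864983552) .leaf) (nat_lit 26119865022464) (.node (.node .leaf (nat_lit 26119868934275) .leaf) (nat_lit 26119868969091) .leaf))) (nat_lit 26119869235203) (.node (.node (.node (.node .leaf (nat_lit 26119869274115) .leaf) (nat_lit 26122012182656) .leaf) (nat_lit 26122012303488) (.node (.node .leaf (nat_lit 26122012368896) .leaf) (nat_lit 26122012510208) .leaf)) (nat_lit 26122016299139) (.node (.node (.node .leaf (nat_lit 26122016452739) .leaf) (nat_lit 26122016649347) .leaf) (nat_lit 26122016757891) (.node (.node .leaf (nat_lit 26124159647875) .leaf) (nat_lit 26124159805443) .leaf)))))) (nat_lit 26124159871107) (.node (.node (.node (.node (.node (.node (.node .leaf (nat_lit 26124159975427) .leaf) (nat_lit 26124163793024) (.node .leaf (nat_lit 26124163917824) .leaf)) (nat_lit 26124164114432) (.node (.node .leaf (nat_lit 26124164251776) .leaf) (nat_lit 26126286061569)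 .leaf)) (nat_lit 26126286219265) (.node (.node (.node .leaf (nat_lit 26126286415873) .leaf) (nat_lit 26126286520321) .leaf) (nat_lit 26126298740866) (.node (.node .leaf (nat_lit 26126298845314) .leaf) (nat_lit 26126298910722) .leaf))) (nat_lit 26126299068418) (.node (.node (.node (.node .leaf (nat_lit 26128433604738) .leaf) (nat_lit 26128433709058) .leaf) (nat_lit 26128433905666) (.node (.node .leaf (nat_lit 26128434063490) .leaf) (nat_lit 26128446226433) .leaf)) (nat_lit 26128446384257) (.node (.node (.node .leaf (nat_lit 26128446449665) .leaf) (nat_lit 26128446554241) .leaf) (nat_lit 26388279148546) (.node (.node .leaf (nat_lit 26388279279618) .leaf) (nat_lit 26388279451650) .leaf)))) (nat_lit 26388279582722) (.node (.node (.node (.node (.node .leaf (nat_lit 26388295843841) .leaf) (nat_lit 26388295974913) .leaf) (nat_lit 26388296147073) (.node (.node .leaf (nat_lit 26388296278145) .leaf) (nat_lit 26390426632195) .leaf)) (nat_lit 26390426763395) (.node (.node (.node .leaf (nat_lit 26390426935299) .leaf) (nat_lit 26390427066499) .leaf) (nat_lit 26390443333632) (.node (.node .leaf (nat_lit 26390443464832) .leaf)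 (nat_lit 26390443636864) .leaf))) (nat_lit 26390443767808) (.node (.node (.node (.node .leaf (nat_lit 26392574148738) .leaf) (nat_lit 26392574279810) .leaf) (nat_lit 26392574386306) (.node (.node .leaf (nat_lit 26392574517378) .leaf) (nat_lit 26392590852097) .leaf)) (nat_lit 26392590983169) (.node (.node (.node .leaf (nat_lit 26392591073409) .leaf) (nat_lit 26392591204481) .leaf) (nat_lit 26394721599619) (.node (.node .leaf (nat_lit 26394721730563) .leaf) (nat_lit 26394721902723) .leaf))))) (nat_lit 26394722033667) (.node (.node (.node (.node (.node (.node .leaf (nat_lit 26394738309120) .leaf) (nat_lit 26394738440320) .leaf) (nat_lit 26394738595968) (.node (.node .leaf (nat_lit 26394738726912) .leaf) (nat_lit 26809194315778) .leaf)) (nat_lit 26809194448898) (.node (.node (.node .leaf (nat_lit 26809194623106) .leaf) (nat_lit 26809194756226) .leaf) (nat_lit 26809211027457) (.node (.node .leaf (nat_lit 26809211160577) .leaf) (nat_lit 26809211334657) .leaf))) (nat_lit 26809211467777) (.node (.node (.node (.node .leaf (nat_lit 26811341733891) .leaf) (nat_lit 26811341867139) .leaf) (nat_lit 26811342041219) (.node (.node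 .leaf (nat_lit 26811342174211) .leaf) (nat_lit 26811358582784) .leaf)) (nat_lit 26811358711936) (.node (.node (.node .leaf (nat_lit 26811358881792) .leaf) (nat_lit 26811359010944) .leaf) (nat_lit 26813493510146) (.node (.node .leaf (nat_lit 26813493643266) .leaf) (nat_lit 26813493751938) .leaf)))) (nat_lit 26813493885058) (.node (.node (.node (.node (.node .leaf (nat_lit 26813510230145) .leaf) (nat_lit 26813510363265) .leaf) (nat_lit 26813510455425) (.node (.node .leaf (nat_lit 26813510588545) .leaf) (nat_lit 26815640895491) .leaf)) (nat_lit 26815641028739) (.node (.node (.node .leaf (nat_lit 26815641202819) .leaf) (nat_lit 26815641335811) .leaf) (nat_lit 26815657752704) (.node (.node .leaf (nat_lit 26815657881600) .leaf) (nat_lit 26815658035328) .leaf))) (nat_lit 26815658164224) (.node (.node (.node (.node .leaf (nat_lit 26938034964482) .leaf) (nat_lit 26938035136514) .leaf) (nat_lit 26938035234818) (.node (.node .leaf (nat_lit 26938035390466) .leaf) (nat_lit 26938051657729) .leaf)) (nat_lit 26938051829761) (.node (.node (.node .leaf (nat_lit 26938051928193) .leaf) (nat_lit 26938052083841) .leaf) (nat_lit 26940186683395)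 (.node (.node .leaf (nat_lit 26940186773635) .leaf) (nat_lit 26940186937347) .leaf))))))) (nat_lit 26940187043971) (.node (.node (.node (.node (.node (.node (.node (.node .leaf (nat_lit 26940203382784) .leaf) (nat_lit 26940203473024) (.node .leaf (nat_lit 26940203636864) .leaf)) (nat_lit 26940203743232) (.node (.node .leaf (nat_lit 26942329964674) .leaf) (nat_lit 26942330071170) .leaf)) (nat_lit 26942330235010) (.node (.node (.node .leaf (nat_lit 26942330325122) .leaf) (nat_lit 26942346665985) .leaf) (nat_lit 26942346756097) (.node (.node .leaf (nat_lit 26942346920065) .leaf) (nat_lit 26942347026561) .leaf))) (nat_lit 26944481650819) (.node (.node (.node (.node .leaf (nat_lit 26944481740803) .leaf) (nat_lit 26944481904771) .leaf) (nat_lit 26944482011139) (.node (.node .leaf (nat_lit 26944498341888) .leaf) (nat_lit 26944498448512) .leaf)) (nat_lit 26944498612352) (.node (.node (.node .leaf (nat_lit 26944498702336) .leaf) (nat_lit 27358950064129) .leaf) (nat_lit 27358950238337) (.node (.node .leaf (nat_lit 27358950338689) .leaf) (nat_lit 27358950496257) .leaf)))) (nat_lit 27358966908930) (.node (.node (.node (.node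 (.node .leaf (nat_lit 27358967079042) .leaf) (nat_lit 27358967183362) .leaf) (nat_lit 27358967337090) (.node (.node .leaf (nat_lit 27361101852800) .leaf) (nat_lit 27361101944960) .leaf)) (nat_lit 27361102102528) (.node (.node (.node .leaf (nat_lit 27361102211072) .leaf) (nat_lit 27361118560387) .leaf) (nat_lit 27361118652547) (.node (.node .leaf (nat_lit 27361118818435) .leaf) (nat_lit 27361118926979) .leaf))) (nat_lit 27363249225729) (.node (.node (.node (.node .leaf (nat_lit 27363249399937) .leaf) (nat_lit 27363249500289) .leaf) (nat_lit 27363249657857) (.node (.node .leaf (nat_lit 27363266078850) .leaf) (nat_lit 27363266232322) .leaf)) (nat_lit 27363266336898) (.node (.node (.node .leaf (nat_lit 27363266506754) .leaf) (nat_lit 27365392593024) .leaf) (nat_lit 27365392750720) (.node (.node .leaf (nat_lit 27365392842752) .leaf) (nat_lit 27365393016832) .leaf))))) (nat_lit 27365409292291) (.node (.node (.node (.node (.node (.node .leaf (nat_lit 27365409466371) .leaf) (nat_lit 27365409566723) (.node .leaf (nat_lit 27365409724419) .leaf)) (nat_lit 27487790776322) (.node (.node .leaf (nat_lit 27487790819330) .leaf)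 (nat_lit 27487791153154) .leaf)) (nat_lit 27487791196162) (.node (.node (.node .leaf (nat_lit 27487807471617) .leaf) (nat_lit 27487807514625) .leaf) (nat_lit 27487807881345) (.node (.node .leaf (nat_lit 27487807924353) .leaf) (nat_lit 27489946779779) .leaf))) (nat_lit 27489946822787) (.node (.node (.node (.node .leaf (nat_lit 27489946894339) .leaf) (nat_lit 27489946937347) .leaf) (nat_lit 27489963481216) (.node (.node .leaf (nat_lit 27489963520128) .leaf) (nat_lit 27489963628672) .leaf)) (nat_lit 27489963667584) (.node (.node (.node .leaf (nat_lit 27492085874817) .leaf) (nat_lit 27492085917825) .leaf) (nat_lit 27492085989377) (.node (.node .leaf (nat_lit 27492086032385) .leaf) (nat_lit 27492102578178) .leaf)))) (nat_lit 27492102604802) (.node (.node (.node (.node (.node .leaf (nat_lit 27492102725634) .leaf) (nat_lit 27492102752258) .leaf) (nat_lit 27494241630336) (.node (.node .leaf (nat_lit 27494241652864) .leaf) (nat_lit 27494242007168) .leaf)) (nat_lit 27494242029696) (.node (.node (.node .leaf (nat_lit 27494258311171) .leaf) (nat_lit 27494258354179) .leaf) (nat_lit 27494258720899) (.node (.node .leaf (nat_lit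 27494258763907) .leaf) (nat_lit 27496380688514) .leaf))) (nat_lit 27496380825602) (.node (.node (.node (.node .leaf (nat_lit 27496381016194) .leaf) (nat_lit 27496381022210) .leaf) (nat_lit 27496397531265) (.node (.node .leaf (nat_lit 27496397537281) .leaf) (nat_lit 27496397727745) .leaf)) (nat_lit 27496397865089) (.node (.node (.node .leaf (nat_lit 27498536501251) .leaf) (nat_lit 27498536757251) .leaf) (nat_lit 27498536828931) (.node (.node .leaf (nat_lit 27498536953859) .leaf) (nat_lit 27498553350144) .leaf)))))) (nat_lit 27498553470976) (.node (.node (.node (.node (.node (.node (.node .leaf (nat_lit 27498553546880) .leaf) (nat_lit 27498553798784) (.node .leaf (nat_lit 27500675596289) .leaf)) (nat_lit 27500675852289) (.node (.node .leaf (nat_lit 27500675923969) .leaf) (nat_lit 27500676048897) .leaf)) (nat_lit 27500692447362) (.node (.node (.node .leaf (nat_lit 27500692555906) .leaf) (nat_lit 27500692643842) .leaf) (nat_lit 27500692883458) (.node (.node .leaf (nat_lit 27502831499264) .leaf) (nat_lit 27502831702144) .leaf))) (nat_lit 27502831826944) (.node (.node (.node (.node .leaf (nat_lit 27502831898752) .leaf)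 (nat_lit 27502848327811) .leaf) (nat_lit 27502848419843) (.node (.node .leaf (nat_lit 27502848524291) .leaf) (nat_lit 27502848747651) .leaf)) (nat_lit 27900107597826) (.node (.node (.node .leaf (nat_lit 27900107769858) .leaf) (nat_lit 27900107929602) .leaf) (nat_lit 27900107970562) (.node (.node .leaf (nat_lit 27900124456961) .leaf) (nat_lit 27900124465153) .leaf)))) (nat_lit 27900124657793) (.node (.node (.node (.node (.node .leaf (nat_lit 27900124797057) .leaf) (nat_lit 27902263508995) .leaf) (nat_lit 27902263599235) (.node (.node .leaf (nat_lit 27902263709699) .leaf) (nat_lit 27902263931011) .leaf)) (nat_lit 27902280210432) (.node (.node (.node .leaf (nat_lit 27902280464512) .leaf) (nat_lit 27902280534144) .leaf) (nat_lit 27902280656896) (.node (.node .leaf (nat_lit 27904406841473) .leaf) (nat_lit 27904406849537) .leaf))) (nat_lit 27904407042177) (.node (.node (.node (.node .leaf (nat_lit 27904407181313) .leaf) (nat_lit 27904423528450) .leaf) (nat_lit 27904423716994) (.node (.node .leaf (nat_lit 27904423860354) .leaf) (nat_lit 27904423917570) .leaf)) (nat_lit 27906562625536) (.node (.node (.node .leaf (nat_lit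 27906562813952) .leaf) (nat_lit 27906562949120) .leaf) (nat_lit 27906563006464) (.node (.node .leaf (nat_lit 27906579490947) .leaf) (nat_lit 27906579499139) .leaf))))) (nat_lit 27906579691523) (.node (.node (.node (.node (.node (.node .leaf (nat_lit 27906579830787) .leaf) (nat_lit 27908705943554) .leaf) (nat_lit 27908705986690) (.node (.node .leaf (nat_lit 27908706359298) .leaf) (nat_lit 27908706398338) .leaf)) (nat_lit 27908722655233) (.node (.node (.node .leaf (nat_lit 27908722698369) .leaf) (nat_lit 27908723071105) .leaf) (nat_lit 27908723109889) (.node (.node .leaf (nat_lit 27910845106307) .leaf) (nat_lit 27910845145091) .leaf))) (nat_lit 27910845255683) (.node (.node (.node (.node .leaf (nat_lit 27910845298819) .leaf) (nat_lit 27910861951104) .leaf) (nat_lit 27910861993984) (.node (.node .leaf (nat_lit 27910862096512) .leaf) (nat_lit 27910862135296) .leaf)) (nat_lit 27913005121665) (.node (.node (.node .leaf (nat_lit 27913005164545) .leaf) (nat_lit 27913005504513) .leaf) (nat_lit 27913005543553) (.node (.node .leaf (nat_lit 27913021841410) .leaf) (nat_lit 27913021868162) .leaf)))) (nat_lit 27913022224386) (.node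 (.node (.node (.node (.node .leaf (nat_lit 27913022247042) .leaf) (nat_lit 27915144294528) .leaf) (nat_lit 27915144321024) (.node (.node .leaf (nat_lit 27915144407168) .leaf) (nat_lit 27915144429568) .leaf)) (nat_lit 27915161126915) (.node (.node (.node .leaf (nat_lit 27915161165955) .leaf) (nat_lit 27915161243779) .leaf) (nat_lit 27915161286659) (.node (.node .leaf (nat_lit 28037546592258) .leaf) (nat_lit 28037546639362) .leaf))) (nat_lit 28037546821634) (.node (.node (.node (.node .leaf (nat_lit 28037546999810) .leaf) (nat_lit 28037563285505) .leaf) (nat_lit 28037563500545) (.node (.node .leaf (nat_lit 28037563646081) .leaf) (nat_lit 28037563730049) .leaf)) (nat_lit 28039706574851) (.node (.node (.node .leaf (nat_lit 28039706790019) .leaf) (nat_lit 28039706935299) .leaf) (nat_lit 28039707019395) (.node (.node .leaf (nat_lit 28039723438080) .leaf) (nat_lit 28039723489408) .leaf))))))))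
def t1_13 : BT := (.node (.node (.node (.node (.node (.node (.node (.node (.node .leaf (nat_lit 28039723849728) .leaf) (nat_lit 28041841475585) (.node .leaf (nat_lit 28041841690753) .leaf)) (nat_lit 28041841836033) (.node (.node .leaf (nat_lit 28041841920129) .leaf) (nat_lit 28041858345090) .leaf)) (nat_lit 28041858392066) (.node (.node (.node .leaf (nat_lit 28041858574338) .leaf) (nat_lit 28041858752642) .leaf) (nat_lit 28044001663104) (.node (.node .leaf (nat_lit 28044001710208) .leaf) (nat_lit 28044001826944) .leaf))) (nat_lit 28044002005120) (.node (.node (.node (.node .leaf (nat_lit 28044018362371) .leaf) (nat_lit 28044018573315) .leaf) (nat_lit 28044018657411) (.node (.node .leaf (nat_lit 28044018737283) .leaf) (nat_lit 28046136657921) .leaf)) (nat_lit 28046136696961) (.node (.node (.node .leaf (nat_lit 28046136780929) .leaf) (nat_lit 28046136803329) .leaf) (nat_lit 28046153367554) (.node (.node .leaf (nat_lit 28046153410690) .leaf) (nat_lit 28046153490434) .leaf)))) (nat_lit 28046153517186) (.node (.node (.node (.node (.node .leaf (nat_lit 28048296531968) .leaf) (nat_lit 28048296571008) .leaf) (nat_lit 28048296916992)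 (.node (.node .leaf (nat_lit 28048296939648) .leaf) (nat_lit 28048313370627) .leaf)) (nat_lit 28048313409667) (.node (.node (.node .leaf (nat_lit 28048313755779) .leaf) (nat_lit 28048313778179) .leaf) (nat_lit 28050431617154) (.node (.node .leaf (nat_lit 28050431639554) .leaf) (nat_lit 28050431756418) .leaf))) (nat_lit 28050431795202) (.node (.node (.node (.node .leaf (nat_lit 28050448318465) .leaf) (nat_lit 28050448361601) .leaf) (nat_lit 28050448474241) (.node (.node .leaf (nat_lit 28050448500737) .leaf) (nat_lit 28052591476739) .leaf)) (nat_lit 28052591519875) (.node (.node (.node .leaf (nat_lit 28052591894659) .leaf) (nat_lit 28052591921155) .leaf) (nat_lit 28052608331904) (.node (.node .leaf (nat_lit 28052608358400) .leaf) (nat_lit 28052608733312) .leaf))))) (nat_lit 28052608776192) (.node (.node (.node (.node (.node (.node .leaf (nat_lit 28449863501826) .leaf) (nat_lit 28449863540738) (.node .leaf (nat_lit 28449863659522) .leaf)) (nat_lit 28449863686146) (.node (.node .leaf (nat_lit 28449880358913) .leaf) (nat_lit 28449880401921) .leaf)) (nat_lit 28449880488065) (.node (.node (.node .leaf (nat_lit 28449880510593)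 .leaf) (nat_lit 28452023435267) .leaf) (nat_lit 28452023478275) (.node (.node .leaf (nat_lit 28452023859331) .leaf) (nat_lit 28452023881859) .leaf))) (nat_lit 28452040298496) (.node (.node (.node (.node .leaf (nat_lit 28452040341504) .leaf) (nat_lit 28452040681472) .leaf) (nat_lit 28452040704000) (.node (.node .leaf (nat_lit 28454162530305) .leaf) (nat_lit 28454162573313) .leaf)) (nat_lit 28454162954369) (.node (.node (.node .leaf (nat_lit 28454162976897) .leaf) (nat_lit 28454179399810) .leaf) (nat_lit 28454179422338) (.node (.node .leaf (nat_lit 28454179770498) .leaf) (nat_lit 28454179813506) .leaf)))) (nat_lit 28456314351744) (.node (.node (.node (.node (.node .leaf (nat_lit 28456314378368) .leaf) (nat_lit 28456314488960) .leaf) (nat_lit 28456314527872) (.node (.node .leaf (nat_lit 28456331198467) .leaf) (nat_lit 28456331241475) .leaf)) (nat_lit 28456331327619) (.node (.node (.node .leaf (nat_lit 28456331350147) .leaf) (nat_lit 28458461691905) .leaf) (nat_lit 28458461904897) (.node (.node .leaf (nat_lit 28458462056449) .leaf) (nat_lit 28458462138369) .leaf))) (nat_lit 28458478536706) (.node (.node (.node (.node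 .leaf (nat_lit 28458478618626) .leaf) (nat_lit 28458478770306) .leaf) (nat_lit 28458478983298) (.node (.node .leaf (nat_lit 28460605003776) .leaf) (nat_lit 28460605184128) .leaf)) (nat_lit 28460605360128) (.node (.node (.node .leaf (nat_lit 28460605409408) .leaf) (nat_lit 28460621842435) .leaf) (nat_lit 28460621891715) (.node (.node .leaf (nat_lit 28460622076035) .leaf) (nat_lit 28460622256131) .leaf)))))) (nat_lit 28462760878082) (.node (.node (.node (.node (.node (.node (.node .leaf (nat_lit 28462761058434) .leaf) (nat_lit 28462761242626) (.node .leaf (nat_lit 28462761291906) .leaf)) (nat_lit 28462777714817) (.node (.node .leaf (nat_lit 28462777763841) .leaf) (nat_lit 28462777948161) .leaf)) (nat_lit 28462778128513) (.node (.node (.node .leaf (nat_lit 28464895797379) .leaf) (nat_lit 28464896010371) .leaf) (nat_lit 28464896096387) (.node (.node .leaf (nat_lit 28464896178307) .leaf) (nat_lit 28464912635904) .leaf))) (nat_lit 28464912717824) (.node (.node (.node (.node .leaf (nat_lit 28464912795776) .leaf) (nat_lit 28464913008768) .leaf) (nat_lit 28595892297859) (.node (.node .leaf (nat_lit 28595892420739) .leaf)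 (nat_lit 28595892560003) .leaf)) (nat_lit 28595892682883) (.node (.node (.node .leaf (nat_lit 28595913341056) .leaf) (nat_lit 28595913463936) .leaf) (nat_lit 28595913603072) (.node (.node .leaf (nat_lit 28595913725952) .leaf) (nat_lit 28598039847042) .leaf)))) (nat_lit 28598039969794) (.node (.node (.node (.node (.node .leaf (nat_lit 28598040109186) .leaf) (nat_lit 28598040231938) .leaf) (nat_lit 28598060753025) (.node (.node .leaf (nat_lit 28598060875777) .leaf) (nat_lit 28598061015041) .leaf)) (nat_lit 28598061138049) (.node (.node (.node .leaf (nat_lit 28600187265155) .leaf) (nat_lit 28600187388035) .leaf) (nat_lit 28600187527299) (.node (.node .leaf (nat_lit 28600187650179) .leaf) (nat_lit 28600208300032) .leaf))) (nat_lit 28600208439296) (.node (.node (.node (.node .leaf (nat_lit 28600208562304) .leaf) (nat_lit 28600208701568) .leaf) (nat_lit 28602334781570) (.node (.node .leaf (nat_lit 28602334904322) .leaf) (nat_lit 28602335043714) .leaf)) (nat_lit 28602335166466) (.node (.node (.node .leaf (nat_lit 28602355679233) .leaf) (nat_lit 28602355818625) .leaf) (nat_lit 28602355941505) (.node (.node .leaf (nat_lit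 28602356080641) .leaf) (nat_lit 28999619223554) .leaf))))) (nat_lit 28999619348482) (.node (.node (.node (.node (.node (.node .leaf (nat_lit 28999619489794) .leaf) (nat_lit 28999619614722) .leaf) (nat_lit 28999640281089) (.node (.node .leaf (nat_lit 28999640406017) .leaf) (nat_lit 28999640539265) .leaf)) (nat_lit 28999640664193) (.node (.node (.node .leaf (nat_lit 29001766707203) .leaf) (nat_lit 29001766832259) .leaf) (nat_lit 29001766973443) (.node (.node .leaf (nat_lit 29001767098499) .leaf) (nat_lit 29001787762688) .leaf))) (nat_lit 29001787883648) (.node (.node (.node (.node .leaf (nat_lit 29001788029056) .leaf) (nat_lit 29001788149760) .leaf) (nat_lit 29003918376962) (.node (.node .leaf (nat_lit 29003918518274) .leaf) (nat_lit 29003918643202) .leaf)) (nat_lit 29003918784514) (.node (.node (.node .leaf (nat_lit 29003931054209) .leaf) (nat_lit 29003931179137) .leaf) (nat_lit 29003931312129) (.node (.node .leaf (nat_lit 29003931437057) .leaf) (nat_lit 29006065827843) .leaf)))) (nat_lit 29006065969283) (.node (.node (.node (.node (.node .leaf (nat_lit 29006066094083) .leaf) (nat_lit 29006066235523) .leaf) (nat_lit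 29006078503040) (.node (.node .leaf (nat_lit 29006078623744) .leaf) (nat_lit 29006078769152) .leaf)) (nat_lit 29006078890112) (.node (.node (.node .leaf (nat_lit 29145652375680) .leaf) (nat_lit 29145652473856) .leaf) (nat_lit 29145652605056) (.node (.node .leaf (nat_lit 29145652768768) .leaf) (nat_lit 29145664888963) .leaf))) (nat_lit 29145664987139) (.node (.node (.node (.node .leaf (nat_lit 29145665118211) .leaf) (nat_lit 29145665282179) .leaf) (nat_lit 29147795554305) (.node (.node .leaf (nat_lit 29147795718145) .leaf) (nat_lit 29147795849217) .leaf)) (nat_lit 29147795947521) (.node (.node (.node .leaf (nat_lit 29147816593410) .leaf) (nat_lit 29147816757250) .leaf) (nat_lit 29147816888450) (.node (.node .leaf (nat_lit 29147816986754) .leaf) (nat_lit 29149947310208) .leaf))))))) (nat_lit 29149947473920) (.node (.node (.node (.node (.node (.node (.node (.node .leaf (nat_lit 29149947605120) .leaf) (nat_lit 29149947703296) (.node .leaf (nat_lit 29149959815171) .leaf)) (nat_lit 29149959979139) (.node (.node .leaf (nat_lit 29149960110211) .leaf) (nat_lit 29149960208387) .leaf)) (nat_lit 29152090521601) (.node (.node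 (.node .leaf (nat_lit 29152090685441) .leaf) (nat_lit 29152090816513) .leaf) (nat_lit 29152090914817) (.node (.node .leaf (nat_lit 29152111569026) .leaf) (nat_lit 29152111732866) .leaf))) (nat_lit 29152111863810) (.node (.node (.node (.node .leaf (nat_lit 29152111962114) .leaf) (nat_lit 29549375037442) .leaf) (nat_lit 29549375137794) (.node (.node .leaf (nat_lit 29549375270914) .leaf) (nat_lit 29549375436802) .leaf)) (nat_lit 29549396097025) (.node (.node (.node .leaf (nat_lit 29549396193281) .leaf) (nat_lit 29549396322433) .leaf) (nat_lit 29549396484225) (.node (.node .leaf (nat_lit 29551526674435) .leaf) (nat_lit 29551526840451) .leaf)))) (nat_lit 29551526973443) (.node (.node (.node (.node (.node .leaf (nat_lit 29551527073923) .leaf) (nat_lit 29551539339264) .leaf) (nat_lit 29551539505280) (.node (.node .leaf (nat_lit 29551539638400) .leaf) (nat_lit 29551539738624) .leaf)) (nat_lit 29553674190850) (.node (.node (.node .leaf (nat_lit 29553674291202) .leaf) (nat_lit 29553674424322) .leaf) (nat_lit 29553674590210) (.node (.node .leaf (nat_lit 29553686870145) .leaf) (nat_lit 29553686966401) .leaf))) (nat_lit 29553687095297)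 (.node (.node (.node (.node .leaf (nat_lit 29553687257089) .leaf) (nat_lit 29555817488387) .leaf) (nat_lit 29555817588867) (.node (.node .leaf (nat_lit 29555817721859) .leaf) (nat_lit 29555817887875) .leaf)) (nat_lit 29555838533760) (.node (.node (.node .leaf (nat_lit 29555838633984) .leaf) (nat_lit 29555838767104) .leaf) (nat_lit 29555838933120) (.node (.node .leaf (nat_lit 29824253032450) .leaf) (nat_lit 29824253042690) .leaf))))) (nat_lit 29824253181954) (.node (.node (.node (.node (.node (.node .leaf (nat_lit 29824253401090) .leaf) (nat_lit 29824273917953) (.node .leaf (nat_lit 29824274100225) .leaf)) (nat_lit 29824274206849) (.node (.node .leaf (nat_lit 29824274319489) .leaf) (nat_lit 29826408775683) .leaf)) (nat_lit 29826409027715) (.node (.node (.node .leaf (nat_lit 29826409150467) .leaf) (nat_lit 29826409193603) .leaf) (nat_lit 29826429831168) (.node (.node .leaf (nat_lit 29826429915264) .leaf) (nat_lit 29826430070912) .leaf))) (nat_lit 29826430216192) (.node (.node (.node (.node .leaf (nat_lit 29828552065025) .leaf) (nat_lit 29828552317057) .leaf) (nat_lit 29828552439809) (.node (.node .leaf (nat_lit 29828552482945)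 .leaf) (nat_lit 29828564742274) .leaf)) (nat_lit 29828564822018) (.node (.node (.node .leaf (nat_lit 29828564961282) .leaf) (nat_lit 29828565110914) .leaf) (nat_lit 29830708029568) (.node (.node .leaf (nat_lit 29830708113536) .leaf) (nat_lit 29830708252800) .leaf)))) (nat_lit 29830708398208) (.node (.node (.node (.node (.node .leaf (nat_lit 29830720520195) .leaf) (nat_lit 29830720772099) .leaf) (nat_lit 29830720895107) (.node (.node .leaf (nat_lit 29830720938115) .leaf) (nat_lit 29832842977283) .leaf)) (nat_lit 29832843004035) (.node (.node (.node .leaf (nat_lit 29832843116547) .leaf) (nat_lit 29832843159683) .leaf) (nat_lit 29832864020480) (.node (.node .leaf (nat_lit 29832864043136) .leaf) (nat_lit 29832864159872) .leaf))) (nat_lit 29832864198656) (.node (.node (.node (.node .leaf (nat_lit 29834998775810) .leaf) (nat_lit 29834998818946) .leaf) (nat_lit 29834999193730) (.node (.node .leaf (nat_lit 29834999220226) .leaf) (nat_lit 29835019681793) .leaf)) (nat_lit 29835019724929) (.node (.node (.node .leaf (nat_lit 29835020099585) .leaf) (nat_lit 29835020126337) .leaf) (nat_lit 29837142149120) (.node (.node .leaf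 (nat_lit 29837142188160) .leaf) (nat_lit 29837142272128) .leaf)))))) (nat_lit 29837142294528) (.node (.node (.node (.node (.node (.node (.node .leaf (nat_lit 29837154807939) .leaf) (nat_lit 29837154834435) (.node .leaf (nat_lit 29837154914435) .leaf)) (nat_lit 29837154957315) (.node (.node .leaf (nat_lit 29839297958017) .leaf) (nat_lit 29839298000897) .leaf)) (nat_lit 29839298343041) (.node (.node (.node .leaf (nat_lit 29839298369537) .leaf) (nat_lit 29839310483458) .leaf) (nat_lit 29839310510210) (.node (.node .leaf (nat_lit 29839310852226) .leaf) (nat_lit 29839310895106) .leaf))) (nat_lit 29961691998210) (.node (.node (.node (.node .leaf (nat_lit 29961692020738) .leaf) (nat_lit 29961692139522) .leaf) (nat_lit 29961692182530) (.node (.node .leaf (nat_lit 29961713055745) .leaf) (nat_lit 29961713078273) .leaf)) (nat_lit 29961713156225) (.node (.node (.node .leaf (nat_lit 29961713199233) .leaf) (nat_lit 29963847729155) .leaf) (nat_lit 29963847772163) (.node (.node .leaf (nat_lit 29963848153219) .leaf) (nat_lit 29963848175747) .leaf)))) (nat_lit 29963868784640) (.node (.node (.node (.node (.node .leaf (nat_lit 29963868823552)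 .leaf) (nat_lit 29963869171712) .leaf) (nat_lit 29963869198336) (.node (.node .leaf (nat_lit 29965986824193) .leaf) (nat_lit 29965986867201) .leaf)) (nat_lit 29965987248257) (.node (.node (.node .leaf (nat_lit 29965987270785) .leaf) (nat_lit 29966007890050) .leaf) (nat_lit 29966007916674) (.node (.node .leaf (nat_lit 29966008256642) .leaf) (nat_lit 29966008295554) .leaf))) (nat_lit 29968142831744) (.node (.node (.node (.node .leaf (nat_lit 29968142874752) .leaf) (nat_lit 29968142985344) .leaf) (nat_lit 29968143007872) (.node (.node .leaf (nat_lit 29968163895299) .leaf) (nat_lit 29968163917827) .leaf)) (nat_lit 29968163995779) (.node (.node (.node .leaf (nat_lit 29968164038787) .leaf) (nat_lit 29970290309251) .leaf) (nat_lit 29970290321411) (.node (.node .leaf (nat_lit 29970290462723) .leaf) (nat_lit 29970290671747) .leaf))))) (nat_lit 29970311209088) (.node (.node (.node (.node (.node (.node .leaf (nat_lit 29970311360512) .leaf) (nat_lit 29970311497856) .leaf) (nat_lit 29970311583744) (.node (.node .leaf (nat_lit 29972429340674) .leaf) (nat_lit 29972429459458) .leaf)) (nat_lit 29972429580418) (.node (.node (.node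 .leaf (nat_lit 29972429764738) .leaf) (nat_lit 29972450246657) .leaf) (nat_lit 29972450496513) (.node (.node .leaf (nat_lit 29972450617345) .leaf) (nat_lit 29972450670593) .leaf))) (nat_lit 29974585249792) (.node (.node (.node (.node .leaf (nat_lit 29974585294848) .leaf) (nat_lit 29974585424000) .leaf) (nat_lit 29974585665664) (.node (.node .leaf (nat_lit 29974606162051) .leaf) (nat_lit 29974606346371) .leaf)) (nat_lit 29974606446723) (.node (.node (.node .leaf (nat_lit 29974606565507) .leaf) (nat_lit 29976724371457) .leaf) (nat_lit 29976724383873) (.node (.node .leaf (nat_lit 29976724525185) .leaf) (nat_lit 29976724733953) .leaf)))) (nat_lit 29976745269378) (.node (.node (.node (.node (.node .leaf (nat_lit 29976745412610) .leaf) (nat_lit 29976745570434) .leaf) (nat_lit 29976745648130) (.node (.node .leaf (nat_lit 30374008856578) .leaf) (nat_lit 30374008883202) .leaf)) (nat_lit 30374009004034) (.node (.node (.node .leaf (nat_lit 30374009030658) .leaf) (nat_lit 30374029916161) .leaf) (nat_lit 30374029938689) (.node (.node .leaf (nat_lit 30374030030977) .leaf) (nat_lit 30374030053505) .leaf))) (nat_lit 30376168783875)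 (.node (.node (.node (.node .leaf (nat_lit 30376168826883) .leaf) (nat_lit 30376169193603) .leaf) (nat_lit 30376169236611) (.node (.node .leaf (nat_lit 30376181448704) .leaf) (nat_lit 30376181491712) .leaf)) (nat_lit 30376181825536) (.node (.node (.node .leaf (nat_lit 30376181868544) .leaf) (nat_lit 30378307878913) .leaf) (nat_lit 30378307921921) (.node (.node .leaf (nat_lit 30378308288641) .leaf) (nat_lit 30378308331649) .leaf))))))))
def t1_14 : BT := (.node (.node (.node (.node (.node (.node (.node (.node (.node .leaf (nat_lit 30378320580738) .leaf) (nat_lit 30378320935042) (.node .leaf (nat_lit 30378320957570) .leaf)) (nat_lit 30380459694208) (.node (.node .leaf (nat_lit 30380459733120) .leaf) (nat_lit 30380459841664) .leaf)) (nat_lit 30380459880576) (.node (.node (.node .leaf (nat_lit 30380480755715) .leaf) (nat_lit 30380480778243) .leaf) (nat_lit 30380480870531) (.node (.node .leaf (nat_lit 30380480893059) .leaf) (nat_lit 30382602958976) .leaf))) (nat_lit 30382603026560) (.node (.node (.node (.node .leaf (nat_lit 30382603141120) .leaf) (nat_lit 30382603368448) .leaf) (nat_lit 30382615472259) (.node (.node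 .leaf (nat_lit 30382615679107) .leaf) (nat_lit 30382615793795) .leaf)) (nat_lit 30382615881859) (.node (.node (.node .leaf (nat_lit 30384754651265) .leaf) (nat_lit 30384754690049) .leaf) (nat_lit 30384754837505) (.node (.node .leaf (nat_lit 30384755028097) .leaf) (nat_lit 30384775559298) .leaf)))) (nat_lit 30384775725058) (.node (.node (.node (.node (.node .leaf (nat_lit 30384775872642) .leaf) (nat_lit 30384775936002) .leaf) (nat_lit 30386893707395) (.node (.node .leaf (nat_lit 30386893758467) .leaf) (nat_lit 30386893905923) .leaf)) (nat_lit 30386894084227) (.node (.node (.node .leaf (nat_lit 30386914617344) .leaf) (nat_lit 30386914791552) .leaf) (nat_lit 30386914938880) (.node (.node .leaf (nat_lit 30386914994304) .leaf) (nat_lit 30389053784066) .leaf))) (nat_lit 30389053880322) (.node (.node (.node (.node .leaf (nat_lit 30389053995138) .leaf) (nat_lit 30389054193794) .leaf) (nat_lit 30389066311809) (.node (.node .leaf (nat_lit 30389066518657) .leaf) (nat_lit 30389066633345) .leaf)) (nat_lit 30389066721409) (.node (.node (.node .leaf (nat_lit 30511447713794) .leaf) (nat_lit 30511447922690) .leaf) (nat_lit 30511448031234)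 (.node (.node .leaf (nat_lit 30511448125442) .leaf) (nat_lit 30511468769281) .leaf))))) (nat_lit 30511468806145) (.node (.node (.node (.node (.node (.node .leaf (nat_lit 30511468959873) .leaf) (nat_lit 30511469144193) (.node .leaf (nat_lit 30513607864323) .leaf)) (nat_lit 30513607901315) (.node (.node .leaf (nat_lit 30513608054787) .leaf) (nat_lit 30513608239235) .leaf)) (nat_lit 30513620365312) (.node (.node (.node .leaf (nat_lit 30513620566144) .leaf) (nat_lit 30513620686976) .leaf) (nat_lit 30513620772864) (.node (.node .leaf (nat_lit 30515742726273) .leaf) (nat_lit 30515742779393) .leaf))) (nat_lit 30515742929025) (.node (.node (.node (.node .leaf (nat_lit 30515743096833) .leaf) (nat_lit 30515763617794) .leaf) (nat_lit 30515763826818) (.node (.node .leaf (nat_lit 30515763939458) .leaf) (nat_lit 30515764033538) .leaf)) (nat_lit 30517902741504) (.node (.node (.node .leaf (nat_lit 30517902958592) .leaf) (nat_lit 30517903079424) .leaf) (nat_lit 30517903149056) (.node (.node .leaf (nat_lit 30517915414659) .leaf) (nat_lit 30517915451523) .leaf)))) (nat_lit 30517915604995) (.node (.node (.node (.node (.node .leaf (nat_lit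 30517915789315) .leaf) (nat_lit 30520050399232) .leaf) (nat_lit 30520050421888) (.node (.node .leaf (nat_lit 30520050540672) .leaf) (nat_lit 30520050567168) .leaf)) (nat_lit 30520062912515) (.node (.node (.node .leaf (nat_lit 30520062935171) .leaf) (nat_lit 30520063062019) .leaf) (nat_lit 30520063088771) (.node (.node .leaf (nat_lit 30522185089025) .leaf) (nat_lit 30522185132161) .leaf))) (nat_lit 30522185504769) (.node (.node (.node (.node .leaf (nat_lit 30522185543809) .leaf) (nat_lit 30522206128130) .leaf) (nat_lit 30522206167170) (.node (.node .leaf (nat_lit 30522206539906) .leaf) (nat_lit 30522206582786) .leaf)) (nat_lit 30524345380995) (.node (.node (.node .leaf (nat_lit 30524345407491) .leaf) (nat_lit 30524345493635) .leaf) (nat_lit 30524345516035) (.node (.node .leaf (nat_lit 30524357885952) .leaf) (nat_lit 30524357929088) .leaf)))))) (nat_lit 30524358006912) (.node (.node (.node (.node (.node (.node (.node .leaf (nat_lit 30524358045696) .leaf) (nat_lit 30526480084994) (.node .leaf (nat_lit 30526480111746) .leaf)) (nat_lit 30526480459906) (.node (.node .leaf (nat_lit 30526480482306) .leaf) (nat_lit 30526501116033)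 .leaf)) (nat_lit 30526501154817) (.node (.node (.node .leaf (nat_lit 30526501486721) .leaf) (nat_lit 30526501529601) .leaf) (nat_lit 30786325659650) (.node (.node .leaf (nat_lit 30786325774338) .leaf) (nat_lit 30786325884930) .leaf))) (nat_lit 30786326032386) (.node (.node (.node (.node .leaf (nat_lit 30786350743553) .leaf) (nat_lit 30786350891009) .leaf) (nat_lit 30786351132801) (.node (.node .leaf (nat_lit 30786351247489) .leaf) (nat_lit 30788473143299) .leaf)) (nat_lit 30788473258115) (.node (.node (.node .leaf (nat_lit 30788473368579) .leaf) (nat_lit 30788473516163) .leaf) (nat_lit 30788498233344) (.node (.node .leaf (nat_lit 30788498380928) .leaf) (nat_lit 30788498614400) .leaf)))) (nat_lit 30788498728960) (.node (.node (.node (.node (.node .leaf (nat_lit 30790620590083) .leaf) (nat_lit 30790620737539) .leaf) (nat_lit 30790620889219) (.node (.node .leaf (nat_lit 30790621003907) .leaf) (nat_lit 30790645831808) .leaf)) (nat_lit 30790645946496) (.node (.node (.node .leaf (nat_lit 30790645983360) .leaf) (nat_lit 30790646130816) .leaf) (nat_lit 30792768040962) (.node (.node .leaf (nat_lit 30792768188546) .leaf)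 (nat_lit 30792768405634) .leaf))) (nat_lit 30792768520194) (.node (.node (.node (.node .leaf (nat_lit 30792793276545) .leaf) (nat_lit 30792793391105) .leaf) (nat_lit 30792793501825) (.node (.node .leaf (nat_lit 30792793649153) .leaf) (nat_lit 31207240826882) .leaf)) (nat_lit 31207240976386) (.node (.node (.node .leaf (nat_lit 31207241080962) .leaf) (nat_lit 31207241197698) .leaf) (nat_lit 31207249149953) (.node (.node .leaf (nat_lit 31207249299457) .leaf) (nat_lit 31207249534977) .leaf))))) (nat_lit 31207249651713) (.node (.node (.node (.node (.node (.node .leaf (nat_lit 31209388244995) .leaf) (nat_lit 31209388394627) .leaf) (nat_lit 31209388630147) (.node (.node .leaf (nat_lit 31209388746755) .leaf) (nat_lit 31209396705280) .leaf)) (nat_lit 31209396850816) (.node (.node (.node .leaf (nat_lit 31209396959232) .leaf) (nat_lit 31209397072000) .leaf) (nat_lit 31211539968131) (.node (.node .leaf (nat_lit 31211540117635) .leaf) (nat_lit 31211540271235) .leaf))) (nat_lit 31211540387971) (.node (.node (.node (.node .leaf (nat_lit 31211548416000) .leaf) (nat_lit 31211548561408) .leaf) (nat_lit 31211548604544) (.node (.node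 .leaf (nat_lit 31211548717184) .leaf) (nat_lit 31213687484546) .leaf)) (nat_lit 31213687633922) (.node (.node (.node .leaf (nat_lit 31213687722114) .leaf) (nat_lit 31213687838722) .leaf) (nat_lit 31213695795201) (.node (.node .leaf (nat_lit 31213695944833) .leaf) (nat_lit 31213696180353) .leaf)))) (nat_lit 31213696296961) (.node (.node (.node (.node (.node .leaf (nat_lit 31473520429058) .leaf) (nat_lit 31473520588802) .leaf) (nat_lit 31473520615426) (.node (.node .leaf (nat_lit 31473520791554) .leaf) (nat_lit 31473545510913) .leaf)) (nat_lit 31473545703425) (.node (.node (.node .leaf (nat_lit 31473545865345) .leaf) (nat_lit 31473546008705) .leaf) (nat_lit 31475672152067) (.node (.node .leaf (nat_lit 31475672221827) .leaf) (nat_lit 31475672322051) .leaf))) (nat_lit 31475672440963) (.node (.node (.node (.node .leaf (nat_lit 31475697231872) .leaf) (nat_lit 31475697342592) .leaf) (nat_lit 31475697565824) (.node (.node .leaf (nat_lit 31475697659904) .leaf) (nat_lit 31477815357443) .leaf)) (nat_lit 31477815459843) (.node (.node (.node .leaf (nat_lit 31477815695491) .leaf) (nat_lit 31477815781507) .leaf) (nat_lit 31477840597120)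 (.node (.node .leaf (nat_lit 31477840683136) .leaf) (nat_lit 31477840787584) .leaf))))))) (nat_lit 31477840889984) (.node (.node (.node (.node (.node (.node (.node (.node .leaf (nat_lit 31479967023106) .leaf) (nat_lit 31479967150210) (.node .leaf (nat_lit 31479967377538) .leaf)) (nat_lit 31479967455234) (.node (.node .leaf (nat_lit 31479992285313) .leaf) (nat_lit 31479992354817) .leaf)) (nat_lit 31479992455297) (.node (.node (.node .leaf (nat_lit 31479992573953) .leaf) (nat_lit 31619549233153) .leaf) (nat_lit 31619549427841) (.node (.node .leaf (nat_lit 31619549591681) .leaf) (nat_lit 31619549724673) .leaf))) (nat_lit 31619574466562) (.node (.node (.node (.node .leaf (nat_lit 31619574657154) .leaf) (nat_lit 31619574689794) .leaf) (nat_lit 31619574827138) (.node (.node .leaf (nat_lit 31621701017728) .leaf) (nat_lit 31621701130368) .leaf)) (nat_lit 31621701228544) (.node (.node (.node .leaf (nat_lit 31621701312512) .leaf) (nat_lit 31621726122115) .leaf) (nat_lit 31621726226563) (.node (.node .leaf (nat_lit 31621726455939) .leaf) (nat_lit 31621726548099) .leaf)))) (nat_lit 31623848468608) (.node (.node (.node (.node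 (.node .leaf (nat_lit 31623848646656) .leaf) (nat_lit 31623848679552) .leaf) (nat_lit 31623848828928) (.node (.node .leaf (nat_lit 31623873560579) .leaf) (nat_lit 31623873755267) .leaf)) (nat_lit 31623873919107) (.node (.node (.node .leaf (nat_lit 31623874052099) .leaf) (nat_lit 31625991684097) .leaf) (nat_lit 31625991878657) (.node (.node .leaf (nat_lit 31625992042497) .leaf) (nat_lit 31625992175617) .leaf))) (nat_lit 31626016929922) (.node (.node (.node (.node .leaf (nat_lit 31626017095810) .leaf) (nat_lit 31626017128450) .leaf) (nat_lit 31626017290242) (.node (.node .leaf (nat_lit 31885837287426) .leaf) (nat_lit 31885837334530) .leaf)) (nat_lit 31885837598722) (.node (.node (.node .leaf (nat_lit 31885837645826) .leaf) (nat_lit 31885862371329) .leaf) (nat_lit 31885862418433) (.node (.node .leaf (nat_lit 31885862846593) .leaf) (nat_lit 31885862893697) .leaf))))) (nat_lit 31887993274499) (.node (.node (.node (.node (.node (.node .leaf (nat_lit 31887993321603) .leaf) (nat_lit 31887993356291) (.node .leaf (nat_lit 31887993403395) .leaf)) (nat_lit 31888001620096) (.node (.node .leaf (nat_lit 31888001654912) .leaf)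 (nat_lit 31888001800320) .leaf)) (nat_lit 31888001835136) (.node (.node (.node .leaf (nat_lit 31890140719104) .leaf) (nat_lit 31890140745728) .leaf) (nat_lit 31890140899328) (.node (.node .leaf (nat_lit 31890140925952) .leaf) (nat_lit 31890149146755) .leaf))) (nat_lit 31890149193859) (.node (.node (.node (.node .leaf (nat_lit 31890149228547) .leaf) (nat_lit 31890149275651) .leaf) (nat_lit 31892279656449) (.node (.node .leaf (nat_lit 31892279703553) .leaf) (nat_lit 31892280131713) .leaf)) (nat_lit 31892280178817) (.node (.node (.node .leaf (nat_lit 31892304916610) .leaf) (nat_lit 31892304939138) .leaf) (nat_lit 31892305227906) (.node (.node .leaf (nat_lit 31892305250434) .leaf) (nat_lit 31894427203714) .leaf)))) (nat_lit 31894427353090) (.node (.node (.node (.node (.node .leaf (nat_lit 31894427449474) .leaf) (nat_lit 31894427598850) .leaf) (nat_lit 31894452435073) (.node (.node .leaf (nat_lit 31894452453377) .leaf) (nat_lit 31894452680705) .leaf)) (nat_lit 31894452699265) (.node (.node (.node .leaf (nat_lit 31896583012355) .leaf) (nat_lit 31896583256067) .leaf) (nat_lit 31896583290883) (.node (.node .leaf (nat_lit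 31896583534595) .leaf) (nat_lit 31896591472640) .leaf))) (nat_lit 31896591572992) (.node (.node (.node (.node .leaf (nat_lit 31896591751296) .leaf) (nat_lit 31896591851648) .leaf) (nat_lit 31898730571904) (.node (.node .leaf (nat_lit 31898730664064) .leaf) (nat_lit 31898730850304) .leaf)) (nat_lit 31898730942464) (.node (.node (.node .leaf (nat_lit 31898738884611) .leaf) (nat_lit 31898739128323) .leaf) (nat_lit 31898739163139) (.node (.node .leaf (nat_lit 31898739406851) .leaf) (nat_lit 31900869673089) .leaf)))))) (nat_lit 31900869785601) (.node (.node (.node (.node (.node (.node (.node .leaf (nat_lit 31900869918721) .leaf) (nat_lit 31900870031489) (.node .leaf (nat_lit 31900894785538) .leaf)) (nat_lit 31900895004802) (.node (.node .leaf (nat_lit 31900895031298) .leaf) (nat_lit 31900895250562) .leaf)) (nat_lit 32298154113026) (.node (.node (.node .leaf (nat_lit 32298154264578) .leaf) (nat_lit 32298154387458) .leaf) (nat_lit 32298154547202) (.node (.node .leaf (nat_lit 32298179360769) .leaf) (nat_lit 32298179381249) .leaf))) (nat_lit 32298179602561) (.node (.node (.node (.node .leaf (nat_lit 32298179631233) .leaf)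 (nat_lit 32300310020099) .leaf) (nat_lit 32300310130819) (.node (.node .leaf (nat_lit 32300310269955) .leaf) (nat_lit 32300310372483) .leaf)) (nat_lit 32300318332928) (.node (.node (.node .leaf (nat_lit 32300318566528) .leaf) (nat_lit 32300318607488) .leaf) (nat_lit 32300318849024) (.node (.node .leaf (nat_lit 32302461652992) .leaf) (nat_lit 32302461821056) .leaf)))) (nat_lit 32302461927552) (.node (.node (.node (.node (.node .leaf (nat_lit 32302462103552) .leaf) (nat_lit 32302470133891) .leaf) (nat_lit 32302470154243) (.node (.node .leaf (nat_lit 32302470375555) .leaf) (nat_lit 32302470404099) .leaf)) (nat_lit 32304600840321) (.node (.node (.node .leaf (nat_lit 32304600860801) .leaf) (nat_lit 32304601081857) .leaf) (nat_lit 32304601110529) (.node (.node .leaf (nat_lit 32304625911810) .leaf) (nat_lit 32304626087938) .leaf))) (nat_lit 32304626194434) (.node (.node (.node (.node .leaf (nat_lit 32304626362370) .leaf) (nat_lit 32306752454658) .leaf) (nat_lit 32306752501890) (.node (.node .leaf (nat_lit 32306752804866) .leaf) (nat_lit 32306752839810) .leaf)) (nat_lit 32306760777729) (.node (.node (.node .leaf (nat_lit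 32306760824961) .leaf) (nat_lit 32306761259137) .leaf) (nat_lit 32306761293825) (.node (.node .leaf (nat_lit 32308891633795) .leaf) (nat_lit 32308891676675) .leaf))))) (nat_lit 32308891815939) (.node (.node (.node (.node (.node (.node .leaf (nat_lit 32308891854979) .leaf) (nat_lit 32308916867200) .leaf) (nat_lit 32308916905984) (.node (.node .leaf (nat_lit 32308916914304) .leaf) (nat_lit 32308916957184) .leaf)) (nat_lit 32311043188736) (.node (.node (.node .leaf (nat_lit 32311043215488) .leaf) (nat_lit 32311043633152) .leaf) (nat_lit 32311043655808) (.node (.node .leaf (nat_lit 32311068409987) .leaf) (nat_lit 32311068456963) .leaf))) (nat_lit 32311068727299) (.node (.node (.node (.node .leaf (nat_lit 32311068762243) .leaf) (nat_lit 32313199233025) .leaf) (nat_lit 32313199276161) (.node (.node .leaf (nat_lit 32313199317121) .leaf) (nat_lit 32313199355905) .leaf)) (nat_lit 32313207568514) (.node (.node (.node .leaf (nat_lit 32313207586818) .leaf) (nat_lit 32313207775362) .leaf) (nat_lit 32313207805954) (.node (.node .leaf (nat_lit 32573032056834) .leaf) (nat_lit 32573032120322) .leaf)))) (nat_lit 32573032337410) (.node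 (.node (.node (.node (.node .leaf (nat_lit 32573032404994) .leaf) (nat_lit 32573057138689) .leaf) (nat_lit 32573057337345) (.node (.node .leaf (nat_lit 32573057456257) .leaf) (nat_lit 32573057650817) .leaf)) (nat_lit 32575192039427) (.node (.node (.node .leaf (nat_lit 32575192238211) .leaf) (nat_lit 32575192356867) .leaf) (nat_lit 32575192551555) (.node (.node .leaf (nat_lit 32575200514048) .leaf) (nat_lit 32575200581760) .leaf))) (nat_lit 32575200790656) (.node (.node (.node (.node .leaf (nat_lit 32575200854016) .leaf) (nat_lit 32577335419008) .leaf) (nat_lit 32577335486464) (.node (.node .leaf (nat_lit 32577335703552) .leaf) (nat_lit 32577335767168) .leaf)) (nat_lit 32577343717379) (.node (.node (.node .leaf (nat_lit 32577343916163) .leaf) (nat_lit 32577344034819) .leaf) (nat_lit 32577344229507) (.node (.node .leaf (nat_lit 32579478665217) .leaf) (nat_lit 32579478859777) .leaf))))))))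
def t1_15 : BT := (.node (.node (.node (.node (.node (.node (.node (.node (.node .leaf (nat_lit 32579479103617) .leaf) (nat_lit 32579503898754) (.node .leaf (nat_lit 32579503966338) .leaf)) (nat_lit 32579504117890) (.node (.node .leaf (nat_lit 32579504181378) .leaf) (nat_lit 32581630494721) .leaf)) (nat_lit 32581630537857) (.node (.node (.node .leaf (nat_lit 32581630582913) .leaf) (nat_lit 32581630613505) .leaf) (nat_lit 32581638815746) (.node (.node .leaf (nat_lit 32581638862978) .leaf) (nat_lit 32581639038978) .leaf))) (nat_lit 32581639065730) (.node (.node (.node (.node .leaf (nat_lit 32583773607936) .leaf) (nat_lit 32583773642880) .leaf) (nat_lit 32583774056448) (.node (.node .leaf (nat_lit 32583774079104) .leaf) (nat_lit 32583798835203) .leaf)) (nat_lit 32583798878339) (.node (.node (.node .leaf (nat_lit 32583799152771) .leaf) (nat_lit 32583799183363) .leaf) (nat_lit 32585917022211) (.node (.node .leaf (nat_lit 32585917069443) .leaf) (nat_lit 32585917212803) .leaf)))) (nat_lit 32585917239299) (.node (.node (.node (.node (.node .leaf (nat_lit 32585942261888) .leaf) (nat_lit 32585942292480) .leaf) (nat_lit 32585942304896)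 (.node (.node .leaf (nat_lit 32585942347776) .leaf) (nat_lit 32588077021314) .leaf)) (nat_lit 32588077039618) (.node (.node (.node .leaf (nat_lit 32588077355138) .leaf) (nat_lit 32588077393922) .leaf) (nat_lit 32588085329921) (.node (.node .leaf (nat_lit 32588085377153) .leaf) (nat_lit 32588085815425) .leaf))) (nat_lit 32588085841921) (.node (.node (.node (.node .leaf (nat_lit 32710471075842) .leaf) (nat_lit 32710471118850) .leaf) (nat_lit 32710471268354) (.node (.node .leaf (nat_lit 32710471286786) .leaf) (nat_lit 32710496288769) .leaf)) (nat_lit 32710496335873) (.node (.node (.node .leaf (nat_lit 32710496383105) .leaf) (nat_lit 32710496405633) .leaf) (nat_lit 32712630992899) (.node (.node .leaf (nat_lit 32712631040003) .leaf) (nat_lit 32712631480451) .leaf))))) (nat_lit 32712631502979) (.node (.node (.node (.node (.node (.node .leaf (nat_lit 32712639467520) .leaf) (nat_lit 32712639506432) (.node .leaf (nat_lit 32712639782912) .leaf)) (nat_lit 32712639813632) (.node (.node .leaf (nat_lit 32714778566784) .leaf) (nat_lit 32714778597504) .leaf)) (nat_lit 32714778873984) (.node (.node (.node .leaf (nat_lit 32714778912896)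 .leaf) (nat_lit 32714786865155) .leaf) (nat_lit 32714786912259) (.node (.node .leaf (nat_lit 32714787352707) .leaf) (nat_lit 32714787375235) .leaf))) (nat_lit 32716913573889) (.node (.node (.node (.node .leaf (nat_lit 32716913620993) .leaf) (nat_lit 32716913668225) .leaf) (nat_lit 32716913690753) (.node (.node .leaf (nat_lit 32716938705026) .leaf) (nat_lit 32716938723458) .leaf)) (nat_lit 32716938872962) (.node (.node (.node .leaf (nat_lit 32716938915970) .leaf) (nat_lit 32719060860929) .leaf) (nat_lit 32719061057537) (.node (.node .leaf (nat_lit 32719061174273) .leaf) (nat_lit 32719061370881) .leaf)))) (nat_lit 32719086094338) (.node (.node (.node (.node (.node .leaf (nat_lit 32719086159874) .leaf) (nat_lit 32719086403714) .leaf) (nat_lit 32719086469250) (.node (.node .leaf (nat_lit 32721220950016) .leaf) (nat_lit 32721221146752) .leaf)) (nat_lit 32721221226496) (.node (.node (.node .leaf (nat_lit 32721221423232) .leaf) (nat_lit 32721229400067) .leaf) (nat_lit 32721229465731) (.node (.node .leaf (nat_lit 32721229676675) .leaf) (nat_lit 32721229742083) .leaf))) (nat_lit 32723368495235) (.node (.node (.node (.node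 .leaf (nat_lit 32723368560643) .leaf) (nat_lit 32723368771587) .leaf) (nat_lit 32723368837251) (.node (.node .leaf (nat_lit 32723376826368) .leaf) (nat_lit 32723377023104) .leaf)) (nat_lit 32723377102848) (.node (.node (.node .leaf (nat_lit 32723377299584) .leaf) (nat_lit 32725503410178) .leaf) (nat_lit 32725503475714) (.node (.node .leaf (nat_lit 32725503658114) .leaf) (nat_lit 32725503723650) .leaf)))))) (nat_lit 32725528524929) (.node (.node (.node (.node (.node (.node (.node .leaf (nat_lit 32725528721537) .leaf) (nat_lit 32725528768641) (.node .leaf (nat_lit 32725528965249) .leaf)) (nat_lit 32985348878338) (.node (.node .leaf (nat_lit 32985349017602) .leaf) (nat_lit 32985349218306) .leaf)) (nat_lit 32985349324802) (.node (.node (.node .leaf (nat_lit 32985378316289) .leaf) (nat_lit 32985378422785) .leaf) (nat_lit 32985378500737) (.node (.node .leaf (nat_lit 32985378640001) .leaf) (nat_lit 32987496361987) .leaf))) (nat_lit 32987496501379) (.node (.node (.node (.node .leaf (nat_lit 32987496701955) .leaf) (nat_lit 32987496808579) .leaf) (nat_lit 32987525806080) (.node (.node .leaf (nat_lit 32987525912704) .leaf)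 (nat_lit 32987525982336) .leaf)) (nat_lit 32987526121472) (.node (.node (.node .leaf (nat_lit 32989643923587) .leaf) (nat_lit 32989644030083) .leaf) (nat_lit 32989644107779) (.node (.node .leaf (nat_lit 32989644247043) .leaf) (nat_lit 32989673199616) .leaf)))) (nat_lit 32989673355264) (.node (.node (.node (.node (.node .leaf (nat_lit 32989673539584) .leaf) (nat_lit 32989673662464) .leaf) (nat_lit 32991791374466) (.node (.node .leaf (nat_lit 32991791480834) .leaf) (nat_lit 32991791558658) .leaf)) (nat_lit 32991791698050) (.node (.node (.node .leaf (nat_lit 32991820644353) .leaf) (nat_lit 32991820800129) .leaf) (nat_lit 32991820992513) (.node (.node .leaf (nat_lit 32991821115521) .leaf) (nat_lit 33406264062083) .leaf))) (nat_lit 33406264203395) (.node (.node (.node (.node .leaf (nat_lit 33406264406147) .leaf) (nat_lit 33406264514691) .leaf) (nat_lit 33406276708480) (.node (.node .leaf (nat_lit 33406276845696) .leaf) (nat_lit 33406276921344) .leaf)) (nat_lit 33406277025792) (.node (.node (.node .leaf (nat_lit 33408411611266) .leaf) (nat_lit 33408411752450) .leaf) (nat_lit 33408411824258) (.node (.node .leaf (nat_lit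 33408411932674) .leaf) (nat_lit 33408424128641) .leaf))))) (nat_lit 33408424269825) (.node (.node (.node (.node (.node (.node .leaf (nat_lit 33408424472577) .leaf) (nat_lit 33408424581249) .leaf) (nat_lit 33410563276802) (.node (.node .leaf (nat_lit 33410563434498) .leaf) (nat_lit 33410563489922) .leaf)) (nat_lit 33410563614850) (.node (.node (.node .leaf (nat_lit 33410567417985) .leaf) (nat_lit 33410567559297) .leaf) (nat_lit 33410567762049) (.node (.node .leaf (nat_lit 33410567870593) .leaf) (nat_lit 33412710662147) .leaf))) (nat_lit 33412710819971) (.node (.node (.node (.node .leaf (nat_lit 33412711006339) .leaf) (nat_lit 33412711131139) .leaf) (nat_lit 33412714932352) (.node (.node .leaf (nat_lit 33412715069440) .leaf) (nat_lit 33412715145344) .leaf)) (nat_lit 33412715249664) (.node (.node (.node .leaf (nat_lit 33672543645698) .leaf) (nat_lit 33672543756290) .leaf) (nat_lit 33672543959042) (.node (.node .leaf (nat_lit 33672544102402) .leaf) (nat_lit 33672573085697) .leaf)))) (nat_lit 33672573171713) (.node (.node (.node (.node (.node .leaf (nat_lit 33672573231233) .leaf) (nat_lit 33672573415553) .leaf) (nat_lit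 33674695278595) (.node (.node .leaf (nat_lit 33674695463043) .leaf) (nat_lit 33674695657475) .leaf)) (nat_lit 33674695743619) (.node (.node (.node .leaf (nat_lit 33674716332032) .leaf) (nat_lit 33674716483712) .leaf) (nat_lit 33674716547200) (.node (.node .leaf (nat_lit 33674716665856) .leaf) (nat_lit 33676838692995) .leaf))) (nat_lit 33676838779011) (.node (.node (.node (.node .leaf (nat_lit 33676838838275) .leaf) (nat_lit 33676839022595) .leaf) (nat_lit 33676867966976) (.node (.node .leaf (nat_lit 33676868077568) .leaf) (nat_lit 33676868276224) .leaf)) (nat_lit 33676868419584) (.node (.node (.node .leaf (nat_lit 33678990366850) .leaf) (nat_lit 33678990444546) .leaf) (nat_lit 33678990512130) (.node (.node .leaf (nat_lit 33678990688386) .leaf) (nat_lit 33679011262465) .leaf))))))) (nat_lit 33679011373185) (.node (.node (.node (.node (.node (.node (.node (.node .leaf (nat_lit 33679011575809) .leaf) (nat_lit 33679011719297) (.node .leaf (nat_lit 33818576789632) .leaf)) (nat_lit 33818576910336) (.node (.node .leaf (nat_lit 33818576976000) .leaf) (nat_lit 33818577117184) .leaf)) (nat_lit 33818597699715) (.node (.node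 (.node .leaf (nat_lit 33818597812227) .leaf) (nat_lit 33818598008835) .leaf) (nat_lit 33818598158467) (.node (.node .leaf (nat_lit 33820719972353) .leaf) (nat_lit 33820720158721) .leaf))) (nat_lit 33820720355329) (.node (.node (.node (.node .leaf (nat_lit 33820720431105) .leaf) (nat_lit 33820749400066) .leaf) (nat_lit 33820749582338) (.node (.node .leaf (nat_lit 33820749648002) .leaf) (nat_lit 33820749727874) .leaf)) (nat_lit 33822867456001) (.node (.node (.node .leaf (nat_lit 33822867642497) .leaf) (nat_lit 33822867839105) .leaf) (nat_lit 33822867914753) (.node (.node .leaf (nat_lit 33822896896130) .leaf) (nat_lit 33822897070082) .leaf)))) (nat_lit 33822897135746) (.node (.node (.node (.node (.node .leaf (nat_lit 33822897223682) .leaf) (nat_lit 33825019207808) .leaf) (nat_lit 33825019394176) (.node (.node .leaf (nat_lit 33825019459584) .leaf) (nat_lit 33825019535360) .leaf)) (nat_lit 33825040105475) (.node (.node (.node .leaf (nat_lit 33825040291843) .leaf) (nat_lit 33825040488451) .leaf) (nat_lit 33825040564227) (.node (.node .leaf (nat_lit 34222299570178) .leaf) (nat_lit 34222299600898) .leaf))) (nat_lit 34222299746306)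 (.node (.node (.node (.node .leaf (nat_lit 34222299785218) .leaf) (nat_lit 34222328983553) .leaf) (nat_lit 34222329006081) (.node (.node .leaf (nat_lit 34222329053313) .leaf) (nat_lit 34222329100417) .leaf)) (nat_lit 34224455286787) (.node (.node (.node .leaf (nat_lit 34224455333891) .leaf) (nat_lit 34224455774339) .leaf) (nat_lit 34224455796867) (.node (.node .leaf (nat_lit 34224467953664) .leaf) (nat_lit 34224467996672) .leaf))))) (nat_lit 34224468277248) (.node (.node (.node (.node (.node (.node .leaf (nat_lit 34224468295680) .leaf) (nat_lit 34226607061120) (.node .leaf (nat_lit 34226607079552) .leaf)) (nat_lit 34226607360128) (.node (.node .leaf (nat_lit 34226607403136) .leaf) (nat_lit 34226611159043) .leaf)) (nat_lit 34226611206147) (.node (.node (.node .leaf (nat_lit 34226611646595) .leaf) (nat_lit 34226611669123) .leaf) (nat_lit 34228746268673) (.node (.node .leaf (nat_lit 34228746291201) .leaf) (nat_lit 34228746338433) .leaf))) (nat_lit 34228746385537) (.node (.node (.node (.node .leaf (nat_lit 34228767182978) .leaf) (nat_lit 34228767221890) .leaf) (nat_lit 34228767367298) (.node (.node .leaf (nat_lit 34228767398018)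 .leaf) (nat_lit 34230889474179) .leaf)) (nat_lit 34230889504771) (.node (.node (.node .leaf (nat_lit 34230889680899) .leaf) (nat_lit 34230889781379) .leaf) (nat_lit 34230918770816) (.node (.node .leaf (nat_lit 34230918936576) .leaf) (nat_lit 34230918973568) .leaf)))) (nat_lit 34230919200768) (.node (.node (.node (.node (.node .leaf (nat_lit 34233045286914) .leaf) (nat_lit 34233045387266) .leaf) (nat_lit 34233045612674) (.node (.node .leaf (nat_lit 34233045643394) .leaf) (nat_lit 34233057804289) .leaf)) (nat_lit 34233058035713) (.node (.node (.node .leaf (nat_lit 34233058129921) .leaf) (nat_lit 34233058291713) .leaf) (nat_lit 34235196946561) (.node (.node .leaf (nat_lit 34235197108353) .leaf) (nat_lit 34235197177985) .leaf))) (nat_lit 34235197409409) (.node (.node (.node (.node .leaf (nat_lit 34235201193986) .leaf) (nat_lit 34235201224706) .leaf) (nat_lit 34235201450114) (.node (.node .leaf (nat_lit 34235201550466) .leaf) (nat_lit 34237336043648) .leaf)) (nat_lit 34237336209408) (.node (.node (.node .leaf (nat_lit 34237336270976) .leaf) (nat_lit 34237336498176) .leaf) (nat_lit 34237357090819) (.node (.node .leaf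 (nat_lit 34237357121667) .leaf) (nat_lit 34237357297795) .leaf)))))) (nat_lit 34237357398019) (.node (.node (.node (.node (.node (.node (.node .leaf (nat_lit 34359738492930) .leaf) (nat_lit 34359738525698) (.node .leaf (nat_lit 34359738695682) .leaf)) (nat_lit 34359738793986) (.node (.node .leaf (nat_lit 34359767775233) .leaf) (nat_lit 34359767939073) .leaf)) (nat_lit 34359768010881) (.node (.node (.node .leaf (nat_lit 34359768240257) .leaf) (nat_lit 34361894240259) .leaf) (nat_lit 34361894469763) (.node (.node .leaf (nat_lit 34361894561795) .leaf) (nat_lit 34361894725763) .leaf))) (nat_lit 34361906907136) (.node (.node (.node (.node .leaf (nat_lit 34361907005568) .leaf) (nat_lit 34361907191936) .leaf) (nat_lit 34361907224576) (.node (.node .leaf (nat_lit 34364041820288) .leaf) (nat_lit 34364041918464) .leaf)) (nat_lit 34364042088448) (.node (.node (.node .leaf (nat_lit 34364042121344) .leaf) (nat_lit 34364054306819) .leaf) (nat_lit 34364054536323) (.node (.node .leaf (nat_lit 34364054628355) .leaf) (nat_lit 34364054792323) .leaf)))) (nat_lit 34366180818945) (.node (.node (.node (.node (.node .leaf (nat_lit 34366181048321)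 .leaf) (nat_lit 34366181140609) .leaf) (nat_lit 34366181304449) (.node (.node .leaf (nat_lit 34366210269314) .leaf) (nat_lit 34366210367618) .leaf)) (nat_lit 34366210541698) (.node (.node (.node .leaf (nat_lit 34366210574466) .leaf) (nat_lit 34368336848899) .leaf) (nat_lit 34368336875651) (.node (.node .leaf (nat_lit 34368337018883) .leaf) (nat_lit 34368337066115) .leaf))) (nat_lit 34368349499392) (.node (.node (.node (.node .leaf (nat_lit 34368349522048) .leaf) (nat_lit 34368349542528) .leaf) (nat_lit 34368349577216) (.node (.node .leaf (nat_lit 34370475851778) .leaf) (nat_lit 34370475899010) .leaf)) (nat_lit 34370476206210) (.node (.node (.node .leaf (nat_lit 34370476232706) .leaf) (nat_lit 34370505146369) .leaf) (nat_lit 34370505193601) (.node (.node .leaf (nat_lit 34370505631745) .leaf) (nat_lit 34370505658497) .leaf))))) (nat_lit 34372623480961) (.node (.node (.node (.node (.node (.node .leaf (nat_lit 34372623499265) .leaf) (nat_lit 34372623552641) .leaf) (nat_lit 34372623591425) (.node (.node .leaf (nat_lit 34372652763138) .leaf) (nat_lit 34372652806274) .leaf)) (nat_lit 34372652982402) (.node (.node (.node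 .leaf (nat_lit 34372653012994) .leaf) (nat_lit 34374779172864) .leaf) (nat_lit 34374779191424) (.node (.node .leaf (nat_lit 34374779605120) .leaf) (nat_lit 34374779643904) .leaf))) (nat_lit 34374791811203) (.node (.node (.node (.node .leaf (nat_lit 34374791849987) .leaf) (nat_lit 34374792132739) .leaf) (nat_lit 34374792151043) (.node (.node .leaf (nat_lit 34634616322050) .leaf) (nat_lit 34634616504322) .leaf)) (nat_lit 34634616592386) (.node (.node (.node .leaf (nat_lit 34634616791042) .leaf) (nat_lit 34634645757953) .leaf) (nat_lit 34634645821441) (.node (.node .leaf (nat_lit 34634645995649) .leaf) (nat_lit 34634646075521) .leaf)))) (nat_lit 34636776464387) (.node (.node (.node (.node (.node .leaf (nat_lit 34636776528003) .leaf) (nat_lit 34636776701955) .leaf) (nat_lit 34636776781955) (.node (.node .leaf (nat_lit 34636780576768) .leaf) (nat_lit 34636780771456) .leaf)) (nat_lit 34636780847232) (.node (.node (.node .leaf (nat_lit 34636781058048) .leaf) (nat_lit 34638923835392) .leaf) (nat_lit 34638924025984) (.node (.node .leaf (nat_lit 34638924105856) .leaf) (nat_lit 34638924312576) .leaf))) (nat_lit 34638928107651)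 (.node (.node (.node (.node .leaf (nat_lit 34638928175107) .leaf) (nat_lit 34638928361603) .leaf) (nat_lit 34638928412675) (.node (.node .leaf (nat_lit 34641058848897) .leaf) (nat_lit 34641058912385) .leaf)) (nat_lit 34641059086337) (.node (.node (.node .leaf (nat_lit 34641059166209) .leaf) (nat_lit 34641088120834) .leaf) (nat_lit 34641088327682) (.node (.node .leaf (nat_lit 34641088407554) .leaf) (nat_lit 34641088598018) .leaf))))))))
def t1_16 : BT := (.node (.node (.node (.node (.node (.node (.node (.node (.node .leaf (nat_lit 34643219040384) .leaf) (nat_lit 34643219064960) (.node .leaf (nat_lit 34643219091456) .leaf)) (nat_lit 34643223142403) (.node (.node .leaf (nat_lit 34643223173251) .leaf) (nat_lit 34643223328771) .leaf)) (nat_lit 34643223347331) (.node (.node (.node .leaf (nat_lit 34645353693185) .leaf) (nat_lit 34645353740417) .leaf) (nat_lit 34645354174465) (.node (.node .leaf (nat_lit 34645354209409) .leaf) (nat_lit 34645383120898) .leaf))) (nat_lit 34645383164034) (.node (.node (.node (.node .leaf (nat_lit 34645383467138) .leaf) (nat_lit 34645383505922) .leaf) (nat_lit 34647501307906) (.node (.node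 .leaf (nat_lit 34647501355138) .leaf) (nat_lit 34647501527170) .leaf)) (nat_lit 34647501561858) (.node (.node (.node .leaf (nat_lit 34647530748033) .leaf) (nat_lit 34647530766337) .leaf) (nat_lit 34647530823809) (.node (.node .leaf (nat_lit 34647530854401) .leaf) (nat_lit 34649661331587) .leaf)))) (nat_lit 34649661366275) (.node (.node (.node (.node (.node .leaf (nat_lit 34649661636739) .leaf) (nat_lit 34649661683715) .leaf) (nat_lit 34649665468416) (.node (.node .leaf (nat_lit 34649665486976) .leaf) (nat_lit 34649665904768) .leaf)) (nat_lit 34649665935360) (.node (.node (.node .leaf (nat_lit 35046933293058) .leaf) (nat_lit 35046933319682) .leaf) (nat_lit 35046933473282) (.node (.node .leaf (nat_lit 35046933499906) .leaf) (nat_lit 35046962704385) .leaf))) (nat_lit 35046962726913) (.node (.node (.node (.node .leaf (nat_lit 35046962786433) .leaf) (nat_lit 35046962808961) .leaf) (nat_lit 35049093201923) (.node (.node .leaf (nat_lit 35049093249027) .leaf) (nat_lit 35049093677187) .leaf)) (nat_lit 35049093724291) (.node (.node (.node .leaf (nat_lit 35049097478144) .leaf) (nat_lit 35049097525248) .leaf) (nat_lit 35049097789440)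 (.node (.node .leaf (nat_lit 35049097836544) .leaf) (nat_lit 35051236585600) .leaf))))) (nat_lit 35051236608128) (.node (.node (.node (.node (.node (.node .leaf (nat_lit 35051236896896) .leaf) (nat_lit 35051236919424) (.node .leaf (nat_lit 35051249074179) .leaf)) (nat_lit 35051249121283) (.node (.node .leaf (nat_lit 35051249549443) .leaf) (nat_lit 35051249596547) .leaf)) (nat_lit 35053379989505) (.node (.node (.node .leaf (nat_lit 35053380012033) .leaf) (nat_lit 35053380071553) .leaf) (nat_lit 35053380094081) (.node (.node .leaf (nat_lit 35053400905858) .leaf) (nat_lit 35053400940674) .leaf))) (nat_lit 35053401086082) (.node (.node (.node (.node .leaf (nat_lit 35053401120898) .leaf) (nat_lit 35055527372928) .leaf) (nat_lit 35055527434368) (.node (.node .leaf (nat_lit 35055527647232) .leaf) (nat_lit 35055527716864) .leaf)) (nat_lit 35055548283011) (.node (.node (.node .leaf (nat_lit 35055548467331) .leaf) (nat_lit 35055548549251) .leaf) (nat_lit 35055548758147) (.node (.node .leaf (nat_lit 35057679065217) .leaf) (nat_lit 35057679126529) .leaf)))) (nat_lit 35057679306753) (.node (.node (.node (.node (.node .leaf (nat_lit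 35057679376513) .leaf) (nat_lit 35057691584642) .leaf) (nat_lit 35057691777026) (.node (.node .leaf (nat_lit 35057691826306) .leaf) (nat_lit 35057692026882) .leaf)) (nat_lit 35059830644738) (.node (.node (.node .leaf (nat_lit 35059830837378) .leaf) (nat_lit 35059830886402) .leaf) (nat_lit 35059831087234) (.node (.node .leaf (nat_lit 35059834902657) .leaf) (nat_lit 35059834972161) .leaf))) (nat_lit 35059835152385) (.node (.node (.node (.node .leaf (nat_lit 35059835213953) .leaf) (nat_lit 35061965568131) .leaf) (nat_lit 35061965752451) (.node (.node .leaf (nat_lit 35061965834371) .leaf) (nat_lit 35061966043267) .leaf)) (nat_lit 35061994985472) (.node (.node (.node .leaf (nat_lit 35061995055104) .leaf) (nat_lit 35061995268224) .leaf) (nat_lit 35061995329664) (.node (.node .leaf (nat_lit 281474993487873) .leaf) (nat_lit 281474997682179) .leaf)))))) (nat_lit 281475001876481) (.node (.node (.node (.node (.node (.node (.node .leaf (nat_lit 281475006070787) .leaf) (nat_lit 281477124194305) (.node .leaf (nat_lit 281477128388611) .leaf)) (nat_lit 281477140971649) (.node (.node .leaf (nat_lit 281477145165955) .leaf) (nat_lit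 281481419161601) .leaf)) (nat_lit 281481423355907) (.node (.node (.node .leaf (nat_lit 281481444327427) .leaf) (nat_lit 281481448521729) .leaf) (nat_lit 281483566645249) (.node (.node .leaf (nat_lit 281483570839683) .leaf) (nat_lit 281483575033857) .leaf))) (nat_lit 281483579228291) (.node (.node (.node (.node .leaf (nat_lit 281485722517507) .leaf) (nat_lit 281485726711937) .leaf) (nat_lit 281485730906243) (.node (.node .leaf (nat_lit 281485735100417) .leaf) (nat_lit 281487861612545) .leaf)) (nat_lit 281487865806979) (.node (.node (.node .leaf (nat_lit 281487878389763) .leaf) (nat_lit 281487882584193) .leaf) (nat_lit 281612432443393) (.node (.node .leaf (nat_lit 281612436635651) .leaf) (nat_lit 281612440832001) .leaf)))) (nat_lit 281612445024259) (.node (.node (.node (.node (.node .leaf (nat_lit 281614571542529) .leaf) (nat_lit 281614575734787) .leaf) (nat_lit 281614588319873) (.node (.node .leaf (nat_lit 281614592512131) .leaf) (nat_lit 281618866518145) .leaf)) (nat_lit 281618870710403) (.node (.node (.node .leaf (nat_lit 281618874904707) .leaf) (nat_lit 281618879101057) .leaf) (nat_lit 281621005617153) (.node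 (.node .leaf (nat_lit 281621009809539) .leaf) (nat_lit 281621014005761) .leaf))) (nat_lit 281621018198147) (.node (.node (.node (.node .leaf (nat_lit 281623153102851) .leaf) (nat_lit 281623157299329) .leaf) (nat_lit 281623178268803) (.node (.node .leaf (nat_lit 281623182465025) .leaf) (nat_lit 281625308981377) .leaf)) (nat_lit 281625313173507) (.node (.node (.node .leaf (nat_lit 281625325756547) .leaf) (nat_lit 281625329952769) .leaf) (nat_lit 281749854617601) (.node (.node .leaf (nat_lit 281749858816003) .leaf) (nat_lit 281749863006209) .leaf))))) (nat_lit 281749867204611) (.node (.node (.node (.node (.node (.node .leaf (nat_lit 281752002101249) .leaf) (nat_lit 281752006299651) .leaf) (nat_lit 281752018880641) (.node (.node .leaf (nat_lit 281752023079043) .leaf) (nat_lit 281756305494147) .leaf)) (nat_lit 281756309684353) (.node (.node (.node .leaf (nat_lit 281756313880705) .leaf) (nat_lit 281756318079107) .leaf) (nat_lit 281758461396993) (.node (.node .leaf (nat_lit 281758465595523) .leaf) (nat_lit 281758469785601) .leaf))) (nat_lit 281758473984131) (.node (.node (.node (.node .leaf (nat_lit 281760592105475) .leaf)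 (nat_lit 281760596295809) .leaf) (nat_lit 281760617273475) (.node (.node .leaf (nat_lit 281760621463553) .leaf) (nat_lit 281762739621891) .leaf)) (nat_lit 281762743812225) (.node (.node (.node .leaf (nat_lit 281762756397057) .leaf) (nat_lit 281762760595587) .leaf) (nat_lit 281887293573121) (.node (.node .leaf (nat_lit 281887297769475) .leaf) (nat_lit 281887301961729) .leaf)))) (nat_lit 281887306158083) (.node (.node (.node (.node (.node .leaf (nat_lit 281889449449473) .leaf) (nat_lit 281889453637635) .leaf) (nat_lit 281889466224769) (.node (.node .leaf (nat_lit 281889470417027) .leaf) (nat_lit 281893736062979) .leaf)) (nat_lit 281893740263425) (.node (.node (.node .leaf (nat_lit 281893761232897) .leaf) (nat_lit 281893765425155) .leaf) (nat_lit 281895900364801) (.node (.node .leaf (nat_lit 281895904565379) .leaf) (nat_lit 281895908753409) .leaf))) (nat_lit 281895912953987) (.node (.node (.node (.node .leaf (nat_lit 281898039459843) .leaf) (nat_lit 281898043660417) .leaf) (nat_lit 281898047850627) (.node (.node .leaf (nat_lit 281898052046849) .leaf) (nat_lit 281900186988675) .leaf)) (nat_lit 281900191180801) (.node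 (.node (.node .leaf (nat_lit 281900203761793) .leaf) (nat_lit 281900207962115) .leaf) (nat_lit 282024732524545) (.node (.node .leaf (nat_lit 282024736727043) .leaf) (nat_lit 282024749301761) .leaf))))))) (nat_lit 282024753504259) (.node (.node (.node (.node (.node (.node (.node (.node .leaf (nat_lit 282026896818305) .leaf) (nat_lit 282026901020803) (.node .leaf (nat_lit 282026905208961) .leaf)) (nat_lit 282026909411459) (.node (.node .leaf (nat_lit 282029027491841) .leaf) (nat_lit 282029031694339) .leaf)) (nat_lit 282029052668035) (.node (.node (.node .leaf (nat_lit 282029056854145) .leaf) (nat_lit 282033330989059) .leaf) (nat_lit 282033335175297) (.node (.node .leaf (nat_lit 282033339375619) .leaf) (nat_lit 282033343561857) .leaf))) (nat_lit 282035470106625) (.node (.node (.node (.node .leaf (nat_lit 282035474309251) .leaf) (nat_lit 282035478497281) .leaf) (nat_lit 282035482699907) (.node (.node .leaf (nat_lit 282039765073921) .leaf) (nat_lit 282039769276547) .leaf)) (nat_lit 282039781859459) (.node (.node (.node .leaf (nat_lit 282039786045441) .leaf) (nat_lit 282162179866625) .leaf) (nat_lit 282162184071171) (.node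 (.node .leaf (nat_lit 282162196643841) .leaf) (nat_lit 282162200848387) .leaf)))) (nat_lit 282164335777921) (.node (.node (.node (.node (.node .leaf (nat_lit 282164339978371) .leaf) (nat_lit 282164344164481) .leaf) (nat_lit 282164348369027) (.node (.node .leaf (nat_lit 282166474842241) .leaf) (nat_lit 282166479030403) .leaf)) (nat_lit 282166483222531) (.node (.node (.node .leaf (nat_lit 282166487427073) .leaf) (nat_lit 282170761568259) .leaf) (nat_lit 282170765756545) (.node (.node .leaf (nat_lit 282170786736131) .leaf) (nat_lit 282170790920321) .leaf))) (nat_lit 282172909082625) (.node (.node (.node (.node .leaf (nat_lit 282172913283203) .leaf) (nat_lit 282172917469185) .leaf) (nat_lit 282172921673859) (.node (.node .leaf (nat_lit 282177212444801) .leaf) (nat_lit 282177216632835) .leaf)) (nat_lit 282177229215747) (.node (.node (.node .leaf (nat_lit 282177233416321) .leaf) (nat_lit 282299610443779) .leaf) (nat_lit 282299614625793) (.node (.node .leaf (nat_lit 282299627223043) .leaf) (nat_lit 282299631405057) .leaf))))) (nat_lit 282301757960195) (.node (.node (.node (.node (.node (.node .leaf (nat_lit 282301762142209)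 .leaf) (nat_lit 282301766350851) (.node .leaf (nat_lit 282301770532865) .leaf)) (nat_lit 282303913822337) (.node (.node .leaf (nat_lit 282303918028931) .leaf) (nat_lit 282303922223107) .leaf)) (nat_lit 282303926405121) (.node (.node (.node .leaf (nat_lit 282308200562689) .leaf) (nat_lit 282308204769411) .leaf) (nat_lit 282308225728513) (.node (.node .leaf (nat_lit 282308229935235) .leaf) (nat_lit 282310364870787) .leaf))) (nat_lit 282310369052673) (.node (.node (.node (.node .leaf (nat_lit 282310373257347) .leaf) (nat_lit 282310377439233) .leaf) (nat_lit 282314643013633) (.node (.node .leaf (nat_lit 282314647220355) .leaf) (nat_lit 282314659805315) .leaf)) (nat_lit 282314663987201) (.node (.node (.node .leaf (nat_lit 282437057787907) .leaf) (nat_lit 282437061967873) .leaf) (nat_lit 282437074563075) (.node (.node .leaf (nat_lit 282437078747137) .leaf) (nat_lit 282439196909571) .leaf)))) (nat_lit 282439201101825) (.node (.node (.node (.node (.node .leaf (nat_lit 282439205300227) .leaf) (nat_lit 282439209488385) .leaf) (nat_lit 282441344395265) (.node (.node .leaf (nat_lit 282441348583427) .leaf) (nat_lit 282441369555075)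 .leaf)) (nat_lit 282441373755521) (.node (.node (.node .leaf (nat_lit 282445647921153) .leaf) (nat_lit 282445652129923) .leaf) (nat_lit 282445656309761) (.node (.node .leaf (nat_lit 282445660518531) .leaf) (nat_lit 282447803836547) .leaf))) (nat_lit 282447808024577) (.node (.node (.node (.node .leaf (nat_lit 282447812223107) .leaf) (nat_lit 282447816415233) .leaf) (nat_lit 282452090384513) (.node (.node .leaf (nat_lit 282452094568451) .leaf) (nat_lit 282452107149315) .leaf)) (nat_lit 282452111358081) (.node (.node (.node .leaf (nat_lit 282574505115649) .leaf) (nat_lit 282574509328387) .leaf) (nat_lit 282574513504257) (.node (.node .leaf (nat_lit 282574517716995) .leaf) (nat_lit 282576635887617) .leaf)))))) (nat_lit 282576640100355) (.node (.node (.node (.node (.node (.node (.node .leaf (nat_lit 282576652664961) .leaf) (nat_lit 282576656877699) (.node .leaf (nat_lit 282580931002371) .leaf)) (nat_lit 282580935182337) (.node (.node .leaf (nat_lit 282580956151809) .leaf) (nat_lit 282580960364547) .leaf)) (nat_lit 282583078273025) (.node (.node (.node .leaf (nat_lit 282583082485891) .leaf) (nat_lit 282583086661633) .leaf)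 (nat_lit 282583090874499) (.node (.node .leaf (nat_lit 282585225838595) .leaf) (nat_lit 282585230018689) .leaf))) (nat_lit 282585251004547) (.node (.node (.node (.node .leaf (nat_lit 282585255184385) .leaf) (nat_lit 282587381776515) .leaf) (nat_lit 282587385956353) (.node (.node .leaf (nat_lit 282587398537345) .leaf) (nat_lit 282587402749955) .leaf)) (nat_lit 282711944071169) (.node (.node (.node .leaf (nat_lit 282711948281859) .leaf) (nat_lit 282711952459777) .leaf) (nat_lit 282711956670467) (.node (.node .leaf (nat_lit 282714083235841) .leaf) (nat_lit 282714087446531) .leaf)))) (nat_lit 282714100013185) (.node (.node (.node (.node (.node .leaf (nat_lit 282714104223875) .leaf) (nat_lit 282718378356867) .leaf) (nat_lit 282718382534785) (.node (.node .leaf (nat_lit 282718386731137) .leaf) (nat_lit 282718390941827) .leaf)) (nat_lit 282720517244929) (.node (.node (.node .leaf (nat_lit 282720521422979) .leaf) (nat_lit 282720525633537) .leaf) (nat_lit 282720529811587) (.node (.node .leaf (nat_lit 282722673168387) .leaf) (nat_lit 282722677379201) .leaf))) (nat_lit 282722681557123) (.node (.node (.node (.node .leaf (nat_lit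 282722685767681) .leaf) (nat_lit 282724812333059) .leaf) (nat_lit 282724816543873) (.node (.node .leaf (nat_lit 282724829128705) .leaf) (nat_lit 282724833306755) .leaf)) (nat_lit 282849366245377) (.node (.node (.node .leaf (nat_lit 282849370462211) .leaf) (nat_lit 282849374633985) .leaf) (nat_lit 282849378850819) (.node (.node .leaf (nat_lit 282851522183169) .leaf) (nat_lit 282851526400003) .leaf))))) (nat_lit 282851538962561) (.node (.node (.node (.node (.node (.node .leaf (nat_lit 282851543175299) .leaf) (nat_lit 282855808925697) .leaf) (nat_lit 282855813142531) (.node (.node .leaf (nat_lit 282855834114051) .leaf) (nat_lit 282855838285825) .leaf)) (nat_lit 282857973024769) (.node (.node (.node .leaf (nat_lit 282857977237635) .leaf) (nat_lit 282857981413377) .leaf) (nat_lit 282857985626243) (.node (.node .leaf (nat_lit 282860103684099) .leaf) (nat_lit 282860107860097) .leaf))) (nat_lit 282860128852099) (.node (.node (.node (.node .leaf (nat_lit 282860133023745) .leaf) (nat_lit 282862251376641) .leaf) (nat_lit 282862255593603) (.node (.node .leaf (nat_lit 282862268176387) .leaf) (nat_lit 282862272348289) .leaf))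 (nat_lit 282986805200897) (.node (.node (.node .leaf (nat_lit 282986809415683) .leaf) (nat_lit 282986813589505) .leaf) (nat_lit 282986817804291) (.node (.node .leaf (nat_lit 282988952754177) .leaf) (nat_lit 282988956960771) .leaf)))) (nat_lit 282988969529473) (.node (.node (.node (.node (.node .leaf (nat_lit 282988973736067) .leaf) (nat_lit 282993256282241) .leaf) (nat_lit 282993260488835) (.node (.node .leaf (nat_lit 282993264683139) .leaf) (nat_lit 282993268865153) .leaf)) (nat_lit 282995411992577) (.node (.node (.node .leaf (nat_lit 282995416174723) .leaf) (nat_lit 282995420381185) .leaf) (nat_lit 282995424563331) (.node (.node .leaf (nat_lit 282997551005699) .leaf) (nat_lit 282997555220609) .leaf))) (nat_lit 282997559396483) (.node (.node (.node (.node .leaf (nat_lit 282997563611137) .leaf) (nat_lit 282999698745473) .leaf) (nat_lit 282999702927363) (.node (.node .leaf (nat_lit 282999715510403) .leaf) (nat_lit 282999719716865) .leaf)) (nat_lit 283124244152321) (.node (.node (.node .leaf (nat_lit 283124248373251) .leaf) (nat_lit 283124260929537) .leaf) (nat_lit 283124265150467) (.node (.node .leaf (nat_lit 283126391734273)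 .leaf) (nat_lit 283126395955203) .leaf))))))))
def t1_17 : BT := (.node (.node (.node (.node (.node (.node (.node (.node (.node .leaf (nat_lit 283126404341763) .leaf) (nat_lit 283128547641473) (.node .leaf (nat_lit 283128551858307) .leaf)) (nat_lit 283128556052483) (.node (.node .leaf (nat_lit 283128560224257) .leaf) (nat_lit 283132842633219) .leaf)) (nat_lit 283132846801025) (.node (.node (.node .leaf (nat_lit 283132851019779) .leaf) (nat_lit 283132855191681) .leaf) (nat_lit 283134998577281) (.node (.node .leaf (nat_lit 283135002798083) .leaf) (nat_lit 283135006967937) .leaf))) (nat_lit 283135011184643) (.node (.node (.node (.node .leaf (nat_lit 283139285026945) .leaf) (nat_lit 283139289243651) .leaf) (nat_lit 283139301828611) (.node (.node .leaf (nat_lit 283139305996417) .leaf) (nat_lit 283261691494401) .leaf)) (nat_lit 283261695713283) (.node (.node (.node .leaf (nat_lit 283261708271617) .leaf) (nat_lit 283261712490499) .leaf) (nat_lit 283263830693889) (.node (.node .leaf (nat_lit 283263834912771) .leaf) (nat_lit 283263839080449) .leaf)))) (nat_lit 283263843299331) (.node (.node (.node (.node (.node .leaf (nat_lit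 283265978214401) .leaf) (nat_lit 283265982416899) .leaf) (nat_lit 283266003388547) (.node (.node .leaf (nat_lit 283266007574657) .leaf) (nat_lit 283270273179651) .leaf)) (nat_lit 283270277382273) (.node (.node (.node .leaf (nat_lit 283270298347523) .leaf) (nat_lit 283270302550145) .leaf) (nat_lit 283272437553281) (.node (.node .leaf (nat_lit 283272441739267) .leaf) (nat_lit 283272445939841) .leaf))) (nat_lit 283272450125827) (.node (.node (.node (.node .leaf (nat_lit 283276715620353) .leaf) (nat_lit 283276719790211) .leaf) (nat_lit 283276732371075) (.node (.node .leaf (nat_lit 283276736589825) .leaf) (nat_lit 283399130478595) .leaf)) (nat_lit 283399134642177) (.node (.node (.node .leaf (nat_lit 283399147253763) .leaf) (nat_lit 283399151421441) .leaf) (nat_lit 283401286449283) (.node (.node .leaf (nat_lit 283401290612865) .leaf) (nat_lit 283401294835843) .leaf))))) (nat_lit 283401299003521) (.node (.node (.node (.node (.node (.node .leaf (nat_lit 283403425581185) .leaf) (nat_lit 283403429802115) (.node .leaf (nat_lit 283403433998339) .leaf)) (nat_lit 283403438161921) (.node (.node .leaf (nat_lit 283407720581121)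 .leaf) (nat_lit 283407724802179) .leaf)) (nat_lit 283407728969729) (.node (.node (.node .leaf (nat_lit 283407733190787) .leaf) (nat_lit 283409859670019) .leaf) (nat_lit 283409863837825) (.node (.node .leaf (nat_lit 283409868060675) .leaf) (nat_lit 283409872224385) .leaf))) (nat_lit 283414154444801) (.node (.node (.node (.node .leaf (nat_lit 283414158669955) .leaf) (nat_lit 283414171252867) .leaf) (nat_lit 283414175416321) (.node (.node .leaf (nat_lit 283536561041411) .leaf) (nat_lit 283536565207041) .leaf)) (nat_lit 283536577820675) (.node (.node (.node .leaf (nat_lit 283536581986305) .leaf) (nat_lit 283538725398659) .leaf) (nat_lit 283538729572481) (.node (.node .leaf (nat_lit 283538733785219) .leaf) (nat_lit 283538737959041) .leaf)))) (nat_lit 283540856154113) (.node (.node (.node (.node (.node .leaf (nat_lit 283540860360707) .leaf) (nat_lit 283540881330307) .leaf) (nat_lit 283540885512321) (.node (.node .leaf (nat_lit 283545151162369) .leaf) (nat_lit 283545155352707) .leaf)) (nat_lit 283545176328193) (.node (.node (.node .leaf (nat_lit 283545180518531) .leaf) (nat_lit 283547298603011) .leaf) (nat_lit 283547302809729)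 (.node (.node .leaf (nat_lit 283547306993667) .leaf) (nat_lit 283547311200385) .leaf))) (nat_lit 283551601815681) (.node (.node (.node (.node .leaf (nat_lit 283551605981187) .leaf) (nat_lit 283551618564099) .leaf) (nat_lit 283551622787201) (.node (.node .leaf (nat_lit 283676147482625) .leaf) (nat_lit 283676151644163) .leaf)) (nat_lit 283676172628099) (.node (.node (.node .leaf (nat_lit 283676176855169) .leaf) (nat_lit 283678311751681) .leaf) (nat_lit 283678315913219) (.node (.node .leaf (nat_lit 283678320144513) .leaf) (nat_lit 283678324306051) .leaf)))))) (nat_lit 283680442449921) (.node (.node (.node (.node (.node (.node (.node .leaf (nat_lit 283680446611459) .leaf) (nat_lit 283680459235457) (.node .leaf (nat_lit 283680463396995) .leaf)) (nat_lit 283682590195713) (.node (.node .leaf (nat_lit 283682594357379) .leaf) (nat_lit 283682606948355) .leaf)) (nat_lit 283682611175553) (.node (.node (.node .leaf (nat_lit 283686885163009) .leaf) (nat_lit 283686889324675) .leaf) (nat_lit 283686893555841) (.node (.node .leaf (nat_lit 283686897717251) .leaf) (nat_lit 283689041006723) .leaf))) (nat_lit 283689045233665) (.node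 (.node (.node (.node .leaf (nat_lit 283689049399427) .leaf) (nat_lit 283689053626369) .leaf) (nat_lit 283813594791939) (.node (.node .leaf (nat_lit 283813599021057) .leaf) (nat_lit 283813603227777) .leaf)) (nat_lit 283813607387267) (.node (.node (.node .leaf (nat_lit 283815750664195) .leaf) (nat_lit 283815754893313) .leaf) (nat_lit 283815759057027) (.node (.node .leaf (nat_lit 283815763286145) .leaf) (nat_lit 283817889767555) .leaf)))) (nat_lit 283817893996673) (.node (.node (.node (.node (.node .leaf (nat_lit 283817906536451) .leaf) (nat_lit 283817910765569) .leaf) (nat_lit 283820037525507) (.node (.node .leaf (nat_lit 283820041754753) .leaf) (nat_lit 283820054345729) .leaf)) (nat_lit 283820058505347) (.node (.node (.node .leaf (nat_lit 283824324108291) .leaf) (nat_lit 283824328337537) .leaf) (nat_lit 283824332501123) (.node (.node .leaf (nat_lit 283824336730113) .leaf) (nat_lit 283826471630849) .leaf))) (nat_lit 283826475790467) (.node (.node (.node (.node .leaf (nat_lit 283826496784385) .leaf) (nat_lit 283826500944003) .leaf) (nat_lit 283951033745411) (.node (.node .leaf (nat_lit 283951037976577) .leaf) (nat_lit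 283951042177153) .leaf)) (nat_lit 283951046342787) (.node (.node (.node .leaf (nat_lit 283953172840449) .leaf) (nat_lit 283953177071619) .leaf) (nat_lit 283953181233281) (.node (.node .leaf (nat_lit 283953185456259) .leaf) (nat_lit 283955320324097) .leaf))))) (nat_lit 283955324555267) (.node (.node (.node (.node (.node (.node .leaf (nat_lit 283955337111681) .leaf) (nat_lit 283955341342851) .leaf) (nat_lit 283957468139523) (.node (.node .leaf (nat_lit 283957472362625) .leaf) (nat_lit 283957484955649) .leaf)) (nat_lit 283957489121411) (.node (.node (.node .leaf (nat_lit 283961779890177) .leaf) (nat_lit 283961784121475) .leaf) (nat_lit 283961788283009) (.node (.node .leaf (nat_lit 283961792505859) .leaf) (nat_lit 283963910623235) .leaf))) (nat_lit 283963914780801) (.node (.node (.node (.node .leaf (nat_lit 283963935795203) .leaf) (nat_lit 283963939960961) .leaf) (nat_lit 284088464349185) (.node (.node .leaf (nat_lit 284088468504579) .leaf) (nat_lit 284088489490563) .leaf)) (nat_lit 284088493711489) (.node (.node (.node .leaf (nat_lit 284090611838979) .leaf) (nat_lit 284090615998465) .leaf) (nat_lit 284090620223619)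 (.node (.node .leaf (nat_lit 284090624391297) .leaf) (nat_lit 284092767711363) .leaf)))) (nat_lit 284092771870849) (.node (.node (.node (.node (.node .leaf (nat_lit 284092784482307) .leaf) (nat_lit 284092788637697) .leaf) (nat_lit 284094915532801) (.node (.node .leaf (nat_lit 284094919688323) .leaf) (nat_lit 284094932281347) .leaf)) (nat_lit 284094936510593) (.node (.node (.node .leaf (nat_lit 284099218888707) .leaf) (nat_lit 284099223044225) .leaf) (nat_lit 284099227273347) (.node (.node .leaf (nat_lit 284099231436801) .leaf) (nat_lit 284101357955201) .leaf))) (nat_lit 284101362184195) (.node (.node (.node (.node .leaf (nat_lit 284101366337665) .leaf) (nat_lit 284101370562563) .leaf) (nat_lit 284223755812865) (.node (.node .leaf (nat_lit 284223759982595) .leaf) (nat_lit 284223780952067) .leaf)) (nat_lit 284223785187329) (.node (.node (.node .leaf (nat_lit 284228050780161) .leaf) (nat_lit 284228054949891) .leaf) (nat_lit 284228067565569) (.node (.node .leaf (nat_lit 284228071718915) .leaf) (nat_lit 284230215016577) .leaf))))))) (nat_lit 284230219235459) (.node (.node (.node (.node (.node (.node (.node (.node .leaf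 (nat_lit 284230223411201) .leaf) (nat_lit 284230227630083) (.node .leaf (nat_lit 284234493591553) .leaf)) (nat_lit 284234497826947) (.node (.node .leaf (nat_lit 284234510401667) .leaf) (nat_lit 284234514571265) .leaf)) (nat_lit 284236649478275) (.node (.node (.node .leaf (nat_lit 284236653697025) .leaf) (nat_lit 284236657852419) .leaf) (nat_lit 284236662087809) (.node (.node .leaf (nat_lit 284238788558849) .leaf) (nat_lit 284238792794243) .leaf))) (nat_lit 284238796953729) (.node (.node (.node (.node .leaf (nat_lit 284238801188867) .leaf) (nat_lit 284361203136515) .leaf) (nat_lit 284361207353345) (.node (.node .leaf (nat_lit 284361211553793) .leaf) (nat_lit 284361215705091) .leaf)) (nat_lit 284365498095747) (.node (.node (.node .leaf (nat_lit 284365502328961) .leaf) (nat_lit 284365514881155) .leaf) (nat_lit 284365519097985) (.node (.node .leaf (nat_lit 284367654006915) .leaf) (nat_lit 284367658162305) .leaf)))) (nat_lit 284367662393347) (.node (.node (.node (.node (.node .leaf (nat_lit 284367666544641) .leaf) (nat_lit 284371940993027) .leaf) (nat_lit 284371945144449) (.node (.node .leaf (nat_lit 284371957735553)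 .leaf) (nat_lit 284371961956355) .leaf)) (nat_lit 284374080088065) (.node (.node (.node .leaf (nat_lit 284374084239491) .leaf) (nat_lit 284374105247873) .leaf) (nat_lit 284374109419523) (.node (.node .leaf (nat_lit 284376227565571) .leaf) (nat_lit 284376231737473) .leaf))) (nat_lit 284376235952259) (.node (.node (.node (.node .leaf (nat_lit 284376240119809) .leaf) (nat_lit 284498642114561) .leaf) (nat_lit 284498646280195) (.node (.node .leaf (nat_lit 284498650470403) .leaf) (nat_lit 284498654701569) .leaf)) (nat_lit 284502928699395) (.node (.node (.node .leaf (nat_lit 284502932848641) .leaf) (nat_lit 284502945470467) .leaf) (nat_lit 284502949636097) (.node (.node .leaf (nat_lit 284505076150275) .leaf) (nat_lit 284505080365057) .leaf))))) (nat_lit 284505084536963) (.node (.node (.node (.node (.node (.node .leaf (nat_lit 284505088759937) .leaf) (nat_lit 284509371564033) (.node .leaf (nat_lit 284509375803523) .leaf)) (nat_lit 284509388380291) (.node (.node .leaf (nat_lit 284509392545793) .leaf) (nat_lit 284511519047681) .leaf)) (nat_lit 284511523287171) (.node (.node (.node .leaf (nat_lit 284511544225921) .leaf) (nat_lit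 284511548440579) .leaf) (nat_lit 284513683314819) (.node (.node .leaf (nat_lit 284513687545857) .leaf) (nat_lit 284513691697155) .leaf))) (nat_lit 284513695936641) (.node (.node (.node (.node .leaf (nat_lit 284636072652803) .leaf) (nat_lit 284636076869633) .leaf) (nat_lit 284636097853441) (.node (.node .leaf (nat_lit 284636102000643) .leaf) (nat_lit 284640376008833) .leaf)) (nat_lit 284640380225667) (.node (.node (.node .leaf (nat_lit 284640392779905) .leaf) (nat_lit 284640397009027) .leaf) (nat_lit 284642515138561) (.node (.node .leaf (nat_lit 284642519285763) .leaf) (nat_lit 284642523521153) .leaf)))) (nat_lit 284642527680643) (.node (.node (.node (.node (.node .leaf (nat_lit 284646818969603) .leaf) (nat_lit 284646823116929) .leaf) (nat_lit 284646835710081) (.node (.node .leaf (nat_lit 284646839930883) .leaf) (nat_lit 284648966441091) .leaf)) (nat_lit 284648970612737) (.node (.node (.node .leaf (nat_lit 284648974841859) .leaf) (nat_lit 284648978989185) .leaf) (nat_lit 284651122315393) (.node (.node .leaf (nat_lit 284651126482947) .leaf) (nat_lit 284651130701825) .leaf))) (nat_lit 284651134873731) (.node (.node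 (.node (.node .leaf (nat_lit 284775659192448) .leaf) (nat_lit 284775663339522) .leaf) (nat_lit 284775684321410) (.node (.node .leaf (nat_lit 284775688566784) .leaf) (nat_lit 284777823477762) .leaf)) (nat_lit 284777827723392) (.node (.node (.node .leaf (nat_lit 284777831870594) .leaf) (nat_lit 284777836115968) .leaf) (nat_lit 284779954241538) (.node (.node .leaf (nat_lit 284779958487168) .leaf) (nat_lit 284779971027074) .leaf)))))) (nat_lit 284779975272448) (.node (.node (.node (.node (.node (.node (.node .leaf (nat_lit 284782110232704) .leaf) (nat_lit 284782114379906) (.node .leaf (nat_lit 284782126968834) .leaf)) (nat_lit 284782131214336) (.node (.node .leaf (nat_lit 284786396889090) .leaf) (nat_lit 284786401134592) .leaf)) (nat_lit 284786405281922) (.node (.node (.node .leaf (nat_lit 284786409527424) .leaf) (nat_lit 284788544487552) .leaf) (nat_lit 284788548634754) (.node (.node .leaf (nat_lit 284788569665664) .leaf) (nat_lit 284788573812866) .leaf))) (nat_lit 284913106485250) (.node (.node (.node (.node .leaf (nat_lit 284913110728832) .leaf) (nat_lit 284913114937344) .leaf) (nat_lit 284913119082626) (.node (.node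 .leaf (nat_lit 284915262474368) .leaf) (nat_lit 284915266619394) .leaf)) (nat_lit 284915270866944) (.node (.node (.node .leaf (nat_lit 284915275012226) .leaf) (nat_lit 284917401643008) .leaf) (nat_lit 284917405788290) (.node (.node .leaf (nat_lit 284917418412160) .leaf) (nat_lit 284917422557186) .leaf)))) (nat_lit 284919540760578) (.node (.node (.node (.node (.node .leaf (nat_lit 284919544971264) .leaf) (nat_lit 284919557564544) .leaf) (nat_lit 284919561742466) (.node (.node .leaf (nat_lit 284923835885696) .leaf) (nat_lit 284923840063618) .leaf)) (nat_lit 284923844278272) (.node (.node (.node .leaf (nat_lit 284923848456194) .leaf) (nat_lit 284925991805058) .leaf) (nat_lit 284925996015744) (.node (.node .leaf (nat_lit 284926000189570) .leaf) (nat_lit 284926004400256) .leaf))) (nat_lit 285050537050114) (.node (.node (.node (.node .leaf (nat_lit 285050541299840) .leaf) (nat_lit 285050562275328) .leaf) (nat_lit 285050566422658) (.node (.node .leaf (nat_lit 285052684632066) .leaf) (nat_lit 285052688816256) .leaf)) (nat_lit 285052693024898) (.node (.node (.node .leaf (nat_lit 285052697200640) .leaf) (nat_lit 285054840574082)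 .leaf) (nat_lit 285054844749824) (.node (.node .leaf (nat_lit 285054857361410) .leaf) (nat_lit 285054861533312) .leaf))))) (nat_lit 285056979763202) (.node (.node (.node (.node (.node (.node .leaf (nat_lit 285056984012800) .leaf) (nat_lit 285056996604032) .leaf) (nat_lit 285057000743042) (.node (.node .leaf (nat_lit 285061291681794) .leaf) (nat_lit 285061295861760) .leaf)) (nat_lit 285061300074626) (.node (.node (.node .leaf (nat_lit 285061304246400) .leaf) (nat_lit 285063422300288) .leaf) (nat_lit 285063426508930) (.node (.node .leaf (nat_lit 285063447472256) .leaf) (nat_lit 285063451684994) .leaf))) (nat_lit 285187984447616) (.node (.node (.node (.node .leaf (nat_lit 285187988588546) .leaf) (nat_lit 285187992795266) .leaf) (nat_lit 285187997034496) (.node (.node .leaf (nat_lit 285190123583616) .leaf) (nat_lit 285190127790082) .leaf)) (nat_lit 285190131968000) (.node (.node (.node .leaf (nat_lit 285190136182914) .leaf) (nat_lit 285192271128704) .leaf) (nat_lit 285192275343362) (.node (.node .leaf (nat_lit 285192287895552) .leaf) (nat_lit 285192292110466) .leaf)))) (nat_lit 285194427140224) (.node (.node (.node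 (.node (.node .leaf (nat_lit 285194431322242) .leaf) (nat_lit 285194443913218) .leaf) (nat_lit 285194448119808) (.node (.node .leaf (nat_lit 285198730596480) .leaf) (nat_lit 285198734835842) .leaf)) (nat_lit 285198738980864) (.node (.node (.node .leaf (nat_lit 285198743228418) .leaf) (nat_lit 285200869679234) .leaf) (nat_lit 285200873828480) (.node (.node .leaf (nat_lit 285200878065794) .leaf) (nat_lit 285200882206848) .leaf))) (nat_lit 285323275802626) (.node (.node (.node (.node .leaf (nat_lit 285323280052352) .leaf) (nat_lit 285323284234368) .leaf) (nat_lit 285323288389634) (.node (.node .leaf (nat_lit 285327562506242) .leaf) (nat_lit 285327566760064) .leaf)) (nat_lit 285327579291650) (.node (.node (.node .leaf (nat_lit 285327583529088) .leaf) (nat_lit 285329710088194) .leaf) (nat_lit 285329714276480) (.node (.node .leaf (nat_lit 285329718483074) .leaf) (nat_lit 285329722667008) .leaf))))))))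
def t1_18 : BT := (.node (.node (.node (.node (.node (.node (.node (.node (.node .leaf (nat_lit 285334017896448) .leaf) (nat_lit 285334030473216) (.node .leaf (nat_lit 285334034690050) .leaf)) (nat_lit 285336161024000) (.node (.node .leaf (nat_lit 285336165158914) .leaf) (nat_lit 285336169398400) .leaf)) (nat_lit 285336173553794) (.node (.node (.node .leaf (nat_lit 285338316939394) .leaf) (nat_lit 285338321111168) .leaf) (nat_lit 285338325334018) (.node (.node .leaf (nat_lit 285338329501696) .leaf) (nat_lit 285460706420864) .leaf))) (nat_lit 285460710557698) (.node (.node (.node (.node .leaf (nat_lit 285460731541506) .leaf) (nat_lit 285460735776896) .leaf) (nat_lit 285465009901568) (.node (.node .leaf (nat_lit 285465014055042) .leaf) (nat_lit 285465026686976) .leaf)) (nat_lit 285465030824066) (.node (.node (.node .leaf (nat_lit 285467149031552) .leaf) (nat_lit 285467153250306) .leaf) (nat_lit 285467157413888) (.node (.node .leaf (nat_lit 285467161632898) .leaf) (nat_lit 285471444252800) .leaf)))) (nat_lit 285471448488066) (.node (.node (.node (.node (.node .leaf (nat_lit 285471461077122) .leaf) (nat_lit 285471465214080)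 .leaf) (nat_lit 285473591549954) (.node (.node .leaf (nat_lit 285473595752448) .leaf) (nat_lit 285473616713858) .leaf)) (nat_lit 285473620932736) (.node (.node (.node .leaf (nat_lit 285475755866112) .leaf) (nat_lit 285475760101378) .leaf) (nat_lit 285475764248704) (.node (.node .leaf (nat_lit 285475768483970) .leaf) (nat_lit 285598153709570) .leaf))) (nat_lit 285598157955200) (.node (.node (.node (.node .leaf (nat_lit 285598162147456) .leaf) (nat_lit 285598166294530) .leaf) (nat_lit 285602448828416) (.node (.node .leaf (nat_lit 285602453033090) .leaf) (nat_lit 285602465595392) .leaf)) (nat_lit 285602469820546) (.node (.node (.node .leaf (nat_lit 285604604794880) .leaf) (nat_lit 285604608942210) .leaf) (nat_lit 285604613177472) (.node (.node .leaf (nat_lit 285604617336834) .leaf) (nat_lit 285608883159042) .leaf))))) (nat_lit 285608887351296) (.node (.node (.node (.node (.node (.node .leaf (nat_lit 285608899926016) .leaf) (nat_lit 285608904138754) (.node .leaf (nat_lit 285611038972034) .leaf)) (nat_lit 285611043152000) (.node (.node .leaf (nat_lit 285611047364610) .leaf) (nat_lit 285611051536384) .leaf)) (nat_lit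 285613178024064) (.node (.node (.node .leaf (nat_lit 285613182158978) .leaf) (nat_lit 285613186410496) .leaf) (nat_lit 285613190549506) (.node (.node .leaf (nat_lit 285735584331904) .leaf) (nat_lit 285735588464642) .leaf))) (nat_lit 285735609446402) (.node (.node (.node (.node .leaf (nat_lit 285735613677696) .leaf) (nat_lit 285739879407618) .leaf) (nat_lit 285739883581568) (.node (.node .leaf (nat_lit 285739896178690) .leaf) (nat_lit 285739900369024) .leaf)) (nat_lit 285742043699330) (.node (.node (.node .leaf (nat_lit 285742047946752) .leaf) (nat_lit 285742052081666) .leaf) (nat_lit 285742056337536) (.node (.node .leaf (nat_lit 285746330480768) .leaf) (nat_lit 285746334711938) .leaf)))) (nat_lit 285746347303042) (.node (.node (.node (.node (.node .leaf (nat_lit 285746351444096) .leaf) (nat_lit 285748469504128) .leaf) (nat_lit 285748473751682) (.node (.node .leaf (nat_lit 285748494673920) .leaf) (nat_lit 285748498913282) .leaf)) (nat_lit 285750616944642) (.node (.node (.node .leaf (nat_lit 285750621143040) .leaf) (nat_lit 285750625331330) .leaf) (nat_lit 285750629537920) (.node (.node .leaf (nat_lit 285873023287297)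 .leaf) (nat_lit 285873027420163) .leaf))) (nat_lit 285873031675905) (.node (.node (.node (.node .leaf (nat_lit 285873035808771) .leaf) (nat_lit 285875170770945) .leaf) (nat_lit 285875174903811) (.node (.node .leaf (nat_lit 285875195953281) .leaf) (nat_lit 285875200086147) .leaf)) (nat_lit 285877326905473) (.node (.node (.node .leaf (nat_lit 285877331038339) .leaf) (nat_lit 285877343633539) .leaf) (nat_lit 285877347897473) (.node (.node .leaf (nat_lit 285881613221889) .leaf) (nat_lit 285881617354883) .leaf)))))) (nat_lit 285881621610497) (.node (.node (.node (.node (.node (.node (.node .leaf (nat_lit 285881625743491) .leaf) (nat_lit 285883769028611) (.node .leaf (nat_lit 285883773292673) .leaf)) (nat_lit 285883785822339) (.node (.node .leaf (nat_lit 285883790086145) .leaf) (nat_lit 285888055934977) .leaf)) (nat_lit 285888060067971) (.node (.node (.node .leaf (nat_lit 285888081051651) .leaf) (nat_lit 285888085315713) .leaf) (nat_lit 286010462242817) (.node (.node .leaf (nat_lit 286010466373635) .leaf) (nat_lit 286010470631425) .leaf))) (nat_lit 286010474762243) (.node (.node (.node (.node .leaf (nat_lit 286012609730561)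 .leaf) (nat_lit 286012613853187) .leaf) (nat_lit 286012634912897) (.node (.node .leaf (nat_lit 286012639035523) .leaf) (nat_lit 286014765869185) .leaf)) (nat_lit 286014770000003) (.node (.node (.node .leaf (nat_lit 286014782595203) .leaf) (nat_lit 286014786861185) .leaf) (nat_lit 286019052193793) (.node (.node .leaf (nat_lit 286019056324739) .leaf) (nat_lit 286019060582401) .leaf)))) (nat_lit 286019064713347) (.node (.node (.node (.node (.node .leaf (nat_lit 286021208002563) .leaf) (nat_lit 286021212260481) .leaf) (nat_lit 286021224763523) (.node (.node .leaf (nat_lit 286021229021185) .leaf) (nat_lit 286025494919169) .leaf)) (nat_lit 286025499041923) (.node (.node (.node .leaf (nat_lit 286025520001027) .leaf) (nat_lit 286025524258945) .leaf) (nat_lit 286147917989889) (.node (.node .leaf (nat_lit 286147922118659) .leaf) (nat_lit 286147926378497) .leaf))) (nat_lit 286147930507267) (.node (.node (.node (.node .leaf (nat_lit 286150057066497) .leaf) (nat_lit 286150061195267) .leaf) (nat_lit 286150065473665) (.node (.node .leaf (nat_lit 286150069602435) .leaf) (nat_lit 286152204783747) .leaf)) (nat_lit 286152209043585)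 (.node (.node (.node .leaf (nat_lit 286152221640833) .leaf) (nat_lit 286152225769603) .leaf) (nat_lit 286156507858945) (.node (.node .leaf (nat_lit 286156512118915) .leaf) (nat_lit 286156516247553) .leaf))))) (nat_lit 286156520507523) (.node (.node (.node (.node (.node (.node .leaf (nat_lit 286158647005187) .leaf) (nat_lit 286158651134081) .leaf) (nat_lit 286158663800963) (.node (.node .leaf (nat_lit 286158667929601) .leaf) (nat_lit 286162942267523) .leaf)) (nat_lit 286162946396161) (.node (.node (.node .leaf (nat_lit 286162950604929) .leaf) (nat_lit 286162954864643) .leaf) (nat_lit 286285356941313) (.node (.node .leaf (nat_lit 286285361072131) .leaf) (nat_lit 286285365329921) .leaf))) (nat_lit 286285369460739) (.node (.node (.node (.node .leaf (nat_lit 286287496026113) .leaf) (nat_lit 286287500152835) .leaf) (nat_lit 286287504429185) (.node (.node .leaf (nat_lit 286287508560003) .leaf) (nat_lit 286289643745411) .leaf)) (nat_lit 286289648007297) (.node (.node (.node .leaf (nat_lit 286289660600449) .leaf) (nat_lit 286289664731267) .leaf) (nat_lit 286293946793985) (.node (.node .leaf (nat_lit 286293951056003) .leaf)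 (nat_lit 286293955182593) .leaf)))) (nat_lit 286293959444611) (.node (.node (.node (.node (.node .leaf (nat_lit 286296085970947) .leaf) (nat_lit 286296090101889) .leaf) (nat_lit 286296102733955) (.node (.node .leaf (nat_lit 286296106860545) .leaf) (nat_lit 286300381241475) .leaf)) (nat_lit 286300385372161) (.node (.node (.node .leaf (nat_lit 286300389552257) .leaf) (nat_lit 286300393814019) .leaf) (nat_lit 286422779109504) (.node (.node .leaf (nat_lit 286422783234050) .leaf) (nat_lit 286422804293760) .leaf))) (nat_lit 286422808418306) (.node (.node (.node (.node .leaf (nat_lit 286424926625920) .leaf) (nat_lit 286424930750466) .leaf) (nat_lit 286424935016576) (.node (.node .leaf (nat_lit 286424939141122) .leaf) (nat_lit 286429230245888) .leaf)) (nat_lit 286429234370690) (.node (.node (.node .leaf (nat_lit 286429246965762) .leaf) (nat_lit 286429251238016) .leaf) (nat_lit 286431377491970) (.node (.node .leaf (nat_lit 286431381764096) .leaf) (nat_lit 286431394285570) .leaf))))))) (nat_lit 286431398557696) (.node (.node (.node (.node (.node (.node (.node (.node .leaf (nat_lit 286433516691584) .leaf) (nat_lit 286433520816258)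 (.node .leaf (nat_lit 286433525082240) .leaf)) (nat_lit 286433529206914) (.node (.node .leaf (nat_lit 286435664404608) .leaf) (nat_lit 286435668529282) .leaf)) (nat_lit 286435689515138) (.node (.node (.node .leaf (nat_lit 286435693787264) .leaf) (nat_lit 286560218065024) .leaf) (nat_lit 286560222187522) (.node (.node .leaf (nat_lit 286560243245184) .leaf) (nat_lit 286560247371778) .leaf))) (nat_lit 286562365585536) (.node (.node (.node (.node .leaf (nat_lit 286562369699842) .leaf) (nat_lit 286562373972096) .leaf) (nat_lit 286562378090498) (.node (.node .leaf (nat_lit 286566669193216) .leaf) (nat_lit 286566673328258) .leaf)) (nat_lit 286566685931522) (.node (.node (.node .leaf (nat_lit 286566690177152) .leaf) (nat_lit 286568816461826) .leaf) (nat_lit 286568820731904) (.node (.node .leaf (nat_lit 286568833222658) .leaf) (nat_lit 286568837492736) .leaf)))) (nat_lit 286570955667584) (.node (.node (.node (.node (.node .leaf (nat_lit 286570959782018) .leaf) (nat_lit 286570964054144) .leaf) (nat_lit 286570968172674) (.node (.node .leaf (nat_lit 286573103368320) .leaf) (nat_lit 286573107507330) .leaf)) (nat_lit 286573128460418)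 (.node (.node (.node .leaf (nat_lit 286573132714112) .leaf) (nat_lit 286697665333250) .leaf) (nat_lit 286697669601408) (.node (.node .leaf (nat_lit 286697673738242) .leaf) (nat_lit 286697678006400) .leaf))) (nat_lit 286699821254786) (.node (.node (.node (.node .leaf (nat_lit 286699825522688) .leaf) (nat_lit 286699829641346) .leaf) (nat_lit 286699833909248) (.node (.node .leaf (nat_lit 286704108124160) .leaf) (nat_lit 286704112244866) .leaf)) (nat_lit 286704124837890) (.node (.node (.node .leaf (nat_lit 286704129106048) .leaf) (nat_lit 286706255411328) .leaf) (nat_lit 286706259662978) (.node (.node .leaf (nat_lit 286706272202880) .leaf) (nat_lit 286706276454530) .leaf))))) (nat_lit 286708411385986) (.node (.node (.node (.node (.node (.node .leaf (nat_lit 286708415522944) .leaf) (nat_lit 286708419772546) (.node .leaf (nat_lit 286708423909504) .leaf)) (nat_lit 286710550673408) (.node (.node .leaf (nat_lit 286710554925058) .leaf) (nat_lit 286710559131650) .leaf)) (nat_lit 286710563268608) (.node (.node (.node .leaf (nat_lit 286835104286722) .leaf) (nat_lit 286835108552832) .leaf) (nat_lit 286835112691714) (.node (.node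 .leaf (nat_lit 286835116957824) .leaf) (nat_lit 286837260212354) .leaf))) (nat_lit 286837264478208) (.node (.node (.node (.node .leaf (nat_lit 286837268598914) .leaf) (nat_lit 286837272868864) .leaf) (nat_lit 286841547063296) (.node (.node .leaf (nat_lit 286841551202434) .leaf) (nat_lit 286841563803650) .leaf)) (nat_lit 286841568057472) (.node (.node (.node .leaf (nat_lit 286843694379136) .leaf) (nat_lit 286843698632834) .leaf) (nat_lit 286843711142016) (.node (.node .leaf (nat_lit 286843715391618) .leaf) (nat_lit 286845850327170) .leaf)))) (nat_lit 286845854462080) (.node (.node (.node (.node (.node .leaf (nat_lit 286845858713730) .leaf) (nat_lit 286845862852736) .leaf) (nat_lit 286847989633024) (.node (.node .leaf (nat_lit 286847993903106) .leaf) (nat_lit 286847998076930) .leaf)) (nat_lit 286848002195456) (.node (.node (.node .leaf (nat_lit 286972534915073) .leaf) (nat_lit 286972539066371) .leaf) (nat_lit 286972543303681) (.node (.node .leaf (nat_lit 286972547454979) .leaf) (nat_lit 286974682333185) .leaf))) (nat_lit 286974686615555) (.node (.node (.node (.node .leaf (nat_lit 286974707515521) .leaf) (nat_lit 286974711765123)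 .leaf) (nat_lit 286976838615171) (.node (.node .leaf (nat_lit 286976842864769) .leaf) (nat_lit 286976855457921) .leaf)) (nat_lit 286976859576451) (.node (.node (.node .leaf (nat_lit 286981124849665) .leaf) (nat_lit 286981129001091) .leaf) (nat_lit 286981133238273) (.node (.node .leaf (nat_lit 286981137389699) .leaf) (nat_lit 286983272349699) .leaf)))))) (nat_lit 286983276468353) (.node (.node (.node (.node (.node (.node (.node .leaf (nat_lit 286983289110659) .leaf) (nat_lit 286983293261825) (.node .leaf (nat_lit 286987576098947) .leaf)) (nat_lit 286987580217345) (.node (.node .leaf (nat_lit 286987584422017) .leaf) (nat_lit 286987588671491) .leaf)) (nat_lit 287109973870593) (.node (.node (.node .leaf (nat_lit 287109978019843) .leaf) (nat_lit 287109982259201) .leaf) (nat_lit 287109986408451) (.node (.node .leaf (nat_lit 287112121292801) .leaf) (nat_lit 287112125564931) .leaf))) (nat_lit 287112146475137) (.node (.node (.node (.node .leaf (nat_lit 287112150714499) .leaf) (nat_lit 287114277576835) .leaf) (nat_lit 287114281824385) (.node (.node .leaf (nat_lit 287114294421633) .leaf) (nat_lit 287114298538115) .leaf)) (nat_lit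 287118563821569) (.node (.node (.node .leaf (nat_lit 287118567938179) .leaf) (nat_lit 287118572210177) .leaf) (nat_lit 287118576326787) (.node (.node .leaf (nat_lit 287120711290883) .leaf) (nat_lit 287120715432065) .leaf)))) (nat_lit 287120728084611) (.node (.node (.node (.node (.node .leaf (nat_lit 287120732192769) .leaf) (nat_lit 287125015048323) .leaf) (nat_lit 287125019189249) (.node (.node .leaf (nat_lit 287125023373441) .leaf) (nat_lit 287125027645443) .leaf)) (nat_lit 287247429617665) (.node (.node (.node .leaf (nat_lit 287247433728003) .leaf) (nat_lit 287247438006273) .leaf) (nat_lit 287247442116611) (.node (.node .leaf (nat_lit 287249560240129) .leaf) (nat_lit 287249564518403) .leaf))) (nat_lit 287249585424513) (.node (.node (.node (.node .leaf (nat_lit 287249589665923) .leaf) (nat_lit 287251708215297) .leaf) (nat_lit 287251712362499) (.node (.node .leaf (nat_lit 287251724933123) .leaf) (nat_lit 287251729207297) .leaf)) (nat_lit 287256019486721) (.node (.node (.node .leaf (nat_lit 287256023728259) .leaf) (nat_lit 287256027875329) .leaf) (nat_lit 287256032116867) (.node (.node .leaf (nat_lit 287258158583811)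 .leaf) (nat_lit 287258162829441) .leaf))))) (nat_lit 287258175346819) (.node (.node (.node (.node (.node (.node .leaf (nat_lit 287258179620865) .leaf) (nat_lit 287262454022273) .leaf) (nat_lit 287262458169347) (.node (.node .leaf (nat_lit 287262462351491) .leaf) (nat_lit 287262466625537) .leaf)) (nat_lit 287384868569089) (.node (.node (.node .leaf (nat_lit 287384872681475) .leaf) (nat_lit 287384876957697) .leaf) (nat_lit 287384881070083) (.node (.node .leaf (nat_lit 287386999199745) .leaf) (nat_lit 287387003475971) .leaf))) (nat_lit 287387024380033) (.node (.node (.node (.node .leaf (nat_lit 287387028623491) .leaf) (nat_lit 287389147179009) .leaf) (nat_lit 287389151324163) (.node (.node .leaf (nat_lit 287389163894787) .leaf) (nat_lit 287389168171009) .leaf)) (nat_lit 287393458421761) (.node (.node (.node .leaf (nat_lit 287393462698115) .leaf) (nat_lit 287393466810369) .leaf) (nat_lit 287393471086723) (.node (.node .leaf (nat_lit 287395597516803) .leaf) (nat_lit 287395601793153) .leaf)))) (nat_lit 287395614312579) (.node (.node (.node (.node (.node .leaf (nat_lit 287395618555905) .leaf) (nat_lit 287399893006465)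 .leaf) (nat_lit 287399897118723) (.node (.node .leaf (nat_lit 287399901325443) .leaf) (nat_lit 287399905568769) .leaf)) (nat_lit 287522299144320) (.node (.node (.node .leaf (nat_lit 287522303250434) .leaf) (nat_lit 287522307514496) .leaf) (nat_lit 287522311657474) (.node (.node .leaf (nat_lit 287524454965248) .leaf) (nat_lit 287524459239554) .leaf))) (nat_lit 287524463355904) (.node (.node (.node (.node .leaf (nat_lit 287524467626114) .leaf) (nat_lit 287528741955584) .leaf) (nat_lit 287528746193026) (.node (.node .leaf (nat_lit 287528758790146) .leaf) (nat_lit 287528762912896) .leaf)) (nat_lit 287530880729090) (.node (.node (.node .leaf (nat_lit 287530885019648) .leaf) (nat_lit 287530897522690) .leaf) (nat_lit 287530901780480) (.node (.node .leaf (nat_lit 287533045030912) .leaf) (nat_lit 287533049305090) .leaf))))))))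
def t1_19 : BT := (.node (.node (.node (.node (.node (.node (.node (.node (.node .leaf (nat_lit 287533057691650) .leaf) (nat_lit 287535175917696) (.node .leaf (nat_lit 287535180028034) .leaf)) (nat_lit 287535201011842) (.node (.node .leaf (nat_lit 287535205265536) .leaf) (nat_lit 287659738095744) .leaf)) (nat_lit 287659742203906) (.node (.node (.node .leaf (nat_lit 287659746470016) .leaf) (nat_lit 287659750610946) .leaf) (nat_lit 287661893924864) (.node (.node .leaf (nat_lit 287661898188930) .leaf) (nat_lit 287661902311424) .leaf))) (nat_lit 287661906575490) (.node (.node (.node (.node .leaf (nat_lit 287666180902912) .leaf) (nat_lit 287666185150594) .leaf) (nat_lit 287666197755906) (.node (.node .leaf (nat_lit 287666201856128) .leaf) (nat_lit 287668319698946) .leaf)) (nat_lit 287668323954688) (.node (.node (.node .leaf (nat_lit 287668336459778) .leaf) (nat_lit 287668340748288) .leaf) (nat_lit 287670484006912) (.node (.node .leaf (nat_lit 287670488238082) .leaf) (nat_lit 287670492393472) .leaf)))) (nat_lit 287670496624642) (.node (.node (.node (.node (.node .leaf (nat_lit 287672614848640) .leaf) (nat_lit 287672619006082)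 .leaf) (nat_lit 287672639957122) (.node (.node .leaf (nat_lit 287672644229248) .leaf) (nat_lit 287797176961026) .leaf)) (nat_lit 287797181243520) (.node (.node (.node .leaf (nat_lit 287797185366018) .leaf) (nat_lit 287797189615744) .leaf) (nat_lit 287799316152322) (.node (.node .leaf (nat_lit 287799320307840) .leaf) (nat_lit 287799324542978) .leaf))) (nat_lit 287799328694400) (.node (.node (.node (.node .leaf (nat_lit 287803611443328) .leaf) (nat_lit 287803615680514) .leaf) (nat_lit 287803628275842) (.node (.node .leaf (nat_lit 287803632394240) .leaf) (nat_lit 287805767055488) .leaf)) (nat_lit 287805771288706) (.node (.node (.node .leaf (nat_lit 287805783814272) .leaf) (nat_lit 287805788084354) .leaf) (nat_lit 287807906152450) (.node (.node .leaf (nat_lit 287807910438912) .leaf) (nat_lit 287807914543106) .leaf))))) (nat_lit 287807918825472) (.node (.node (.node (.node (.node (.node .leaf (nat_lit 287810053795968) .leaf) (nat_lit 287810058033282) (.node .leaf (nat_lit 287810079015042) .leaf)) (nat_lit 287810083137664) (.node (.node .leaf (nat_lit 287934615914498) .leaf) (nat_lit 287934620199040) .leaf)) (nat_lit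 287934624319490) (.node (.node (.node .leaf (nat_lit 287934628571264) .leaf) (nat_lit 287936755109890) .leaf) (nat_lit 287936759263360) (.node (.node .leaf (nat_lit 287936763500546) .leaf) (nat_lit 287936767654016) .leaf))) (nat_lit 287941050386560) (.node (.node (.node (.node .leaf (nat_lit 287941054638082) .leaf) (nat_lit 287941067241602) .leaf) (nat_lit 287941071345664) (.node (.node .leaf (nat_lit 287943205990528) .leaf) (nat_lit 287943210258562) .leaf)) (nat_lit 287943222786176) (.node (.node (.node .leaf (nat_lit 287943227021442) .leaf) (nat_lit 287945345126402) .leaf) (nat_lit 287945349378048) (.node (.node .leaf (nat_lit 287945353517058) .leaf) (nat_lit 287945357768704) .leaf)))) (nat_lit 287947492726912) (.node (.node (.node (.node (.node .leaf (nat_lit 287947497011330) .leaf) (nat_lit 287947517960322) .leaf) (nat_lit 287947522097280) (.node (.node .leaf (nat_lit 288074202451969) .leaf) (nat_lit 288074206543875) .leaf)) (nat_lit 288074219155587) (.node (.node (.node .leaf (nat_lit 288074223444097) .leaf) (nat_lit 288076341805057) .leaf) (nat_lit 288076345905155) (.node (.node .leaf (nat_lit 288076366999681)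 .leaf) (nat_lit 288076371091587) .leaf))) (nat_lit 288078489288705) (.node (.node (.node (.node .leaf (nat_lit 288078493388803) .leaf) (nat_lit 288078497681537) .leaf) (nat_lit 288078501773443) (.node (.node .leaf (nat_lit 288080636772353) .leaf) (nat_lit 288080640872579) .leaf)) (nat_lit 288080661868547) (.node (.node (.node .leaf (nat_lit 288080666157185) .leaf) (nat_lit 288084939772035) .leaf) (nat_lit 288084944060417) (.node (.node .leaf (nat_lit 288084956573827) .leaf) (nat_lit 288084960862209) .leaf)))))) (nat_lit 288087078961153) (.node (.node (.node (.node (.node (.node (.node .leaf (nat_lit 288087083061379) .leaf) (nat_lit 288087087353985) (.node .leaf (nat_lit 288087091445763) .leaf)) (nat_lit 288211641303043) (.node (.node .leaf (nat_lit 288211645601793) .leaf) (nat_lit 288211658205313) .leaf)) (nat_lit 288211662303363) (.node (.node (.node .leaf (nat_lit 288213780668419) .leaf) (nat_lit 288213784967169) .leaf) (nat_lit 288213805846659) (.node (.node .leaf (nat_lit 288213810137217) .leaf) (nat_lit 288215928156163) .leaf))) (nat_lit 288215932446721) (.node (.node (.node (.node .leaf (nat_lit 288215936540803)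 .leaf) (nat_lit 288215940839553) .leaf) (nat_lit 288218075643907) (.node (.node .leaf (nat_lit 288218079942785) .leaf) (nat_lit 288218100905985) .leaf)) (nat_lit 288218104995971) (.node (.node (.node .leaf (nat_lit 288222378850433) .leaf) (nat_lit 288222382940163) .leaf) (nat_lit 288222395603073) (.node (.node .leaf (nat_lit 288222399692803) .leaf) (nat_lit 288224517844995) .leaf)))) (nat_lit 288224522135681) (.node (.node (.node (.node (.node .leaf (nat_lit 288224526229635) .leaf) (nat_lit 288224530528257) .leaf) (nat_lit 288349080256515) (.node (.node .leaf (nat_lit 288349084549121) .leaf) (nat_lit 288349097162881) .leaf)) (nat_lit 288349101258883) (.node (.node (.node .leaf (nat_lit 288351228072065) .leaf) (nat_lit 288351232233603) .leaf) (nat_lit 288351236483073) (.node (.node .leaf (nat_lit 288351240644611) .leaf) (nat_lit 288353383966849) .leaf))) (nat_lit 288353388128387) (.node (.node (.node (.node .leaf (nat_lit 288353392359425) .leaf) (nat_lit 288353396520963) .leaf) (nat_lit 288355523035139) (.node (.node .leaf (nat_lit 288355527196801) .leaf) (nat_lit 288355531417601) .leaf)) (nat_lit 288355535644803)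 (.node (.node (.node .leaf (nat_lit 288359817773187) .leaf) (nat_lit 288359821869057) .leaf) (nat_lit 288359834577027) (.node (.node .leaf (nat_lit 288359838672897) .leaf) (nat_lit 288361973573761) .leaf))))) (nat_lit 288361977866243) (.node (.node (.node (.node (.node (.node .leaf (nat_lit 288361981966337) .leaf) (nat_lit 288361986259075) .leaf) (nat_lit 288486519310337) (.node (.node .leaf (nat_lit 288486523404291) .leaf) (nat_lit 288486536018051) .leaf)) (nat_lit 288486540308609) (.node (.node (.node .leaf (nat_lit 288488666996867) .leaf) (nat_lit 288488671225985) .leaf) (nat_lit 288488675399683) (.node (.node .leaf (nat_lit 288488679624705) .leaf) (nat_lit 288490822879363) .leaf))) (nat_lit 288490827104385) (.node (.node (.node (.node .leaf (nat_lit 288490831271939) .leaf) (nat_lit 288490835496961) .leaf) (nat_lit 288492961978369) (.node (.node .leaf (nat_lit 288492966203523) .leaf) (nat_lit 288492970391555) .leaf)) (nat_lit 288492974551169) (.node (.node (.node .leaf (nat_lit 288497256659073) .leaf) (nat_lit 288497260949507) .leaf) (nat_lit 288497273409665) (.node (.node .leaf (nat_lit 288497277704195) .leaf)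 (nat_lit 288499412600963) .leaf)))) (nat_lit 288499416694785) (.node (.node (.node (.node (.node .leaf (nat_lit 288499420993539) .leaf) (nat_lit 288499425087617) .leaf) (nat_lit 288621810792576) (.node (.node .leaf (nat_lit 288621814876162) .leaf) (nat_lit 288621827487746) .leaf)) (nat_lit 288621831768192) (.node (.node (.node .leaf (nat_lit 288626097627264) .leaf) (nat_lit 288626101719042) .leaf) (nat_lit 288626106021888) (.node (.node .leaf (nat_lit 288626110105730) .leaf) (nat_lit 288628245078144) .leaf))) (nat_lit 288628249235458) (.node (.node (.node (.node .leaf (nat_lit 288628270258304) .leaf) (nat_lit 288628274423810) .leaf) (nat_lit 288632540176512) (.node (.node .leaf (nat_lit 288632544333954) .leaf) (nat_lit 288632565332098) .leaf)) (nat_lit 288632569546880) (.node (.node (.node .leaf (nat_lit 288634687430784) .leaf) (nat_lit 288634691522690) .leaf) (nat_lit 288634695825408) (.node (.node .leaf (nat_lit 288634699909122) .leaf) (nat_lit 288636843235458) .leaf))))))) (nat_lit 288636847466624) (.node (.node (.node (.node (.node (.node (.node (.node .leaf (nat_lit 288636860037122) .leaf) (nat_lit 288636864251904)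 (.node .leaf (nat_lit 288759249639426) .leaf)) (nat_lit 288759253934208) (.node (.node .leaf (nat_lit 288759266529408) .leaf) (nat_lit 288759270631426) .leaf)) (nat_lit 288763536482306) (.node (.node (.node .leaf (nat_lit 288763540772992) .leaf) (nat_lit 288763544877186) .leaf) (nat_lit 288763549155328) (.node (.node .leaf (nat_lit 288765684002818) .leaf) (nat_lit 288765688219776) .leaf))) (nat_lit 288765709174786) (.node (.node (.node (.node .leaf (nat_lit 288765713412224) .leaf) (nat_lit 288769979109378) .leaf) (nat_lit 288769983342592) (.node (.node .leaf (nat_lit 288770004287488) .leaf) (nat_lit 288770008463362) .leaf)) (nat_lit 288772126302210) (.node (.node (.node .leaf (nat_lit 288772130592768) .leaf) (nat_lit 288772134697090) .leaf) (nat_lit 288772138975360) (.node (.node .leaf (nat_lit 288774282231808) .leaf) (nat_lit 288774286407682) .leaf)))) (nat_lit 288774299000960) (.node (.node (.node (.node (.node .leaf (nat_lit 288774303160450) .leaf) (nat_lit 288896688695424) .leaf) (nat_lit 288896692783106) (.node (.node .leaf (nat_lit 288896705392642) .leaf) (nat_lit 288896709677184) .leaf)) (nat_lit 288900992264194)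 (.node (.node (.node .leaf (nat_lit 288900996483200) .leaf) (nat_lit 288901000654978) .leaf) (nat_lit 288901004873728) (.node (.node .leaf (nat_lit 288903131306114) .leaf) (nat_lit 288903135606784) .leaf))) (nat_lit 288903139715202) (.node (.node (.node (.node .leaf (nat_lit 288903143999488) .leaf) (nat_lit 288907426408576) .leaf) (nat_lit 288907430692994) (.node (.node .leaf (nat_lit 288907434911874) .leaf) (nat_lit 288907438999680) .leaf)) (nat_lit 288909582133250) (.node (.node (.node .leaf (nat_lit 288909586221056) .leaf) (nat_lit 288909590524034) .leaf) (nat_lit 288909594611840) (.node (.node .leaf (nat_lit 288911721146368) .leaf) (nat_lit 288911725365250) .leaf))))) (nat_lit 288911737929856) (.node (.node (.node (.node (.node (.node .leaf (nat_lit 288911742165122) .leaf) (nat_lit 289034127546370) (.node .leaf (nat_lit 289034131845248) .leaf)) (nat_lit 289034144434304) (.node (.node .leaf (nat_lit 289034148536322) .leaf) (nat_lit 289038431252608) .leaf)) (nat_lit 289038435407874) (.node (.node (.node .leaf (nat_lit 289038439639040) .leaf) (nat_lit 289038443790466) .leaf) (nat_lit 289040570355712) (.node (.node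 .leaf (nat_lit 289040574462082) .leaf) (nat_lit 289040578764800) .leaf))) (nat_lit 289040582854786) (.node (.node (.node (.node .leaf (nat_lit 289044865468418) .leaf) (nat_lit 289044869570560) .leaf) (nat_lit 289044873740288) (.node (.node .leaf (nat_lit 289044878043138) .leaf) (nat_lit 289047020974208) .leaf)) (nat_lit 289047025260674) (.node (.node (.node .leaf (nat_lit 289047029360640) .leaf) (nat_lit 289047033643010) .leaf) (nat_lit 289049160149122) (.node (.node .leaf (nat_lit 289049164300416) .leaf) (nat_lit 289049176899586) .leaf)))) (nat_lit 289049181071360) (.node (.node (.node (.node (.node .leaf (nat_lit 289173714030720) .leaf) (nat_lit 289173718239234) .leaf) (nat_lit 289173730848898) (.node (.node .leaf (nat_lit 289173734991872) .leaf) (nat_lit 289175853465602) .leaf)) (nat_lit 289175857780864) (.node (.node (.node .leaf (nat_lit 289175878660226) .leaf) (nat_lit 289175882934272) .leaf) (nat_lit 289178001014786) (.node (.node .leaf (nat_lit 289178005198976) .leaf) (nat_lit 289178009407618) .leaf))) (nat_lit 289178013583360) (.node (.node (.node (.node .leaf (nat_lit 289180156809344) .leaf) (nat_lit 289180160886914)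 .leaf) (nat_lit 289180165103618) (.node (.node .leaf (nat_lit 289180169385984) .leaf) (nat_lit 289184443252864) .leaf)) (nat_lit 289184447338626) (.node (.node (.node .leaf (nat_lit 289184460021888) .leaf) (nat_lit 289184464140418) .leaf) (nat_lit 289186590687234) (.node (.node .leaf (nat_lit 289186594871296) .leaf) (nat_lit 289186599080066) .leaf)))))) (nat_lit 289186603255936) (.node (.node (.node (.node (.node (.node (.node .leaf (nat_lit 289311152996354) .leaf) (nat_lit 289311157178496) (.node .leaf (nat_lit 289311169751040) .leaf)) (nat_lit 289311173998722) (.node (.node .leaf (nat_lit 289313292544128) .leaf) (nat_lit 289313296627714) .leaf)) (nat_lit 289313317689344) (.node (.node (.node .leaf (nat_lit 289313321797762) .leaf) (nat_lit 289315439966336) .leaf) (nat_lit 289315444172802) (.node (.node .leaf (nat_lit 289315448350720) .leaf) (nat_lit 289315452565634) .leaf))) (nat_lit 289317595664386) (.node (.node (.node (.node .leaf (nat_lit 289317599936512) .leaf) (nat_lit 289317604157568) .leaf) (nat_lit 289317608241282) (.node (.node .leaf (nat_lit 289321882116098) .leaf) (nat_lit 289321886396416) .leaf)) (nat_lit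 289321898868738) (.node (.node (.node .leaf (nat_lit 289321903181824) .leaf) (nat_lit 289324029622400) .leaf) (nat_lit 289324033861762) (.node (.node .leaf (nat_lit 289324038006784) .leaf) (nat_lit 289324042254338) .leaf)))) (nat_lit 289448583561218) (.node (.node (.node (.node (.node .leaf (nat_lit 289448587741312) .leaf) (nat_lit 289448600320000) .leaf) (nat_lit 289448604561538) (.node (.node .leaf (nat_lit 289450731405314) .leaf) (nat_lit 289450735650944) .leaf)) (nat_lit 289450756601986) (.node (.node (.node .leaf (nat_lit 289450760810496) .leaf) (nat_lit 289452895758466) .leaf) (nat_lit 289452899835904) (.node (.node .leaf (nat_lit 289452904151042) .leaf) (nat_lit 289452908228736) .leaf))) (nat_lit 289455034667010) (.node (.node (.node (.node .leaf (nat_lit 289455038846976) .leaf) (nat_lit 289455043033216) .leaf) (nat_lit 289455047274626) (.node (.node .leaf (nat_lit 289459329449984) .leaf) (nat_lit 289459333728258) .leaf)) (nat_lit 289459346221056) (.node (.node (.node .leaf (nat_lit 289459350528002) .leaf) (nat_lit 289461485365378) .leaf) (nat_lit 289461489574016) (.node (.node .leaf (nat_lit 289461493757954)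 .leaf) (nat_lit 289461497966592) .leaf))))) (nat_lit 289586022500480) (.node (.node (.node (.node (.node (.node .leaf (nat_lit 289586026711042) .leaf) (nat_lit 289586039322754) .leaf) (nat_lit 289586043467776) (.node (.node .leaf (nat_lit 289588170422400) .leaf) (nat_lit 289588174567426) .leaf)) (nat_lit 289588195557376) (.node (.node (.node .leaf (nat_lit 289588199735426) .leaf) (nat_lit 289590334586880) .leaf) (nat_lit 289590338896002) (.node (.node .leaf (nat_lit 289590342979712) .leaf) (nat_lit 289590347288578) .leaf))) (nat_lit 289592473585792) (.node (.node (.node (.node .leaf (nat_lit 289592477829250) .leaf) (nat_lit 289592482015234) .leaf) (nat_lit 289592486193152) (.node (.node .leaf (nat_lit 289596768514178) .leaf) (nat_lit 289596772593792) .leaf)) (nat_lit 289596785268866) (.node (.node (.node .leaf (nat_lit 289596789381248) .leaf) (nat_lit 289598924341248) .leaf) (nat_lit 289598928486402) (.node (.node .leaf (nat_lit 289598932734080) .leaf) (nat_lit 289598936879234) .leaf)))) (nat_lit 289721322338307) (.node (.node (.node (.node (.node .leaf (nat_lit 289721326600193) .leaf) (nat_lit 289721339213825)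 .leaf) (nat_lit 289721343279107) (.node (.node .leaf (nat_lit 289725626056707) .leaf) (nat_lit 289725630380033) .leaf)) (nat_lit 289725634451587) (.node (.node (.node .leaf (nat_lit 289725638762625) .leaf) (nat_lit 289727765280899) .leaf) (nat_lit 289727769346177) (.node (.node .leaf (nat_lit 289727773638787) .leaf) (nat_lit 289727777765505) .leaf))) (nat_lit 289732051853315) (.node (.node (.node (.node .leaf (nat_lit 289732055931009) .leaf) (nat_lit 289732076927105) .leaf) (nat_lit 289732081188867) (.node (.node .leaf (nat_lit 289734215598083) .leaf) (nat_lit 289734219921537) .leaf)) (nat_lit 289734223992963) (.node (.node (.node .leaf (nat_lit 289734228303873) .leaf) (nat_lit 289736346304513) .leaf) (nat_lit 289736350627971) (.node (.node .leaf (nat_lit 289736363106433) .leaf) (nat_lit 289736367380483) .leaf))))))))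
def t1_20 : BT := (.node (.node (.node (.node (.node (.node (.node (.node (.node .leaf (nat_lit 289858765479939) .leaf) (nat_lit 289858778044419) (.node .leaf (nat_lit 289858782357505) .leaf)) (nat_lit 289863065126913) (.node (.node .leaf (nat_lit 289863069218819) .leaf) (nat_lit 289863073517697) .leaf)) (nat_lit 289863077601411) (.node (.node (.node .leaf (nat_lit 289865204113537) .leaf) (nat_lit 289865208418435) .leaf) (nat_lit 289865212516481) (.node (.node .leaf (nat_lit 289865216796803) .leaf) (nat_lit 289869490706433) .leaf))) (nat_lit 289869494986883) (.node (.node (.node (.node .leaf (nat_lit 289869515966595) .leaf) (nat_lit 289869520058369) .leaf) (nat_lit 289871654651905) (.node (.node .leaf (nat_lit 289871658776707) .leaf) (nat_lit 289871663042689) .leaf)) (nat_lit 289871667159043) (.node (.node (.node .leaf (nat_lit 289873785360387) .leaf) (nat_lit 289873789476993) .leaf) (nat_lit 289873802162307) (.node (.node .leaf (nat_lit 289873806229505) .leaf) (nat_lit 289996191854595) .leaf)))) (nat_lit 289996196124673) (.node (.node (.node (.node (.node .leaf (nat_lit 289996208728065) .leaf) (nat_lit 289996212797443)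 .leaf) (nat_lit 290000487251969) (.node (.node .leaf (nat_lit 290000491440131) .leaf) (nat_lit 290000495646849) .leaf)) (nat_lit 290000499830915) (.node (.node (.node .leaf (nat_lit 290002643097729) .leaf) (nat_lit 290002647347331) .leaf) (nat_lit 290002651506817) (.node (.node .leaf (nat_lit 290002655707267) .leaf) (nat_lit 290006929698819) .leaf))) (nat_lit 290006933903489) (.node (.node (.node (.node .leaf (nat_lit 290006954897537) .leaf) (nat_lit 290006959036419) .leaf) (nat_lit 290009076727809) (.node (.node .leaf (nat_lit 290009081047171) .leaf) (nat_lit 290009085122689) .leaf)) (nat_lit 290009089437699) (.node (.node (.node .leaf (nat_lit 290011232626819) .leaf) (nat_lit 290011236892673) .leaf) (nat_lit 290011249377283) (.node (.node .leaf (nat_lit 290011253696641) .leaf) (nat_lit 290133630879745) .leaf))))) (nat_lit 290133635000323) (.node (.node (.node (.node (.node (.node .leaf (nat_lit 290133647562755) .leaf) (nat_lit 290133651879937) (.node .leaf (nat_lit 290137926193155) .leaf)) (nat_lit 290137930412033) (.node (.node .leaf (nat_lit 290137934579843) .leaf) (nat_lit 290137938798721) .leaf)) (nat_lit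 290140082100355) (.node (.node (.node .leaf (nat_lit 290140086253697) .leaf) (nat_lit 290140090476675) .leaf) (nat_lit 290140094646401) (.node (.node .leaf (nat_lit 290144368678913) .leaf) (nat_lit 290144372832387) .leaf))) (nat_lit 290144393810051) (.node (.node (.node (.node .leaf (nat_lit 290144398028801) .leaf) (nat_lit 290146515783683) .leaf) (nat_lit 290146519904385) (.node (.node .leaf (nat_lit 290146524170371) .leaf) (nat_lit 290146528290817) .leaf)) (nat_lit 290148671676545) (.node (.node (.node .leaf (nat_lit 290148675747843) .leaf) (nat_lit 290148688431105) .leaf) (nat_lit 290148692551811) (.node (.node .leaf (nat_lit 290271069863937) .leaf) (nat_lit 290271073935363) .leaf)))) (nat_lit 290271086641153) (.node (.node (.node (.node (.node .leaf (nat_lit 290271090712579) .leaf) (nat_lit 290275364831233) .leaf) (nat_lit 290275368902659) (.node (.node .leaf (nat_lit 290275373236353) .leaf) (nat_lit 290275377307779) .leaf)) (nat_lit 290277520851075) (.node (.node (.node .leaf (nat_lit 290277525184641) .leaf) (nat_lit 290277529354369) .leaf) (nat_lit 290277533425795) (.node (.node .leaf (nat_lit 290279659798529)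 .leaf) (nat_lit 290279663870083) .leaf))) (nat_lit 290279684980737) (.node (.node (.node (.node .leaf (nat_lit 290279689052291) .leaf) (nat_lit 290283954765825) .leaf) (nat_lit 290283958837379) (.node (.node .leaf (nat_lit 290283971411971) .leaf) (nat_lit 290283975745665) .leaf)) (nat_lit 290286119157891) (.node (.node (.node .leaf (nat_lit 290286123491329) .leaf) (nat_lit 290286127562755) .leaf) (nat_lit 290286131896449) (.node (.node .leaf (nat_lit 290408517224449) .leaf) (nat_lit 290408521293827) .leaf)))))) (nat_lit 290408534001665) (.node (.node (.node (.node (.node (.node (.node .leaf (nat_lit 290408538071043) .leaf) (nat_lit 290412820572161) (.node .leaf (nat_lit 290412824625155) .leaf)) (nat_lit 290412828977281) (.node (.node .leaf (nat_lit 290412833030275) .leaf) (nat_lit 290414959949953) .leaf)) (nat_lit 290414964002947) (.node (.node (.node .leaf (nat_lit 290414968189059) .leaf) (nat_lit 290414972508289) .leaf) (nat_lit 290417098770433) (.node (.node .leaf (nat_lit 290417102839939) .leaf) (nat_lit 290417123919873) .leaf))) (nat_lit 290417127989379) (.node (.node (.node (.node .leaf (nat_lit 290421401985155)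 .leaf) (nat_lit 290421406304257) .leaf) (nat_lit 290421418895489) (.node (.node .leaf (nat_lit 290421422948355) .leaf) (nat_lit 290423541362691) .leaf)) (nat_lit 290423545682049) (.node (.node (.node .leaf (nat_lit 290423549735043) .leaf) (nat_lit 290423554054145) .leaf) (nat_lit 290545947775104) (.node (.node .leaf (nat_lit 290545951842306) .leaf) (nat_lit 290545964554368) .leaf)))) (nat_lit 290545968621570) (.node (.node (.node (.node (.node .leaf (nat_lit 290550259554432) .leaf) (nat_lit 290550263621634) .leaf) (nat_lit 290550267959296) (.node (.node .leaf (nat_lit 290550272026754) .leaf) (nat_lit 290552390520960) .leaf)) (nat_lit 290552394588162) (.node (.node (.node .leaf (nat_lit 290552415569922) .leaf) (nat_lit 290552419907712) .leaf) (nat_lit 290554546180224) (.node (.node .leaf (nat_lit 290554550247554) .leaf) (nat_lit 290554554554496) .leaf))) (nat_lit 290554558621826) (.node (.node (.node (.node .leaf (nat_lit 290558832640002) .leaf) (nat_lit 290558836977664) .leaf) (nat_lit 290558849554560) (.node (.node .leaf (nat_lit 290558853621890) .leaf) (nat_lit 290560980385794) .leaf)) (nat_lit 290560984723456)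 (.node (.node (.node .leaf (nat_lit 290560988790914) .leaf) (nat_lit 290560993128576) .leaf) (nat_lit 290683395135616) (.node (.node .leaf (nat_lit 290683399200770) .leaf) (nat_lit 290683411910784) .leaf))))) (nat_lit 290683415980034) (.node (.node (.node (.node (.node (.node .leaf (nat_lit 290687681738880) .leaf) (nat_lit 290687685787650) .leaf) (nat_lit 290687690143744) (.node (.node .leaf (nat_lit 290687694192770) .leaf) (nat_lit 290689829351426) .leaf)) (nat_lit 290689833666688) (.node (.node (.node .leaf (nat_lit 290689854660736) .leaf) (nat_lit 290689858721794) .leaf) (nat_lit 290691985119360) (.node (.node .leaf (nat_lit 290691989184642) .leaf) (nat_lit 290691993522304) .leaf))) (nat_lit 290691997591682) (.node (.node (.node (.node .leaf (nat_lit 290696280127488) .leaf) (nat_lit 290696284176386) .leaf) (nat_lit 290696296769666) (.node (.node .leaf (nat_lit 290696301088896) .leaf) (nat_lit 290698436147330) .leaf)) (nat_lit 290698440458368) (.node (.node (.node .leaf (nat_lit 290698444519426) .leaf) (nat_lit 290698448830464) .leaf) (nat_lit 290822973456385) (.node (.node .leaf (nat_lit 290822977519619) .leaf)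 (nat_lit 290822990233729) .leaf)))) (nat_lit 290822994296963) (.node (.node (.node (.node (.node .leaf (nat_lit 290825128929411) .leaf) (nat_lit 290825133254785) .leaf) (nat_lit 290825137422337) (.node (.node .leaf (nat_lit 290825141485571) .leaf) (nat_lit 290827268423681) .leaf)) (nat_lit 290827272486915) (.node (.node (.node .leaf (nat_lit 290827276830849) .leaf) (nat_lit 290827280894083) .leaf) (nat_lit 290831563259905) (.node (.node .leaf (nat_lit 290831567585411) .leaf) (nat_lit 290831588444289) .leaf))) (nat_lit 290831592769539) (.node (.node (.node (.node .leaf (nat_lit 290833727365123) .leaf) (nat_lit 290833731428481) .leaf) (nat_lit 290833735772291) (.node (.node .leaf (nat_lit 290833739835393) .leaf) (nat_lit 290835858227201) .leaf)) (nat_lit 290835862552707) (.node (.node (.node .leaf (nat_lit 290835875143811) .leaf) (nat_lit 290835879206913) .leaf) (nat_lit 290960420818945) (.node (.node .leaf (nat_lit 290960424884227) .leaf) (nat_lit 290960437596289) .leaf))))))) (nat_lit 290960441661571) (.node (.node (.node (.node (.node (.node (.node (.node .leaf (nat_lit 290962568011905) .leaf) (nat_lit 290962572077187)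 (.node .leaf (nat_lit 290962576244739) .leaf)) (nat_lit 290962580572161) (.node (.node .leaf (nat_lit 290964724168833) .leaf) (nat_lit 290964728230019) .leaf)) (nat_lit 290964732571649) (.node (.node (.node .leaf (nat_lit 290964736636931) .leaf) (nat_lit 290969002235905) .leaf) (nat_lit 290969006559363) (.node (.node .leaf (nat_lit 290969027383425) .leaf) (nat_lit 290969031710723) .leaf))) (nat_lit 290971149549571) (.node (.node (.node (.node .leaf (nat_lit 290971153614977) .leaf) (nat_lit 290971157923971) .leaf) (nat_lit 290971161985025) (.node (.node .leaf (nat_lit 290973305706627) .leaf) (nat_lit 290973309767681) .leaf)) (nat_lit 290973322358785) (.node (.node (.node .leaf (nat_lit 290973326686339) .leaf) (nat_lit 291097851232258) .leaf) (nat_lit 291097855561856) (.node (.node .leaf (nat_lit 291097868011650) .leaf) (nat_lit 291097872340992) .leaf)))) (nat_lit 291099998453762) (.node (.node (.node (.node (.node .leaf (nat_lit 291100002783360) .leaf) (nat_lit 291100023779328) .leaf) (nat_lit 291100027838594) (.node (.node .leaf (nat_lit 291102162946178) .leaf) (nat_lit 291102167275520) .leaf)) (nat_lit 291102171348994)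 (.node (.node (.node .leaf (nat_lit 291102175678592) .leaf) (nat_lit 291106449770498) .leaf) (nat_lit 291106453837824) (.node (.node .leaf (nat_lit 291106458142850) .leaf) (nat_lit 291106462210176) .leaf))) (nat_lit 291108588466304) (.node (.node (.node (.node .leaf (nat_lit 291108592787586) .leaf) (nat_lit 291108596873216) .leaf) (nat_lit 291108601194498) (.node (.node .leaf (nat_lit 291110736179328) .leaf) (nat_lit 291110740500610) .leaf)) (nat_lit 291110753077378) (.node (.node (.node .leaf (nat_lit 291110757144704) .leaf) (nat_lit 291235298596866) .leaf) (nat_lit 291235302916224) (.node (.node .leaf (nat_lit 291235315372162) .leaf) (nat_lit 291235319695360) .leaf))))) (nat_lit 291237437544576) (.node (.node (.node (.node (.node (.node .leaf (nat_lit 291237441601538) .leaf) (nat_lit 291237462597762) (.node .leaf (nat_lit 291237466929152) .leaf)) (nat_lit 291239585132546) (.node (.node .leaf (nat_lit 291239589456000) .leaf) (nat_lit 291239593539714) .leaf)) (nat_lit 291239597858816) (.node (.node (.node .leaf (nat_lit 291243888711682) .leaf) (nat_lit 291243892768768) .leaf) (nat_lit 291243897116802) (.node (.node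 .leaf (nat_lit 291243901173888) .leaf) (nat_lit 291246044205184) .leaf))) (nat_lit 291246048528514) (.node (.node (.node (.node .leaf (nat_lit 291246052579328) .leaf) (nat_lit 291246056898562) .leaf) (nat_lit 291248183654530) (.node (.node .leaf (nat_lit 291248187711616) .leaf) (nat_lit 291248200288384) .leaf)) (nat_lit 291248204615810) (.node (.node (.node .leaf (nat_lit 291370589896705) .leaf) (nat_lit 291370593953795) .leaf) (nat_lit 291370606673921) (.node (.node .leaf (nat_lit 291370610731011) .leaf) (nat_lit 291374893252611) .leaf)))) (nat_lit 291374897309697) (.node (.node (.node (.node (.node .leaf (nat_lit 291374901624963) .leaf) (nat_lit 291374905714817) .leaf) (nat_lit 291377032659075) (.node (.node .leaf (nat_lit 291377036748929) .leaf) (nat_lit 291377040916609) .leaf)) (nat_lit 291377045268611) (.node (.node (.node .leaf (nat_lit 291379179831297) .leaf) (nat_lit 291379183888515) .leaf) (nat_lit 291379188203521) (.node (.node .leaf (nat_lit 291379192293507) .leaf) (nat_lit 291383466262529) .leaf))) (nat_lit 291383470614659) (.node (.node (.node (.node .leaf (nat_lit 291383483187203) .leaf) (nat_lit 291383487244417)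 .leaf) (nat_lit 291385614073857) (.node (.node .leaf (nat_lit 291385618425987) .leaf) (nat_lit 291385622478977) .leaf)) (nat_lit 291385626798083) (.node (.node (.node .leaf (nat_lit 291508020447233) .leaf) (nat_lit 291508024535043) .leaf) (nat_lit 291508037224449) (.node (.node .leaf (nat_lit 291508041312259) .leaf) (nat_lit 291512315437059) .leaf)))))) (nat_lit 291512319475713) (.node (.node (.node (.node (.node (.node (.node .leaf (nat_lit 291512323809411) .leaf) (nat_lit 291512327880833) (.node .leaf (nat_lit 291514471512193) .leaf)) (nat_lit 291514475812995) (.node (.node .leaf (nat_lit 291514480029827) .leaf) (nat_lit 291514484068481) .leaf)) (nat_lit 291516618770433) (.node (.node (.node .leaf (nat_lit 291516622858371) .leaf) (nat_lit 291516627175425) .leaf) (nat_lit 291516631230595) (.node (.node .leaf (nat_lit 291520913760387) .leaf) (nat_lit 291520917798913) .leaf))) (nat_lit 291520930392193) (.node (.node (.node (.node .leaf (nat_lit 291520934725635) .leaf) (nat_lit 291523069835393) .leaf) (nat_lit 291523074136067) (.node (.node .leaf (nat_lit 291523078207489) .leaf) (nat_lit 291523082541187) .leaf)) (nat_lit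 291645459419264) (.node (.node (.node .leaf (nat_lit 291645463472130) .leaf) (nat_lit 291645476198528) .leaf) (nat_lit 291645480247298) (.node (.node .leaf (nat_lit 291649754398722) .leaf) (nat_lit 291649758492800) .leaf)))) (nat_lit 291649762803842) (.node (.node (.node (.node (.node .leaf (nat_lit 291649766864896) .leaf) (nat_lit 291651910471680) .leaf) (nat_lit 291651914819714) (.node (.node .leaf (nat_lit 291651918989442) .leaf) (nat_lit 291651923079168) .leaf)) (nat_lit 291654057791616) (.node (.node (.node .leaf (nat_lit 291654061877378) .leaf) (nat_lit 291654066198656) .leaf) (nat_lit 291654070247554) (.node (.node .leaf (nat_lit 291658352803970) .leaf) (nat_lit 291658356865152) .leaf))) (nat_lit 291658369439744) (.node (.node (.node (.node .leaf (nat_lit 291658373783554) .leaf) (nat_lit 291660508747776) .leaf) (nat_lit 291660513058818) (.node (.node .leaf (nat_lit 291660517120128) .leaf) (nat_lit 291660521463938) .leaf)) (nat_lit 291782906747008) (.node (.node (.node .leaf (nat_lit 291782910830594) .leaf) (nat_lit 291782923522176) .leaf) (nat_lit 291782927605762) (.node (.node .leaf (nat_lit 291787210139650)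 .leaf) (nat_lit 291787214215296) .leaf))))) (nat_lit 291787218544770) (.node (.node (.node (.node (.node (.node .leaf (nat_lit 291787222587392) .leaf) (nat_lit 291789349580930) .leaf) (nat_lit 291789353615360) (.node (.node .leaf (nat_lit 291789357834240) .leaf) (nat_lit 291789362139266) .leaf)) (nat_lit 291791496763520) (.node (.node (.node .leaf (nat_lit 291791500814466) .leaf) (nat_lit 291791505133696) .leaf) (nat_lit 291791509217410) (.node (.node .leaf (nat_lit 291795783235712) .leaf) (nat_lit 291795787565186) .leaf))) (nat_lit 291795800156162) (.node (.node (.node (.node .leaf (nat_lit 291795804198912) .leaf) (nat_lit 291797930911872) .leaf) (nat_lit 291797935249538) (.node (.node .leaf (nat_lit 291797939316736) .leaf) (nat_lit 291797943621634) .leaf)) (nat_lit 291922493556737) (.node (.node (.node .leaf (nat_lit 291922497601539) .leaf) (nat_lit 291922510334081) .leaf) (nat_lit 291922514378883) (.node (.node .leaf (nat_lit 291924632141825) .leaf) (nat_lit 291924636485635) .leaf)))) (nat_lit 291924657449091) (.node (.node (.node (.node (.node .leaf (nat_lit 291924661526657) .leaf) (nat_lit 291926780141571)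 .leaf) (nat_lit 291926784190465) (.node (.node .leaf (nat_lit 291926788515971) .leaf) (nat_lit 291926792593537) .leaf)) (nat_lit 291931074953217) (.node (.node (.node .leaf (nat_lit 291931079297155) .leaf) (nat_lit 291931100137601) .leaf) (nat_lit 291931104444419) (.node (.node .leaf (nat_lit 291933238984705) .leaf) (nat_lit 291933243066499) .leaf))) (nat_lit 291933247391873) (.node (.node (.node (.node .leaf (nat_lit 291933251436547) .leaf) (nat_lit 291935369945091) .leaf) (nat_lit 291935374256257) (.node (.node .leaf (nat_lit 291935386828929) .leaf) (nat_lit 291935390910467) .leaf)) (nat_lit 292059924109313) (.node (.node (.node .leaf (nat_lit 292059928188931) .leaf) (nat_lit 292059940886657) .leaf) (nat_lit 292059944966275) (.node (.node .leaf (nat_lit 292062071242755) .leaf) (nat_lit 292062075289601) .leaf))))))))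
def t1_21 : BT := (.node (.node (.node (.node (.node (.node (.node (.node (.node .leaf (nat_lit 292062100594819) .leaf) (nat_lit 292064235868291) (.node .leaf (nat_lit 292064239915137) .leaf)) (nat_lit 292064244242435) (.node (.node .leaf (nat_lit 292064248322049) .leaf) (nat_lit 292068513929217) .leaf)) (nat_lit 292068518238339) (.node (.node (.node .leaf (nat_lit 292068539076737) .leaf) (nat_lit 292068543418371) .leaf) (nat_lit 292070661187585) (.node (.node .leaf (nat_lit 292070665234563) .leaf) (nat_lit 292070669557889) .leaf))) (nat_lit 292070673637379) (.node (.node (.node (.node .leaf (nat_lit 292072817406081) .leaf) (nat_lit 292072821485571) .leaf) (nat_lit 292072834062339) (.node (.node .leaf (nat_lit 292072838371457) .leaf) (nat_lit 292197362925570) .leaf)) (nat_lit 292197367273600) (.node (.node (.node .leaf (nat_lit 292197379704962) .leaf) (nat_lit 292197384048640) .leaf) (nat_lit 292199510110336) (.node (.node .leaf (nat_lit 292199514417154) .leaf) (nat_lit 292199535394946) .leaf)))) (nat_lit 292199539447808) (.node (.node (.node (.node (.node .leaf (nat_lit 292201674668032) .leaf) (nat_lit 292201678971010)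 .leaf) (nat_lit 292201683038336) (.node (.node .leaf (nat_lit 292201687377922) .leaf) (nat_lit 292205952925698) .leaf)) (nat_lit 292205957011456) (.node (.node (.node .leaf (nat_lit 292205978108034) .leaf) (nat_lit 292205982161024) .leaf) (nat_lit 292208100081666) (.node (.node .leaf (nat_lit 292208104429568) .leaf) (nat_lit 292208108488834) .leaf))) (nat_lit 292208112799872) (.node (.node (.node (.node .leaf (nat_lit 292210256136322) .leaf) (nat_lit 292210260447360) .leaf) (nat_lit 292210273038464) (.node (.node .leaf (nat_lit 292210277116034) .leaf) (nat_lit 292334810290178) .leaf)) (nat_lit 292334814595200) (.node (.node (.node .leaf (nat_lit 292334827065474) .leaf) (nat_lit 292334831370240) .leaf) (nat_lit 292336949174274) (.node (.node .leaf (nat_lit 292336953258112) .leaf) (nat_lit 292336974206976) .leaf))))) (nat_lit 292336978544770) (.node (.node (.node (.node (.node (.node .leaf (nat_lit 292339096832128) .leaf) (nat_lit 292339101145090) (.node .leaf (nat_lit 292339105202176) .leaf)) (nat_lit 292339109548162) (.node (.node .leaf (nat_lit 292343391899650) .leaf) (nat_lit 292343395942400) .leaf)) (nat_lit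 292343417049218) (.node (.node (.node .leaf (nat_lit 292343421124736) .leaf) (nat_lit 292345555838978) .leaf) (nat_lit 292345560152064) (.node (.node .leaf (nat_lit 292345564209282) .leaf) (nat_lit 292345568555136) .leaf))) (nat_lit 292347686815872) (.node (.node (.node (.node .leaf (nat_lit 292347690899586) .leaf) (nat_lit 292347703490690) .leaf) (nat_lit 292347707795584) (.node (.node .leaf (nat_lit 292470093152257) .leaf) (nat_lit 292470097190915) .leaf)) (nat_lit 292470109937665) (.node (.node (.node .leaf (nat_lit 292470113959939) .leaf) (nat_lit 292474388119553) .leaf) (nat_lit 292474392158211) (.node (.node .leaf (nat_lit 292474396528769) .leaf) (nat_lit 292474400567427) .leaf)))) (nat_lit 292476544110723) (.node (.node (.node (.node (.node .leaf (nat_lit 292476548477057) .leaf) (nat_lit 292476552650881) .leaf) (nat_lit 292476556673155) (.node (.node .leaf (nat_lit 292478683348993) .leaf) (nat_lit 292478687387779) .leaf)) (nat_lit 292478708543489) (.node (.node (.node .leaf (nat_lit 292478712565891) .leaf) (nat_lit 292482978316289) .leaf) (nat_lit 292482982355075) (.node (.node .leaf (nat_lit 292482994937859)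 .leaf) (nat_lit 292482999287937) .leaf))) (nat_lit 292485142159491) (.node (.node (.node (.node .leaf (nat_lit 292485146509313) .leaf) (nat_lit 292485150568451) .leaf) (nat_lit 292485154918529) (.node (.node .leaf (nat_lit 292607540350979) .leaf) (nat_lit 292607544719361) .leaf)) (nat_lit 292607557136387) (.node (.node (.node .leaf (nat_lit 292607561488385) .leaf) (nat_lit 292611843686403) .leaf) (nat_lit 292611848054785) (.node (.node .leaf (nat_lit 292611852095619) .leaf) (nat_lit 292611856464001) .leaf)))))) (nat_lit 292613983068291) (.node (.node (.node (.node (.node (.node (.node .leaf (nat_lit 292613987420289) .leaf) (nat_lit 292613991602305) (.node .leaf (nat_lit 292613995638915) .leaf)) (nat_lit 292616122155011) (.node (.node .leaf (nat_lit 292616126523521) .leaf) (nat_lit 292616147316739) .leaf)) (nat_lit 292616151668865) (.node (.node (.node .leaf (nat_lit 292620425672833) .leaf) (nat_lit 292620429692931) .leaf) (nat_lit 292620442275971) (.node (.node .leaf (nat_lit 292620446644225) .leaf) (nat_lit 292622564521985) .leaf))) (nat_lit 292622568542339) (.node (.node (.node (.node .leaf (nat_lit 292622572890241)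 .leaf) (nat_lit 292622576910339) .leaf) (nat_lit 292744971063424) (.node (.node .leaf (nat_lit 292744975097858) .leaf) (nat_lit 292744987850880) .leaf)) (nat_lit 292744991868930) (.node (.node (.node .leaf (nat_lit 292749282785408) .leaf) (nat_lit 292749286868994) .leaf) (nat_lit 292749291186176) (.node (.node .leaf (nat_lit 292749295278210) .leaf) (nat_lit 292751413743744) .leaf)))) (nat_lit 292751417843714) (.node (.node (.node (.node (.node .leaf (nat_lit 292751438837762) .leaf) (nat_lit 292751443118208) .leaf) (nat_lit 292753569726592) (.node (.node .leaf (nat_lit 292753573769346) .leaf) (nat_lit 292753578113152) .leaf)) (nat_lit 292753582131330) (.node (.node (.node .leaf (nat_lit 292757856157698) .leaf) (nat_lit 292757860462592) .leaf) (nat_lit 292757873047680) (.node (.node .leaf (nat_lit 292757877131394) .leaf) (nat_lit 292760003379202) .leaf))) (nat_lit 292760007684096) (.node (.node (.node (.node .leaf (nat_lit 292760011788418) .leaf) (nat_lit 292760016085120) .leaf) (nat_lit 292882418257922) (.node (.node .leaf (nat_lit 292882422622336) .leaf) (nat_lit 292882435045378) .leaf)) (nat_lit 292882439389312)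 (.node (.node (.node .leaf (nat_lit 292886704857090) .leaf) (nat_lit 292886709147776) .leaf) (nat_lit 292886713266306) (.node (.node .leaf (nat_lit 292886717548544) .leaf) (nat_lit 292888852703360) .leaf))))) (nat_lit 292888856793090) (.node (.node (.node (.node (.node (.node .leaf (nat_lit 292888877778946) .leaf) (nat_lit 292888882081920) .leaf) (nat_lit 292891008503810) (.node (.node .leaf (nat_lit 292891012868096) .leaf) (nat_lit 292891016914946) .leaf)) (nat_lit 292891021266944) (.node (.node (.node .leaf (nat_lit 292895303512194) .leaf) (nat_lit 292895307794560) .leaf) (nat_lit 292895320375296) (.node (.node .leaf (nat_lit 292895324485634) .leaf) (nat_lit 292897459224576) .leaf))) (nat_lit 292897463334914) (.node (.node (.node (.node .leaf (nat_lit 292897467601024) .leaf) (nat_lit 292897471703170) .leaf) (nat_lit 293021996679169) (.node (.node .leaf (nat_lit 293022000775171) .leaf) (nat_lit 293022013464705) .leaf)) (nat_lit 293022017560707) (.node (.node (.node .leaf (nat_lit 293024152189059) .leaf) (nat_lit 293024156547201) .leaf) (nat_lit 293024160718849) (.node (.node .leaf (nat_lit 293024164749315) .leaf)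 (nat_lit 293026291646465) .leaf)))) (nat_lit 293026295742467) (.node (.node (.node (.node (.node .leaf (nat_lit 293026300057729) .leaf) (nat_lit 293026304153731) .leaf) (nat_lit 293030586220545) (.node (.node .leaf (nat_lit 293030590578819) .leaf) (nat_lit 293030611417217) .leaf)) (nat_lit 293030615775235) (.node (.node (.node .leaf (nat_lit 293032750874627) .leaf) (nat_lit 293032754970753) .leaf) (nat_lit 293032759285891) (.node (.node .leaf (nat_lit 293032763381761) .leaf) (nat_lit 293034881187841) .leaf))) (nat_lit 293034885546115) (.node (.node (.node (.node .leaf (nat_lit 293034898129027) .leaf) (nat_lit 293034902159361) .leaf) (nat_lit 293159443949571) (.node (.node .leaf (nat_lit 293159448240129) .leaf) (nat_lit 293159460718723) .leaf)) (nat_lit 293159465009281) (.node (.node (.node .leaf (nat_lit 293161591134339) .leaf) (nat_lit 293161595490433) .leaf) (nat_lit 293161599666177) (.node (.node .leaf (nat_lit 293161603694595) .leaf) (nat_lit 293163747291267) .leaf))))))) (nat_lit 293163751585921) (.node (.node (.node (.node (.node (.node (.node (.node .leaf (nat_lit 293163755694083) .leaf) (nat_lit 293163759984641)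 (.node .leaf (nat_lit 293168025366531) .leaf)) (nat_lit 293168029399169) (.node (.node .leaf (nat_lit 293168050505859) .leaf) (nat_lit 293168054534145) .leaf)) (nat_lit 293170172979201) (.node (.node (.node .leaf (nat_lit 293170177269891) .leaf) (nat_lit 293170181353601) .leaf) (nat_lit 293170185648131) (.node (.node .leaf (nat_lit 293172328538241) .leaf) (nat_lit 293172332898307) .leaf))) (nat_lit 293172345481219) (.node (.node (.node (.node .leaf (nat_lit 293172349509761) .leaf) (nat_lit 293296874487810) .leaf) (nat_lit 293296878784640) (.node (.node .leaf (nat_lit 293296891275394) .leaf) (nat_lit 293296895571968) .leaf)) (nat_lit 293299021709314) (.node (.node (.node .leaf (nat_lit 293299026006144) .leaf) (nat_lit 293299046989824) .leaf) (nat_lit 293299051090050) (.node (.node .leaf (nat_lit 293301186209922) .leaf) (nat_lit 293301190572032) .leaf)))) (nat_lit 293301194616834) (.node (.node (.node (.node (.node .leaf (nat_lit 293301198971008) .leaf) (nat_lit 293305472768002) .leaf) (nat_lit 293305476794368) (.node (.node .leaf (nat_lit 293305481144450) .leaf) (nat_lit 293305485179008) .leaf)) (nat_lit 293307611951232)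 (.node (.node (.node .leaf (nat_lit 293307616305282) .leaf) (nat_lit 293307620354048) .leaf) (nat_lit 293307624716290) (.node (.node .leaf (nat_lit 293309759205504) .leaf) (nat_lit 293309763494018) .leaf))) (nat_lit 293309776078978) (.node (.node (.node (.node .leaf (nat_lit 293309780179072) .leaf) (nat_lit 293434321956992) .leaf) (nat_lit 293434326050818) (.node (.node .leaf (nat_lit 293434338727936) .leaf) (nat_lit 293434342817922) .leaf)) (nat_lit 293436460670978) (.node (.node (.node .leaf (nat_lit 293436464969856) .leaf) (nat_lit 293436485953536) .leaf) (nat_lit 293436490051714) (.node (.node .leaf (nat_lit 293438608541824) .leaf) (nat_lit 293438612574210) .leaf))))) (nat_lit 293438616948736) (.node (.node (.node (.node (.node (.node .leaf (nat_lit 293438620977282) .leaf) (nat_lit 293442911547520) (.node .leaf (nat_lit 293442915903618) .leaf)) (nat_lit 293442919940096) (.node (.node .leaf (nat_lit 293442924304386) .leaf) (nat_lit 293445067851778) .leaf)) (nat_lit 293445071884288) (.node (.node (.node .leaf (nat_lit 293445076226178) .leaf) (nat_lit 293445080254592) .leaf) (nat_lit 293447206539264) (.node (.node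 .leaf (nat_lit 293447210829826) .leaf) (nat_lit 293447223410690) .leaf))) (nat_lit 293447227512832) (.node (.node (.node (.node .leaf (nat_lit 293569613025282) .leaf) (nat_lit 293569617377408) .leaf) (nat_lit 293569629810690) (.node (.node .leaf (nat_lit 293569634146432) .leaf) (nat_lit 293573916418176) .leaf)) (nat_lit 293573920688130) (.node (.node (.node .leaf (nat_lit 293573924794368) .leaf) (nat_lit 293573929097346) .leaf) (nat_lit 293576055820288) (.node (.node .leaf (nat_lit 293576060139650) .leaf) (nat_lit 293576064311426) .leaf)))) (nat_lit 293576068417536) (.node (.node (.node (.node (.node .leaf (nat_lit 293578203222018) .leaf) (nat_lit 293578207574016) .leaf) (nat_lit 293578211598338) (.node (.node .leaf (nat_lit 293578215966720) .leaf) (nat_lit 293582489911298) .leaf)) (nat_lit 293582494033920) (.node (.node (.node .leaf (nat_lit 293582506614912) .leaf) (nat_lit 293582510884994) .leaf) (nat_lit 293584637198338) (.node (.node .leaf (nat_lit 293584641320960) .leaf) (nat_lit 293584645607554) .leaf))) (nat_lit 293584649697408) (.node (.node (.node (.node .leaf (nat_lit 293707043752064) .leaf) (nat_lit 293707047774210)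 .leaf) (nat_lit 293707060537472) (.node (.node .leaf (nat_lit 293707064543234) .leaf) (nat_lit 293711338676226) .leaf)) (nat_lit 293711342780544) (.node (.node (.node .leaf (nat_lit 293711347085442) .leaf) (nat_lit 293711351156736) .leaf) (nat_lit 293713494779904) (.node (.node .leaf (nat_lit 293713499080834) .leaf) (nat_lit 293713503260802) .leaf)))))) (nat_lit 293713507381248) (.node (.node (.node (.node (.node (.node (.node .leaf (nat_lit 293715642341504) .leaf) (nat_lit 293715646363778) (.node .leaf (nat_lit 293715650717824) .leaf)) (nat_lit 293715654756482) (.node (.node .leaf (nat_lit 293719937265794) .leaf) (nat_lit 293719941369984) .leaf)) (nat_lit 293719953954816) (.node (.node (.node .leaf (nat_lit 293719958239234) .leaf) (nat_lit 293722092836864) .leaf) (nat_lit 293722097154050) (.node (.node .leaf (nat_lit 293722101237888) .leaf) (nat_lit 293722105522306) .leaf))) (nat_lit 293844482543619) (.node (.node (.node (.node .leaf (nat_lit 293844486891521) .leaf) (nat_lit 293844499331075) .leaf) (nat_lit 293844503658497) (.node (.node .leaf (nat_lit 293848777490433) .leaf) (nat_lit 293848781879299) .leaf)) (nat_lit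 293848785899649) (.node (.node (.node .leaf (nat_lit 293848790247555) .leaf) (nat_lit 293850933854339) .leaf) (nat_lit 293850937915521) (.node (.node .leaf (nat_lit 293850942089345) .leaf) (nat_lit 293850946457731) .leaf)))) (nat_lit 293853081174019) (.node (.node (.node (.node (.node .leaf (nat_lit 293853085563009) .leaf) (nat_lit 293853089593347) .leaf) (nat_lit 293853093920897) (.node (.node .leaf (nat_lit 293857376161921) .leaf) (nat_lit 293857380509699) .leaf)) (nat_lit 293857393092739) (.node (.node (.node .leaf (nat_lit 293857397133313) .leaf) (nat_lit 293859531880579) .leaf) (nat_lit 293859535880193) (.node (.node .leaf (nat_lit 293859540248579) .leaf) (nat_lit 293859544289409) .leaf))) (nat_lit 293981930051585) (.node (.node (.node (.node .leaf (nat_lit 293981934069763) .leaf) (nat_lit 293981946834945) .leaf) (nat_lit 293981950836739) (.node (.node .leaf (nat_lit 293986233407491) .leaf) (nat_lit 293986237425665) .leaf)) (nat_lit 293986241775747) (.node (.node (.node .leaf (nat_lit 293986245834881) .leaf) (nat_lit 293988372820099) .leaf) (nat_lit 293988376854657) (.node (.node .leaf (nat_lit 293988381036673)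 .leaf) (nat_lit 293988385415299) .leaf))))) (nat_lit 293990520297473) (.node (.node (.node (.node (.node (.node .leaf (nat_lit 293990524348547) .leaf) (nat_lit 293990528704513) .leaf) (nat_lit 293990532714627) (.node (.node .leaf (nat_lit 293994806732801) .leaf) (nat_lit 293994811070595) .leaf)) (nat_lit 293994823653379) (.node (.node (.node .leaf (nat_lit 293994827704449) .leaf) (nat_lit 293996953892865) .leaf) (nat_lit 293996958222467) (.node (.node .leaf (nat_lit 293996962261121) .leaf) (nat_lit 293996966631427) .leaf))) (nat_lit 294121516685314) (.node (.node (.node (.node .leaf (nat_lit 294121520959616) .leaf) (nat_lit 294121533470850) .leaf) (nat_lit 294121537744896) (.node (.node .leaf (nat_lit 294123655528450) .leaf) (nat_lit 294123659643008) .leaf)) (nat_lit 294123680602112) (.node (.node (.node .leaf (nat_lit 294123684909186) .leaf) (nat_lit 294125803233408) .leaf) (nat_lit 294125807577090) (.node (.node .leaf (nat_lit 294125811611648) .leaf) (nat_lit 294125815984258) .leaf)))) (nat_lit 294130098077698) (.node (.node (.node (.node (.node .leaf (nat_lit 294130102126592) .leaf) (nat_lit 294130123274370)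 .leaf) (nat_lit 294130127286400) (.node (.node .leaf (nat_lit 294132262379522) .leaf) (nat_lit 294132266756096) .leaf)) (nat_lit 294132270790786) (.node (.node (.node .leaf (nat_lit 294132275130496) .leaf) (nat_lit 294134393036928) .leaf) (nat_lit 294134397118594) (.node (.node .leaf (nat_lit 294134409699458) .leaf) (nat_lit 294134414010496) .leaf))) (nat_lit 294258947356800) (.node (.node (.node (.node .leaf (nat_lit 294258951436290) .leaf) (nat_lit 294258964125696) .leaf) (nat_lit 294258968205442) (.node (.node .leaf (nat_lit 294261094490114) .leaf) (nat_lit 294261098602624) .leaf)) (nat_lit 294261119561728) (.node (.node (.node .leaf (nat_lit 294261123870850) .leaf) (nat_lit 294263259107458) .leaf) (nat_lit 294263263154176) (.node (.node .leaf (nat_lit 294263267510274) .leaf) (nat_lit 294263271524480) .leaf))))))))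
def t1_22 : BT := (.node (.node (.node (.node (.node (.node (.node (.node (.node .leaf (nat_lit 294267541256322) .leaf) (nat_lit 294267562049536) (.node .leaf (nat_lit 294267566391298) .leaf)) (nat_lit 294269684713600) (.node (.node .leaf (nat_lit 294269688760450) .leaf) (nat_lit 294269693120512) .leaf)) (nat_lit 294269697134594) (.node (.node (.node .leaf (nat_lit 294271840370688) .leaf) (nat_lit 294271844450306) .leaf) (nat_lit 294271857035266) (.node (.node .leaf (nat_lit 294271861344256) .leaf) (nat_lit 294396386279425) .leaf))) (nat_lit 294396390397955) (.node (.node (.node (.node .leaf (nat_lit 294396403067009) .leaf) (nat_lit 294396407181443) .leaf) (nat_lit 294398533496835) (.node (.node .leaf (nat_lit 294398537508865) .leaf) (nat_lit 294398558498945) .leaf)) (nat_lit 294398562838659) (.node (.node (.node .leaf (nat_lit 294400698046595) .leaf) (nat_lit 294400702120065) .leaf) (nat_lit 294400706412547) (.node (.node .leaf (nat_lit 294400710531073) .leaf) (nat_lit 294404975755265) .leaf)))) (nat_lit 294404980136067) (.node (.node (.node (.node (.node .leaf (nat_lit 294405000949889) .leaf) (nat_lit 294405005289475)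 .leaf) (nat_lit 294407123697665) (.node (.node .leaf (nat_lit 294407127816323) .leaf) (nat_lit 294407132108929) .leaf)) (nat_lit 294407136182275) (.node (.node (.node .leaf (nat_lit 294409279297665) .leaf) (nat_lit 294409283305475) .leaf) (nat_lit 294409295888387) (.node (.node .leaf (nat_lit 294409300269185) .leaf) (nat_lit 294533833537539) .leaf))) (nat_lit 294533837842433) (.node (.node (.node (.node .leaf (nat_lit 294533850304643) .leaf) (nat_lit 294533854609537) .leaf) (nat_lit 294535972442115) (.node (.node .leaf (nat_lit 294535976452097) .leaf) (nat_lit 294535997446273) .leaf)) (nat_lit 294536001783939) (.node (.node (.node .leaf (nat_lit 294538120116225) .leaf) (nat_lit 294538124421123) .leaf) (nat_lit 294538128515201) (.node (.node .leaf (nat_lit 294538132795523) .leaf) (nat_lit 294542414880771) .leaf))))) (nat_lit 294542418931841) (.node (.node (.node (.node (.node (.node .leaf (nat_lit 294542440059011) .leaf) (nat_lit 294542444068865) (.node .leaf (nat_lit 294544579344387) .leaf)) (nat_lit 294544583649409) (.node (.node .leaf (nat_lit 294544587743363) .leaf) (nat_lit 294544592023553) .leaf)) (nat_lit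 294546709870593) (.node (.node (.node .leaf (nat_lit 294546713880707) .leaf) (nat_lit 294546726463619) .leaf) (nat_lit 294546730842113) (.node (.node .leaf (nat_lit 294671272394755) .leaf) (nat_lit 294671276797953) .leaf))) (nat_lit 294671289155715) (.node (.node (.node (.node .leaf (nat_lit 294671293558913) .leaf) (nat_lit 294673420075137) .leaf) (nat_lit 294673424085123) (.node (.node .leaf (nat_lit 294673428267011) .leaf) (nat_lit 294673432670209) .leaf)) (nat_lit 294675575488643) (.node (.node (.node .leaf (nat_lit 294675579891841) .leaf) (nat_lit 294675583860739) .leaf) (nat_lit 294675588263937) (.node (.node .leaf (nat_lit 294679862329347) .leaf) (nat_lit 294679866732673) .leaf)))) (nat_lit 294679870718083) (.node (.node (.node (.node (.node .leaf (nat_lit 294679875121153) .leaf) (nat_lit 294682018201603) .leaf) (nat_lit 294682022604929) (.node (.node .leaf (nat_lit 294682026573955) .leaf) (nat_lit 294682030977025) .leaf)) (nat_lit 294684157034627) (.node (.node (.node .leaf (nat_lit 294684161437697) .leaf) (nat_lit 294684173991937) .leaf) (nat_lit 294684178002051) (.node (.node .leaf (nat_lit 294808711352323)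 .leaf) (nat_lit 294808715749377) .leaf))) (nat_lit 294808728113283) (.node (.node (.node (.node .leaf (nat_lit 294808732510337) .leaf) (nat_lit 294810850435075) .leaf) (nat_lit 294810854823937) (.node (.node .leaf (nat_lit 294810875799681) .leaf) (nat_lit 294810879791235) .leaf)) (nat_lit 294812997660675) (.node (.node (.node .leaf (nat_lit 294813002041345) .leaf) (nat_lit 294813006065795) .leaf) (nat_lit 294813010446465) (.node (.node .leaf (nat_lit 294817292898307) .leaf) (nat_lit 294817297295489) .leaf)))))) (nat_lit 294817318064259) (.node (.node (.node (.node (.node (.node (.node .leaf (nat_lit 294817322461185) .leaf) (nat_lit 294819440386051) (.node .leaf (nat_lit 294819444775041) .leaf)) (nat_lit 294819448758403) (.node (.node .leaf (nat_lit 294819453147137) .leaf) (nat_lit 294821596182657) .leaf)) (nat_lit 294821600165891) (.node (.node (.node .leaf (nat_lit 294821612777475) .leaf) (nat_lit 294821617158273) .leaf) (nat_lit 294946150301698) (.node (.node .leaf (nat_lit 294946154700928) .leaf) (nat_lit 294946167064706) .leaf))) (nat_lit 294946171463680) (.node (.node (.node (.node .leaf (nat_lit 294948289413122)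 .leaf) (nat_lit 294948293812352) .leaf) (nat_lit 294948314781696) (.node (.node .leaf (nat_lit 294948318787714) .leaf) (nat_lit 294950436634626) .leaf)) (nat_lit 294950441033856) (.node (.node (.node .leaf (nat_lit 294950445039746) .leaf) (nat_lit 294950449438720) .leaf) (nat_lit 294954731896834) (.node (.node .leaf (nat_lit 294954736164864) .leaf) (nat_lit 294954757064834) .leaf)))) (nat_lit 294954761332864) (.node (.node (.node (.node (.node .leaf (nat_lit 294956879413250) .leaf) (nat_lit 294956883681280) .leaf) (nat_lit 294956887818370) (.node (.node .leaf (nat_lit 294956892086400) .leaf) (nat_lit 294959035109376) .leaf)) (nat_lit 294959039246338) (.node (.node (.node .leaf (nat_lit 294959051802626) .leaf) (nat_lit 294959056070656) .leaf) (nat_lit 295083589259266) (.node (.node .leaf (nat_lit 295083593660544) .leaf) (nat_lit 295083606022274) .leaf))) (nat_lit 295083610419200) (.node (.node (.node (.node .leaf (nat_lit 295085736982528) .leaf) (nat_lit 295085740970114) .leaf) (nat_lit 295085745170434) (.node (.node .leaf (nat_lit 295085749551232) .leaf) (nat_lit 295087892396162) .leaf)) (nat_lit 295087896776704)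 (.node (.node (.node .leaf (nat_lit 295087900768258) .leaf) (nat_lit 295087905149056) .leaf) (nat_lit 295092179243010) (.node (.node .leaf (nat_lit 295092183513088) .leaf) (nat_lit 295092187633794) .leaf))))) (nat_lit 295092191899776) (.node (.node (.node (.node (.node (.node .leaf (nat_lit 295094335154178) .leaf) (nat_lit 295094339403776) .leaf) (nat_lit 295094343559298) (.node (.node .leaf (nat_lit 295094347808896) .leaf) (nat_lit 295096473989250) .leaf)) (nat_lit 295096478242944) (.node (.node (.node .leaf (nat_lit 295096490844288) .leaf) (nat_lit 295096494966914) .leaf) (nat_lit 295218880464898) (.node (.node .leaf (nat_lit 295218884860032) .leaf) (nat_lit 295218897225730) .leaf))) (nat_lit 295218901620864) (.node (.node (.node (.node .leaf (nat_lit 295223184080898) .leaf) (nat_lit 295223188476032) .leaf) (nat_lit 295223192455298) (.node (.node .leaf (nat_lit 295223196850176) .leaf) (nat_lit 295225323153408) .leaf)) (nat_lit 295225327155330) (.node (.node (.node .leaf (nat_lit 295225331335298) .leaf) (nat_lit 295225335730176) .leaf) (nat_lit 295227470530562) (.node (.node .leaf (nat_lit 295227474663424) .leaf)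 (nat_lit 295227478917122) .leaf)))) (nat_lit 295227483049984) (.node (.node (.node (.node (.node .leaf (nat_lit 295231765760130) .leaf) (nat_lit 295231769892992) .leaf) (nat_lit 295231782463488) (.node (.node .leaf (nat_lit 295231786727426) .leaf) (nat_lit 295233921400962) .leaf)) (nat_lit 295233925533824) (.node (.node (.node .leaf (nat_lit 295233929775106) .leaf) (nat_lit 295233933907968) .leaf) (nat_lit 295356319418370) (.node (.node .leaf (nat_lit 295356323811456) .leaf) (nat_lit 295356336179202) .leaf))) (nat_lit 295356340572288) (.node (.node (.node (.node .leaf (nat_lit 295360606248962) .leaf) (nat_lit 295360610646144) .leaf) (nat_lit 295360614656130) (.node (.node .leaf (nat_lit 295360619048960) .leaf) (nat_lit 295362753507330) .leaf)) (nat_lit 295362757896320) (.node (.node (.node .leaf (nat_lit 295362778861696) .leaf) (nat_lit 295362782857218) .leaf) (nat_lit 295364901093378) (.node (.node .leaf (nat_lit 295364905228288) .leaf) (nat_lit 295364926261250) .leaf))))))) (nat_lit 295364930392064) (.node (.node (.node (.node (.node (.node (.node (.node .leaf (nat_lit 295369204629504) .leaf) (nat_lit 295369208895490)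 (.node .leaf (nat_lit 295369221499010) .leaf)) (nat_lit 295369225629824) (.node (.node .leaf (nat_lit 295371343589378) .leaf) (nat_lit 295371347716096) .leaf)) (nat_lit 295371351963778) (.node (.node (.node .leaf (nat_lit 295371356086400) .leaf) (nat_lit 295493758568449) .leaf) (nat_lit 295493762566147) (.node (.node .leaf (nat_lit 295493775327233) .leaf) (nat_lit 295493779324931) .leaf))) (nat_lit 295498045423617) (.node (.node (.node (.node .leaf (nat_lit 295498049421315) .leaf) (nat_lit 295498053830785) .leaf) (nat_lit 295498057828483) (.node (.node .leaf (nat_lit 295500192612353) .leaf) (nat_lit 295500196610051) .leaf)) (nat_lit 295500217593859) (.node (.node (.node .leaf (nat_lit 295500221984769) .leaf) (nat_lit 295502339899393) .leaf) (nat_lit 295502344290435) (.node (.node .leaf (nat_lit 295502365065217) .leaf) (nat_lit 295502369456259) .leaf)))) (nat_lit 295506643777667) (.node (.node (.node (.node (.node .leaf (nat_lit 295506647775233) .leaf) (nat_lit 295506660327553) .leaf) (nat_lit 295506664718339) (.node (.node .leaf (nat_lit 295508782350337) .leaf) (nat_lit 295508786741379) .leaf)) (nat_lit 295508790757505)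 (.node (.node (.node .leaf (nat_lit 295508795148291) .leaf) (nat_lit 295631197519873) .leaf) (nat_lit 295631201519619) (.node (.node .leaf (nat_lit 295631214282753) .leaf) (nat_lit 295631218278403) .leaf))) (nat_lit 295635501178881) (.node (.node (.node (.node .leaf (nat_lit 295635505178627) .leaf) (nat_lit 295635509553281) .leaf) (nat_lit 295635513548931) (.node (.node .leaf (nat_lit 295637639776387) .leaf) (nat_lit 295637644165249) .leaf)) (nat_lit 295637648371841) (.node (.node (.node .leaf (nat_lit 295637652371587) .leaf) (nat_lit 295639787241473) .leaf) (nat_lit 295639791634563) (.node (.node .leaf (nat_lit 295639795630081) .leaf) (nat_lit 295639800023171) .leaf))))) (nat_lit 295644082512001) (.node (.node (.node (.node (.node (.node .leaf (nat_lit 295644086904835) .leaf) (nat_lit 295644099498115) (.node .leaf (nat_lit 295644103497729) .leaf)) (nat_lit 295646238093441) (.node (.node .leaf (nat_lit 295646242486275) .leaf) (nat_lit 295646246500353) .leaf)) (nat_lit 295646250889347) (.node (.node (.node .leaf (nat_lit 295770784071683) .leaf) (nat_lit 295770788362241) .leaf) (nat_lit 295770800865411) (.node (.node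 .leaf (nat_lit 295770805123201) .leaf) (nat_lit 295772923166721) .leaf))) (nat_lit 295772927457283) (.node (.node (.node (.node .leaf (nat_lit 295772948414595) .leaf) (nat_lit 295772952541313) .leaf) (nat_lit 295775070322689) (.node (.node .leaf (nat_lit 295775074744323) .leaf) (nat_lit 295775078727809) .leaf)) (nat_lit 295775083116675) (.node (.node (.node .leaf (nat_lit 295779374006275) .leaf) (nat_lit 295779378296961) .leaf) (nat_lit 295779382395011) (.node (.node .leaf (nat_lit 295779386685441) .leaf) (nat_lit 295781513101313) .leaf)))) (nat_lit 295781517392003) (.node (.node (.node (.node (.node .leaf (nat_lit 295781521506433) .leaf) (nat_lit 295781525764099) .leaf) (nat_lit 295783660470275) (.node (.node .leaf (nat_lit 295783664466049) .leaf) (nat_lit 295783677051009) .leaf)) (nat_lit 295783681439747) (.node (.node (.node .leaf (nat_lit 295908223029251) .leaf) (nat_lit 295908227309569) .leaf) (nat_lit 295908239822979) (.node (.node .leaf (nat_lit 295908244070529) .leaf) (nat_lit 295910370582659) .leaf))) (nat_lit 295910374723713) (.node (.node (.node (.node .leaf (nat_lit 295910378924033) .leaf) (nat_lit 295910383163395)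 .leaf) (nat_lit 295912526084225) (.node (.node .leaf (nat_lit 295912530446467) .leaf) (nat_lit 295912534456321) .leaf)) (nat_lit 295912538851331) (.node (.node (.node .leaf (nat_lit 295916804575235) .leaf) (nat_lit 295916808855681) .leaf) (nat_lit 295916829741187) (.node (.node .leaf (nat_lit 295916834021377) .leaf) (nat_lit 295918968842241) .leaf)))))) (nat_lit 295918973114499) (.node (.node (.node (.node (.node (.node (.node .leaf (nat_lit 295918977247361) .leaf) (nat_lit 295918981486595) (.node .leaf (nat_lit 295921099241473) .leaf)) (nat_lit 295921103603843) (.node (.node .leaf (nat_lit 295921116213379) .leaf) (nat_lit 295921120182273) .leaf)) (nat_lit 296045653590018) (.node (.node (.node .leaf (nat_lit 296045657876608) .leaf) (nat_lit 296045670385794) .leaf) (nat_lit 296045674635264) (.node (.node .leaf (nat_lit 296047801171970) .leaf) (nat_lit 296047805327488) .leaf))) (nat_lit 296047826294784) (.node (.node (.node (.node .leaf (nat_lit 296047830544514) .leaf) (nat_lit 296049965045760) .leaf) (nat_lit 296049969459330) (.node (.node .leaf (nat_lit 296049973450880) .leaf) (nat_lit 296049977831426) .leaf)) (nat_lit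 296054251864066) (.node (.node (.node .leaf (nat_lit 296054256248832) .leaf) (nat_lit 296054260254850) .leaf) (nat_lit 296054264635520) (.node (.node .leaf (nat_lit 296056407758976) .leaf) (nat_lit 296056412172418) .leaf)))) (nat_lit 296056416163840) (.node (.node (.node (.node (.node .leaf (nat_lit 296056420544514) .leaf) (nat_lit 296058546655232) .leaf) (nat_lit 296058550941698) (.node (.node .leaf (nat_lit 296058563495938) .leaf) (nat_lit 296058567647232) .leaf)) (nat_lit 296183092547586) (.node (.node (.node .leaf (nat_lit 296183096832128) .leaf) (nat_lit 296183109343362) .leaf) (nat_lit 296183113594880) (.node (.node .leaf (nat_lit 296185248462848) .leaf) (nat_lit 296185252731010) .leaf))) (nat_lit 296185256929282) (.node (.node (.node (.node .leaf (nat_lit 296185261033600) .leaf) (nat_lit 296187387242624) .leaf) (nat_lit 296187391608834) (.node (.node .leaf (nat_lit 296187395614720) .leaf) (nat_lit 296187400013954) .leaf)) (nat_lit 296191682433026) (.node (.node (.node .leaf (nat_lit 296191686815744) .leaf) (nat_lit 296191707601026) .leaf) (nat_lit 296191711983744) (.node (.node .leaf (nat_lit 296193829943424)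 .leaf) (nat_lit 296193834342530) .leaf))))) (nat_lit 296193838348288) (.node (.node (.node (.node (.node (.node .leaf (nat_lit 296193842714626) .leaf) (nat_lit 296195985682562) .leaf) (nat_lit 296195989819520) (.node (.node .leaf (nat_lit 296196002390144) .leaf) (nat_lit 296196006658178) .leaf)) (nat_lit 296318392092674) (.node (.node (.node .leaf (nat_lit 296318396469376) .leaf) (nat_lit 296318408853506) .leaf) (nat_lit 296318413262976) (.node (.node .leaf (nat_lit 296322695766144) .leaf) (nat_lit 296322700048386) .leaf))) (nat_lit 296322704173056) (.node (.node (.node (.node .leaf (nat_lit 296322708418690) .leaf) (nat_lit 296324834773122) .leaf) (nat_lit 296324838756352) (.node (.node .leaf (nat_lit 296324842954752) .leaf) (nat_lit 296324847368322) .leaf)) (nat_lit 296326973751298) (.node (.node (.node .leaf (nat_lit 296326977902592) .leaf) (nat_lit 296326998919170) .leaf) (nat_lit 296327003066368) (.node (.node .leaf (nat_lit 296331269070976) .leaf) (nat_lit 296331273058434) .leaf)))) (nat_lit 296331285643266) (.node (.node (.node (.node (.node .leaf (nat_lit 296331290023936) .leaf) (nat_lit 296333433020416)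 .leaf) (nat_lit 296333437171714) (.node (.node .leaf (nat_lit 296333441427584) .leaf) (nat_lit 296333445542018) .leaf)) (nat_lit 296455831046146) (.node (.node (.node .leaf (nat_lit 296455835424896) .leaf) (nat_lit 296455847806978) .leaf) (nat_lit 296455852218496) (.node (.node .leaf (nat_lit 296460117952640) .leaf) (nat_lit 296460122200066) .leaf))) (nat_lit 296460126322688) (.node (.node (.node (.node .leaf (nat_lit 296460130603138) .leaf) (nat_lit 296462265145472) .leaf) (nat_lit 296462269515778) (.node (.node .leaf (nat_lit 296462290499586) .leaf) (nat_lit 296462294509696) .leaf)) (nat_lit 296464421095426) (.node (.node (.node .leaf (nat_lit 296464425244672) .leaf) (nat_lit 296464429481986) .leaf) (nat_lit 296464433631232) (.node (.node .leaf (nat_lit 296468707827714) .leaf) (nat_lit 296468712206336) .leaf))))))))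
def t1_23 : BT := (.node (.node (.node (.node (.node (.node (.node (.node (.node .leaf (nat_lit 296468728780930) .leaf) (nat_lit 296470855194752) (.node .leaf (nat_lit 296470859335810) .leaf)) (nat_lit 296470863597568) (.node (.node .leaf (nat_lit 296470867705858) .leaf) (nat_lit 296593261789185) .leaf)) (nat_lit 296593265805315) (.node (.node (.node .leaf (nat_lit 296593278584833) .leaf) (nat_lit 296593282564099) .leaf) (nat_lit 296597557014531) (.node (.node .leaf (nat_lit 296597561128961) .leaf) (nat_lit 296597565388931) .leaf))) (nat_lit 296597569532033) (.node (.node (.node (.node .leaf (nat_lit 296599712643203) .leaf) (nat_lit 296599716655233) .leaf) (nat_lit 296599720839297) (.node (.node .leaf (nat_lit 296599725211779) .leaf) (nat_lit 296601851527169) .leaf)) (nat_lit 296601855936643) (.node (.node (.node .leaf (nat_lit 296601876692993) .leaf) (nat_lit 296601881102467) .leaf) (nat_lit 296606155327617) (.node (.node .leaf (nat_lit 296606159437827) .leaf) (nat_lit 296606172049539) .leaf)))) (nat_lit 296606176294913) (.node (.node (.node (.node (.node .leaf (nat_lit 296608294006787) .leaf) (nat_lit 296608298383489)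 .leaf) (nat_lit 296608302381187) (.node (.node .leaf (nat_lit 296608306786305) .leaf) (nat_lit 296730700744705) .leaf)) (nat_lit 296730704758787) (.node (.node (.node .leaf (nat_lit 296730717536257) .leaf) (nat_lit 296730721517571) .leaf) (nat_lit 296735012722691) (.node (.node .leaf (nat_lit 296735016867841) .leaf) (nat_lit 296735021125763) .leaf))) (nat_lit 296735025238145) (.node (.node (.node (.node .leaf (nat_lit 296737143011329) .leaf) (nat_lit 296737147418627) .leaf) (nat_lit 296737168375811) (.node (.node .leaf (nat_lit 296737172357121) .leaf) (nat_lit 296739298869249) .leaf)) (nat_lit 296739303276675) (.node (.node (.node .leaf (nat_lit 296739307257857) .leaf) (nat_lit 296739311665283) .leaf) (nat_lit 296743594219651) (.node (.node .leaf (nat_lit 296743598462977) .leaf) (nat_lit 296743611066497) .leaf))))) (nat_lit 296743615178755) (.node (.node (.node (.node (.node (.node .leaf (nat_lit 296745749727363) .leaf) (nat_lit 296745754101761) (.node .leaf (nat_lit 296745758097411) .leaf)) (nat_lit 296745762504833) (.node (.node .leaf (nat_lit 296868147908611) .leaf) (nat_lit 296868152336385) .leaf)) (nat_lit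 296868164677635) (.node (.node (.node .leaf (nat_lit 296868169089025) .leaf) (nat_lit 296872451530755) .leaf) (nat_lit 296872455950337) (.node (.node .leaf (nat_lit 296872459907203) .leaf) (nat_lit 296872464318593) .leaf))) (nat_lit 296874590589057) (.node (.node (.node (.node .leaf (nat_lit 296874594558083) .leaf) (nat_lit 296874598752387) .leaf) (nat_lit 296874603171969) (.node (.node .leaf (nat_lit 296876738105347) .leaf) (nat_lit 296876742533249) .leaf)) (nat_lit 296876746498051) (.node (.node (.node .leaf (nat_lit 296876750917761) .leaf) (nat_lit 296881032810627) .leaf) (nat_lit 296881037238273) (.node (.node .leaf (nat_lit 296881049809025) .leaf) (nat_lit 296881053761539) .leaf)))) (nat_lit 296883188949123) (.node (.node (.node (.node (.node .leaf (nat_lit 296883193368577) .leaf) (nat_lit 296883197325315) .leaf) (nat_lit 296883201736833) (.node (.node .leaf (nat_lit 297005587093505) .leaf) (nat_lit 297005591060483) .leaf)) (nat_lit 297005603862529) (.node (.node (.node .leaf (nat_lit 297005607813123) .leaf) (nat_lit 297009873922049) .leaf) (nat_lit 297009877880835) (.node (.node .leaf (nat_lit 297009882331265)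 .leaf) (nat_lit 297009886281859) .leaf))) (nat_lit 297012021147649) (.node (.node (.node (.node .leaf (nat_lit 297012025098243) .leaf) (nat_lit 297012046069763) .leaf) (nat_lit 297012050507777) (.node (.node .leaf (nat_lit 297014168897537) .leaf) (nat_lit 297014172872835) .leaf)) (nat_lit 297014194075649) (.node (.node (.node .leaf (nat_lit 297014198026371) .leaf) (nat_lit 297018471755907) .leaf) (nat_lit 297018476169217) (.node (.node .leaf (nat_lit 297018488772737) .leaf) (nat_lit 297018492739587) .leaf)))))) (nat_lit 297020611360769) (.node (.node (.node (.node (.node (.node (.node .leaf (nat_lit 297020615311491) .leaf) (nat_lit 297020619729025) (.node .leaf (nat_lit 297020623687683) .leaf)) (nat_lit 297143025815554) (.node (.node .leaf (nat_lit 297143030247552) .leaf) (nat_lit 297143042586626) .leaf)) (nat_lit 297143047002240) (.node (.node (.node .leaf (nat_lit 297147312668674) .leaf) (nat_lit 297147317035136) .leaf) (nat_lit 297147321077890) (.node (.node .leaf (nat_lit 297147325444096) .leaf) (nat_lit 297149459890178) .leaf))) (nat_lit 297149464256640) (.node (.node (.node (.node .leaf (nat_lit 297149485230208)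 .leaf) (nat_lit 297149489252354) .leaf) (nat_lit 297151607668738) (.node (.node .leaf (nat_lit 297151611969536) .leaf) (nat_lit 297151632848898) .leaf)) (nat_lit 297151637133312) (.node (.node (.node .leaf (nat_lit 297155910844416) .leaf) (nat_lit 297155915014146) .leaf) (nat_lit 297155927586946) (.node (.node .leaf (nat_lit 297155931805824) .leaf) (nat_lit 297158050152450) .leaf)))) (nat_lit 297158054387712) (.node (.node (.node (.node (.node .leaf (nat_lit 297158058561666) .leaf) (nat_lit 297158062796928) .leaf) (nat_lit 297280464996480) (.node (.node .leaf (nat_lit 297280468967426) .leaf) (nat_lit 297280481763456) .leaf)) (nat_lit 297280485722114) (.node (.node (.node .leaf (nat_lit 297284768583808) .leaf) (nat_lit 297284772624386) .leaf) (nat_lit 297284776951808) (.node (.node .leaf (nat_lit 297284780992642) .leaf) (nat_lit 297286907256962) .leaf))) (nat_lit 297286911608832) (.node (.node (.node (.node .leaf (nat_lit 297286915801088) .leaf) (nat_lit 297286919841922) .leaf) (nat_lit 297289055111296) (.node (.node .leaf (nat_lit 297289059213442) .leaf) (nat_lit 297289063510144) .leaf)) (nat_lit 297289067600002)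 (.node (.node (.node .leaf (nat_lit 297293349791744) .leaf) (nat_lit 297293353943042) .leaf) (nat_lit 297293366548610) (.node (.node .leaf (nat_lit 297293370781824) .leaf) (nat_lit 297295505915904) .leaf))))) (nat_lit 297295510087682) (.node (.node (.node (.node (.node (.node .leaf (nat_lit 297295514325120) .leaf) (nat_lit 297295518496898) .leaf) (nat_lit 297420051503106) (.node (.node .leaf (nat_lit 297420055857280) .leaf) (nat_lit 297420068272258) .leaf)) (nat_lit 297420072626176) (.node (.node (.node .leaf (nat_lit 297422199191552) .leaf) (nat_lit 297422203152514) .leaf) (nat_lit 297422207344642) (.node (.node .leaf (nat_lit 297422211772544) .leaf) (nat_lit 297424354599042) .leaf))) (nat_lit 297424358961152) (.node (.node (.node (.node .leaf (nat_lit 297424362977282) .leaf) (nat_lit 297424367331456) .leaf) (nat_lit 297428641306626) (.node (.node .leaf (nat_lit 297428645398528) .leaf) (nat_lit 297428649697410) .leaf)) (nat_lit 297428653797504) (.node (.node (.node .leaf (nat_lit 297430797148162) .leaf) (nat_lit 297430801313792) .leaf) (nat_lit 297430805526658) (.node (.node .leaf (nat_lit 297430809684096) .leaf)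 (nat_lit 297432936536194) .leaf)))) (nat_lit 297432940628096) (.node (.node (.node (.node (.node .leaf (nat_lit 297432953198720) .leaf) (nat_lit 297432957487234) .leaf) (nat_lit 297557490622592) (.node (.node .leaf (nat_lit 297557494659074) .leaf) (nat_lit 297557507375104) .leaf)) (nat_lit 297557511411842) (.node (.node (.node .leaf (nat_lit 297559629727872) .leaf) (nat_lit 297559633694722) .leaf) (nat_lit 297559654668418) (.node (.node .leaf (nat_lit 297559659085824) .leaf) (nat_lit 297561776920704) .leaf))) (nat_lit 297561780944898) (.node (.node (.node (.node .leaf (nat_lit 297561785319424) .leaf) (nat_lit 297561789356162) .leaf) (nat_lit 297566071781504) (.node (.node .leaf (nat_lit 297566076067970) .leaf) (nat_lit 297566096932864) .leaf)) (nat_lit 297566101231618) (.node (.node (.node .leaf (nat_lit 297568219285632) .leaf) (nat_lit 297568223514754) .leaf) (nat_lit 297568227659776) (.node (.node .leaf (nat_lit 297568231884802) .leaf) (nat_lit 297570375477378) .leaf))))))) (nat_lit 297570379575424) (.node (.node (.node (.node (.node (.node (.node (.node .leaf (nat_lit 297570392170624) .leaf) (nat_lit 297570396469378)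 (.node .leaf (nat_lit 297694929573889) .leaf)) (nat_lit 297694933604355) (.node (.node .leaf (nat_lit 297694946340993) .leaf) (nat_lit 297694950371459) .leaf)) (nat_lit 297697068646401) (.node (.node (.node .leaf (nat_lit 297697072676867) .leaf) (nat_lit 297697093648515) .leaf) (nat_lit 297697098006657) (.node (.node .leaf (nat_lit 297699215900673) .leaf) (nat_lit 297699219865603) .leaf))) (nat_lit 297699224311937) (.node (.node (.node (.node .leaf (nat_lit 297699228276867) .leaf) (nat_lit 297703510638593) .leaf) (nat_lit 297703515062403) (.node (.node .leaf (nat_lit 297703535816833) .leaf) (nat_lit 297703540240387) .leaf)) (nat_lit 297705658122241) (.node (.node (.node .leaf (nat_lit 297705662546051) .leaf) (nat_lit 297705666533505) .leaf) (nat_lit 297705670957059) (.node (.node .leaf (nat_lit 297707814480003) .leaf) (nat_lit 297707818510337) .leaf)))) (nat_lit 297707831078913) (.node (.node (.node (.node (.node .leaf (nat_lit 297707835437187) .leaf) (nat_lit 297832368371715) .leaf) (nat_lit 297832372727809) (.node (.node .leaf (nat_lit 297832385122435) .leaf) (nat_lit 297832389482625) .leaf)) (nat_lit 297834516017281)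 (.node (.node (.node .leaf (nat_lit 297834520049795) .leaf) (nat_lit 297834524243971) .leaf) (nat_lit 297834528600065) (.node (.node .leaf (nat_lit 297836671428739) .leaf) (nat_lit 297836675850369) .leaf))) (nat_lit 297836679802883) (.node (.node (.node (.node .leaf (nat_lit 297836684228609) .leaf) (nat_lit 297840958224387) .leaf) (nat_lit 297840962187393) (.node (.node .leaf (nat_lit 297840966600835) .leaf) (nat_lit 297840970563585) .leaf)) (nat_lit 297843114096643) (.node (.node (.node .leaf (nat_lit 297843118059649) .leaf) (nat_lit 297843122495619) .leaf) (nat_lit 297843126462465) (.node (.node .leaf (nat_lit 297845253412995) .leaf) (nat_lit 297845257441281) .leaf))))) (nat_lit 297845270038529) (.node (.node (.node (.node (.node (.node .leaf (nat_lit 297845274394755) .leaf) (nat_lit 297967659749504) (.node .leaf (nat_lit 297967663736834) .leaf)) (nat_lit 297967676551296) (.node (.node .leaf (nat_lit 297967680489474) .leaf) (nat_lit 297971946487810) .leaf)) (nat_lit 297971950680192) (.node (.node (.node .leaf (nat_lit 297971954897026) .leaf) (nat_lit 297971959048192) .leaf) (nat_lit 297974093774850) (.node (.node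 .leaf (nat_lit 297974097836160) .leaf) (nat_lit 297974118805632) .leaf))) (nat_lit 297974123137026) (.node (.node (.node (.node .leaf (nat_lit 297976249946240) .leaf) (nat_lit 297976253933698) .leaf) (nat_lit 297976258338944) (.node (.node .leaf (nat_lit 297976262318210) .leaf) (nat_lit 297980536144000) .leaf)) (nat_lit 297980540369026) (.node (.node (.node .leaf (nat_lit 297980552962050) .leaf) (nat_lit 297980557105152) .leaf) (nat_lit 297982683971586) (.node (.node .leaf (nat_lit 297982688032768) .leaf) (nat_lit 297982692380802) .leaf)))) (nat_lit 297982696401024) (.node (.node (.node (.node (.node .leaf (nat_lit 298105098489858) .leaf) (nat_lit 298105102901376) .leaf) (nat_lit 298105115258882) (.node (.node .leaf (nat_lit 298105119686784) .leaf) (nat_lit 298109402187904) .leaf)) (nat_lit 298109406443522) (.node (.node (.node .leaf (nat_lit 298109410596864) .leaf) (nat_lit 298109414811778) .leaf) (nat_lit 298111541141634) (.node (.node .leaf (nat_lit 298111545151488) .leaf) (nat_lit 298111549347840) .leaf))) (nat_lit 298111553726594) (.node (.node (.node (.node .leaf (nat_lit 298113680293890) .leaf) (nat_lit 298113684713472)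 .leaf) (nat_lit 298113705472002) (.node (.node .leaf (nat_lit 298113709867008) .leaf) (nat_lit 298117975091328) .leaf)) (nat_lit 298117979330690) (.node (.node (.node .leaf (nat_lit 298117991890946) .leaf) (nat_lit 298117996081152) .leaf) (nat_lit 298120139560960) (.node (.node .leaf (nat_lit 298120143906818) .leaf) (nat_lit 298120147929216) .leaf)))))) (nat_lit 298120152316034) (.node (.node (.node (.node (.node (.node (.node .leaf (nat_lit 298242529263617) .leaf) (nat_lit 298242533255171) (.node .leaf (nat_lit 298242546067457) .leaf)) (nat_lit 298242550005763) (.node (.node .leaf (nat_lit 298246841219075) .leaf) (nat_lit 298246845321217) .leaf)) (nat_lit 298246849620099) (.node (.node (.node .leaf (nat_lit 298246853689473) .leaf) (nat_lit 298248971485185) .leaf) (nat_lit 298248975935491) (.node (.node .leaf (nat_lit 298248996907011) .leaf) (nat_lit 298249000845313) .leaf))) (nat_lit 298251127803905) (.node (.node (.node (.node .leaf (nat_lit 298251131893891) .leaf) (nat_lit 298251136198657) .leaf) (nat_lit 298251140268163) (.node (.node .leaf (nat_lit 298255422554243) .leaf) (nat_lit 298255426545665) .leaf)) (nat_lit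 298255439116417) (.node (.node (.node .leaf (nat_lit 298255443546115) .leaf) (nat_lit 298257578637443) .leaf) (nat_lit 298257582739457) (.node (.node .leaf (nat_lit 298257587038211) .leaf) (nat_lit 298257591107713) .leaf)))) (nat_lit 298379968008195) (.node (.node (.node (.node (.node .leaf (nat_lit 298379972423681) .leaf) (nat_lit 298379984779267) .leaf) (nat_lit 298379989211137) (.node (.node .leaf (nat_lit 298384263292929) .leaf) (nat_lit 298384267593731) .leaf)) (nat_lit 298384271702145) (.node (.node (.node .leaf (nat_lit 298384275970179) .leaf) (nat_lit 298386418854017) .leaf) (nat_lit 298386423253123) (.node (.node .leaf (nat_lit 298386427447427) .leaf) (nat_lit 298386431436929) .leaf))) (nat_lit 298388558254083) (.node (.node (.node (.node .leaf (nat_lit 298388562571393) .leaf) (nat_lit 298388583426051) .leaf) (nat_lit 298388587726977) (.node (.node .leaf (nat_lit 298392861532291) .leaf) (nat_lit 298392865472513) .leaf)) (nat_lit 298392878076033) (.node (.node (.node .leaf (nat_lit 298392882491395) .leaf) (nat_lit 298395000731649) .leaf) (nat_lit 298395004999811) (.node (.node .leaf (nat_lit 298395009099905)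 .leaf) (nat_lit 298395013400579) .leaf))))) (nat_lit 298519563229185) (.node (.node (.node (.node (.node (.node .leaf (nat_lit 298519567368195) .leaf) (nat_lit 298519579998337) .leaf) (nat_lit 298519584170115) (.node (.node .leaf (nat_lit 298521710680193) .leaf) (nat_lit 298521714884739) .leaf)) (nat_lit 298521719078915) (.node (.node (.node .leaf (nat_lit 298521723262977) .leaf) (nat_lit 298523866398851) .leaf) (nat_lit 298523870386305) (.node (.node .leaf (nat_lit 298523874809859) .leaf) (nat_lit 298523878752257) .leaf))) (nat_lit 298528144359425) (.node (.node (.node (.node .leaf (nat_lit 298528148805763) .leaf) (nat_lit 298528169539713) .leaf) (nat_lit 298528173973507) (.node (.node .leaf (nat_lit 298530308620291) .leaf) (nat_lit 298530313066625) .leaf)) (nat_lit 298530317031555) (.node (.node (.node .leaf (nat_lit 298530321432577) .leaf) (nat_lit 298532439711747) .leaf) (nat_lit 298532443928705) (.node (.node .leaf (nat_lit 298532456521857) .leaf) (nat_lit 298532460673027) .leaf)))) (nat_lit 298657002137603) (.node (.node (.node (.node (.node .leaf (nat_lit 298657006385153) .leaf) (nat_lit 298657018923139)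 .leaf) (nat_lit 298657023137921) (.node (.node .leaf (nat_lit 298659141232641) .leaf) (nat_lit 298659145480195) .leaf)) (nat_lit 298659166451843) (.node (.node (.node .leaf (nat_lit 298659170592897) .leaf) (nat_lit 298661288359937) .leaf) (nat_lit 298661292795907) (.node (.node .leaf (nat_lit 298661296758913) .leaf) (nat_lit 298661301170307) .leaf))) (nat_lit 298665591957507) (.node (.node (.node (.node .leaf (nat_lit 298665595910273) .leaf) (nat_lit 298665600340099) .leaf) (nat_lit 298665604284417) (.node (.node .leaf (nat_lit 298667731052545) .leaf) (nat_lit 298667735005315) .leaf)) (nat_lit 298667739426945) (.node (.node (.node .leaf (nat_lit 298667743404035) .leaf) (nat_lit 298669878644739) .leaf) (nat_lit 298669882884225) (.node (.node .leaf (nat_lit 298669895456897) .leaf) (nat_lit 298669899630595) .leaf))))))))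
def t1_24 : BT := (.node (.node (.node (.node (.node (.node (.node (.node (.node .leaf (nat_lit 298794436937856) .leaf) (nat_lit 298794449496194) (.node .leaf (nat_lit 298794453704704) .leaf)) (nat_lit 298796588541952) (.node (.node .leaf (nat_lit 298796592849026) .leaf) (nat_lit 298796597045250) .leaf)) (nat_lit 298796601122944) (.node (.node (.node .leaf (nat_lit 298798727360640) .leaf) (nat_lit 298798731704322) .leaf) (nat_lit 298798735730688) (.node (.node .leaf (nat_lit 298798740103298) .leaf) (nat_lit 298803022430210) .leaf))) (nat_lit 298803026544640) (.node (.node (.node (.node .leaf (nat_lit 298803047608450) .leaf) (nat_lit 298803051722880) .leaf) (nat_lit 298805169909888) (.node (.node .leaf (nat_lit 298805174057090) .leaf) (nat_lit 298805178279936) .leaf)) (nat_lit 298805182455810) (.node (.node (.node .leaf (nat_lit 298807325907074) .leaf) (nat_lit 298807330312320) .leaf) (nat_lit 298807342907520) (.node (.node .leaf (nat_lit 298807346858114) .leaf) (nat_lit 298931871705216) .leaf)))) (nat_lit 298931875850242) (.node (.node (.node (.node (.node .leaf (nat_lit 298931888455680) .leaf) (nat_lit 298931892633730)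 .leaf) (nat_lit 298934019119232) (.node (.node .leaf (nat_lit 298934023395330) .leaf) (nat_lit 298934044364930) .leaf)) (nat_lit 298934048477184) (.node (.node (.node .leaf (nat_lit 298936183249026) .leaf) (nat_lit 298936187262976) .leaf) (nat_lit 298936191614978) (.node (.node .leaf (nat_lit 298936195661952) .leaf) (nat_lit 298940469702784) .leaf))) (nat_lit 298940473979010) (.node (.node (.node (.node .leaf (nat_lit 298940478078976) .leaf) (nat_lit 298940482355202) .leaf) (nat_lit 298942625581058) (.node (.node .leaf (nat_lit 298942629824512) .leaf) (nat_lit 298942633988226) .leaf)) (nat_lit 298942638198912) (.node (.node (.node .leaf (nat_lit 298944764848258) .leaf) (nat_lit 298944769288320) .leaf) (nat_lit 298944781858944) (.node (.node .leaf (nat_lit 298944785840258) .leaf) (nat_lit 299067179663361) .leaf))))) (nat_lit 299067184152579) (.node (.node (.node (.node (.node (.node .leaf (nat_lit 299067188379651) .leaf) (nat_lit 299067192344577) (.node .leaf (nat_lit 299069310238721) .leaf)) (nat_lit 299069314727939) (.node (.node .leaf (nat_lit 299069327147137) .leaf) (nat_lit 299069331636355) .leaf)) (nat_lit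 299073605206017) (.node (.node (.node .leaf (nat_lit 299073609695235) .leaf) (nat_lit 299073630568449) .leaf) (nat_lit 299073635057667) (.node (.node .leaf (nat_lit 299075752689665) .leaf) (nat_lit 299075757179011) .leaf))) (nat_lit 299075769860099) (.node (.node (.node (.node .leaf (nat_lit 299075773825153) .leaf) (nat_lit 299080047656961) .leaf) (nat_lit 299080052146307) (.node (.node .leaf (nat_lit 299080056373379) .leaf) (nat_lit 299080060338177) .leaf)) (nat_lit 299082203594881) (.node (.node (.node .leaf (nat_lit 299082208083971) .leaf) (nat_lit 299082212311171) .leaf) (nat_lit 299082216275969) (.node (.node .leaf (nat_lit 299204618881152) .leaf) (nat_lit 299204622843906) .leaf)))) (nat_lit 299204627070978) (.node (.node (.node (.node (.node .leaf (nat_lit 299204631562368) .leaf) (nat_lit 299206757650434) .leaf) (nat_lit 299206762141824) (.node (.node .leaf (nat_lit 299206774558850) .leaf) (nat_lit 299206779049984) .leaf)) (nat_lit 299211052626050) (.node (.node (.node .leaf (nat_lit 299211057117184) .leaf) (nat_lit 299211061080194) .leaf) (nat_lit 299211065571328) (.node (.node .leaf (nat_lit 299213200113666)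 .leaf) (nat_lit 299213204604928) .leaf))) (nat_lit 299213217286272) (.node (.node (.node (.node .leaf (nat_lit 299213221249154) .leaf) (nat_lit 299217486899328) .leaf) (nat_lit 299217490862210) (.node (.node .leaf (nat_lit 299217495089282) .leaf) (nat_lit 299217499580544) .leaf)) (nat_lit 299219634122754) (.node (.node (.node .leaf (nat_lit 299219638614016) .leaf) (nat_lit 299219659749504) .leaf) (nat_lit 299219663712386) (.node (.node .leaf (nat_lit 299342040662017) .leaf) (nat_lit 299342045155331) .leaf)))))) (nat_lit 299342057572353) (.node (.node (.node (.node (.node (.node (.node .leaf (nat_lit 299342062065667) .leaf) (nat_lit 299344188145665) (.node .leaf (nat_lit 299344192638979) .leaf)) (nat_lit 299344196866051) (.node (.node .leaf (nat_lit 299344200826881) .leaf) (nat_lit 299346344116353) .leaf)) (nat_lit 299346348544131) (.node (.node (.node .leaf (nat_lit 299346352572417) .leaf) (nat_lit 299346357000195) .leaf) (nat_lit 299352778412035) (.node (.node .leaf (nat_lit 299352782372993) .leaf) (nat_lit 299352795056257) .leaf))) (nat_lit 299352799549443) (.node (.node (.node (.node .leaf (nat_lit 299354925928451)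 .leaf) (nat_lit 299354929823873) .leaf) (nat_lit 299354950895745) (.node (.node .leaf (nat_lit 299354955323395) .leaf) (nat_lit 299357090056321) .leaf)) (nat_lit 299357094483971) (.node (.node (.node .leaf (nat_lit 299357098645507) .leaf) (nat_lit 299357102540929) .leaf) (nat_lit 299479488069634) (.node (.node .leaf (nat_lit 299479492565120) .leaf) (nat_lit 299479504979970) .leaf)))) (nat_lit 299479509471360) (.node (.node (.node (.node (.node .leaf (nat_lit 299481627363456) .leaf) (nat_lit 299481631330306) .leaf) (nat_lit 299481635557378) (.node (.node .leaf (nat_lit 299481640044672) .leaf) (nat_lit 299483774623746) .leaf)) (nat_lit 299483779053696) (.node (.node (.node .leaf (nat_lit 299483799988354) .leaf) (nat_lit 299483804413952) .leaf) (nat_lit 299490225703040) (.node (.node .leaf (nat_lit 299490229670018) .leaf) (nat_lit 299490242353282) .leaf))) (nat_lit 299490246836352) (.node (.node (.node (.node .leaf (nat_lit 299492373231616) .leaf) (nat_lit 299492377124866) .leaf) (nat_lit 299492381550594) (.node (.node .leaf (nat_lit 299492385976320) .leaf) (nat_lit 299494529294336) .leaf)) (nat_lit 299494533199874)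 (.node (.node (.node .leaf (nat_lit 299494537361410) .leaf) (nat_lit 299494541778944) .leaf) (nat_lit 299616918568961) (.node (.node .leaf (nat_lit 299616923066371) .leaf) (nat_lit 299616943933441) .leaf))))) (nat_lit 299616948430851) (.node (.node (.node (.node (.node (.node .leaf (nat_lit 299621213536257) .leaf) (nat_lit 299621218033667) .leaf) (nat_lit 299621230444545) (.node (.node .leaf (nat_lit 299621234941955) .leaf) (nat_lit 299623377961089) .leaf)) (nat_lit 299623382392963) (.node (.node (.node .leaf (nat_lit 299623386687491) .leaf) (nat_lit 299623390578689) .leaf) (nat_lit 299625517090817) (.node (.node .leaf (nat_lit 299625521588355) .leaf) (nat_lit 299625525551107) .leaf))) (nat_lit 299625529507969) (.node (.node (.node (.node .leaf (nat_lit 299627656151041) .leaf) (nat_lit 299627660583043) .leaf) (nat_lit 299627664877571) (.node (.node .leaf (nat_lit 299627668768897) .leaf) (nat_lit 299631951118337) .leaf)) (nat_lit 299631955550339) (.node (.node (.node .leaf (nat_lit 299631968034947) .leaf) (nat_lit 299631971926017) .leaf) (nat_lit 299754365978626) (.node (.node .leaf (nat_lit 299754370474112) .leaf)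 (nat_lit 299754374430722) .leaf)))) (nat_lit 299754378930304) (.node (.node (.node (.node (.node .leaf (nat_lit 299758660954242) .leaf) (nat_lit 299758665433088) .leaf) (nat_lit 299758677862530) (.node (.node .leaf (nat_lit 299758682341376) .leaf) (nat_lit 299760817182720) .leaf)) (nat_lit 299760821088386) (.node (.node (.node .leaf (nat_lit 299760825382914) .leaf) (nat_lit 299760829796480) .leaf) (nat_lit 299762947604482) (.node (.node .leaf (nat_lit 299762952103936) .leaf) (nat_lit 299762972975232) .leaf))) (nat_lit 299762976934018) (.node (.node (.node (.node .leaf (nat_lit 299765095397504) .leaf) (nat_lit 299765099286658) .leaf) (nat_lit 299765103581186) (.node (.node .leaf (nat_lit 299765108011008) .leaf) (nat_lit 299769398556802) .leaf)) (nat_lit 299769402970240) (.node (.node (.node .leaf (nat_lit 299769415454848) .leaf) (nat_lit 299769419364482) .leaf) (nat_lit 299893952722947) (.node (.node .leaf (nat_lit 299893956610049) .leaf) (nat_lit 299893961177219) .leaf))))))) (nat_lit 299893965064321) (.node (.node (.node (.node (.node (.node (.node (.node .leaf (nat_lit 299896091750403) .leaf) (nat_lit 299896095637505)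 (.node .leaf (nat_lit 299896099932289) .leaf)) (nat_lit 299896104368259) (.node (.node .leaf (nat_lit 299898239201283) .leaf) (nat_lit 299898243153921) .leaf)) (nat_lit 299898256111747) (.node (.node (.node .leaf (nat_lit 299898260064385) .leaf) (nat_lit 299900403529731) .leaf) (nat_lit 299900407482497) (.node (.node .leaf (nat_lit 299900411576321) .leaf) (nat_lit 299900416077955) .leaf))) (nat_lit 299902534123521) (.node (.node (.node (.node .leaf (nat_lit 299902538559619) .leaf) (nat_lit 299902559367299) .leaf) (nat_lit 299902563254273) (.node (.node .leaf (nat_lit 299904681607169) .leaf) (nat_lit 299904686043267) .leaf)) (nat_lit 299904698529795) (.node (.node (.node .leaf (nat_lit 299904702417025) .leaf) (nat_lit 300031383218304) .leaf) (nat_lit 300031387111426) (.node (.node .leaf (nat_lit 300031408580608) .leaf) (nat_lit 300031412473986) .leaf)))) (nat_lit 300033530437634) (.node (.node (.node (.node (.node .leaf (nat_lit 300033534859392) .leaf) (nat_lit 300033539149824) .leaf) (nat_lit 300033543055490) (.node (.node .leaf (nat_lit 300035686596608) .leaf) (nat_lit 300035690576002) .leaf)) (nat_lit 300035703507072)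 (.node (.node (.node .leaf (nat_lit 300035707482114) .leaf) (nat_lit 300037842225154) .leaf) (nat_lit 300037846724608) (.node (.node .leaf (nat_lit 300037850822784) .leaf) (nat_lit 300037854773378) .leaf))) (nat_lit 300039981422594) (.node (.node (.node (.node .leaf (nat_lit 300039985848320) .leaf) (nat_lit 300039990009856) .leaf) (nat_lit 300039993907202) (.node (.node .leaf (nat_lit 300042128910466) .leaf) (nat_lit 300042133328000) .leaf)) (nat_lit 300042145814528) (.node (.node (.node .leaf (nat_lit 300042149715970) .leaf) (nat_lit 300168830533635) .leaf) (nat_lit 300168834484225) (.node (.node .leaf (nat_lit 300168847163521) .leaf) (nat_lit 300168851671171) .leaf))))) (nat_lit 300170977935489) (.node (.node (.node (.node (.node (.node .leaf (nat_lit 300170982443139) .leaf) (nat_lit 300170986405891) (.node .leaf (nat_lit 300170990356481) .leaf)) (nat_lit 300173133676673) (.node (.node .leaf (nat_lit 300173138184323) .leaf) (nat_lit 300173142278147) .leaf)) (nat_lit 300173146228737) (.node (.node (.node .leaf (nat_lit 300175264317441) .leaf) (nat_lit 300175268825219) .leaf) (nat_lit 300175281225729) (.node (.node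 .leaf (nat_lit 300175285733507) .leaf) (nat_lit 300177411866625) .leaf))) (nat_lit 300177416374403) (.node (.node (.node (.node .leaf (nat_lit 300177420468227) .leaf) (nat_lit 300177424418945) .leaf) (nat_lit 300179568148611) (.node (.node .leaf (nat_lit 300179572099073) .leaf) (nat_lit 300179576340483) .leaf)) (nat_lit 300179580291201) (.node (.node (.node .leaf (nat_lit 300306261170304) .leaf) (nat_lit 300306265118722) .leaf) (nat_lit 300306277798018) (.node (.node .leaf (nat_lit 300306282303488) .leaf) (nat_lit 300308408442882) .leaf)))) (nat_lit 300308412948608) (.node (.node (.node (.node (.node .leaf (nat_lit 300308433823744) .leaf) (nat_lit 300308437772418) .leaf) (nat_lit 300310572922880) (.node (.node .leaf (nat_lit 300310576871554) .leaf) (nat_lit 300310580965378) .leaf)) (nat_lit 300310585471104) (.node (.node (.node .leaf (nat_lit 300312711741442) .leaf) (nat_lit 300312716214272) .leaf) (nat_lit 300312728649730) (.node (.node .leaf (nat_lit 300312733122560) .leaf) (nat_lit 300314851088512) .leaf))) (nat_lit 300314855069826) (.node (.node (.node (.node .leaf (nat_lit 300314859163650) .leaf) (nat_lit 300314863636480)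 .leaf) (nat_lit 300316998641792) (.node (.node .leaf (nat_lit 300317002623106) .leaf) (nat_lit 300317023741952) .leaf)) (nat_lit 300317027723266) (.node (.node (.node .leaf (nat_lit 300441552289793) .leaf) (nat_lit 300441556801539) .leaf) (nat_lit 300441569482755) (.node (.node .leaf (nat_lit 300441573425153) .leaf) (nat_lit 300445847703555) .leaf)))))) (nat_lit 300445851584513) (.node (.node (.node (.node (.node (.node (.node .leaf (nat_lit 300445855875201) .leaf) (nat_lit 300445860321411) (.node .leaf (nat_lit 300448003575939) .leaf)) (nat_lit 300448007456897) (.node (.node .leaf (nat_lit 300448011618433) .leaf) (nat_lit 300448016060547) .leaf)) (nat_lit 300450159482883) (.node (.node (.node .leaf (nat_lit 300450163425409) .leaf) (nat_lit 300450167523329) .leaf) (nat_lit 300450172031107) (.node (.node .leaf (nat_lit 300452298162177) .leaf) (nat_lit 300452302674051) .leaf))) (nat_lit 300452315072641) (.node (.node (.node (.node .leaf (nat_lit 300452319580163) .leaf) (nat_lit 300456593576067) .leaf) (nat_lit 300456597456897) (.node (.node .leaf (nat_lit 300456601770115) .leaf) (nat_lit 300456605646849) .leaf)) (nat_lit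 300578999697410) (.node (.node (.node .leaf (nat_lit 300579004207232) .leaf) (nat_lit 300579016888448) .leaf) (nat_lit 300579020832770) (.node (.node .leaf (nat_lit 300583286382594) .leaf) (nat_lit 300583290826880) .leaf)))) (nat_lit 300583295121408) (.node (.node (.node (.node (.node .leaf (nat_lit 300583299000450) .leaf) (nat_lit 300585434212480) .leaf) (nat_lit 300585438099458) (.node (.node .leaf (nat_lit 300585458907138) .leaf) (nat_lit 300585463343232) .leaf)) (nat_lit 300587598170114) (.node (.node (.node .leaf (nat_lit 300587602647040) .leaf) (nat_lit 300587606741120) .leaf) (nat_lit 300587610718338) (.node (.node .leaf (nat_lit 300589728681986) .leaf) (nat_lit 300589733150720) .leaf))) (nat_lit 300589745592450) (.node (.node (.node (.node .leaf (nat_lit 300589750061184) .leaf) (nat_lit 300594024065152) .leaf) (nat_lit 300594027985026) (.node (.node .leaf (nat_lit 300594049163392) .leaf) (nat_lit 300594053083266) .leaf)) (nat_lit 300716430196737) (.node (.node (.node .leaf (nat_lit 300716434712579) .leaf) (nat_lit 300716438939651) .leaf) (nat_lit 300716442877953) (.node (.node .leaf (nat_lit 300718578065411)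 .leaf) (nat_lit 300718581942273) .leaf))))) (nat_lit 300718603012225) (.node (.node (.node (.node (.node (.node .leaf (nat_lit 300718607458435) .leaf) (nat_lit 300720733751425) .leaf) (nat_lit 300720738263171) (.node (.node .leaf (nat_lit 300720750684291) .leaf) (nat_lit 300720754622593) .leaf)) (nat_lit 300727168131075) (.node (.node (.node .leaf (nat_lit 300727172008065) .leaf) (nat_lit 300727193102467) .leaf) (nat_lit 300727196975105) (.node (.node .leaf (nat_lit 300729332006913) .leaf) (nat_lit 300729336522883) .leaf))) (nat_lit 300729340749955) (.node (.node (.node (.node .leaf (nat_lit 300729344688129) .leaf) (nat_lit 300731462680577) .leaf) (nat_lit 300731467131011) (.node (.node .leaf (nat_lit 300731479588993) .leaf) (nat_lit 300731484039171) .leaf)) (nat_lit 300853869439104) (.node (.node (.node .leaf (nat_lit 300853873379330) .leaf) (nat_lit 300853877606402) .leaf) (nat_lit 300853882120320) (.node (.node .leaf (nat_lit 300856025346176) .leaf) (nat_lit 300856029220866) .leaf)))) (nat_lit 300856033644674) (.node (.node (.node (.node (.node .leaf (nat_lit 300856038092800) .leaf) (nat_lit 300858164256770)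 .leaf) (nat_lit 300858168754304) (.node (.node .leaf (nat_lit 300858181175424) .leaf) (nat_lit 300858185132034) .leaf)) (nat_lit 300864615395456) (.node (.node (.node .leaf (nat_lit 300864619303042) .leaf) (nat_lit 300864623720448) .leaf) (nat_lit 300864627628034) (.node (.node .leaf (nat_lit 300866771224704) .leaf) (nat_lit 300866775214210) .leaf))) (nat_lit 300866779441282) (.node (.node (.node (.node .leaf (nat_lit 300866783905920) .leaf) (nat_lit 300868909987970) .leaf) (nat_lit 300868914387072) (.node (.node .leaf (nat_lit 300868926896130) .leaf) (nat_lit 300868931295232) .leaf)) (nat_lit 300991308394499) (.node (.node (.node .leaf (nat_lit 300991312332801) .leaf) (nat_lit 300991333466113) .leaf) (nat_lit 300991337986051) (.node (.node .leaf (nat_lit 300993472596097) .leaf) (nat_lit 300993477046403) .leaf))))))))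
def t1_25 : BT := (.node (.node (.node (.node (.node (.node (.node (.node (.node .leaf (nat_lit 300993485080705) .leaf) (nat_lit 300997750751233) (.node .leaf (nat_lit 300997755271171) .leaf)) (nat_lit 300997767690371) (.node (.node .leaf (nat_lit 300997771624577) .leaf) (nat_lit 300999898234881) .leaf)) (nat_lit 300999902754947) (.node (.node (.node .leaf (nat_lit 300999923204097) .leaf) (nat_lit 300999927724163) .leaf) (nat_lit 301004201719939) (.node (.node .leaf (nat_lit 301004205588481) .leaf) (nat_lit 301004218626179) .leaf))) (nat_lit 301004222498817) (.node (.node (.node (.node .leaf (nat_lit 301006340489217) .leaf) (nat_lit 301006345009283) .leaf) (nat_lit 301006349236355) (.node (.node .leaf (nat_lit 301006353170433) .leaf) (nat_lit 301128755802240) .leaf)) (nat_lit 301128759738370) (.node (.node (.node .leaf (nat_lit 301128763967490) .leaf) (nat_lit 301128768485504) .leaf) (nat_lit 301130911834112) (.node (.node .leaf (nat_lit 301130915713154) .leaf) (nat_lit 301130919874690) .leaf)))) (nat_lit 301130924318720) (.node (.node (.node (.node (.node .leaf (nat_lit 301135198042242) .leaf) (nat_lit 301135202535424)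 .leaf) (nat_lit 301135214954624) (.node (.node .leaf (nat_lit 301135218915330) .leaf) (nat_lit 301137345529858) .leaf)) (nat_lit 301137350014976) (.node (.node (.node .leaf (nat_lit 301137353852930) .leaf) (nat_lit 301137358338048) .leaf) (nat_lit 301141632325760) (.node (.node .leaf (nat_lit 301141636245634) .leaf) (nat_lit 301141649232000) .leaf))) (nat_lit 301141653151874) (.node (.node (.node (.node .leaf (nat_lit 301143779707008) .leaf) (nat_lit 301143783700610) .leaf) (nat_lit 301143787927682) (.node (.node .leaf (nat_lit 301143792388224) .leaf) (nat_lit 301268333527041) .leaf)) (nat_lit 301268337983491) (.node (.node (.node .leaf (nat_lit 301268358901889) .leaf) (nat_lit 301268363358339) .leaf) (nat_lit 301270497927169) (.node (.node .leaf (nat_lit 301270502383619) .leaf) (nat_lit 301270506614915) .leaf))))) (nat_lit 301270510547073) (.node (.node (.node (.node (.node (.node .leaf (nat_lit 301272628494337) .leaf) (nat_lit 301272632950787) (.node .leaf (nat_lit 301272645410945) .leaf)) (nat_lit 301272649867395) (.node (.node .leaf (nat_lit 301274776240129) .leaf) (nat_lit 301274780172419) .leaf)) (nat_lit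 301274784403459) (.node (.node (.node .leaf (nat_lit 301274788860033) .leaf) (nat_lit 301276932182017) .leaf) (nat_lit 301276936114307) (.node (.node .leaf (nat_lit 301276940345475) .leaf) (nat_lit 301276944801793) .leaf))) (nat_lit 301279071207425) (.node (.node (.node (.node .leaf (nat_lit 301279075139715) .leaf) (nat_lit 301279087828995) .leaf) (nat_lit 301279092285569) (.node (.node .leaf (nat_lit 301405781198976) .leaf) (nat_lit 301405785128962) .leaf)) (nat_lit 301405789665280) (.node (.node (.node .leaf (nat_lit 301405793595522) .leaf) (nat_lit 301407936839682) .leaf) (nat_lit 301407941298304) (.node (.node .leaf (nat_lit 301407945594880) .leaf) (nat_lit 301407949525122) .leaf)))) (nat_lit 301410076174336) (.node (.node (.node (.node (.node .leaf (nat_lit 301410080104578) .leaf) (nat_lit 301410093074560) .leaf) (nat_lit 301410097004546) (.node (.node .leaf (nat_lit 301412215177218) .leaf) (nat_lit 301412219111424) .leaf)) (nat_lit 301412223408256) (.node (.node (.node .leaf (nat_lit 301412227862658) .leaf) (nat_lit 301414362437760) .leaf) (nat_lit 301414366892162) (.node (.node .leaf (nat_lit 301414388031618)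 .leaf) (nat_lit 301414391965824) .leaf))) (nat_lit 301416518383616) (.node (.node (.node (.node .leaf (nat_lit 301416522838018) .leaf) (nat_lit 301416535511170) .leaf) (nat_lit 301416539445376) (.node (.node .leaf (nat_lit 301541072408577) .leaf) (nat_lit 301541076860931) .leaf)) (nat_lit 301541080868865) (.node (.node (.node .leaf (nat_lit 301541085329411) .leaf) (nat_lit 301545358884865) .leaf) (nat_lit 301545363345411) (.node (.node .leaf (nat_lit 301545375803393) .leaf) (nat_lit 301545380263939) .leaf)))))) (nat_lit 301547506368513) (.node (.node (.node (.node (.node (.node (.node .leaf (nat_lit 301547510829059) .leaf) (nat_lit 301547515117699) (.node .leaf (nat_lit 301547519053953) .leaf)) (nat_lit 301549653921795) (.node (.node .leaf (nat_lit 301549658374273) .leaf) (nat_lit 301549679458305) .leaf)) (nat_lit 301549683386499) (.node (.node (.node .leaf (nat_lit 301551818614913) .leaf) (nat_lit 301551822551043) .leaf) (nat_lit 301551826643075) (.node (.node .leaf (nat_lit 301551831103489) .leaf) (nat_lit 301556096405507) .leaf))) (nat_lit 301556100857985) (.node (.node (.node (.node .leaf (nat_lit 301556113549441)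 .leaf) (nat_lit 301556117485571) .leaf) (nat_lit 301678503172224) (.node (.node .leaf (nat_lit 301678507098114) .leaf) (nat_lit 301678528536704) .leaf)) (nat_lit 301678532474882) (.node (.node (.node .leaf (nat_lit 301682806564864) .leaf) (nat_lit 301682810499202) .leaf) (nat_lit 301682823462912) (.node (.node .leaf (nat_lit 301682827401346) .leaf) (nat_lit 301684945367042) .leaf)))) (nat_lit 301684949821568) (.node (.node (.node (.node (.node .leaf (nat_lit 301684954052608) .leaf) (nat_lit 301684957978754) .leaf) (nat_lit 301687101476866) (.node (.node .leaf (nat_lit 301687105406976) .leaf) (nat_lit 301687109841024) .leaf)) (nat_lit 301687114295426) (.node (.node (.node .leaf (nat_lit 301689257556098) .leaf) (nat_lit 301689261482112) .leaf) (nat_lit 301689265647616) (.node (.node .leaf (nat_lit 301689270102018) .leaf) (nat_lit 301693543964802) .leaf))) (nat_lit 301693547903104) (.node (.node (.node (.node .leaf (nat_lit 301693560574080) .leaf) (nat_lit 301693565028482) .leaf) (nat_lit 301815941857281) (.node (.node .leaf (nat_lit 301815946321923) .leaf) (nat_lit 301815958773761) .leaf)) (nat_lit 301815963222019)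 (.node (.node (.node .leaf (nat_lit 301818106224769) .leaf) (nat_lit 301818110673027) .leaf) (nat_lit 301818114971779) (.node (.node .leaf (nat_lit 301818118912129) .leaf) (nat_lit 301820236824577) .leaf))))) (nat_lit 301820241289219) (.node (.node (.node (.node (.node (.node .leaf (nat_lit 301820262201473) .leaf) (nat_lit 301820266649731) .leaf) (nat_lit 301826679635969) (.node (.node .leaf (nat_lit 301826683576451) .leaf) (nat_lit 301826696052867) .leaf)) (nat_lit 301826700517377) (.node (.node (.node .leaf (nat_lit 301828835612801) .leaf) (nat_lit 301828839553027) .leaf) (nat_lit 301828843503619) (.node (.node .leaf (nat_lit 301828847968385) .leaf) (nat_lit 301830974603265) .leaf))) (nat_lit 301830978543747) (.node (.node (.node (.node .leaf (nat_lit 301830982842499) .leaf) (nat_lit 301830987290625) .leaf) (nat_lit 301953389539456) (.node (.node .leaf (nat_lit 301953393465346) .leaf) (nat_lit 301953406439552) .leaf)) (nat_lit 301953410381826) (.node (.node (.node .leaf (nat_lit 301955545215106) .leaf) (nat_lit 301955549665280) .leaf) (nat_lit 301955553886208) (.node (.node .leaf (nat_lit 301955557828738) .leaf)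 (nat_lit 301957684498432) .leaf)))) (nat_lit 301957688440962) (.node (.node (.node (.node (.node .leaf (nat_lit 301957692958848) .leaf) (nat_lit 301957696880642) .leaf) (nat_lit 301964126806144) (.node (.node .leaf (nat_lit 301964131256450) .leaf) (nat_lit 301964143749250) .leaf)) (nat_lit 301964147671168) (.node (.node (.node .leaf (nat_lit 301966265862272) .leaf) (nat_lit 301966270324866) .leaf) (nat_lit 301966291196034) (.node (.node .leaf (nat_lit 301966295134336) .leaf) (nat_lit 301968413618178) .leaf))) (nat_lit 301968417544192) (.node (.node (.node (.node .leaf (nat_lit 301968421765120) .leaf) (nat_lit 301968426231810) .leaf) (nat_lit 302090820005891) (.node (.node .leaf (nat_lit 302090823925761) .leaf) (nat_lit 302090828224513) .leaf)) (nat_lit 302090832685059) (.node (.node (.node .leaf (nat_lit 302092967522307) .leaf) (nat_lit 302092971442177) .leaf) (nat_lit 302092984424579) (.node (.node .leaf (nat_lit 302092988360833) .leaf) (nat_lit 302097270909059) .leaf))))))) (nat_lit 302097274837121) (.node (.node (.node (.node (.node (.node (.node (.node .leaf (nat_lit 302097279359107) .leaf) (nat_lit 302097283295361)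 (.node .leaf (nat_lit 302099410157569) .leaf)) (nat_lit 302099414102147) (.node (.node .leaf (nat_lit 302099426514947) .leaf) (nat_lit 302099430975617) .leaf)) (nat_lit 302103721515011) (.node (.node (.node .leaf (nat_lit 302103725975681) .leaf) (nat_lit 302103730073729) .leaf) (nat_lit 302103733993475) (.node (.node .leaf (nat_lit 302105852608513) .leaf) (nat_lit 302105856553091) .leaf))) (nat_lit 302105877282819) (.node (.node (.node (.node .leaf (nat_lit 302105881751681) .leaf) (nat_lit 302228258994304) .leaf) (nat_lit 302228262912002) (.node (.node .leaf (nat_lit 302228267145218) .leaf) (nat_lit 302228271603840) .leaf)) (nat_lit 302230414657538) (.node (.node (.node .leaf (nat_lit 302230419124352) .leaf) (nat_lit 302230431572098) .leaf) (nat_lit 302230436026368) (.node (.node .leaf (nat_lit 302234701148162) .leaf) (nat_lit 302234705594496) .leaf)))) (nat_lit 302234726498306) (.node (.node (.node (.node (.node .leaf (nat_lit 302234730969216) .leaf) (nat_lit 302236857196672) .leaf) (nat_lit 302236861651074) (.node (.node .leaf (nat_lit 302236874076162) .leaf) (nat_lit 302236877998080) .leaf)) (nat_lit 302241160458368)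 (.node (.node (.node .leaf (nat_lit 302241164904578) .leaf) (nat_lit 302241169068162) .leaf) (nat_lit 302241173006464) (.node (.node .leaf (nat_lit 302243299643392) .leaf) (nat_lit 302243304105986) .leaf))) (nat_lit 302243308198018) (.node (.node (.node (.node .leaf (nat_lit 302243312132224) .leaf) (nat_lit 302365706096642) .leaf) (nat_lit 302365710571648) (.node (.node .leaf (nat_lit 302365714866304) .leaf) (nat_lit 302365718784002) .leaf)) (nat_lit 302367862104194) (.node (.node (.node .leaf (nat_lit 302367866578944) .leaf) (nat_lit 302367870742528) .leaf) (nat_lit 302367874660482) (.node (.node .leaf (nat_lit 302372148924416) .leaf) (nat_lit 302372152842370) .leaf))))) (nat_lit 302372165267458) (.node (.node (.node (.node (.node (.node .leaf (nat_lit 302372169742464) .leaf) (nat_lit 302374296080512) (.node .leaf (nat_lit 302374300522626) .leaf)) (nat_lit 302374304538752) (.node (.node .leaf (nat_lit 302374308980866) .leaf) (nat_lit 302378582933506) .leaf)) (nat_lit 302378586884096) (.node (.node (.node .leaf (nat_lit 302378599587842) .leaf) (nat_lit 302378603538432) .leaf) (nat_lit 302380730482690) (.node (.node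 .leaf (nat_lit 302380734433280) .leaf) (nat_lit 302380738596864) .leaf))) (nat_lit 302380743038978) (.node (.node (.node (.node .leaf (nat_lit 302503136870403) .leaf) (nat_lit 302503140786177) .leaf) (nat_lit 302503162001409) (.node (.node .leaf (nat_lit 302503166474243) .leaf) (nat_lit 302505301096577) .leaf)) (nat_lit 302505305569411) (.node (.node (.node .leaf (nat_lit 302505309659267) .leaf) (nat_lit 302505313575041) .leaf) (nat_lit 302509579286529) (.node (.node .leaf (nat_lit 302509583759363) .leaf) (nat_lit 302509596168323) .leaf)))) (nat_lit 302509600084097) (.node (.node (.node (.node (.node .leaf (nat_lit 302511726839809) .leaf) (nat_lit 302511730755715) .leaf) (nat_lit 302511752214529) (.node (.node .leaf (nat_lit 302511756130435) .leaf) (nat_lit 302516030091395) .leaf)) (nat_lit 302516034564097) (.node (.node (.node .leaf (nat_lit 302516046729347) .leaf) (nat_lit 302516051202049) .leaf) (nat_lit 302518169499649) (.node (.node .leaf (nat_lit 302518173415555) .leaf) (nat_lit 302518177505411) .leaf))) (nat_lit 302518181978113) (.node (.node (.node (.node .leaf (nat_lit 302640575860864) .leaf) (nat_lit 302640579774466)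 .leaf) (nat_lit 302640584003586) (.node (.node .leaf (nat_lit 302640588474496) .leaf) (nat_lit 302642731729024) .leaf)) (nat_lit 302642735650818) (.node (.node (.node .leaf (nat_lit 302642740013186) .leaf) (nat_lit 302642744487936) .leaf) (nat_lit 302644870676482) (.node (.node .leaf (nat_lit 302644875155584) .leaf) (nat_lit 302644887582848) .leaf)))))) (nat_lit 302644891492354) (.node (.node (.node (.node (.node (.node (.node .leaf (nat_lit 302651321467008) .leaf) (nat_lit 302651325913218) (.node .leaf (nat_lit 302651329935360) .leaf)) (nat_lit 302651334369282) (.node (.node .leaf (nat_lit 302653477320832) .leaf) (nat_lit 302653481754754) .leaf)) (nat_lit 302653485922434) (.node (.node (.node .leaf (nat_lit 302653489864832) .leaf) (nat_lit 302655616815234) .leaf) (nat_lit 302655620761728) (.node (.node .leaf (nat_lit 302655633471490) .leaf) (nat_lit 302655637413888) .leaf))) (nat_lit 302778014781443) (.node (.node (.node (.node .leaf (nat_lit 302778018693121) .leaf) (nat_lit 302778022991873) .leaf) (nat_lit 302778027460611) (.node (.node .leaf (nat_lit 302780162086913) .leaf) (nat_lit 302780166555651) .leaf)) (nat_lit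 302780187572355) (.node (.node (.node .leaf (nat_lit 302780191484033) .leaf) (nat_lit 302782318370947) .leaf) (nat_lit 302782322290817) (.node (.node .leaf (nat_lit 302782334701697) .leaf) (nat_lit 302782339170435) .leaf)))) (nat_lit 302788752234497) (.node (.node (.node (.node (.node .leaf (nat_lit 302788756146307) .leaf) (nat_lit 302788777599105) .leaf) (nat_lit 302788781518851) (.node (.node .leaf (nat_lit 302790916282371) .leaf) (nat_lit 302790920751233) .leaf)) (nat_lit 302790924849281) (.node (.node (.node .leaf (nat_lit 302790928760835) .leaf) (nat_lit 302793047056387) .leaf) (nat_lit 302793051533441) (.node (.node .leaf (nat_lit 302793063696515) .leaf) (nat_lit 302793068173313) .leaf))) (nat_lit 302915461912578) (.node (.node (.node (.node .leaf (nat_lit 302915466391680) .leaf) (nat_lit 302915479132288) .leaf) (nat_lit 302915483054082) (.node (.node .leaf (nat_lit 302919748550658) .leaf) (nat_lit 302919753033856) .leaf)) (nat_lit 302919757330432) (.node (.node (.node .leaf (nat_lit 302919761236098) .leaf) (nat_lit 302921896386688) .leaf) (nat_lit 302921900296194) (.node (.node .leaf (nat_lit 302921921116162)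 .leaf) (nat_lit 302921925578880) .leaf))))) (nat_lit 302924060434434) (.node (.node (.node (.node (.node (.node .leaf (nat_lit 302924064376832) .leaf) (nat_lit 302924068673664) .leaf) (nat_lit 302924073119874) (.node (.node .leaf (nat_lit 302926191362050) .leaf) (nat_lit 302926195320832) .leaf)) (nat_lit 302926208016514) (.node (.node (.node .leaf (nat_lit 302926211958912) .leaf) (nat_lit 302930485928064) .leaf) (nat_lit 302930490361986) (.node (.node .leaf (nat_lit 302930511157376) .leaf) (nat_lit 302930515603586) .leaf))) (nat_lit 303052892692483) (.node (.node (.node (.node .leaf (nat_lit 303052896600065) .leaf) (nat_lit 303052909357057) .leaf) (nat_lit 303052913821699) (.node (.node .leaf (nat_lit 303057187547137) .leaf) (nat_lit 303057192011779) .leaf)) (nat_lit 303057196243075) (.node (.node (.node .leaf (nat_lit 303057200167041) .leaf) (nat_lit 303059343384705) .leaf) (nat_lit 303059347849347) (.node (.node .leaf (nat_lit 303059352023171) .leaf) (nat_lit 303059355930753) .leaf)))) (nat_lit 303061499439105) (.node (.node (.node (.node (.node .leaf (nat_lit 303061503346819) .leaf) (nat_lit 303061507577859)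 .leaf) (nat_lit 303061512059009) (.node (.node .leaf (nat_lit 303063638386691) .leaf) (nat_lit 303063642851457) .leaf)) (nat_lit 303063655024771) (.node (.node (.node .leaf (nat_lit 303063659505665) .leaf) (nat_lit 303067933466753) .leaf) (nat_lit 303067937374211) (.node (.node .leaf (nat_lit 303067942049921) .leaf) (nat_lit 303067945973763) .leaf))) (nat_lit 303192478941186) (.node (.node (.node (.node .leaf (nat_lit 303192483428480) .leaf) (nat_lit 303192496101376) .leaf) (nat_lit 303192500019330) (.node (.node .leaf (nat_lit 303194626748544) .leaf) (nat_lit 303194630653954) .leaf)) (nat_lit 303194651603074) (.node (.node (.node .leaf (nat_lit 303194656065536) .leaf) (nat_lit 303196790663298) .leaf) (nat_lit 303196795129856) (.node (.node .leaf (nat_lit 303196799287424) .leaf) (nat_lit 303196803217410) .leaf))))))))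
def t1_26 : BT := (.node (.node (.node (.node (.node (.node (.node (.node (.node .leaf (nat_lit 303198934306946) .leaf) (nat_lit 303198946508928) (.node .leaf (nat_lit 303198950963330) .leaf)) (nat_lit 303201069203458) (.node (.node .leaf (nat_lit 303201073166336) .leaf) (nat_lit 303201077389440) .leaf)) (nat_lit 303201081823362) (.node (.node (.node .leaf (nat_lit 303203216621570) .leaf) (nat_lit 303203220584448) .leaf) (nat_lit 303203241865346) (.node (.node .leaf (nat_lit 303203245803648) .leaf) (nat_lit 303329926510595) .leaf))) (nat_lit 303329930414081) (.node (.node (.node (.node .leaf (nat_lit 303329943103617) .leaf) (nat_lit 303329947572355) .leaf) (nat_lit 303332073877633) (.node (.node .leaf (nat_lit 303332078338179) .leaf) (nat_lit 303332082382851) .leaf)) (nat_lit 303332086286337) (.node (.node (.node .leaf (nat_lit 303334229643393) .leaf) (nat_lit 303334234120323) .leaf) (nat_lit 303334238220291) (.node (.node .leaf (nat_lit 303334242123777) .leaf) (nat_lit 303336360757249) .leaf)))) (nat_lit 303336364685443) (.node (.node (.node (.node (.node .leaf (nat_lit 303336377409537) .leaf) (nat_lit 303336381321347)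 .leaf) (nat_lit 303338508146689) (.node (.node .leaf (nat_lit 303338512066691) .leaf) (nat_lit 303338516363267) .leaf)) (nat_lit 303338520823937) (.node (.node (.node .leaf (nat_lit 303340663638147) .leaf) (nat_lit 303340668123137) .leaf) (nat_lit 303340672235523) (.node (.node .leaf (nat_lit 303340676696193) .leaf) (nat_lit 303467365466115) .leaf))) (nat_lit 303467369369601) (.node (.node (.node (.node .leaf (nat_lit 303467382063233) .leaf) (nat_lit 303467386622083) .leaf) (nat_lit 303469504561153) (.node (.node .leaf (nat_lit 303469508464643) .leaf) (nat_lit 303469529612419) .leaf)) (nat_lit 303469534040193) (.node (.node (.node .leaf (nat_lit 303471652044801) .leaf) (nat_lit 303471655948291) .leaf) (nat_lit 303471660171395) (.node (.node .leaf (nat_lit 303471664599169) .leaf) (nat_lit 303473807589377) .leaf))))) (nat_lit 303473812148355) (.node (.node (.node (.node (.node (.node .leaf (nat_lit 303473824514049) .leaf) (nat_lit 303473829073027) (.node .leaf (nat_lit 303475946749953) .leaf)) (nat_lit 303475951177859) (.node (.node .leaf (nat_lit 303475955400707) .leaf) (nat_lit 303475959304321) .leaf)) (nat_lit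 303478094495745) (.node (.node (.node .leaf (nat_lit 303478098399363) .leaf) (nat_lit 303478119743617) .leaf) (nat_lit 303478123778051) (.node (.node .leaf (nat_lit 303604804360320) .leaf) (nat_lit 303604808384514) .leaf))) (nat_lit 303604821086338) (.node (.node (.node (.node .leaf (nat_lit 303604825507840) .leaf) (nat_lit 303606943457282) .leaf) (nat_lit 303606947494016) (.node (.node .leaf (nat_lit 303606968510464) .leaf) (nat_lit 303606973067394) .leaf)) (nat_lit 303609090945026) (.node (.node (.node .leaf (nat_lit 303609094973568) .leaf) (nat_lit 303609099073536) .leaf) (nat_lit 303609103622274) (.node (.node .leaf (nat_lit 303611246624770) .leaf) (nat_lit 303611251054592) .leaf)))) (nat_lit 303611263516674) (.node (.node (.node (.node (.node .leaf (nat_lit 303611267946496) .leaf) (nat_lit 303613385658370) .leaf) (nat_lit 303613390211072) (.node (.node .leaf (nat_lit 303613394311296) .leaf) (nat_lit 303613398335618) .leaf)) (nat_lit 303615533408258) (.node (.node (.node .leaf (nat_lit 303615537444864) .leaf) (nat_lit 303615558754434) .leaf) (nat_lit 303615562659968) (.node (.node .leaf (nat_lit 303740095561729)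 .leaf) (nat_lit 303740100116483) .leaf))) (nat_lit 303740112820227) (.node (.node (.node (.node .leaf (nat_lit 303740116719617) .leaf) (nat_lit 303744399427585) .leaf) (nat_lit 303744403261443) (.node (.node .leaf (nat_lit 303744407558275) .leaf) (nat_lit 303744411916417) .leaf)) (nat_lit 303746538115203) (.node (.node (.node .leaf (nat_lit 303746542473345) .leaf) (nat_lit 303746546911361) .leaf) (nat_lit 303746550745219) (.node (.node .leaf (nat_lit 303748694034433) .leaf) (nat_lit 303748698589315) .leaf)))))) (nat_lit 303748702689283) (.node (.node (.node (.node (.node (.node (.node .leaf (nat_lit 303748706719873) .leaf) (nat_lit 303750833045505) (.node .leaf (nat_lit 303750837469315) .leaf)) (nat_lit 303750849972353) (.node (.node .leaf (nat_lit 303750854395907) .leaf) (nat_lit 303755128307841) .leaf)) (nat_lit 303755132141571) (.node (.node (.node .leaf (nat_lit 303755136780417) .leaf) (nat_lit 303755140745219) .leaf) (nat_lit 303877534580738) (.node (.node .leaf (nat_lit 303877539006592) .leaf) (nat_lit 303877551706240) .leaf))) (nat_lit 303877555738626) (.node (.node (.node (.node .leaf (nat_lit 303881838323714)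 .leaf) (nat_lit 303881842286720) .leaf) (nat_lit 303881846452224) (.node (.node .leaf (nat_lit 303881850943618) .leaf) (nat_lit 303883977009152) .leaf)) (nat_lit 303883981496450) (.node (.node (.node .leaf (nat_lit 303883985811586) .leaf) (nat_lit 303883989774336) .leaf) (nat_lit 303886133037058) (.node (.node .leaf (nat_lit 303886137458688) .leaf) (nat_lit 303886141689984) .leaf)))) (nat_lit 303886145591426) (.node (.node (.node (.node (.node .leaf (nat_lit 303888271953922) .leaf) (nat_lit 303888276510720) .leaf) (nat_lit 303888288848002) (.node (.node .leaf (nat_lit 303888293400704) .leaf) (nat_lit 303892567224450) .leaf)) (nat_lit 303892571191424) (.node (.node (.node .leaf (nat_lit 303892575795330) .leaf) (nat_lit 303892579627136) .leaf) (nat_lit 304014965416064) (.node (.node .leaf (nat_lit 304014969311234) .leaf) (nat_lit 304014973536258) .leaf))) (nat_lit 304014977972352) (.node (.node (.node (.node .leaf (nat_lit 304017112932480) .leaf) (nat_lit 304017116762114) .leaf) (nat_lit 304017137977474) (.node (.node .leaf (nat_lit 304017142347776) .leaf) (nat_lit 304019268765826) .leaf)) (nat_lit 304019272677376)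 (.node (.node (.node .leaf (nat_lit 304019285370880) .leaf) (nat_lit 304019289921666) .leaf) (nat_lit 304025702998144) (.node (.node .leaf (nat_lit 304025706827906) .leaf) (nat_lit 304025727985664) .leaf))))) (nat_lit 304025731946498) (.node (.node (.node (.node (.node (.node .leaf (nat_lit 304027850186880) .leaf) (nat_lit 304027854606466) .leaf) (nat_lit 304027858831490) (.node (.node .leaf (nat_lit 304027862743168) .leaf) (nat_lit 304030006028288) .leaf)) (nat_lit 304030010513410) (.node (.node (.node .leaf (nat_lit 304030022690944) .leaf) (nat_lit 304030027176066) .leaf) (nat_lit 304152404303875) (.node (.node .leaf (nat_lit 304152408332289) .leaf) (nat_lit 304152412422145) .leaf))) (nat_lit 304152416991235) (.node (.node (.node (.node .leaf (nat_lit 304154551824387) .leaf) (nat_lit 304154555779073) .leaf) (nat_lit 304154576867457) (.node (.node .leaf (nat_lit 304154581362819) .leaf) (nat_lit 304156707659905) .leaf)) (nat_lit 304156711688323) (.node (.node (.node .leaf (nat_lit 304156724381827) .leaf) (nat_lit 304156728815745) .leaf) (nat_lit 304163141906435) (.node (.node .leaf (nat_lit 304163145861249) .leaf)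 (nat_lit 304163166992515) .leaf)))) (nat_lit 304163170811905) (.node (.node (.node (.node (.node .leaf (nat_lit 304165289082883) .leaf) (nat_lit 304165293652097) .leaf) (nat_lit 304165297741953) (.node (.node .leaf (nat_lit 304165301770243) .leaf) (nat_lit 304167445059715) .leaf)) (nat_lit 304167449419777) (.node (.node (.node .leaf (nat_lit 304167461689347) .leaf) (nat_lit 304167466049665) .leaf) (nat_lit 304289851652224) (.node (.node .leaf (nat_lit 304289855674370) .leaf) (nat_lit 304289859913730) .leaf))) (nat_lit 304289864476800) (.node (.node (.node (.node .leaf (nat_lit 304292007430274) .leaf) (nat_lit 304292011927552) .leaf) (nat_lit 304292016091136) (.node (.node .leaf (nat_lit 304292020048002) .leaf) (nat_lit 304296294156418) .leaf)) (nat_lit 304296298063872) (.node (.node (.node .leaf (nat_lit 304296310763648) .leaf) (nat_lit 304296315310082) .leaf) (nat_lit 304298441443330) (.node (.node .leaf (nat_lit 304298446006272) .leaf) (nat_lit 304298449782786) .leaf))))))) (nat_lit 304298454214656) (.node (.node (.node (.node (.node (.node (.node (.node .leaf (nat_lit 304302736705666) .leaf) (nat_lit 304302740678784)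 (.node .leaf (nat_lit 304302753366146) .leaf)) (nat_lit 304302757339264) (.node (.node .leaf (nat_lit 304304892496002) .leaf) (nat_lit 304304896403584) .leaf)) (nat_lit 304304900632704) (.node (.node (.node .leaf (nat_lit 304304905048194) .leaf) (nat_lit 304427290671107) .leaf) (nat_lit 304427294560257) (.node (.node .leaf (nat_lit 304427298930689) .leaf) (nat_lit 304427303364611) .leaf))) (nat_lit 304429446451329) (.node (.node (.node (.node .leaf (nat_lit 304429450819715) .leaf) (nat_lit 304429455106179) .leaf) (nat_lit 304429458933889) (.node (.node .leaf (nat_lit 304433733054593) .leaf) (nat_lit 304433737078915) .leaf)) (nat_lit 304433749770243) (.node (.node (.node .leaf (nat_lit 304433754204161) .leaf) (nat_lit 304435880476673) .leaf) (nat_lit 304435884910723) (.node (.node .leaf (nat_lit 304435888652289) .leaf) (nat_lit 304435893217411) .leaf)))) (nat_lit 304440175747201) (.node (.node (.node (.node (.node .leaf (nat_lit 304440179574787) .leaf) (nat_lit 304440192379009) .leaf) (nat_lit 304440196202499) (.node (.node .leaf (nat_lit 304442331377793) .leaf) (nat_lit 304442335401987) .leaf)) (nat_lit 304442339491843)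 (.node (.node (.node .leaf (nat_lit 304442344056961) .leaf) (nat_lit 304564738064387) .leaf) (nat_lit 304564742117377) (.node (.node .leaf (nat_lit 304564746207233) .leaf) (nat_lit 304564750751747) .leaf))) (nat_lit 304566868377601) (.node (.node (.node (.node .leaf (nat_lit 304566872954883) .leaf) (nat_lit 304566885302401) .leaf) (nat_lit 304566889846915) (.node (.node .leaf (nat_lit 304571163557891) .leaf) (nat_lit 304571167971329) .leaf)) (nat_lit 304571188510723) (.node (.node (.node .leaf (nat_lit 304571193088001) .leaf) (nat_lit 304573319217153) .leaf) (nat_lit 304573323794563) (.node (.node .leaf (nat_lit 304573336453123) .leaf) (nat_lit 304573340375169) .leaf))))) (nat_lit 304577622573059) (.node (.node (.node (.node (.node (.node .leaf (nat_lit 304577627150465) .leaf) (nat_lit 304577631240321) (.node .leaf (nat_lit 304577635260419) .leaf)) (nat_lit 304579762126977) (.node (.node .leaf (nat_lit 304579766048771) .leaf) (nat_lit 304579770122371) .leaf)) (nat_lit 304579774568449) (.node (.node (.node .leaf (nat_lit 304702177085568) .leaf) (nat_lit 304702181005314) .leaf) (nat_lit 304702185226242) (.node (.node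 .leaf (nat_lit 304702189637760) .leaf) (nat_lit 304704307400706) .leaf))) (nat_lit 304704311836800) (.node (.node (.node (.node .leaf (nat_lit 304704324325506) .leaf) (nat_lit 304704328728576) .leaf) (nat_lit 304708602460288) (.node (.node .leaf (nat_lit 304708606994434) .leaf) (nat_lit 304708627544192) .leaf)) (nat_lit 304708631980034) (.node (.node (.node .leaf (nat_lit 304710758252546) .leaf) (nat_lit 304710762663936) .leaf) (nat_lit 304710775359616) (.node (.node .leaf (nat_lit 304710779377794) .leaf) (nat_lit 304715061618816) .leaf)))) (nat_lit 304715066030210) (.node (.node (.node (.node (.node .leaf (nat_lit 304715070251138) .leaf) (nat_lit 304715074171008) .leaf) (nat_lit 304717201043586) (.node (.node .leaf (nat_lit 304717205053568) .leaf) (nat_lit 304717209040896) .leaf)) (nat_lit 304717213575170) (.node (.node (.node .leaf (nat_lit 304839607189505) .leaf) (nat_lit 304839611762691) .leaf) (nat_lit 304839624116225) (.node (.node .leaf (nat_lit 304839628652547) .leaf) (nat_lit 304841746284545) .leaf))) (nat_lit 304841750857731) (.node (.node (.node (.node .leaf (nat_lit 304841754955779) .leaf) (nat_lit 304841758971905)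 .leaf) (nat_lit 304843893952515) (.node (.node .leaf (nat_lit 304843898427393) .leaf) (nat_lit 304843919038595) .leaf)) (nat_lit 304843923411073) (.node (.node (.node .leaf (nat_lit 304850336501763) .leaf) (nat_lit 304850340518017) .leaf) (nat_lit 304850353211521) (.node (.node .leaf (nat_lit 304850357616643) .leaf) (nat_lit 304852492275843) .leaf)))))) (nat_lit 304852496750593) (.node (.node (.node (.node (.node (.node (.node .leaf (nat_lit 304852500793345) .leaf) (nat_lit 304852504739971) (.node .leaf (nat_lit 304854631677953) .leaf)) (nat_lit 304854635530371) (.node (.node .leaf (nat_lit 304854639825027) .leaf) (nat_lit 304854644168705) .leaf)) (nat_lit 304977046208514) (.node (.node (.node .leaf (nat_lit 304977050648704) .leaf) (nat_lit 304977063135234) .leaf) (nat_lit 304977067542656) (.node (.node .leaf (nat_lit 304979185307650) .leaf) (nat_lit 304979189747840) .leaf))) (nat_lit 304979193972864) (.node (.node (.node (.node .leaf (nat_lit 304979197855746) .leaf) (nat_lit 304981332981888) .leaf) (nat_lit 304981337323522) (.node (.node .leaf (nat_lit 304981357932544) .leaf) (nat_lit 304981362438274) .leaf)) (nat_lit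 304987775502464) (.node (.node (.node .leaf (nat_lit 304987779418242) .leaf) (nat_lit 304987792087170) .leaf) (nat_lit 304987796658304) (.node (.node .leaf (nat_lit 304989931288576) .leaf) (nat_lit 304989935663106) .leaf)))) (nat_lit 304989939804162) (.node (.node (.node (.node (.node .leaf (nat_lit 304989943654400) .leaf) (nat_lit 304992070594562) .leaf) (nat_lit 304992074543104) (.node (.node .leaf (nat_lit 304992078702592) .leaf) (nat_lit 304992083208194) .leaf)) (nat_lit 305114485164034) (.node (.node (.node .leaf (nat_lit 305114489614464) .leaf) (nat_lit 305114493632514) .leaf) (nat_lit 305114498185344) (.node (.node .leaf (nat_lit 305118771896448) .leaf) (nat_lit 305118776301570) .leaf))) (nat_lit 305118788526208) (.node (.node (.node (.node .leaf (nat_lit 305118792964098) .leaf) (nat_lit 305120919650306) .leaf) (nat_lit 305120923515008) (.node (.node .leaf (nat_lit 305120927803392) .leaf) (nat_lit 305120932139138) .leaf)) (nat_lit 305123066773506) (.node (.node (.node .leaf (nat_lit 305123071358976) .leaf) (nat_lit 305123092080768) .leaf) (nat_lit 305123096121474) (.node (.node .leaf (nat_lit 305125214355458)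 .leaf) (nat_lit 305125218744320) .leaf))))) (nat_lit 305125223032960) (.node (.node (.node (.node (.node (.node .leaf (nat_lit 305125226844290) .leaf) (nat_lit 305129517779074) .leaf) (nat_lit 305129521770624) (.node (.node .leaf (nat_lit 305129534498944) .leaf) (nat_lit 305129538867330) .leaf)) (nat_lit 305251924049921) (.node (.node (.node .leaf (nat_lit 305251928633347) .leaf) (nat_lit 305251932653569) .leaf) (nat_lit 305251937073155) (.node (.node .leaf (nat_lit 305256210776067) .leaf) (nat_lit 305256215326721) .leaf))) (nat_lit 305256227405827) (.node (.node (.node (.node .leaf (nat_lit 305256231989249) .leaf) (nat_lit 305258358552577) .leaf) (nat_lit 305258362521603) (.node (.node .leaf (nat_lit 305258366687363) .leaf) (nat_lit 305258371164289) .leaf)) (nat_lit 305260505810945) (.node (.node (.node .leaf (nat_lit 305260510230659) .leaf) (nat_lit 305260531116035) .leaf) (nat_lit 305260534995073) (.node (.node .leaf (nat_lit 305262653265921) .leaf) (nat_lit 305262657742979) .leaf)))) (nat_lit 305262661908483) (.node (.node (.node (.node (.node .leaf (nat_lit 305262665877633) .leaf) (nat_lit 305266956824705)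 .leaf) (nat_lit 305266960629763) (.node (.node .leaf (nat_lit 305266973399043) .leaf) (nat_lit 305266977876097) .leaf)) (nat_lit 305391510878336) (.node (.node (.node .leaf (nat_lit 305391514685442) .leaf) (nat_lit 305391519315968) .leaf) (nat_lit 305391523287170) (.node (.node .leaf (nat_lit 305393666672642) .leaf) (nat_lit 305393670627456) .leaf))) (nat_lit 305393674792960) (.node (.node (.node (.node .leaf (nat_lit 305393679292546) .leaf) (nat_lit 305395805849730) .leaf) (nat_lit 305395809902592) (.node (.node .leaf (nat_lit 305395822510082) .leaf) (nat_lit 305395826534528) .leaf)) (nat_lit 305397961410562) (.node (.node (.node .leaf (nat_lit 305397965824000) .leaf) (nat_lit 305397970055296) .leaf) (nat_lit 305397973964930) (.node (.node .leaf (nat_lit 305400092196866) .leaf) (nat_lit 305400096712704) .leaf))))))))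
def t1_27 : BT := (.node (.node (.node (.node (.node (.node (.node (.node (.node .leaf (nat_lit 305400121481218) .leaf) (nat_lit 305402239877122) (.node .leaf (nat_lit 305402243737600) .leaf)) (nat_lit 305402256472192) (.node (.node .leaf (nat_lit 305402260967554) .leaf) (nat_lit 305528949762051) .leaf)) (nat_lit 305528953702401) (.node (.node (.node .leaf (nat_lit 305528958331011) .leaf) (nat_lit 305528962173057) .leaf) (nat_lit 305531105697793) (.node (.node .leaf (nat_lit 305531109507075) .leaf) (nat_lit 305531113803907) .leaf))) (nat_lit 305531118186625) (.node (.node (.node (.node .leaf (nat_lit 305533244878977) .leaf) (nat_lit 305533248786563) .leaf) (nat_lit 305533261543425) (.node (.node .leaf (nat_lit 305533265418243) .leaf) (nat_lit 305535400280065) .leaf)) (nat_lit 305535404859523) (.node (.node (.node .leaf (nat_lit 305535408959491) .leaf) (nat_lit 305535412965505) .leaf) (nat_lit 305537531238401) (.node (.node .leaf (nat_lit 305537535588483) .leaf) (nat_lit 305537556537475) .leaf)))) (nat_lit 305537560346625) (.node (.node (.node (.node (.node .leaf (nat_lit 305539678791681) .leaf) (nat_lit 305539682732163)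 .leaf) (nat_lit 305539695499267) (.node (.node .leaf (nat_lit 305539699849345) .leaf) (nat_lit 305664232620033) .leaf)) (nat_lit 305664237015043) (.node (.node (.node .leaf (nat_lit 305664241242115) .leaf) (nat_lit 305664245104641) .leaf) (nat_lit 305666380103681) (.node (.node .leaf (nat_lit 305666384498691) .leaf) (nat_lit 305666405658755) .leaf))) (nat_lit 305666409521281) (.node (.node (.node (.node .leaf (nat_lit 305668535947395) .leaf) (nat_lit 305668540334209) .leaf) (nat_lit 305668553109633) (.node (.node .leaf (nat_lit 305668557103235) .leaf) (nat_lit 305674970300417) .leaf)) (nat_lit 305674974171267) (.node (.node (.node .leaf (nat_lit 305674995560577) .leaf) (nat_lit 305674999554051) .leaf) (nat_lit 305677117521921) (.node (.node .leaf (nat_lit 305677121917059) .leaf) (nat_lit 305677126144131) .leaf))))) (nat_lit 305677130006529) (.node (.node (.node (.node (.node (.node .leaf (nat_lit 305679273332865) .leaf) (nat_lit 305679277850627) (.node .leaf (nat_lit 305679290265601) .leaf)) (nat_lit 305679294783619) (.node (.node .leaf (nat_lit 305801671837824) .leaf) (nat_lit 305801675706370) .leaf)) (nat_lit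 305801679933442) (.node (.node (.node .leaf (nat_lit 305801684322432) .leaf) (nat_lit 305803819325568) .leaf) (nat_lit 305803823185922) (.node (.node .leaf (nat_lit 305803844345986) .leaf) (nat_lit 305803848742912) .leaf))) (nat_lit 305805975171202) (.node (.node (.node (.node .leaf (nat_lit 305805979035648) .leaf) (nat_lit 305805991794688) .leaf) (nat_lit 305805996310658) (.node (.node .leaf (nat_lit 305812409014400) .leaf) (nat_lit 305812413399170) .leaf)) (nat_lit 305812434233344) (.node (.node (.node .leaf (nat_lit 305812438757378) .leaf) (nat_lit 305814556764288) .leaf) (nat_lit 305814560632962) (.node (.node .leaf (nat_lit 305814564860034) .leaf) (nat_lit 305814569248896) .leaf)))) (nat_lit 305816712570880) (.node (.node (.node (.node (.node .leaf (nat_lit 305816716570626) .leaf) (nat_lit 305816729454720) .leaf) (nat_lit 305816733454466) (.node (.node .leaf (nat_lit 305939119144963) .leaf) (nat_lit 305939123011585) .leaf)) (nat_lit 305939127461889) (.node (.node (.node .leaf (nat_lit 305939131852803) .leaf) (nat_lit 305941274945665) .leaf) (nat_lit 305941279336579) (.node (.node .leaf (nat_lit 305941283563651)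 .leaf) (nat_lit 305941287430273) .leaf))) (nat_lit 305945561534593) (.node (.node (.node (.node .leaf (nat_lit 305945565532291) .leaf) (nat_lit 305945578301443) .leaf) (nat_lit 305945582692353) (.node (.node .leaf (nat_lit 305947709116417) .leaf) (nat_lit 305947712983171) .leaf)) (nat_lit 305947717593089) (.node (.node (.node .leaf (nat_lit 305947721590915) .leaf) (nat_lit 305952003788929) .leaf) (nat_lit 305952008179715) (.node (.node .leaf (nat_lit 305952020723841) .leaf) (nat_lit 305952025114627) .leaf)))))) (nat_lit 305954159749249) (.node (.node (.node (.node (.node (.node (.node .leaf (nat_lit 305954164271107) .leaf) (nat_lit 305954168432643) (.node .leaf (nat_lit 305954172430465) .leaf)) (nat_lit 306076557840386) (.node (.node .leaf (nat_lit 306076562233472) .leaf) (nat_lit 306076566679680) .leaf)) (nat_lit 306076570548226) (.node (.node (.node .leaf (nat_lit 306078714159104) .leaf) (nat_lit 306078718027906) .leaf) (nat_lit 306078722254978) (.node (.node .leaf (nat_lit 306078726643712) .leaf) (nat_lit 306083000236032) .leaf))) (nat_lit 306083004756098) (.node (.node (.node (.node .leaf (nat_lit 306083017508866)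 .leaf) (nat_lit 306083021373568) .leaf) (nat_lit 306085147822208) (.node (.node .leaf (nat_lit 306085152211074) .leaf) (nat_lit 306085156270208) .leaf)) (nat_lit 306085160794242) (.node (.node (.node .leaf (nat_lit 306089443026944) .leaf) (nat_lit 306089446891522) .leaf) (nat_lit 306089459908608) (.node (.node .leaf (nat_lit 306089463777282) .leaf) (nat_lit 306091598938112) .leaf)))) (nat_lit 306091602937858) (.node (.node (.node (.node (.node .leaf (nat_lit 306091607099394) .leaf) (nat_lit 306091611619328) .leaf) (nat_lit 306216144312322) (.node (.node .leaf (nat_lit 306216148707456) .leaf) (nat_lit 306216161400832) .leaf)) (nat_lit 306216165402754) (.node (.node (.node .leaf (nat_lit 306218283409536) .leaf) (nat_lit 306218287796226) .leaf) (nat_lit 306218308958338) (.node (.node .leaf (nat_lit 306218312812544) .leaf) (nat_lit 306220430860416) .leaf))) (nat_lit 306220435247106) (.node (.node (.node (.node .leaf (nat_lit 306220439541890) .leaf) (nat_lit 306220443412480) .leaf) (nat_lit 306222586837120) (.node (.node .leaf (nat_lit 306222591346818) .leaf) (nat_lit 306222603491456) .leaf)) (nat_lit 306222608017538)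 (.node (.node (.node .leaf (nat_lit 306224725958784) .leaf) (nat_lit 306224730345602) .leaf) (nat_lit 306224734640130) (.node (.node .leaf (nat_lit 306224738510848) .leaf) (nat_lit 306226873737344) .leaf))))) (nat_lit 306226877599874) (.node (.node (.node (.node (.node (.node .leaf (nat_lit 306226898720768) .leaf) (nat_lit 306226902722562) .leaf) (nat_lit 306353583532035) (.node (.node .leaf (nat_lit 306353587392513) .leaf) (nat_lit 306353600094337) .leaf)) (nat_lit 306353604614275) (.node (.node (.node .leaf (nat_lit 306355722627073) .leaf) (nat_lit 306355726487555) .leaf) (nat_lit 306355747649667) (.node (.node .leaf (nat_lit 306355752026241) .leaf) (nat_lit 306357870082049) .leaf))) (nat_lit 306357873934339) (.node (.node (.node (.node .leaf (nat_lit 306357878229123) .leaf) (nat_lit 306357882630273) .leaf) (nat_lit 306360026058753) (.node (.node .leaf (nat_lit 306360030062723) .leaf) (nat_lit 306360042696705) .leaf)) (nat_lit 306360046684291) (.node (.node (.node .leaf (nat_lit 306362165188609) .leaf) (nat_lit 306362169057411) .leaf) (nat_lit 306362173351939) (.node (.node .leaf (nat_lit 306362177736833) .leaf)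 (nat_lit 306364312446977) .leaf)))) (nat_lit 306364316831875) (.node (.node (.node (.node (.node .leaf (nat_lit 306364337393793) .leaf) (nat_lit 306364341921795) .leaf) (nat_lit 306488874702850) (.node (.node .leaf (nat_lit 306488879102080) .leaf) (nat_lit 306488891850880) .leaf)) (nat_lit 306488895856642) (.node (.node (.node .leaf (nat_lit 306493178439682) .leaf) (nat_lit 306493182429312) .leaf) (nat_lit 306493186523136) (.node (.node .leaf (nat_lit 306493191053442) .leaf) (nat_lit 306495317125120) .leaf))) (nat_lit 306495321639042) (.node (.node (.node (.node .leaf (nat_lit 306495325890690) .leaf) (nat_lit 306495329880064) .leaf) (nat_lit 306497473308674) (.node (.node .leaf (nat_lit 306497477167104) .leaf) (nat_lit 306497481457792) .leaf)) (nat_lit 306497485856898) (.node (.node (.node .leaf (nat_lit 306499612481538) .leaf) (nat_lit 306499616487424) .leaf) (nat_lit 306499629150338) (.node (.node .leaf (nat_lit 306499633139840) .leaf) (nat_lit 306503907154050) .leaf))))))) (nat_lit 306503911684224) (.node (.node (.node (.node (.node (.node (.node (.node .leaf (nat_lit 306503915497602) .leaf) (nat_lit 306503919880320)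 (.node .leaf (nat_lit 306626313922563) .leaf)) (nat_lit 306626317778945) (.node (.node .leaf (nat_lit 306626330556417) .leaf) (nat_lit 306626335068163) .leaf)) (nat_lit 306630617135107) (.node (.node (.node .leaf (nat_lit 306630621646849) .leaf) (nat_lit 306630625745025) .leaf) (nat_lit 306630629748867) (.node (.node .leaf (nat_lit 306632756338817) .leaf) (nat_lit 306632760330371) .leaf))) (nat_lit 306632764582019) (.node (.node (.node (.node .leaf (nat_lit 306632769093761) .leaf) (nat_lit 306634911979523) .leaf) (nat_lit 306634916376705) (.node (.node .leaf (nat_lit 306634920671233) .leaf) (nat_lit 306634924527747) .leaf)) (nat_lit 306637051197443) (.node (.node (.node .leaf (nat_lit 306637055709313) .leaf) (nat_lit 306637067817091) .leaf) (nat_lit 306637072349185) (.node (.node .leaf (nat_lit 306641346386051) .leaf) (nat_lit 306641350389761) .leaf)))) (nat_lit 306641354696835) (.node (.node (.node (.node (.node .leaf (nat_lit 306641358553089) .leaf) (nat_lit 306763744526464) .leaf) (nat_lit 306763748382722) (.node (.node .leaf (nat_lit 306763769753728) .leaf) (nat_lit 306763773765634) .leaf)) (nat_lit 306768039510018)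 (.node (.node (.node .leaf (nat_lit 306768043530368) .leaf) (nat_lit 306768056180738) .leaf) (nat_lit 306768060168320) (.node (.node .leaf (nat_lit 306770203418624) .leaf) (nat_lit 306770207963266) .leaf))) (nat_lit 306770212057090) (.node (.node (.node (.node .leaf (nat_lit 306770216036480) .leaf) (nat_lit 306772342804482) .leaf) (nat_lit 306772346685440) (.node (.node .leaf (nat_lit 306772351099008) .leaf) (nat_lit 306772355512450) .leaf)) (nat_lit 306774498516992) (.node (.node (.node .leaf (nat_lit 306774503061506) .leaf) (nat_lit 306774507155586) .leaf) (nat_lit 306774511134848) (.node (.node .leaf (nat_lit 306778785058946) .leaf) (nat_lit 306778789595264) .leaf))))) (nat_lit 306778802073728) (.node (.node (.node (.node (.node (.node .leaf (nat_lit 306778805954690) .leaf) (nat_lit 306901183203329) (.node .leaf (nat_lit 306901187614723) .leaf)) (nat_lit 306901208463361) (.node (.node .leaf (nat_lit 306901212964867) .leaf) (nat_lit 306905478225923) .leaf)) (nat_lit 306905482735617) (.node (.node (.node .leaf (nat_lit 306905494847491) .leaf) (nat_lit 306905499389953) .leaf) (nat_lit 306907642648705) (.node (.node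 .leaf (nat_lit 306907646625923) .leaf) (nat_lit 306907650719747) .leaf))) (nat_lit 306907655262209) (.node (.node (.node (.node .leaf (nat_lit 306909781495811) .leaf) (nat_lit 306909785899137) .leaf) (nat_lit 306909790316545) (.node (.node .leaf (nat_lit 306909794203779) .leaf) (nat_lit 306911937738881) .leaf)) (nat_lit 306911941748739) (.node (.node (.node .leaf (nat_lit 306911945842819) .leaf) (nat_lit 306911950352385) .leaf) (nat_lit 306916224278659) (.node (.node .leaf (nat_lit 306916228296705) .leaf) (nat_lit 306916240754689) .leaf)))) (nat_lit 306916245166211) (.node (.node (.node (.node (.node .leaf (nat_lit 307040769855616) .leaf) (nat_lit 307040773838850) .leaf) (nat_lit 307040795207680) (.node (.node .leaf (nat_lit 307040799088770) .leaf) (nat_lit 307042917449730) .leaf)) (nat_lit 307042921465984) (.node (.node (.node .leaf (nat_lit 307042925559808) .leaf) (nat_lit 307042930067586) .leaf) (nat_lit 307045073326210) (.node (.node .leaf (nat_lit 307045077342208) .leaf) (nat_lit 307045089998850) .leaf))) (nat_lit 307045093978240) (.node (.node (.node (.node .leaf (nat_lit 307047212318722) .leaf) (nat_lit 307047216203776)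 .leaf) (nat_lit 307047220494464) (.node (.node .leaf (nat_lit 307047224871042) .leaf) (nat_lit 307049367912576) .leaf)) (nat_lit 307049372420226) (.node (.node (.node .leaf (nat_lit 307049376671874) .leaf) (nat_lit 307049380651136) .leaf) (nat_lit 307051507372160) (.node (.node .leaf (nat_lit 307051511355522) .leaf) (nat_lit 307051523860482) .leaf)))))) (nat_lit 307051528232960) (.node (.node (.node (.node (.node (.node (.node .leaf (nat_lit 307178208532481) .leaf) (nat_lit 307178213070851) (.node .leaf (nat_lit 307178233913473) .leaf)) (nat_lit 307178238288003) (.node (.node .leaf (nat_lit 307180356169731) .leaf) (nat_lit 307180360675329) .leaf)) (nat_lit 307180364773505) (.node (.node (.node .leaf (nat_lit 307180368787587) .leaf) (nat_lit 307182512042115) .leaf) (nat_lit 307182516547713) (.node (.node .leaf (nat_lit 307182528665603) .leaf) (nat_lit 307182533203969) .leaf))) (nat_lit 307184651014147) (.node (.node (.node (.node .leaf (nat_lit 307184655421569) .leaf) (nat_lit 307184659716097) .leaf) (nat_lit 307184663566467) (.node (.node .leaf (nat_lit 307186807130113) .leaf) (nat_lit 307186811111555) .leaf)) (nat_lit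 307186815363203) (.node (.node (.node .leaf (nat_lit 307186819868673) .leaf) (nat_lit 307188946069505) .leaf) (nat_lit 307188950575235) (.node (.node .leaf (nat_lit 307188963072003) .leaf) (nat_lit 307188966922369) .leaf)))) (nat_lit 307313500061697) (.node (.node (.node (.node (.node .leaf (nat_lit 307313504483331) .leaf) (nat_lit 307313508710403) .leaf) (nat_lit 307313512546305) (.node (.node .leaf (nat_lit 307315647832067) .leaf) (nat_lit 307315651680257) .leaf)) (nat_lit 307315664715907) (.node (.node (.node .leaf (nat_lit 307315668613249) .leaf) (nat_lit 307319951267969) .leaf) (nat_lit 307319955153027) (.node (.node .leaf (nat_lit 307319959478401) .leaf) (nat_lit 307319963457667) .leaf))) (nat_lit 307322098718721) (.node (.node (.node (.node .leaf (nat_lit 307322102734979) .leaf) (nat_lit 307322115135491) .leaf) (nat_lit 307322119544961) (.node (.node .leaf (nat_lit 307326384963585) .leaf) (nat_lit 307326389385347) .leaf)) (nat_lit 307326393612419) (.node (.node (.node .leaf (nat_lit 307326397448193) .leaf) (nat_lit 307328532348929) .leaf) (nat_lit 307328536901763) (.node (.node .leaf (nat_lit 307328557946883)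 .leaf) (nat_lit 307328561963137) .leaf))))) (nat_lit 307450939304064) (.node (.node (.node (.node (.node (.node .leaf (nat_lit 307450943150082) .leaf) (nat_lit 307450947377154) .leaf) (nat_lit 307450951788672) (.node (.node .leaf (nat_lit 307453086502914) .leaf) (nat_lit 307453090914432) .leaf)) (nat_lit 307453103435906) (.node (.node (.node .leaf (nat_lit 307453107798016) .leaf) (nat_lit 307457389969408) .leaf) (nat_lit 307457394356354) (.node (.node .leaf (nat_lit 307457398159360) .leaf) (nat_lit 307457402685570) .leaf))) (nat_lit 307459537416320) (.node (.node (.node (.node .leaf (nat_lit 307459541942402) .leaf) (nat_lit 307459554359298) .leaf) (nat_lit 307459558230016) (.node (.node .leaf (nat_lit 307463824181376) .leaf) (nat_lit 307463828076674) .leaf)) (nat_lit 307463832303746) (.node (.node (.node .leaf (nat_lit 307463836665984) .leaf) (nat_lit 307465971570816) .leaf) (nat_lit 307465975588994) (.node (.node .leaf (nat_lit 307465996634114) .leaf) (nat_lit 307466001184768) .leaf)))) (nat_lit 307588386297857) (.node (.node (.node (.node (.node .leaf (nat_lit 307588390842371) .leaf) (nat_lit 307588403228673)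 .leaf) (nat_lit 307588407728131) (.node (.node .leaf (nat_lit 307590542289025) .leaf) (nat_lit 307590546784387) .leaf)) (nat_lit 307590550945923) (.node (.node (.node .leaf (nat_lit 307590554970241) .leaf) (nat_lit 307592681482371) .leaf) (nat_lit 307592685846657) (.node (.node .leaf (nat_lit 307592689653763) .leaf) (nat_lit 307592694198273) .leaf))) (nat_lit 307599115747329) (.node (.node (.node (.node .leaf (nat_lit 307599119640707) .leaf) (nat_lit 307599132104835) .leaf) (nat_lit 307599136649217) (.node (.node .leaf (nat_lit 307601262772225) .leaf) (nat_lit 307601267320963) .leaf)) (nat_lit 307601288364163) (.node (.node (.node .leaf (nat_lit 307601292388353) .leaf) (nat_lit 307603427289217) .leaf) (nat_lit 307603431653379) (.node (.node .leaf (nat_lit 307603435880451) .leaf) (nat_lit 307603439773825) .leaf))))))))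
def t1_28 : BT := (.node (.node (.node (.node (.node (.node (.node (.node (.node .leaf (nat_lit 307725829505026) .leaf) (nat_lit 307725842417792) (.node .leaf (nat_lit 307725846439938) .leaf)) (nat_lit 307727981477888) (.node (.node .leaf (nat_lit 307727985500290) .leaf) (nat_lit 307727989661826) .leaf)) (nat_lit 307727994159104) (.node (.node (.node .leaf (nat_lit 307730120685698) .leaf) (nat_lit 307730124560384) .leaf) (nat_lit 307730128881666) (.node (.node .leaf (nat_lit 307730132871296) .leaf) (nat_lit 307736554449024) .leaf))) (nat_lit 307736558848130) (.node (.node (.node (.node .leaf (nat_lit 307736571328642) .leaf) (nat_lit 307736575334528) .leaf) (nat_lit 307738701994112) (.node (.node .leaf (nat_lit 307738706016386) .leaf) (nat_lit 307738727059586) .leaf)) (nat_lit 307738731606144) (.node (.node (.node .leaf (nat_lit 307740866502656) .leaf) (nat_lit 307740870344706) .leaf) (nat_lit 307740874571778) (.node (.node .leaf (nat_lit 307740878987264) .leaf) (nat_lit 307863255908353) .leaf)))) (nat_lit 307863260274691) (.node (.node (.node (.node (.node .leaf (nat_lit 307863272554497) .leaf) (nat_lit 307863277182979)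 .leaf) (nat_lit 307867550875649) (.node (.node .leaf (nat_lit 307867555241987) .leaf) (nat_lit 307867559477379) .leaf)) (nat_lit 307867563581569) (.node (.node (.node .leaf (nat_lit 307869707092097) .leaf) (nat_lit 307869710934147) .leaf) (nat_lit 307869715267713) (.node (.node .leaf (nat_lit 307869719371907) .leaf) (nat_lit 307871845842945) .leaf))) (nat_lit 307871850209411) (.node (.node (.node (.node .leaf (nat_lit 307871862882307) .leaf) (nat_lit 307871866724481) .leaf) (nat_lit 307874010103939) (.node (.node .leaf (nat_lit 307874014470145) .leaf) (nat_lit 307874018705537) .leaf)) (nat_lit 307874022809603) (.node (.node (.node .leaf (nat_lit 307876140810241) .leaf) (nat_lit 307876145176707) .leaf) (nat_lit 307876166320259) (.node (.node .leaf (nat_lit 307876170162177) .leaf) (nat_lit 308000703201282) .leaf))))) (nat_lit 308000707831936) (.node (.node (.node (.node (.node (.node .leaf (nat_lit 308000720109570) .leaf) (nat_lit 308000724478080) (.node .leaf (nat_lit 308005006747776) .leaf)) (nat_lit 308005010833410) (.node (.node .leaf (nat_lit 308005015085186) .leaf) (nat_lit 308005019437056) .leaf)) (nat_lit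 308007145926786) (.node (.node (.node .leaf (nat_lit 308007150016512) .leaf) (nat_lit 308007154364546) .leaf) (nat_lit 308007158192128) (.node (.node .leaf (nat_lit 308009293514880) .leaf) (nat_lit 308009297354882) .leaf))) (nat_lit 308009310027778) (.node (.node (.node (.node .leaf (nat_lit 308009314396160) .leaf) (nat_lit 308011432431618) .leaf) (nat_lit 308011436537856) (.node (.node .leaf (nat_lit 308011440740480) .leaf) (nat_lit 308011445104770) .leaf)) (nat_lit 308013580052608) (.node (.node (.node .leaf (nat_lit 308013583876226) .leaf) (nat_lit 308013605003394) .leaf) (nat_lit 308013609355392) (.node (.node .leaf (nat_lit 308140281303168) .leaf) (nat_lit 308140285665282) .leaf)))) (nat_lit 308140297951232) (.node (.node (.node (.node (.node .leaf (nat_lit 308140302575746) .leaf) (nat_lit 308142429081728) .leaf) (nat_lit 308142432854018) (.node (.node .leaf (nat_lit 308142454200320) .leaf) (nat_lit 308142458235010) .leaf)) (nat_lit 308144592951296) (.node (.node (.node .leaf (nat_lit 308144597510274) .leaf) (nat_lit 308144601810946) .leaf) (nat_lit 308144605591680) (.node (.node .leaf (nat_lit 308146723684354)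 .leaf) (nat_lit 308146728316928) .leaf))) (nat_lit 308146732421248) (.node (.node (.node (.node .leaf (nat_lit 308146736259202) .leaf) (nat_lit 308148871430146) .leaf) (nat_lit 308148875538432) (.node (.node .leaf (nat_lit 308148887951360) .leaf) (nat_lit 308148892575746) .leaf)) (nat_lit 308153174769794) (.node (.node (.node .leaf (nat_lit 308153178812544) .leaf) (nat_lit 308153182951424) .leaf) (nat_lit 308153187510274) (.node (.node .leaf (nat_lit 308277728591875) .leaf) (nat_lit 308277733226497) .leaf)))))) (nat_lit 308277745502339) (.node (.node (.node (.node (.node (.node (.node .leaf (nat_lit 308277749870721) .leaf) (nat_lit 308279867912195) (.node .leaf (nat_lit 308279871932417) .leaf)) (nat_lit 308279893293187) (.node (.node .leaf (nat_lit 308279897047169) .leaf) (nat_lit 308282015528961) .leaf)) (nat_lit 308282019282947) (.node (.node (.node .leaf (nat_lit 308282023600259) .leaf) (nat_lit 308282028152961) .leaf) (nat_lit 308284179830787) (.node (.node .leaf (nat_lit 308284183666817) .leaf) (nat_lit 308284187738113) .leaf))) (nat_lit 308284192372867) (.node (.node (.node (.node .leaf (nat_lit 308286318444547)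 .leaf) (nat_lit 308286323079297) .leaf) (nat_lit 308286335488129) (.node (.node .leaf (nat_lit 308286339590147) .leaf) (nat_lit 308290613452931) .leaf)) (nat_lit 308290618005505) (.node (.node (.node .leaf (nat_lit 308290622189697) .leaf) (nat_lit 308290626209795) .leaf) (nat_lit 308413020194817) (.node (.node .leaf (nat_lit 308413024552963) .leaf) (nat_lit 308413028368385) .leaf)))) (nat_lit 308413032988675) (.node (.node (.node (.node (.node .leaf (nat_lit 308415159500801) .leaf) (nat_lit 308415163269123) .leaf) (nat_lit 308415167588355) (.node (.node .leaf (nat_lit 308415172143105) .leaf) (nat_lit 308419454468097) .leaf)) (nat_lit 308419458236419) (.node (.node (.node .leaf (nat_lit 308419471114369) .leaf) (nat_lit 308419475144835) .leaf) (nat_lit 308423749304321) (.node (.node .leaf (nat_lit 308423753334915) .leaf) (nat_lit 308423774300291) .leaf))) (nat_lit 308423778854913) (.node (.node (.node (.node .leaf (nat_lit 308425913540611) .leaf) (nat_lit 308425917636737) .leaf) (nat_lit 308425921874049) (.node (.node .leaf (nat_lit 308425926232067) .leaf) (nat_lit 308428044271617) .leaf)) (nat_lit 308428048302211)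 (.node (.node (.node .leaf (nat_lit 308428060795011) .leaf) (nat_lit 308428065349633) .leaf) (nat_lit 308550459017218) (.node (.node .leaf (nat_lit 308550463635584) .leaf) (nat_lit 308550467452930) .leaf))))) (nat_lit 308550471813248) (.node (.node (.node (.node (.node (.node .leaf (nat_lit 308552614852608) .leaf) (nat_lit 308552619405442) .leaf) (nat_lit 308552623708290) (.node (.node .leaf (nat_lit 308552627474432) .leaf) (nat_lit 308556901775490) .leaf)) (nat_lit 308556905803776) (.node (.node (.node .leaf (nat_lit 308556918683650) .leaf) (nat_lit 308556922450048) .leaf) (nat_lit 308561188026496) (.node (.node .leaf (nat_lit 308561192579202) .leaf) (nat_lit 308561213495426) .leaf))) (nat_lit 308561217523840) (.node (.node (.node (.node .leaf (nat_lit 308563335602178) .leaf) (nat_lit 308563339962368) .leaf) (nat_lit 308563344162816) (.node (.node .leaf (nat_lit 308563348260866) .leaf) (nat_lit 308565491421184) .leaf)) (nat_lit 308565495977986) (.node (.node (.node .leaf (nat_lit 308565508470786) .leaf) (nat_lit 308565512499200) .leaf) (nat_lit 308687906408450) (.node (.node .leaf (nat_lit 308687910770816) .leaf)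 (nat_lit 308687915020416) .leaf)))) (nat_lit 308687919112194) (.node (.node (.node (.node (.node .leaf (nat_lit 308690037276674) .leaf) (nat_lit 308690041311360) .leaf) (nat_lit 308690062655618) (.node (.node .leaf (nat_lit 308690066427904) .leaf) (nat_lit 308692184498178) .leaf)) (nat_lit 308692189057152) (.node (.node (.node .leaf (nat_lit 308692201408514) .leaf) (nat_lit 308692205705344) .leaf) (nat_lit 308696488114304) (.node (.node .leaf (nat_lit 308696492206210) .leaf) (nat_lit 308696496277506) .leaf))) (nat_lit 308696500901888) (.node (.node (.node (.node .leaf (nat_lit 308700774772864) .leaf) (nat_lit 308700778799234) .leaf) (nat_lit 308700791277570) (.node (.node .leaf (nat_lit 308700795836416) .leaf) (nat_lit 308702921961600) .leaf)) (nat_lit 308702926577794) (.node (.node (.node .leaf (nat_lit 308702930684034) .leaf) (nat_lit 308702934521984) .leaf) (nat_lit 308825328726019) (.node (.node .leaf (nat_lit 308825332819969) .leaf) (nat_lit 308825337053185) .leaf))))))) (nat_lit 308825341417475) (.node (.node (.node (.node (.node (.node (.node (.node .leaf (nat_lit 308827476367361) .leaf) (nat_lit 308827480129539)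 (.node .leaf (nat_lit 308827501484161) .leaf)) (nat_lit 308827505508483) (.node (.node .leaf (nat_lit 308829632061569) .leaf) (nat_lit 308829636360323) .leaf)) (nat_lit 308829648709761) (.node (.node (.node .leaf (nat_lit 308829653266563) .leaf) (nat_lit 308833926774785) .leaf) (nat_lit 308833931401347) (.node (.node .leaf (nat_lit 308833935521795) .leaf) (nat_lit 308833939611777) .leaf))) (nat_lit 308838221783169) (.node (.node (.node (.node .leaf (nat_lit 308838226343939) .leaf) (nat_lit 308838238818435) .leaf) (nat_lit 308838242846721) (.node (.node .leaf (nat_lit 308840378101889) .leaf) (nat_lit 308840381933571) .leaf)) (nat_lit 308840386002947) (.node (.node (.node .leaf (nat_lit 308840390629505) .leaf) (nat_lit 308962784182273) .leaf) (nat_lit 308962788829187) (.node (.node .leaf (nat_lit 308962793029635) .leaf) (nat_lit 308962796890113) .leaf)))) (nat_lit 308964914970627) (.node (.node (.node (.node (.node .leaf (nat_lit 308964919584769) .leaf) (nat_lit 308964931993729) .leaf) (nat_lit 308964936116355) (.node (.node .leaf (nat_lit 308969210183681) .leaf) (nat_lit 308969214306307) .leaf)) (nat_lit 308969235021827)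 (.node (.node (.node .leaf (nat_lit 308969239668737) .leaf) (nat_lit 308973513211907) .leaf) (nat_lit 308973517858945) (.node (.node .leaf (nat_lit 308973530120323) .leaf) (nat_lit 308973534504961) .leaf))) (nat_lit 308975652306945) (.node (.node (.node (.node .leaf (nat_lit 308975656953987) .leaf) (nat_lit 308975677685889) .leaf) (nat_lit 308975682037763) (.node (.node .leaf (nat_lit 308977800003587) .leaf) (nat_lit 308977804355713) .leaf)) (nat_lit 308977808457857) (.node (.node (.node .leaf (nat_lit 308977812547587) .leaf) (nat_lit 309100206770304) .leaf) (nat_lit 309100210595842) (.node (.node .leaf (nat_lit 309100214829058) .leaf) (nat_lit 309100219441280) .leaf))))) (nat_lit 309102362513410) (.node (.node (.node (.node (.node (.node .leaf (nat_lit 309102366601344) .leaf) (nat_lit 309102379014144) (.node .leaf (nat_lit 309102383659138) .leaf)) (nat_lit 309106648905856) (.node (.node .leaf (nat_lit 309106653501442) .leaf) (nat_lit 309106674266114) .leaf)) (nat_lit 309106678337664) (.node (.node (.node .leaf (nat_lit 309110943979648) .leaf) (nat_lit 309110948362370) .leaf) (nat_lit 309110960625664) (.node (.node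 .leaf (nat_lit 309110965270530) .leaf) (nat_lit 309113091416066) .leaf))) (nat_lit 309113095749632) (.node (.node (.node (.node .leaf (nat_lit 309113116500098) .leaf) (nat_lit 309113121128576) .leaf) (nat_lit 309115255877762) (.node (.node .leaf (nat_lit 309115259949184) .leaf) (nat_lit 309115264071808) .leaf)) (nat_lit 309115268405378) (.node (.node (.node .leaf (nat_lit 309237654163584) .leaf) (nat_lit 309237658019842) .leaf) (nat_lit 309237670692866) (.node (.node .leaf (nat_lit 309237675044992) .leaf) (nat_lit 309239793123330) .leaf)))) (nat_lit 309239797250176) (.node (.node (.node (.node (.node .leaf (nat_lit 309239801319552) .leaf) (nat_lit 309239805700098) .leaf) (nat_lit 309241940443138) (.node (.node .leaf (nat_lit 309241944766592) .leaf) (nat_lit 309241965942784) .leaf)) (nat_lit 309241969729666) (.node (.node (.node .leaf (nat_lit 309246235312130) .leaf) (nat_lit 309246239963136) .leaf) (nat_lit 309246252222466) (.node (.node .leaf (nat_lit 309246256607232) .leaf) (nat_lit 309250547505280) .leaf))) (nat_lit 309250551259266) (.node (.node (.node (.node .leaf (nat_lit 309250555431042) .leaf) (nat_lit 309250559979648)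 .leaf) (nat_lit 309252677750912) (.node (.node .leaf (nat_lit 309252682295426) .leaf) (nat_lit 309252703099008) .leaf)) (nat_lit 309252707410050) (.node (.node (.node .leaf (nat_lit 309375084398593) .leaf) (nat_lit 309375088785411) .leaf) (nat_lit 309375101458435) (.node (.node .leaf (nat_lit 309375105280001) .leaf) (nat_lit 309377248741507) .leaf)))))) (nat_lit 309377253095553) (.node (.node (.node (.node (.node (.node (.node .leaf (nat_lit 309377257197697) .leaf) (nat_lit 309377261281411) (.node .leaf (nat_lit 309379379687427) .leaf)) (nat_lit 309379383427073) (.node (.node .leaf (nat_lit 309379404652673) .leaf) (nat_lit 309379408924803) .leaf)) (nat_lit 309383682721793) (.node (.node (.node .leaf (nat_lit 309383687108739) .leaf) (nat_lit 309383699365889) .leaf) (nat_lit 309383704014979) (.node (.node .leaf (nat_lit 309387969292289) .leaf) (nat_lit 309387973826691) .leaf))) (nat_lit 309387978010755) (.node (.node (.node (.node .leaf (nat_lit 309387981750273) .leaf) (nat_lit 309390116823043) .leaf) (nat_lit 309390121128065) (.node (.node .leaf (nat_lit 309390141941763) .leaf) (nat_lit 309390146476161) .leaf)) (nat_lit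 309512531945475) (.node (.node (.node .leaf (nat_lit 309512536055809) .leaf) (nat_lit 309512539996161) .leaf) (nat_lit 309512544634883) (.node (.node .leaf (nat_lit 309516818186241) .leaf) (nat_lit 309516822824963) .leaf)))) (nat_lit 309516835250179) (.node (.node (.node (.node (.node .leaf (nat_lit 309516839331841) .leaf) (nat_lit 309518966030337) .leaf) (nat_lit 309518970079235) (.node (.node .leaf (nat_lit 309518974232707) .leaf) (nat_lit 309518978539649) .leaf)) (nat_lit 309521130217475) (.node (.node (.node .leaf (nat_lit 309521134299265) .leaf) (nat_lit 309521138534401) .leaf) (nat_lit 309521142874243) (.node (.node .leaf (nat_lit 309523269339137) .leaf) (nat_lit 309523273351299) .leaf))) (nat_lit 309523277906049) (.node (.node (.node (.node .leaf (nat_lit 309523281692675) .leaf) (nat_lit 309525416847491) .leaf) (nat_lit 309525420957697) (.node (.node .leaf (nat_lit 309525433755779) .leaf) (nat_lit 309525437603841) .leaf)) (nat_lit 309649970644994) (.node (.node (.node .leaf (nat_lit 309649975249024) .leaf) (nat_lit 309649979238528) .leaf) (nat_lit 309649983318018) (.node (.node .leaf (nat_lit 309654265856000)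 .leaf) (nat_lit 309654269968514) .leaf))))) (nat_lit 309654282397826) (.node (.node (.node (.node (.node (.node .leaf (nat_lit 309654287001600) .leaf) (nat_lit 309656421652480) .leaf) (nat_lit 309656425928834) (.node (.node .leaf (nat_lit 309656430114818) .leaf) (nat_lit 309656434129024) .leaf)) (nat_lit 309658552254466) (.node (.node (.node .leaf (nat_lit 309658556596224) .leaf) (nat_lit 309658560848000) .leaf) (nat_lit 309658564927618) (.node (.node .leaf (nat_lit 309660708411394) .leaf) (nat_lit 309660712196096) .leaf))) (nat_lit 309660716748930) (.node (.node (.node (.node .leaf (nat_lit 309660720763008) .leaf) (nat_lit 309662847469696) .leaf) (nat_lit 309662851319938) (.node (.node .leaf (nat_lit 309662864115840) .leaf) (nat_lit 309662868228226) .leaf)) (nat_lit 309789557311490) (.node (.node (.node .leaf (nat_lit 309789561327744) .leaf) (nat_lit 309789565515776) .leaf) (nat_lit 309789570048130) (.node (.node .leaf (nat_lit 309791713327232) .leaf) (nat_lit 309791717072898) .leaf)))) (nat_lit 309791721373826) (.node (.node (.node (.node (.node .leaf (nat_lit 309791725918208) .leaf) (nat_lit 309793851979776)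 .leaf) (nat_lit 309793856610434) (.node (.node .leaf (nat_lit 309793869021186) .leaf) (nat_lit 309793873107072) .leaf)) (nat_lit 309795999598594) (.node (.node (.node .leaf (nat_lit 309796003942400) .leaf) (nat_lit 309796007905282) .leaf) (nat_lit 309796012544000) (.node (.node .leaf (nat_lit 309798138970114) .leaf) (nat_lit 309798142760960) .leaf))) (nat_lit 309798147045504) (.node (.node (.node (.node .leaf (nat_lit 309798151610498) .leaf) (nat_lit 309802433671296) .leaf) (nat_lit 309802438011010) (.node (.node .leaf (nat_lit 309802450319360) .leaf) (nat_lit 309802454917122) .leaf)) (nat_lit 309926995994627) (.node (.node (.node .leaf (nat_lit 309927000569857) .leaf) (nat_lit 309927004704897) .leaf) (nat_lit 309927008747651) (.node (.node .leaf (nat_lit 309929135089665) .leaf) (nat_lit 309929139664899) .leaf))))))))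
def t1_29 : BT := (.node (.node (.node (.node (.node (.node (.node (.node (.node .leaf (nat_lit 309929147713665) .leaf) (nat_lit 309931282872321) (.node .leaf (nat_lit 309931286980611) .leaf)) (nat_lit 309931299391619) (.node (.node .leaf (nat_lit 309931303999617) .leaf) (nat_lit 309933438402561) .leaf)) (nat_lit 309933443043459) (.node (.node (.node .leaf (nat_lit 309933447004161) .leaf) (nat_lit 309933451350147) .leaf) (nat_lit 309935594317955) (.node (.node .leaf (nat_lit 309935598893057) .leaf) (nat_lit 309935603161217) .leaf))) (nat_lit 309935606941699) (.node (.node (.node (.node .leaf (nat_lit 309939880937603) .leaf) (nat_lit 309939885545473) .leaf) (nat_lit 309939897843715) (.node (.node .leaf (nat_lit 309939902189697) .leaf) (nat_lit 310062279196673) .leaf)) (nat_lit 310062283530243) (.node (.node (.node .leaf (nat_lit 310062295851009) .leaf) (nat_lit 310062300430339) .leaf) (nat_lit 310066574163969) (.node (.node .leaf (nat_lit 310066578497539) .leaf) (nat_lit 310066582737027) .leaf)))) (nat_lit 310066586808449) (.node (.node (.node (.node (.node .leaf (nat_lit 310068730384513) .leaf) (nat_lit 310068734193795)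 .leaf) (nat_lit 310068738564225) (.node (.node .leaf (nat_lit 310068742619267) .leaf) (nat_lit 310070869393409) .leaf)) (nat_lit 310070873202819) (.node (.node (.node .leaf (nat_lit 310070885883907) .leaf) (nat_lit 310070890201217) .leaf) (nat_lit 310073033629827) (.node (.node .leaf (nat_lit 310073037422593) .leaf) (nat_lit 310073041744001) .leaf))) (nat_lit 310073046323203) (.node (.node (.node (.node .leaf (nat_lit 310075164360705) .leaf) (nat_lit 310075168170115) .leaf) (nat_lit 310075189325955) (.node (.node .leaf (nat_lit 310075193643009) .leaf) (nat_lit 310199726889088) .leaf)) (nat_lit 310199730696194) (.node (.node (.node .leaf (nat_lit 310199743543424) .leaf) (nat_lit 310199747596290) .leaf) (nat_lit 310204029861890) (.node (.node .leaf (nat_lit 310204034197632) .leaf) (nat_lit 310204038502400) .leaf))))) (nat_lit 310204042571906) (.node (.node (.node (.node (.node (.node .leaf (nat_lit 310206169081856) .leaf) (nat_lit 310206173397122) (.node .leaf (nat_lit 310206177253376) .leaf)) (nat_lit 310206181847170) (.node (.node .leaf (nat_lit 310208316641282) .leaf) (nat_lit 310208320714752) .leaf)) (nat_lit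 310208333199488) (.node (.node (.node .leaf (nat_lit 310208337776770) .leaf) (nat_lit 310210455853184) .leaf) (nat_lit 310210459660418) (.node (.node .leaf (nat_lit 310210463858690) .leaf) (nat_lit 310210468456448) .leaf))) (nat_lit 310212603174914) (.node (.node (.node (.node .leaf (nat_lit 310212607232000) .leaf) (nat_lit 310212628158464) .leaf) (nat_lit 310212632752130) (.node (.node .leaf (nat_lit 310339304591488) .leaf) (nat_lit 310339308920834) .leaf)) (nat_lit 310339321247744) (.node (.node (.node .leaf (nat_lit 310339325823106) .leaf) (nat_lit 310341452304512) .leaf) (nat_lit 310341456109570) (.node (.node .leaf (nat_lit 310341477427200) .leaf) (nat_lit 310341481486466) .leaf)))) (nat_lit 310343616182272) (.node (.node (.node (.node (.node .leaf (nat_lit 310343620757634) .leaf) (nat_lit 310343625078786) .leaf) (nat_lit 310343628867712) (.node (.node .leaf (nat_lit 310345747202050) .leaf) (nat_lit 310345751277568) .leaf)) (nat_lit 310345755443328) (.node (.node (.node .leaf (nat_lit 310345759780994) .leaf) (nat_lit 310347894423554) .leaf) (nat_lit 310347899023360) (.node (.node .leaf (nat_lit 310347911510016)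 .leaf) (nat_lit 310347915560962) .leaf))) (nat_lit 310352197767298) (.node (.node (.node (.node .leaf (nat_lit 310352202358912) .leaf) (nat_lit 310352206444544) .leaf) (nat_lit 310352210495490) (.node (.node .leaf (nat_lit 310476752275457) .leaf) (nat_lit 310476756086787) .leaf)) (nat_lit 310476768927873) (.node (.node (.node .leaf (nat_lit 310476772989059) .leaf) (nat_lit 310478891001857) .leaf) (nat_lit 310478895321091) (.node (.node .leaf (nat_lit 310478916112513) .leaf) (nat_lit 310478920706179) .leaf)))))) (nat_lit 310481038385155) (.node (.node (.node (.node (.node (.node (.node .leaf (nat_lit 310481042970625) .leaf) (nat_lit 310481047218305) (.node .leaf (nat_lit 310481051013251) .leaf)) (nat_lit 310483202990081) (.node (.node .leaf (nat_lit 310483207051395) .leaf) (nat_lit 310483211134979) .leaf)) (nat_lit 310483215454337) (.node (.node (.node .leaf (nat_lit 310485341865985) .leaf) (nat_lit 310485346201731) .leaf) (nat_lit 310485358884995) (.node (.node .leaf (nat_lit 310485362671617) .leaf) (nat_lit 310489636808833) .leaf))) (nat_lit 310489641127939) (.node (.node (.node (.node .leaf (nat_lit 310489645566083)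 .leaf) (nat_lit 310489649377281) .leaf) (nat_lit 310612043487233) (.node (.node .leaf (nat_lit 310612047812611) .leaf) (nat_lit 310612051664897) .leaf)) (nat_lit 310612056252419) (.node (.node (.node .leaf (nat_lit 310614182723585) .leaf) (nat_lit 310614186524675) .leaf) (nat_lit 310614190848003) (.node (.node .leaf (nat_lit 310614195435521) .leaf) (nat_lit 310618477690881) .leaf)))) (nat_lit 310618481491971) (.node (.node (.node (.node (.node .leaf (nat_lit 310618494345345) .leaf) (nat_lit 310618498408579) .leaf) (nat_lit 310622772264961) (.node (.node .leaf (nat_lit 310622776852611) .leaf) (nat_lit 310622797813891) .leaf)) (nat_lit 310622801876993) (.node (.node (.node .leaf (nat_lit 310624936525827) .leaf) (nat_lit 310624941113473) .leaf) (nat_lit 310624945436801) (.node (.node .leaf (nat_lit 310624949237763) .leaf) (nat_lit 310627067232257) .leaf))) (nat_lit 310627071819907) (.node (.node (.node (.node .leaf (nat_lit 310627084304515) .leaf) (nat_lit 310627088367617) .leaf) (nat_lit 310749482709120) (.node (.node .leaf (nat_lit 310749486512130) .leaf) (nat_lit 310749490874496) .leaf)) (nat_lit 310749494935554)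 (.node (.node (.node .leaf (nat_lit 310751638499458) .leaf) (nat_lit 310751642302464) .leaf) (nat_lit 310751646531584) (.node (.node .leaf (nat_lit 310751651121282) .leaf) (nat_lit 310755924852736) .leaf))))) (nat_lit 310755929180290) (.node (.node (.node (.node (.node (.node .leaf (nat_lit 310755941507200) .leaf) (nat_lit 310755946096642) .leaf) (nat_lit 310760211402754) (.node (.node .leaf (nat_lit 310760215730176) .leaf) (nat_lit 310760236843008) .leaf)) (nat_lit 310760240646146) (.node (.node (.node .leaf (nat_lit 310762358753408) .leaf) (nat_lit 310762363338882) .leaf) (nat_lit 310762367563906) (.node (.node .leaf (nat_lit 310762371362944) .leaf) (nat_lit 310764514814082) .leaf))) (nat_lit 310764519137408) (.node (.node (.node (.node .leaf (nat_lit 310764531818624) .leaf) (nat_lit 310764535621762) .leaf) (nat_lit 310886929672194) (.node (.node .leaf (nat_lit 310886934001792) .leaf) (nat_lit 310886938296448) .leaf)) (nat_lit 310886942363650) (.node (.node (.node .leaf (nat_lit 310889060532226) .leaf) (nat_lit 310889064599680) .leaf) (nat_lit 310889085923458) (.node (.node .leaf (nat_lit 310889089720320) .leaf)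 (nat_lit 310891207753730) .leaf)))) (nat_lit 310891212345472) (.node (.node (.node (.node (.node .leaf (nat_lit 310891224672258) .leaf) (nat_lit 310891229001856) .leaf) (nat_lit 310895511136384) (.node (.node .leaf (nat_lit 310895515728002) .leaf) (nat_lit 310895519803394) .leaf)) (nat_lit 310895523870720) (.node (.node (.node .leaf (nat_lit 310899797733504) .leaf) (nat_lit 310899802316930) .leaf) (nat_lit 310899814803458) (.node (.node .leaf (nat_lit 310899818870784) .leaf) (nat_lit 310901945512064) .leaf))) (nat_lit 310901949571202) (.node (.node (.node (.node .leaf (nat_lit 310901953681538) .leaf) (nat_lit 310901958002816) .leaf) (nat_lit 311024351873025) (.node (.node .leaf (nat_lit 311024356200451) .leaf) (nat_lit 311024360450051) .leaf)) (nat_lit 311024364515329) (.node (.node (.node .leaf (nat_lit 311026499231747) .leaf) (nat_lit 311026503825409) .leaf) (nat_lit 311026524606595) (.node (.node .leaf (nat_lit 311026528929921) .leaf) (nat_lit 311028655442051) .leaf))))))) (nat_lit 311028659507329) (.node (.node (.node (.node (.node (.node (.node (.node .leaf (nat_lit 311028672356483) .leaf) (nat_lit 311028676163713)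 (.node .leaf (nat_lit 311032950171651) .leaf)) (nat_lit 311032954499201) (.node (.node .leaf (nat_lit 311032958935041) .leaf) (nat_lit 311032962742403) .leaf)) (nat_lit 311037245163651) (.node (.node (.node .leaf (nat_lit 311037249490945) .leaf) (nat_lit 311037262174337) .leaf) (nat_lit 311037265969155) (.node (.node .leaf (nat_lit 311039401224323) .leaf) (nat_lit 311039405289473) .leaf))) (nat_lit 311039409424385) (.node (.node (.node (.node .leaf (nat_lit 311039413751939) .leaf) (nat_lit 311161807577090) .leaf) (nat_lit 311161811912832) (.node (.node .leaf (nat_lit 311161816199296) .leaf) (nat_lit 311161820272642) .leaf)) (nat_lit 311163938390144) (.node (.node (.node .leaf (nat_lit 311163942709250) .leaf) (nat_lit 311163955388546) .leaf) (nat_lit 311163959199744) (.node (.node .leaf (nat_lit 311168233570306) .leaf) (nat_lit 311168237398144) .leaf)))) (nat_lit 311168258453632) (.node (.node (.node (.node (.node .leaf (nat_lit 311168262789122) .leaf) (nat_lit 311172536897664) .leaf) (nat_lit 311172540725378) (.node (.node .leaf (nat_lit 311172553551872) .leaf) (nat_lit 311172557625346) .leaf)) (nat_lit 311174675955714)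 (.node (.node (.node .leaf (nat_lit 311174679783424) .leaf) (nat_lit 311174701084802) .leaf) (nat_lit 311174705125504) (.node (.node .leaf (nat_lit 311176823423104) .leaf) (nat_lit 311176827480194) .leaf))) (nat_lit 311176831586434) (.node (.node (.node (.node .leaf (nat_lit 311176835905664) .leaf) (nat_lit 311299229779969) .leaf) (nat_lit 311299234129923) (.node (.node .leaf (nat_lit 311299238334467) .leaf) (nat_lit 311299242422273) .leaf)) (nat_lit 311301385486339) (.node (.node (.node .leaf (nat_lit 311301390098433) .leaf) (nat_lit 311301402585217) .leaf) (nat_lit 311301406623875) (.node (.node .leaf (nat_lit 311305672439809) .leaf) (nat_lit 311305676511235) .leaf))))) (nat_lit 311305697230851) (.node (.node (.node (.node (.node (.node .leaf (nat_lit 311305701842945) .leaf) (nat_lit 311309967284225) (.node .leaf (nat_lit 311309971601539) .leaf)) (nat_lit 311309983938689) (.node (.node .leaf (nat_lit 311309988501507) .leaf) (nat_lit 311312114655235) .leaf)) (nat_lit 311312118988929) (.node (.node (.node .leaf (nat_lit 311312139767939) .leaf) (nat_lit 311312144347137) .leaf) (nat_lit 311314279108739) (.node (.node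 .leaf (nat_lit 311314283196417) .leaf) (nat_lit 311314287331329) .leaf))) (nat_lit 311314291681411) (.node (.node (.node (.node .leaf (nat_lit 311436677283843) .leaf) (nat_lit 311436681377793) .leaf) (nat_lit 311436693862401) (.node (.node .leaf (nat_lit 311436698419203) .leaf) (nat_lit 311438816542721) .leaf)) (nat_lit 311438820374531) (.node (.node (.node .leaf (nat_lit 311438824439811) .leaf) (nat_lit 311438829058049) .leaf) (nat_lit 311440963534849) (.node (.node .leaf (nat_lit 311440968153091) .leaf) (nat_lit 311440989071491) .leaf)))) (nat_lit 311440993144961) (.node (.node (.node (.node (.node .leaf (nat_lit 311445258993665) .leaf) (nat_lit 311445262825603) .leaf) (nat_lit 311445275650049) (.node (.node .leaf (nat_lit 311445279723651) .leaf) (nat_lit 311449570375683) .leaf)) (nat_lit 311449574932609) (.node (.node (.node .leaf (nat_lit 311449579059329) .leaf) (nat_lit 311449582829571) .leaf) (nat_lit 311451701399555) (.node (.node .leaf (nat_lit 311451705190529) .leaf) (nat_lit 311451726489603) .leaf))) (nat_lit 311451730563201) (.node (.node (.node (.node .leaf (nat_lit 311574107969664) .leaf) (nat_lit 311574111758338)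 .leaf) (nat_lit 311574124439554) (.node (.node .leaf (nat_lit 311574128777344) .leaf) (nat_lit 311576272255106) .leaf)) (nat_lit 311576276060160) (.node (.node (.node .leaf (nat_lit 311576280215552) .leaf) (nat_lit 311576284807298) .leaf) (nat_lit 311578402660354) (.node (.node .leaf (nat_lit 311578406998144) .leaf) (nat_lit 311578428112896) .leaf)))))) (nat_lit 311578431942786) (.node (.node (.node (.node (.node (.node (.node .leaf (nat_lit 311582706026624) .leaf) (nat_lit 311582710347906) (.node .leaf (nat_lit 311582722678912) .leaf)) (nat_lit 311582727245954) (.node (.node .leaf (nat_lit 311586992502912) .leaf) (nat_lit 311586997094530) .leaf)) (nat_lit 311587001249922) (.node (.node (.node .leaf (nat_lit 311587005055104) .leaf) (nat_lit 311589140099074) .leaf) (nat_lit 311589144395776) (.node (.node .leaf (nat_lit 311589165172738) .leaf) (nat_lit 311589169788928) .leaf))) (nat_lit 311711555369088) (.node (.node (.node (.node .leaf (nat_lit 311711559184386) .leaf) (nat_lit 311711563390978) .leaf) (nat_lit 311711567734912) (.node (.node .leaf (nat_lit 311715841572866) .leaf) (nat_lit 311715845916800) .leaf)) (nat_lit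 311715858661504) (.node (.node (.node .leaf (nat_lit 311715862448130) .leaf) (nat_lit 311717989416962) .leaf) (nat_lit 311717993236608) (.node (.node .leaf (nat_lit 311717997328384) .leaf) (nat_lit 311718001930370) .leaf)))) (nat_lit 311720153366656) (.node (.node (.node (.node (.node .leaf (nat_lit 311720157677698) .leaf) (nat_lit 311720161933314) .leaf) (nat_lit 311720165978112) (.node (.node .leaf (nat_lit 311722292467714) .leaf) (nat_lit 311722296774656) .leaf)) (nat_lit 311722300776578) (.node (.node (.node .leaf (nat_lit 311722305382528) .leaf) (nat_lit 311724440008704) .leaf) (nat_lit 311724444348418) (.node (.node .leaf (nat_lit 311724456646656) .leaf) (nat_lit 311724461248514) .leaf))) (nat_lit 311848994158595) (.node (.node (.node (.node .leaf (nat_lit 311848998238209) .leaf) (nat_lit 311849002248193) .leaf) (nat_lit 311849006852099) (.node (.node .leaf (nat_lit 311853288910977) .leaf) (nat_lit 311853293482115) .leaf)) (nat_lit 311853305903235) (.node (.node (.node .leaf (nat_lit 311853309982849) .leaf) (nat_lit 311855445121153) .leaf) (nat_lit 311855448938627) (.node (.node .leaf (nat_lit 311855453087747)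 .leaf) (nat_lit 311855457691649) .leaf))))) (nat_lit 311857575501827) (.node (.node (.node (.node (.node (.node .leaf (nat_lit 311857579843713) .leaf) (nat_lit 311857584115713) .leaf) (nat_lit 311857588195459) (.node (.node .leaf (nat_lit 311859731687427) .leaf) (nat_lit 311859735472257) .leaf)) (nat_lit 311859739988099) (.node (.node (.node .leaf (nat_lit 311859744067585) .leaf) (nat_lit 311861870782465) .leaf) (nat_lit 311861874567299) (.node (.node .leaf (nat_lit 311861887420417) .leaf) (nat_lit 311861891467395) .leaf))) (nat_lit 311988580669441) (.node (.node (.node (.node .leaf (nat_lit 311988584448003) .leaf) (nat_lit 311988588894339) .leaf) (nat_lit 311988593197185) (.node (.node .leaf (nat_lit 311990736443395) .leaf) (nat_lit 311990740484097) .leaf)) (nat_lit 311990744739969) (.node (.node (.node .leaf (nat_lit 311990749046915) .leaf) (nat_lit 311992875362435) .leaf) (nat_lit 311992879706241) (.node (.node .leaf (nat_lit 311992892452865) .leaf) (nat_lit 311992896235523) .leaf)))) (nat_lit 311995023022081) (.node (.node (.node (.node (.node .leaf (nat_lit 311995027062915) .leaf) (nat_lit 311995031595009)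 .leaf) (nat_lit 311995035414659) (.node (.node .leaf (nat_lit 311997161799681) .leaf) (nat_lit 311997166409859) .leaf)) (nat_lit 311997170690051) (.node (.node (.node .leaf (nat_lit 311997174509697) .leaf) (nat_lit 312001457057795) .leaf) (nat_lit 312001461102721) (.node (.node .leaf (nat_lit 312001473960067) .leaf) (nat_lit 312001477738497) .leaf))) (nat_lit 312126019520514) (.node (.node (.node (.node .leaf (nat_lit 312126023571584) .leaf) (nat_lit 312126027677696) .leaf) (nat_lit 312126032253058) (.node (.node .leaf (nat_lit 312128158587008) .leaf) (nat_lit 312128162629634) .leaf)) (nat_lit 312128166951042) (.node (.node (.node .leaf (nat_lit 312128171255808) .leaf) (nat_lit 312130305902720) .leaf) (nat_lit 312130310477826) (.node (.node .leaf (nat_lit 312130322897026) .leaf) (nat_lit 312130326972416) .leaf))))))))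
def t1_30 : BT := (.node (.node (.node (.node (.node (.node (.node (.node (.node .leaf (nat_lit 312132466290818) .leaf) (nat_lit 312132470280320) (.node .leaf (nat_lit 312132474617986) .leaf)) (nat_lit 312134617593986) (.node (.node .leaf (nat_lit 312134622161024) .leaf) (nat_lit 312134626400256) .leaf)) (nat_lit 312134630180866) (.node (.node (.node .leaf (nat_lit 312138904184962) .leaf) (nat_lit 312138908792960) .leaf) (nat_lit 312138921082882) (.node (.node .leaf (nat_lit 312138925428736) .leaf) (nat_lit 312261310824449) .leaf))) (nat_lit 312261315260419) (.node (.node (.node (.node .leaf (nat_lit 312261327454209) .leaf) (nat_lit 312261332152323) .leaf) (nat_lit 312265614180355) (.node (.node .leaf (nat_lit 312265618616321) .leaf) (nat_lit 312265622683777) .leaf)) (nat_lit 312265626857603) (.node (.node (.node .leaf (nat_lit 312267753472131) .leaf) (nat_lit 312267757514881) .leaf) (nat_lit 312267761926275) (.node (.node .leaf (nat_lit 312267765837953) .leaf) (nat_lit 312269900759041) .leaf)))) (nat_lit 312269905195139) (.node (.node (.node (.node (.node .leaf (nat_lit 312269917847555) .leaf) (nat_lit 312269921628289)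 .leaf) (nat_lit 312272056631427) (.node (.node .leaf (nat_lit 312272061067265) .leaf) (nat_lit 312272065134721) .leaf)) (nat_lit 312272069308419) (.node (.node (.node .leaf (nat_lit 312274195988609) .leaf) (nat_lit 312274199900163) .leaf) (nat_lit 312274204114947) (.node (.node .leaf (nat_lit 312274208551041) .leaf) (nat_lit 312398749712386) .leaf))) (nat_lit 312398754281600) (.node (.node (.node (.node .leaf (nat_lit 312398766604290) .leaf) (nat_lit 312398770911360) .leaf) (nat_lit 312403036416128) (.node (.node .leaf (nat_lit 312403040702466) .leaf) (nat_lit 312403044950146) .leaf)) (nat_lit 312403048978432) (.node (.node (.node .leaf (nat_lit 312405184166016) .leaf) (nat_lit 312405187919874) .leaf) (nat_lit 312405209135232) (.node (.node .leaf (nat_lit 312405213282306) .leaf) (nat_lit 312407339960448) .leaf))))) (nat_lit 312407343870082) (.node (.node (.node (.node (.node (.node .leaf (nat_lit 312407356555266) .leaf) (nat_lit 312407360862208) (.node .leaf (nat_lit 312409478879360) .leaf)) (nat_lit 312409483174018) (.node (.node .leaf (nat_lit 312409487380482) .leaf) (nat_lit 312409491417088) .leaf)) (nat_lit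 312411626367104) (.node (.node (.node .leaf (nat_lit 312411630653570) .leaf) (nat_lit 312411651793026) .leaf) (nat_lit 312411655559296) (.node (.node .leaf (nat_lit 312538336219264) .leaf) (nat_lit 312538340651010) .leaf))) (nat_lit 312538352850944) (.node (.node (.node (.node .leaf (nat_lit 312538357545090) .leaf) (nat_lit 312540475457538) .leaf) (nat_lit 312540479561856) (.node (.node .leaf (nat_lit 312540500822146) .leaf) (nat_lit 312540504532992) .leaf)) (nat_lit 312542622679042) (.node (.node (.node .leaf (nat_lit 312542627307648) .leaf) (nat_lit 312542631481344) .leaf) (nat_lit 312542635323522) (.node (.node .leaf (nat_lit 312544770195458) .leaf) (nat_lit 312544774758400) .leaf)))) (nat_lit 312544778997888) (.node (.node (.node (.node (.node .leaf (nat_lit 312544782774402) .leaf) (nat_lit 312546926280706) .leaf) (nat_lit 312546930450432) (.node (.node .leaf (nat_lit 312546942851072) .leaf) (nat_lit 312546947414018) .leaf)) (nat_lit 312551212679170) (.node (.node (.node .leaf (nat_lit 312551217176576) .leaf) (nat_lit 312551238113408) .leaf) (nat_lit 312551242086530) (.node (.node .leaf (nat_lit 312675775102979)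 .leaf) (nat_lit 312675779667969) .leaf))) (nat_lit 312675791997059) (.node (.node (.node (.node .leaf (nat_lit 312675796295809) .leaf) (nat_lit 312677922957441) .leaf) (nat_lit 312677926781059) (.node (.node .leaf (nat_lit 312677931278337) .leaf) (nat_lit 312677935237123) .leaf)) (nat_lit 312680078504065) (.node (.node (.node .leaf (nat_lit 312680082987139) .leaf) (nat_lit 312680087267331) .leaf) (nat_lit 312680090959873) (.node (.node .leaf (nat_lit 312682225860609) .leaf) (nat_lit 312682230556803) .leaf)))))) (nat_lit 312682234664963) (.node (.node (.node (.node (.node (.node (.node .leaf (nat_lit 312682238570625) .leaf) (nat_lit 312684364955651) (.node .leaf (nat_lit 312684369651841) .leaf)) (nat_lit 312684382081153) (.node (.node .leaf (nat_lit 312684386121731) .leaf) (nat_lit 312688660226179) .leaf)) (nat_lit 312688664315905) (.node (.node (.node .leaf (nat_lit 312688668356737) .leaf) (nat_lit 312688672970755) .leaf) (nat_lit 312811066574850) (.node (.node .leaf (nat_lit 312811071133824) .leaf) (nat_lit 312811075026946) .leaf))) (nat_lit 312811079454848) (.node (.node (.node (.node .leaf (nat_lit 312813222805634)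 .leaf) (nat_lit 312813226643456) .leaf) (nat_lit 312813230794752) (.node (.node .leaf (nat_lit 312813235419266) .leaf) (nat_lit 312817509394432) .leaf)) (nat_lit 312817513232514) (.node (.node (.node .leaf (nat_lit 312817526024320) .leaf) (nat_lit 312817530124290) .leaf) (nat_lit 312821803968640) (.node (.node .leaf (nat_lit 312821808593026) .leaf) (nat_lit 312821812609154) .leaf)))) (nat_lit 312821816709248) (.node (.node (.node (.node (.node .leaf (nat_lit 312823960059906) .leaf) (nat_lit 312823964225536) .leaf) (nat_lit 312823968311296) (.node (.node .leaf (nat_lit 312823972739074) .leaf) (nat_lit 312826099197952) .leaf)) (nat_lit 312826103298050) (.node (.node (.node .leaf (nat_lit 312826115753986) .leaf) (nat_lit 312826120247296) .leaf) (nat_lit 312948497254401) (.node (.node .leaf (nat_lit 312948501549059) .leaf) (nat_lit 312948522221569) .leaf))) (nat_lit 312948526913539) (.node (.node (.node (.node .leaf (nat_lit 312950645037057) .leaf) (nat_lit 312950648733699) .leaf) (nat_lit 312950653057027) (.node (.node .leaf (nat_lit 312950657540097) .leaf) (nat_lit 312954948278403) .leaf)) (nat_lit 312954952237185)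 (.node (.node (.node .leaf (nat_lit 312954965170179) .leaf) (nat_lit 312954968866817) .leaf) (nat_lit 312959234856961) (.node (.node .leaf (nat_lit 312959238815875) .leaf) (nat_lit 312959259768963) .leaf))))) (nat_lit 312959264251905) (.node (.node (.node (.node (.node (.node .leaf (nat_lit 312961382311937) .leaf) (nat_lit 312961386344579) .leaf) (nat_lit 312961390545027) (.node (.node .leaf (nat_lit 312961394839553) .leaf) (nat_lit 312963537875073) .leaf)) (nat_lit 312963542493187) (.node (.node (.node .leaf (nat_lit 312963554990083) .leaf) (nat_lit 312963558948993) .leaf) (nat_lit 313085936205825) (.node (.node .leaf (nat_lit 313085940498435) .leaf) (nat_lit 313085944756227) .leaf))) (nat_lit 313085948786689) (.node (.node (.node (.node .leaf (nat_lit 313088083984385) .leaf) (nat_lit 313088087687171) .leaf) (nat_lit 313088108953729) (.node (.node .leaf (nat_lit 313088113049731) .leaf) (nat_lit 313090239494275) .leaf)) (nat_lit 313090243983489) (.node (.node (.node .leaf (nat_lit 313090256384131) .leaf) (nat_lit 313090260611201) .leaf) (nat_lit 313094525943809) (.node (.node .leaf (nat_lit 313094530629763) .leaf)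 (nat_lit 313094551384067) .leaf)))) (nat_lit 313094555545729) (.node (.node (.node (.node (.node .leaf (nat_lit 313098829678721) .leaf) (nat_lit 313098833643523) .leaf) (nat_lit 313098846122115) (.node (.node .leaf (nat_lit 313098850742273) .leaf) (nat_lit 313100968394753) .leaf)) (nat_lit 313100973080707) (.node (.node (.node .leaf (nat_lit 313100977207427) .leaf) (nat_lit 313100981106689) .leaf) (nat_lit 313223391889410) (.node (.node .leaf (nat_lit 313223396311168) .leaf) (nat_lit 313223400405120) .leaf))) (nat_lit 313223404564482) (.node (.node (.node (.node .leaf (nat_lit 313225531217922) .leaf) (nat_lit 313225535180928) .leaf) (nat_lit 313225539672194) (.node (.node .leaf (nat_lit 313225543503872) .leaf) (nat_lit 313227678502912) .leaf)) (nat_lit 313227682863234) (.node (.node (.node .leaf (nat_lit 313227695134720) .leaf) (nat_lit 313227699753090) .leaf) (nat_lit 313231973625984) (.node (.node .leaf (nat_lit 313231977658498) .leaf) (nat_lit 313231981742082) .leaf))))))) (nat_lit 313231986294784) (.node (.node (.node (.node (.node (.node (.node (.node .leaf (nat_lit 313236268355584) .leaf) (nat_lit 313236272846850)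 (.node .leaf (nat_lit 313236285350018) .leaf)) (nat_lit 313236289448064) (.node (.node .leaf (nat_lit 313238424205442) .leaf) (nat_lit 313238428758144) .leaf)) (nat_lit 313238432991360) (.node (.node (.node .leaf (nat_lit 313238436757634) .leaf) (nat_lit 313360831086595) .leaf) (nat_lit 313360835016705) (.node (.node .leaf (nat_lit 313360839081985) .leaf) (nat_lit 313360843798531) .leaf))) (nat_lit 313362961481731) (.node (.node (.node (.node .leaf (nat_lit 313362966034433) .leaf) (nat_lit 313362978455681) .leaf) (nat_lit 313362982615171) (.node (.node .leaf (nat_lit 313367256367105) .leaf) (nat_lit 313367261083651) .leaf)) (nat_lit 313367281811459) (.node (.node (.node .leaf (nat_lit 313367285970945) .leaf) (nat_lit 313371559723011) .leaf) (nat_lit 313371564439681) (.node (.node .leaf (nat_lit 313371576647811) .leaf) (nat_lit 313371581069313) .leaf)))) (nat_lit 313373707403395) (.node (.node (.node (.node (.node .leaf (nat_lit 313373711726593) .leaf) (nat_lit 313373715595267) .leaf) (nat_lit 313373720311937) (.node (.node .leaf (nat_lit 313375863406723) .leaf) (nat_lit 313375867467777) .leaf)) (nat_lit 313375871664129)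 (.node (.node (.node .leaf (nat_lit 313375875987587) .leaf) (nat_lit 313498253346944) .leaf) (nat_lit 313498257111042) (.node (.node .leaf (nat_lit 313498261340162) .leaf) (nat_lit 313498265890944) .leaf))) (nat_lit 313500400685058) (.node (.node (.node (.node .leaf (nat_lit 313500404736128) .leaf) (nat_lit 313500417136640) .leaf) (nat_lit 313500421843074) (.node (.node .leaf (nat_lit 313504704051200) .leaf) (nat_lit 313504708085890) .leaf)) (nat_lit 313504712192130) (.node (.node (.node .leaf (nat_lit 313504716718080) .leaf) (nat_lit 313508998895744) .leaf) (nat_lit 313509003176066) (.node (.node .leaf (nat_lit 313509015525376) .leaf) (nat_lit 313509020100610) .leaf))))) (nat_lit 313511137847424) (.node (.node (.node (.node (.node (.node .leaf (nat_lit 313511142414466) .leaf) (nat_lit 313511163078656) (.node .leaf (nat_lit 313511167514626) .leaf)) (nat_lit 313513285531776) (.node (.node .leaf (nat_lit 313513289697410) .leaf) (nat_lit 313513293787266) .leaf)) (nat_lit 313513298215040) (.node (.node (.node .leaf (nat_lit 313635700609152) .leaf) (nat_lit 313635704535042) .leaf) (nat_lit 313635717187586) (.node (.node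 .leaf (nat_lit 313635721502848) .leaf) (nat_lit 313637839458432) .leaf))) (nat_lit 313637843875842) (.node (.node (.node (.node .leaf (nat_lit 313637847973890) .leaf) (nat_lit 313637852129408) .leaf) (nat_lit 313639987216386) (.node (.node .leaf (nat_lit 313639991076992) .leaf) (nat_lit 313640012142592) .leaf)) (nat_lit 313640016490626) (.node (.node (.node .leaf (nat_lit 313644281823234) .leaf) (nat_lit 313644286404608) .leaf) (nat_lit 313644298749954) (.node (.node .leaf (nat_lit 313644303032320) .leaf) (nat_lit 313648576778368) .leaf)))) (nat_lit 313648581392514) (.node (.node (.node (.node (.node .leaf (nat_lit 313648585556098) .leaf) (nat_lit 313648589383808) .leaf) (nat_lit 313650732843138) (.node (.node .leaf (nat_lit 313650737064064) .leaf) (nat_lit 313650741037186) .leaf)) (nat_lit 313650745647232) (.node (.node (.node .leaf (nat_lit 313773139314689) .leaf) (nat_lit 313773143730179) .leaf) (nat_lit 313773156423683) (.node (.node .leaf (nat_lit 313773160183809) .leaf) (nat_lit 313775295236227) .leaf))) (nat_lit 313775299553409) (.node (.node (.node (.node .leaf (nat_lit 313775303757953) .leaf) (nat_lit 313775307812995)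 .leaf) (nat_lit 313777434374275) (.node (.node .leaf (nat_lit 313777438609537) .leaf) (nat_lit 313777443037185) .leaf)) (nat_lit 313777446715395) (.node (.node (.node .leaf (nat_lit 313781720860673) .leaf) (nat_lit 313781725276291) .leaf) (nat_lit 313781737488385) (.node (.node .leaf (nat_lit 313781742198915) .leaf) (nat_lit 313786032584707) .leaf)))))) (nat_lit 313786037049473) (.node (.node (.node (.node (.node (.node (.node .leaf (nat_lit 313786041360513) .leaf) (nat_lit 313786045038595) (.node .leaf (nat_lit 313788163291137) .leaf)) (nat_lit 313788167755907) (.node (.node .leaf (nat_lit 313788188520449) .leaf) (nat_lit 313788192854147) .leaf)) (nat_lit 313910578202626) (.node (.node (.node .leaf (nat_lit 313910582743168) .leaf) (nat_lit 313910586843264) .leaf) (nat_lit 313910590896130) (.node (.node .leaf (nat_lit 313914864787584) .leaf) (nat_lit 313914869331970) .leaf))) (nat_lit 313914881753090) (.node (.node (.node (.node .leaf (nat_lit 313914885904512) .leaf) (nat_lit 313917012410370) .leaf) (nat_lit 313917016660096) (.node (.node .leaf (nat_lit 313917020940288) .leaf) (nat_lit 313917024923778) .leaf)) (nat_lit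 313919159795714) (.node (.node (.node .leaf (nat_lit 313919164241920) .leaf) (nat_lit 313919168325760) .leaf) (nat_lit 313919172505730) (.node (.node .leaf (nat_lit 313921307639810) .leaf) (nat_lit 313921311365120) .leaf)))) (nat_lit 313921332611202) (.node (.node (.node (.node (.node .leaf (nat_lit 313921336725632) .leaf) (nat_lit 313923463366786) .leaf) (nat_lit 313923467382912) (.node (.node .leaf (nat_lit 313923480258690) .leaf) (nat_lit 313923484045440) .leaf)) (nat_lit 314048008970243) (.node (.node (.node .leaf (nat_lit 314048013119489) .leaf) (nat_lit 314048033849345) .leaf) (nat_lit 314048038555651) (.node (.node .leaf (nat_lit 314052303988737) .leaf) (nat_lit 314052308039683) .leaf))) (nat_lit 314052320428035) (.node (.node (.node (.node .leaf (nat_lit 314052325134337) .leaf) (nat_lit 314054468106369) .leaf) (nat_lit 314054472444035) (.node (.node .leaf (nat_lit 314054476617731) .leaf) (nat_lit 314054480693249) .leaf)) (nat_lit 314056615593985) (.node (.node (.node .leaf (nat_lit 314056619907203) .leaf) (nat_lit 314056624121859) .leaf) (nat_lit 314056628172929) (.node (.node .leaf (nat_lit 314058754854913)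 .leaf) (nat_lit 314058758832259) .leaf))))) (nat_lit 314058763311233) (.node (.node (.node (.node (.node (.node .leaf (nat_lit 314058767157251) .leaf) (nat_lit 314060902375553) .leaf) (nat_lit 314060906295299) (.node (.node .leaf (nat_lit 314060919038081) .leaf) (nat_lit 314060923187203) .leaf)) (nat_lit 314187603556355) (.node (.node (.node .leaf (nat_lit 314187608190977) .leaf) (nat_lit 314187612211329) .leaf) (nat_lit 314187616288899) (.node (.node .leaf (nat_lit 314189759428611) .leaf) (nat_lit 314189764063233) .leaf))) (nat_lit 314189768196225) (.node (.node (.node (.node .leaf (nat_lit 314189772048515) .leaf) (nat_lit 314191898560641) .leaf) (nat_lit 314191903096963) (.node (.node .leaf (nat_lit 314191915544579) .leaf) (nat_lit 314191919691777) .leaf)) (nat_lit 314194037571585) (.node (.node (.node .leaf (nat_lit 314194042275971) .leaf) (nat_lit 314194062934017) .leaf) (nat_lit 314194067245187) (.node (.node .leaf (nat_lit 314196201879683) .leaf) (nat_lit 314196206514177) .leaf)))) (nat_lit 314196210647169) (.node (.node (.node (.node (.node .leaf (nat_lit 314196214499331) .leaf) (nat_lit 314200480219137)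 .leaf) (nat_lit 314200484530307) (.node (.node .leaf (nat_lit 314200496883841) .leaf) (nat_lit 314200501420035) .leaf)) (nat_lit 314325034438658) (.node (.node (.node .leaf (nat_lit 314325038420096) .leaf) (nat_lit 314325059364864) .leaf) (nat_lit 314325063837826) (.node (.node .leaf (nat_lit 314327181678720) .leaf) (nat_lit 314327186151426) .leaf))) (nat_lit 314327190464642) (.node (.node (.node (.node .leaf (nat_lit 314327194150912) .leaf) (nat_lit 314329337757696) .leaf) (nat_lit 314329341804674) (.node (.node .leaf (nat_lit 314329354219522) .leaf) (nat_lit 314329358921856) .leaf)) (nat_lit 314331485046786) (.node (.node (.node .leaf (nat_lit 314331489486848) .leaf) (nat_lit 314331493369858) .leaf) (nat_lit 314331497940992) (.node (.node .leaf (nat_lit 314333624117376) .leaf) (nat_lit 314333628622978) .leaf))))))))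
def t1_31 : BT := (.node (.node (.node (.node (.node (.node (.node (.node (.node .leaf (nat_lit 314333636614144) .leaf) (nat_lit 314337919004674) (.node .leaf (nat_lit 314337923674112) .leaf)) (nat_lit 314337935898754) (.node (.node .leaf (nat_lit 314337940338816) .leaf) (nat_lit 314462481862657) .leaf)) (nat_lit 314462485733379) (.node (.node (.node .leaf (nat_lit 314462498500737) .leaf) (nat_lit 314462502617219) .leaf) (nat_lit 314464628985987) (.node (.node .leaf (nat_lit 314464633512065) .leaf) (nat_lit 314464637444099) .leaf))) (nat_lit 314464641830913) (.node (.node (.node (.node .leaf (nat_lit 314466785190019) .leaf) (nat_lit 314466789052545) .leaf) (nat_lit 314466793205761) (.node (.node .leaf (nat_lit 314466797846531) .leaf) (nat_lit 314468932411395) .leaf)) (nat_lit 314468936798337) (.node (.node (.node .leaf (nat_lit 314468940951553) .leaf) (nat_lit 314468945068163) .leaf) (nat_lit 314471071535105) (.node (.node .leaf (nat_lit 314471075930243) .leaf) (nat_lit 314471088599171) .leaf)))) (nat_lit 314471092322305) (.node (.node (.node (.node (.node .leaf (nat_lit 314475366764673) .leaf) (nat_lit 314475370635267)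 .leaf) (nat_lit 314475374862467) (.node (.node .leaf (nat_lit 314475379249153) .leaf) (nat_lit 314599920552064) .leaf)) (nat_lit 314599924953090) (.node (.node (.node .leaf (nat_lit 314599937189888) .leaf) (nat_lit 314599941836930) .leaf) (nat_lit 314602059735042) (.node (.node .leaf (nat_lit 314602063861888) .leaf) (nat_lit 314602085093506) .leaf))) (nat_lit 314602088835072) (.node (.node (.node (.node .leaf (nat_lit 314604206960642) .leaf) (nat_lit 314604211603584) .leaf) (nat_lit 314604215789568) (.node (.node .leaf (nat_lit 314604219650178) .leaf) (nat_lit 314606354710530) .leaf)) (nat_lit 314606358853632) (.node (.node (.node .leaf (nat_lit 314606362990720) .leaf) (nat_lit 314606367383682) .leaf) (nat_lit 314608510369794) (.node (.node .leaf (nat_lit 314608514906112) .leaf) (nat_lit 314608527403008) .leaf))))) (nat_lit 314608531525634) (.node (.node (.node (.node (.node (.node .leaf (nat_lit 314612797173762) .leaf) (nat_lit 314612801292288) (.node .leaf (nat_lit 314612822100096) .leaf)) (nat_lit 314612826763394) (.node (.node .leaf (nat_lit 314735212281984) .leaf) (nat_lit 314735216156674) .leaf)) (nat_lit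 314735228921984) (.node (.node (.node .leaf (nat_lit 314735233042434) .leaf) (nat_lit 314739498713090) .leaf) (nat_lit 314739502850176) (.node (.node .leaf (nat_lit 314739506954240) .leaf) (nat_lit 314739511353474) .leaf))) (nat_lit 314741645934594) (.node (.node (.node (.node .leaf (nat_lit 314741650595968) .leaf) (nat_lit 314741671311362) .leaf) (nat_lit 314741675563136) (.node (.node .leaf (nat_lit 314743802056706) .leaf) (nat_lit 314743806193664) .leaf)) (nat_lit 314743818659968) (.node (.node (.node .leaf (nat_lit 314743823173762) .leaf) (nat_lit 314745940934658) .leaf) (nat_lit 314745945464832) (.node (.node .leaf (nat_lit 314745949765760) .leaf) (nat_lit 314745953509506) .leaf)))) (nat_lit 314748088451074) (.node (.node (.node (.node (.node .leaf (nat_lit 314748092981248) .leaf) (nat_lit 314748113856512) .leaf) (nat_lit 314748117846018) (.node (.node .leaf (nat_lit 314872650979329) .leaf) (nat_lit 314872655376387) .leaf)) (nat_lit 314872667615233) (.node (.node (.node .leaf (nat_lit 314872672262147) .leaf) (nat_lit 314876954335235) .leaf) (nat_lit 314876958732289) (.node (.node .leaf (nat_lit 314876962803841)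 .leaf) (nat_lit 314876966942851) .leaf))) (nat_lit 314879093633155) (.node (.node (.node (.node .leaf (nat_lit 314879097624705) .leaf) (nat_lit 314879102077059) .leaf) (nat_lit 314879105949825) (.node (.node .leaf (nat_lit 314881241225217) .leaf) (nat_lit 314881244967043) .leaf)) (nat_lit 314881257662467) (.node (.node (.node .leaf (nat_lit 314881262043265) .leaf) (nat_lit 314883397068931) .leaf) (nat_lit 314883400794113) (.node (.node .leaf (nat_lit 314883405111425) .leaf) (nat_lit 314883409627139) .leaf)))))) (nat_lit 314885535905921) (.node (.node (.node (.node (.node (.node (.node .leaf (nat_lit 314885540155395) .leaf) (nat_lit 314885544581123) (.node .leaf (nat_lit 314885548322945) .leaf)) (nat_lit 315010098290690) (.node (.node .leaf (nat_lit 315010102685824) .leaf) (nat_lit 315010106824832) .leaf)) (nat_lit 315010110949378) (.node (.node (.node .leaf (nat_lit 315012237613058) .leaf) (nat_lit 315012241606784) .leaf) (nat_lit 315012246069378) (.node (.node .leaf (nat_lit 315012249939968) .leaf) (nat_lit 315014384908288) .leaf))) (nat_lit 315014389295234) (.node (.node (.node (.node .leaf (nat_lit 315014401529856)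 .leaf) (nat_lit 315014406178946) .leaf) (nat_lit 315018679744640) (.node (.node .leaf (nat_lit 315018684393602) .leaf) (nat_lit 315018688356354) .leaf)) (nat_lit 315018692489216) (.node (.node (.node .leaf (nat_lit 315022974973952) .leaf) (nat_lit 315022979098626) .leaf) (nat_lit 315022991505538) (.node (.node .leaf (nat_lit 315022996023424) .leaf) (nat_lit 315025130840194) .leaf)))) (nat_lit 315025134973056) (.node (.node (.node (.node (.node .leaf (nat_lit 315025139046528) .leaf) (nat_lit 315025143433346) .leaf) (nat_lit 315147520581635) (.node (.node .leaf (nat_lit 315147524716545) .leaf) (nat_lit 315147528884225) .leaf)) (nat_lit 315147533273091) (.node (.node (.node .leaf (nat_lit 315149667840003) .leaf) (nat_lit 315149672491009) .leaf) (nat_lit 315149693192323) (.node (.node .leaf (nat_lit 315149697454209) .leaf) (nat_lit 315151824121985) .leaf))) (nat_lit 315151827986563) (.node (.node (.node (.node .leaf (nat_lit 315151840743553) .leaf) (nat_lit 315151844870275) .leaf) (nat_lit 315156110401539) (.node (.node .leaf (nat_lit 315156114798721) .leaf) (nat_lit 315156135866369) .leaf)) (nat_lit 315156139731075)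 (.node (.node (.node .leaf (nat_lit 315160414066819) .leaf) (nat_lit 315160417796097) .leaf) (nat_lit 315160430563457) (.node (.node .leaf (nat_lit 315160434952195) .leaf) (nat_lit 315162552881155) .leaf))))) (nat_lit 315162557270145) (.node (.node (.node (.node (.node (.node .leaf (nat_lit 315162561355905) .leaf) (nat_lit 315162565490691) .leaf) (nat_lit 315284959494145) (.node (.node .leaf (nat_lit 315284963753987) .leaf) (nat_lit 315284984475649) .leaf)) (nat_lit 315284989128707) (.node (.node (.node .leaf (nat_lit 315287107207169) .leaf) (nat_lit 315287110942723) .leaf) (nat_lit 315287115261955) (.node (.node .leaf (nat_lit 315287119783937) .leaf) (nat_lit 315291410458755) .leaf))) (nat_lit 315291414456449) (.node (.node (.node (.node .leaf (nat_lit 315291427340291) .leaf) (nat_lit 315291431075841) .leaf) (nat_lit 315295696683009) (.node (.node .leaf (nat_lit 315295701336195) .leaf) (nat_lit 315295722143875) .leaf)) (nat_lit 315295726272513) (.node (.node (.node .leaf (nat_lit 315297844166657) .leaf) (nat_lit 315297848819843) .leaf) (nat_lit 315297853008003) (.node (.node .leaf (nat_lit 315297856874497) .leaf)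 (nat_lit 315300000422017) .leaf)))) (nat_lit 315300004419587) (.node (.node (.node (.node (.node .leaf (nat_lit 315300016816131) .leaf) (nat_lit 315300021469313) .leaf) (nat_lit 315422407057536) (.node (.node .leaf (nat_lit 315422410926082) .leaf) (nat_lit 315422415376512) .leaf)) (nat_lit 315422419376130) (.node (.node (.node .leaf (nat_lit 315424562561024) .leaf) (nat_lit 315424567085186) .leaf) (nat_lit 315424571367554) (.node (.node .leaf (nat_lit 315424575105024) .leaf) (nat_lit 315428849150082) .leaf))) (nat_lit 315428853669888) (.node (.node (.node (.node .leaf (nat_lit 315428866031618) .leaf) (nat_lit 315428870293632) .leaf) (nat_lit 315433144190978) (.node (.node .leaf (nat_lit 315433148579840) .leaf) (nat_lit 315433152806912) .leaf)) (nat_lit 315433156675586) (.node (.node (.node .leaf (nat_lit 315435300302976) .leaf) (nat_lit 315435304171650) .leaf) (nat_lit 315435308339330) (.node (.node .leaf (nat_lit 315435312994432) .leaf) (nat_lit 315437439395970) .leaf))))))) (nat_lit 315437443260544) (.node (.node (.node (.node (.node (.node (.node (.node .leaf (nat_lit 315437456029824) .leaf) (nat_lit 315437460287618)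 (.node .leaf (nat_lit 315559837679744) .leaf)) (nat_lit 315559841413122) (.node (.node .leaf (nat_lit 315559854104578) .leaf) (nat_lit 315559858477184) .leaf)) (nat_lit 315562001473536) (.node (.node (.node .leaf (nat_lit 315562006141058) .leaf) (nat_lit 315562010226818) .leaf) (nat_lit 315562014099456) (.node (.node .leaf (nat_lit 315564132532226) .leaf) (nat_lit 315564136429696) .leaf))) (nat_lit 315564157497344) (.node (.node (.node (.node .leaf (nat_lit 315564161861762) .leaf) (nat_lit 315568435662976) .leaf) (nat_lit 315568440076418) (.node (.node .leaf (nat_lit 315568452333696) .leaf) (nat_lit 315568456960130) .leaf)) (nat_lit 315572739350656) (.node (.node (.node .leaf (nat_lit 315572743100546) .leaf) (nat_lit 315572747317378) .leaf) (nat_lit 315572751845504) (.node (.node .leaf (nat_lit 315574878048256) .leaf) (nat_lit 315574882592770) .leaf)))) (nat_lit 315574886506496) (.node (.node (.node (.node (.node .leaf (nat_lit 315574890911746) .leaf) (nat_lit 315697276403715) .leaf) (nat_lit 315697280528385) (.node (.node .leaf (nat_lit 315697293027329) .leaf) (nat_lit 315697297528835) .leaf)) (nat_lit 315699424040961)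 (.node (.node (.node .leaf (nat_lit 315699427928067) .leaf) (nat_lit 315699431997443) .leaf) (nat_lit 315699436679169) (.node (.node .leaf (nat_lit 315701579806849) .leaf) (nat_lit 315701583906947) .leaf))) (nat_lit 315701587869699) (.node (.node (.node (.node .leaf (nat_lit 315701592551425) .leaf) (nat_lit 315705874880513) .leaf) (nat_lit 315705878767747) (.node (.node .leaf (nat_lit 315705891551233) .leaf) (nat_lit 315705895651459) .leaf)) (nat_lit 315710161152001) (.node (.node (.node .leaf (nat_lit 315710165653635) .leaf) (nat_lit 315710169903235) .leaf) (nat_lit 315710173609985) (.node (.node .leaf (nat_lit 315712308836353) .leaf) (nat_lit 315712312936579) .leaf))))) (nat_lit 315712334186497) (.node (.node (.node (.node (.node (.node .leaf (nat_lit 315712337918083) .leaf) (nat_lit 315834715361283) (.node .leaf (nat_lit 315834719483905) .leaf)) (nat_lit 315834723651585) (.node (.node .leaf (nat_lit 315834728036355) .leaf) (nat_lit 315836870950915) .leaf)) (nat_lit 315836875630593) (.node (.node (.node .leaf (nat_lit 315836888103041) .leaf) (nat_lit 315836892106883) .leaf) (nat_lit 315841157529601) (.node (.node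 .leaf (nat_lit 315841162209283) .leaf) (nat_lit 315841183016963) .leaf))) (nat_lit 315841187119105) (.node (.node (.node (.node .leaf (nat_lit 315845452726273) .leaf) (nat_lit 315845457012867) .leaf) (nat_lit 315845469399169) (.node (.node .leaf (nat_lit 315845473894403) .leaf) (nat_lit 315847608455297) .leaf)) (nat_lit 315847612971011) (.node (.node (.node .leaf (nat_lit 315847616915457) .leaf) (nat_lit 315847621279875) .leaf) (nat_lit 315849747648515) (.node (.node .leaf (nat_lit 315849752033409) .leaf) (nat_lit 315849756135553) .leaf)))) (nat_lit 315849760258051) (.node (.node (.node (.node (.node .leaf (nat_lit 315972170967042) .leaf) (nat_lit 315972175333504) .leaf) (nat_lit 315972179517568) (.node (.node .leaf (nat_lit 315972183621634) .leaf) (nat_lit 315974310140032) .leaf)) (nat_lit 315974314424322) (.node (.node (.node .leaf (nat_lit 315974327085186) .leaf) (nat_lit 315974330959872) .leaf) (nat_lit 315978605060226) (.node (.node .leaf (nat_lit 315978609426432) .leaf) (nat_lit 315978613653504) .leaf))) (nat_lit 315978617544834) (.node (.node (.node (.node .leaf (nat_lit 315982891944064) .leaf) (nat_lit 315982895704194)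 .leaf) (nat_lit 315982908612608) (.node (.node .leaf (nat_lit 315982912585730) .leaf) (nat_lit 315985039210624) .leaf)) (nat_lit 315985043347586) (.node (.node (.node .leaf (nat_lit 315985064558592) .leaf) (nat_lit 315985068318722) .leaf) (nat_lit 315987203496066) (.node (.node .leaf (nat_lit 315987207649408) .leaf) (nat_lit 315987211718784) .leaf)))))) (nat_lit 315987216134274) (.node (.node (.node (.node (.node (.node (.node .leaf (nat_lit 316111749339137) .leaf) (nat_lit 316111753052163) (.node .leaf (nat_lit 316111757475971) .leaf)) (nat_lit 316111761758337) (.node (.node .leaf (nat_lit 316113888313345) .leaf) (nat_lit 316113892333571) .leaf)) (nat_lit 316113896552579) (.node (.node (.node .leaf (nat_lit 316113900822657) .leaf) (nat_lit 316116035952643) .leaf) (nat_lit 316116039677953) (.node (.node .leaf (nat_lit 316116052369537) .leaf) (nat_lit 316116056750211) .leaf))) (nat_lit 316118183280641) (.node (.node (.node (.node .leaf (nat_lit 316118187300995) .leaf) (nat_lit 316118208526337) .leaf) (nat_lit 316118212403331) (.node (.node .leaf (nat_lit 316120330403841) .leaf) (nat_lit 316120335079555) .leaf)) (nat_lit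 316120339232771) (.node (.node (.node .leaf (nat_lit 316120343109761) .leaf) (nat_lit 316124634241153) .leaf) (nat_lit 316124637954051) (.node (.node .leaf (nat_lit 316124650878977) .leaf) (nat_lit 316124654887043) .leaf)))) (nat_lit 316249179787266) (.node (.node (.node (.node (.node .leaf (nat_lit 316249183797376) .leaf) (nat_lit 316249204670464) .leaf) (nat_lit 316249209180290) (.node (.node .leaf (nat_lit 316251343923328) .leaf) (nat_lit 316251348203522) .leaf)) (nat_lit 316251352406146) (.node (.node (.node .leaf (nat_lit 316251356416000) .leaf) (nat_lit 316253474674816) .leaf) (nat_lit 316253478782978) (.node (.node .leaf (nat_lit 316253491286146) .leaf) (nat_lit 316253495787520) .leaf))) (nat_lit 316255630323840) (.node (.node (.node (.node .leaf (nat_lit 316255634956418) .leaf) (nat_lit 316255638898816) .leaf) (nat_lit 316255643146370) (.node (.node .leaf (nat_lit 316257786550272) .leaf) (nat_lit 316257790396418) .leaf)) (nat_lit 316257794582658) (.node (.node (.node .leaf (nat_lit 316257799223424) .leaf) (nat_lit 316262072926208) .leaf) (nat_lit 316262077173762) (.node (.node .leaf (nat_lit 316262089564288)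 .leaf) (nat_lit 316262094106754) .leaf))))) (nat_lit 316384479717504) (.node (.node (.node (.node (.node (.node .leaf (nat_lit 316384483598338) .leaf) (nat_lit 316384487827458) .leaf) (nat_lit 316384492200064) (.node (.node .leaf (nat_lit 316388774762626) .leaf) (nat_lit 316388778479616) .leaf)) (nat_lit 316388791173120) (.node (.node (.node .leaf (nat_lit 316388795549826) .leaf) (nat_lit 316390930552832) .leaf) (nat_lit 316390934433922) (.node (.node .leaf (nat_lit 316390938521602) .leaf) (nat_lit 316390943193216) .leaf))) (nat_lit 316393077774464) (.node (.node (.node (.node .leaf (nat_lit 316393082179714) .leaf) (nat_lit 316393086267394) .leaf) (nat_lit 316393090414592) (.node (.node .leaf (nat_lit 316395208474626) .leaf) (nat_lit 316395212883968) .leaf)) (nat_lit 316395233587330) (.node (.node (.node .leaf (nat_lit 316395238127744) .leaf) (nat_lit 316397355892738) .leaf) (nat_lit 316397360433152) (.node (.node .leaf (nat_lit 316397372827650) .leaf) (nat_lit 316397377069056) .leaf)))) (nat_lit 316521910136835) (.node (.node (.node (.node (.node .leaf (nat_lit 316521914249217) .leaf) (nat_lit 316521935058945)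 .leaf) (nat_lit 316521939728387) (.node (.node .leaf (nat_lit 316526213492865) .leaf) (nat_lit 316526217605251) .leaf)) (nat_lit 316526230102147) (.node (.node (.node .leaf (nat_lit 316526234607745) .leaf) (nat_lit 316528352344065) .leaf) (nat_lit 316528357013507) (.node (.node .leaf (nat_lit 316528361085059) .leaf) (nat_lit 316528364968065) .leaf))) (nat_lit 316530500093953) (.node (.node (.node (.node .leaf (nat_lit 316530504206467) .leaf) (nat_lit 316530508326915) .leaf) (nat_lit 316530512701569) (.node (.node .leaf (nat_lit 316532656175107) .leaf) (nat_lit 316532659894401) .leaf)) (nat_lit 316532664354947) (.node (.node (.node .leaf (nat_lit 316532668467201) .leaf) (nat_lit 316534795112451) .leaf) (nat_lit 316534799126657) (.node (.node .leaf (nat_lit 316534812047363) .leaf) (nat_lit 316534815766657) .leaf))))))))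

/-- Colour class 1. -/
def tree1 : BT := (.node (.node (.node (.node (.node t1_0 (nat_lit 10737660035) t1_1) (nat_lit 687207350273) (.node t1_2 (nat_lit 1511845347329) t1_3)) (nat_lit 2476057034755) (.node (.node t1_4 (nat_lit 5774613000320) t1_5) (nat_lit 9483292002307) (.node t1_6 (nat_lit 13067455072384) t1_7))) (nat_lit 16368128882688) (.node (.node (.node t1_8 (nat_lit 18429734506626) t1_9) (nat_lit 20630904856704) (.node t1_10 (nat_lit 23776939237378) t1_11)) (nat_lit 25840670834689) (.node (.node t1_12 (nat_lit 28039723667584) t1_13) (nat_lit 30378320558210) (.node t1_14 (nat_lit 32579478904961) t1_15)))) (nat_lit 34643219017728) (.node (.node (.node (.node t1_16 (nat_lit 283126400124929) t1_17) (nat_lit 285334013712386) (.node t1_18 (nat_lit 287533053421568) t1_19)) (nat_lit 289858761363457) (.node (.node t1_20 (nat_lit 292062096285825) t1_21) (nat_lit 294267536881792) (.node t1_22 (nat_lit 296468724795520) t1_23))) (nat_lit 298794432692226) (.node (.node (.node t1_24 (nat_lit 300993481207939) t1_25) (nat_lit 303198929873024) (.node t1_26 (nat_lit 305400117506048) t1_27)) (nat_lit 307725825532032) (.node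 (.node t1_28 (nat_lit 309929143933059) t1_29) (nat_lit 312132461715584) (.node t1_30 (nat_lit 314333632894978) t1_31)))))

end Cfsg.Agent.Lib.Helper18.Tits
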