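/-
helper18: the Tits group, data: kernel checks (the generator P maps the colour classes to colour classes).
-/
import Cfsg.Agent.Lib.Helper18.TitsData.Cls0
import Cfsg.Agent.Lib.Helper18.TitsData.Cls1
import Cfsg.Agent.Lib.Helper18.TitsData.Cols

set_option autoImplicit false
set_option maxRecDepth 1000000

namespace Cfsg.Agent.Lib.Helper18.Tits

theorem mapP0_chk : chkMap tree0 tree0 appP = true := by decide +kernel

theorem mapP1_chk : chkMap tree1 tree1 appP = true := by decide +kernel

end Cfsg.Agent.Lib.Helper18.Tits
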