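/-
helper18: the Tits group, data: kernel checks (bounds and the witness).
-/
import Cfsg.Agent.Lib.Helper18.TitsData.Cls0
import Cfsg.Agent.Lib.Helper18.TitsData.Cls1

set_option autoImplicit false
set_option maxRecDepth 1000000

namespace Cfsg.Agent.Lib.Helper18.Tits

theorem bound0_chk : tree0.all (fun x => Nat.ble x 4503599627370495) = true := by decide +kernel

theorem bound1_chk : tree1.all (fun x => Nat.ble x 4503599627370495) = true := by decide +kernel

theorem one_mem_chk : tree0.mem 1 = true := by decide +kernel

theorem one_not_mem_chk : tree1.all (fun y => !(Nat.beq y 1)) = true := by decide +kernel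

end Cfsg.Agent.Lib.Helper18.Tits
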