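/-
helper18: the Tits group, data: kernel checks (columns of the generators and their tables).
-/
import Cfsg.Agent.Lib.Helper18.TitsData.Cols

set_option autoImplicit false
set_option maxRecDepth 1000000

namespace Cfsg.Agent.Lib.Helper18.Tits

theorem colsP_chk : (List.range 52).map (fun j => appWord [cols33, cols24] (Nat.shiftLeft 1 j)) = colsP := by decide +kernel

theorem tabP0_chk : chkTab colsP tabP0 (7 * 0) = true := by decide +kernel

theorem tabP1_chk : chkTab colsP tabP1 (7 * 1) = true := by decide +kernel

theorem tabP2_chk : chkTab colsP tabP2 (7 * 2) = true := by decide +kernel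

theorem tabP3_chk : chkTab colsP tabP3 (7 * 3) = true := by decide +kernel

theorem tabP4_chk : chkTab colsP tabP4 (7 * 4) = true := by decide +kernel

theorem tabP5_chk : chkTab colsP tabP5 (7 * 5) = true := by decide +kernel

theorem tabP6_chk : chkTab colsP tabP6 (7 * 6) = true := by decide +kernel

theorem tabP7_chk : chkTab colsP tabP7 (7 * 7) = true := by decide +kernel

theorem colsPm_chk : (List.range 52).map (fun j => appWord [cols14, cols23] (Nat.shiftLeft 1 j)) = colsPm := by decide +kernel

theorem tabPm0_chk : chkTab colsPm tabPm0 (7 * 0) = true := by decide +kernel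

theorem tabPm1_chk : chkTab colsPm tabPm1 (7 * 1) = true := by decide +kernel

theorem tabPm2_chk : chkTab colsPm tabPm2 (7 * 2) = true := by decide +kernel

theorem tabPm3_chk : chkTab colsPm tabPm3 (7 * 3) = true := by decide +kernel

theorem tabPm4_chk : chkTab colsPm tabPm4 (7 * 4) = true := by decide +kernel

theorem tabPm5_chk : chkTab colsPm tabPm5 (7 * 5) = true := by decide +kernel

theorem tabPm6_chk : chkTab colsPm tabPm6 (7 * 6) = true := by decide +kernel

theorem tabPm7_chk : chkTab colsPm tabPm7 (7 * 7) = true := by decide +kernel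

theorem colsQ_chk : (List.range 52).map (fun j => appWord [cols27, cols25, cols28] (Nat.shiftLeft 1 j)) = colsQ := by decide +kernel

theorem tabQ0_chk : chkTab colsQ tabQ0 (7 * 0) = true := by decide +kernel

theorem tabQ1_chk : chkTab colsQ tabQ1 (7 * 1) = true := by decide +kernel

theorem tabQ2_chk : chkTab colsQ tabQ2 (7 * 2) = true := by decide +kernel

theorem tabQ3_chk : chkTab colsQ tabQ3 (7 * 3) = true := by decide +kernel

theorem tabQ4_chk : chkTab colsQ tabQ4 (7 * 4) = true := by decide +kernel

theorem tabQ5_chk : chkTab colsQ tabQ5 (7 * 5) = true := by decide +kernel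

theorem tabQ6_chk : chkTab colsQ tabQ6 (7 * 6) = true := by decide +kernel

theorem tabQ7_chk : chkTab colsQ tabQ7 (7 * 7) = true := by decide +kernel

theorem colsQm_chk : (List.range 52).map (fun j => appWord [cols20, cols22, cols19] (Nat.shiftLeft 1 j)) = colsQm := by decide +kernel

theorem tabQm0_chk : chkTab colsQm tabQm0 (7 * 0) = true := by decide +kernel

theorem tabQm1_chk : chkTab colsQm tabQm1 (7 * 1) = true := by decide +kernel

theorem tabQm2_chk : chkTab colsQm tabQm2 (7 * 2) = true := by decide +kernel

theorem tabQm3_chk : chkTab colsQm tabQm3 (7 * 3) = true := by decide +kernel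

theorem tabQm4_chk : chkTab colsQm tabQm4 (7 * 4) = true := by decide +kernel

theorem tabQm5_chk : chkTab colsQm tabQm5 (7 * 5) = true := by decide +kernel

theorem tabQm6_chk : chkTab colsQm tabQm6 (7 * 6) = true := by decide +kernel

theorem tabQm7_chk : chkTab colsQm tabQm7 (7 * 7) = true := by decide +kernel

end Cfsg.Agent.Lib.Helper18.Tits
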